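import Mathlib

set_option autoImplicit false

/-!
# Alperin's theorem (S3782): common definitions

Constants `hkk`, `expo`, `width`; invariant subgroups of an automorphism, the restricted
and the induced automorphism, and the number of fixed points.
-/

namespace Cfsg.Agent.Lib.H19.ALP

/-- the Higman–Kreknin–Kostrikin number `h(p)` -/
def hkk (p : ℕ) : ℕ := ∑ i ∈ Finset.range (2 ^ (p - 1) - 1), (p - 1) ^ i

/-- exponent bound for the lower central factors far out -/
def expo (p n : ℕ) : ℕ := (n + 2) * (hkk p + 1)

/-- (logarithmic) order bound for the lower central factors far out -/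
def width (p n : ℕ) : ℕ := expo p n * (p * n) + n

variable {G : Type*} [Group G]

/-- the subgroup `N` is invariant under the automorphism `α` -/
def Inv (α : MulAut G) (N : Subgroup G) : Prop := N.map α.toMonoidHom = N

theorem Inv.mem_iff {α : MulAut G} {N : Subgroup G} (h : Inv α N) (x : G) : α x ∈ N ↔ x ∈ N := by
  constructor
  · intro hx
    have h2 : α x ∈ N.map α.toMonoidHom := by rw [h]; exact hx
    obtain ⟨y, hy, hyx⟩ := h2
    have : y = x := α.injective hyx
    rw [← this]; exact hy
  · intro hx
    have : α x ∈ N.map α.toMonoidHom := ⟨x, hx, rfl⟩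
    rwa [h] at this

theorem inv_of_characteristic (α : MulAut G) (N : Subgroup G) [hN : N.Characteristic] : Inv α N :=
  Subgroup.characteristic_iff_map_eq.mp hN α

theorem inv_top (α : MulAut G) : Inv α (⊤ : Subgroup G) :=
  inv_of_characteristic α ⊤

/-- restriction of an automorphism to an invariant subgroup -/
noncomputable def rAut (α : MulAut G) (N : Subgroup G) (h : Inv α N) : MulAut N :=
  (α.subgroupMap N).trans (MulEquiv.subgroupCongr h)

@[simp] theorem rAut_coe (α : MulAut G) (N : Subgroup G) (h : Inv α N) (x : N) :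
    ((rAut α N h x : N) : G) = α (x : G) := rfl

/-- the automorphism induced on the quotient by an invariant normal subgroup -/
noncomputable def qAut (α : MulAut G) (N : Subgroup G) [N.Normal] (h : Inv α N) : MulAut (G ⧸ N) :=
  QuotientGroup.congr N N α h

@[simp] theorem qAut_mk (α : MulAut G) (N : Subgroup G) [N.Normal] (h : Inv α N) (x : G) :
    qAut α N h (x : G ⧸ N) = ((α x : G) : G ⧸ N) := rfl

theorem rAut_pow_apply (α : MulAut G) (N : Subgroup G) (h : Inv α N) (k : ℕ) (x : N) :
    (((rAut α N h ^ k) x : N) : G) = (α ^ k) (x : G) := by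
  induction k generalizing x with
  | zero => simp
  | succ k ih =>
    rw [pow_succ, pow_succ, MulAut.mul_apply, MulAut.mul_apply, ih, rAut_coe]

theorem rAut_pow_eq_one (α : MulAut G) (N : Subgroup G) (h : Inv α N) {k : ℕ} (hk : α ^ k = 1) :
    rAut α N h ^ k = 1 := by
  ext x
  rw [rAut_pow_apply, hk]
  rfl

theorem qAut_pow_mk (α : MulAut G) (N : Subgroup G) [N.Normal] (h : Inv α N) (k : ℕ) (x : G) :
    (qAut α N h ^ k) (x : G ⧸ N) = (((α ^ k) x : G) : G ⧸ N) := by
  induction k generalizing x with
  | zero => simp
  | succ k ih =>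
    rw [pow_succ, pow_succ, MulAut.mul_apply, MulAut.mul_apply, qAut_mk, ih]

theorem qAut_pow_eq_one (α : MulAut G) (N : Subgroup G) [N.Normal] (h : Inv α N) {k : ℕ}
    (hk : α ^ k = 1) : qAut α N h ^ k = 1 := by
  ext q
  induction q using QuotientGroup.induction_on with
  | H x =>
    rw [qAut_pow_mk, hk]
    rfl

/-- the number of fixed points of an automorphism -/
noncomputable def fixCard (α : MulAut G) : ℕ := Nat.card {g : G // α g = g}

end Cfsg.Agent.Lib.H19.ALP
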