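import Mathlib

set_option autoImplicit false

namespace Cfsg.Agent.Lib.H19

variable {X : Type*} [Group X]

/-- `|A| |B| ≤ |⟨A, B⟩| |A ∩ B|` for arbitrary subgroups of a finite group. -/
theorem card_mul_card_le_sup_mul_inf [Finite X] (A B : Subgroup X) :
    Nat.card A * Nat.card B ≤ Nat.card ↥(A ⊔ B) * Nat.card ↥(A ⊓ B) := by
  have h1 : Nat.card ↥(A ⊓ B) * B.relIndex A = Nat.card A := by
    have := Subgroup.relIndex_mul_relIndex (⊥ : Subgroup X) (A ⊓ B) A bot_le inf_le_left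
    rwa [Subgroup.relIndex_bot_left, Subgroup.relIndex_bot_left, Subgroup.inf_relIndex_left] at this
  have h2 : Nat.card B * B.relIndex (A ⊔ B) = Nat.card ↥(A ⊔ B) := by
    have := Subgroup.relIndex_mul_relIndex (⊥ : Subgroup X) B (A ⊔ B) bot_le le_sup_right
    rwa [Subgroup.relIndex_bot_left, Subgroup.relIndex_bot_left] at this
  have h3 : B.relIndex A ≤ B.relIndex (A ⊔ B) :=
    Subgroup.relIndex_le_of_le_right le_sup_left Subgroup.index_ne_zero_of_finite
  rw [← h1, ← h2]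
  calc Nat.card ↥(A ⊓ B) * B.relIndex A * Nat.card B
      ≤ Nat.card ↥(A ⊓ B) * B.relIndex (A ⊔ B) * Nat.card B := by gcongr
    _ = Nat.card B * B.relIndex (A ⊔ B) * Nat.card ↥(A ⊓ B) := by ring

/-- Equality in the product formula forces `⟨A, B⟩ = A B` as a set. -/
theorem exists_mul_of_card_mul_card_eq [Finite X] (A B : Subgroup X)
    (h : Nat.card A * Nat.card B = Nat.card ↥(A ⊔ B) * Nat.card ↥(A ⊓ B)) :
    ∀ g ∈ A ⊔ B, ∃ a ∈ A, ∃ b ∈ B, g = a * b := by
  have h1 : Nat.card ↥(A ⊓ B) * B.relIndex A = Nat.card A := by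
    have := Subgroup.relIndex_mul_relIndex (⊥ : Subgroup X) (A ⊓ B) A bot_le inf_le_left
    rwa [Subgroup.relIndex_bot_left, Subgroup.relIndex_bot_left, Subgroup.inf_relIndex_left] at this
  have h2 : Nat.card B * B.relIndex (A ⊔ B) = Nat.card ↥(A ⊔ B) := by
    have := Subgroup.relIndex_mul_relIndex (⊥ : Subgroup X) B (A ⊔ B) bot_le le_sup_right
    rwa [Subgroup.relIndex_bot_left, Subgroup.relIndex_bot_left] at this
  have h3 : B.relIndex A = B.relIndex (A ⊔ B) := by
    rw [← h1, ← h2] at h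
    have hpos : 0 < Nat.card ↥(A ⊓ B) * Nat.card B := Nat.mul_pos Nat.card_pos Nat.card_pos
    apply Nat.eq_of_mul_eq_mul_left hpos
    calc Nat.card ↥(A ⊓ B) * Nat.card B * B.relIndex A
        = Nat.card ↥(A ⊓ B) * B.relIndex A * Nat.card B := by ring
      _ = Nat.card B * B.relIndex (A ⊔ B) * Nat.card ↥(A ⊓ B) := h
      _ = Nat.card ↥(A ⊓ B) * Nat.card B * B.relIndex (A ⊔ B) := by ring
  let φ := Subgroup.quotientSubgroupOfEmbeddingOfLE B (le_sup_left : A ≤ A ⊔ B)
  have hbij : Function.Bijective φ := by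
    apply Function.Injective.bijective_of_nat_card_le φ.injective
    show (B.subgroupOf (A ⊔ B)).index ≤ (B.subgroupOf A).index
    exact le_of_eq h3.symm
  intro g hg
  obtain ⟨q, hq⟩ := hbij.2 (QuotientGroup.mk (⟨g, hg⟩ : ↥(A ⊔ B)))
  induction q using QuotientGroup.induction_on with
  | H a =>
    rw [Subgroup.quotientSubgroupOfEmbeddingOfLE_apply_mk, QuotientGroup.eq,
      Subgroup.mem_subgroupOf] at hq
    refine ⟨a, a.2, _, hq, ?_⟩
    simp
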