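import Mathlib

/-!
helper19: the Heisenberg group `Heis n R` of dimension `2n+1` over a commutative ring `R`
(triples `(u, v, c)` with `(u,v,c)(u',v',c') = (u+u', v+v', c+c'+u⬝v')`), its centre, commutators,
powers, cardinality, and a faithful matrix representation in `GL (Fin (n+2)) R`.
-/

set_option autoImplicit false

namespace Cfsg.Agent.Lib.H19

open Matrix
open scoped commutatorElement

/-- Heisenberg group of dimension `2n+1` over `R`. -/
@[ext] structure Heis (n : ℕ) (R : Type*) where
  u : Fin n → R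
  v : Fin n → R
  c : R

namespace Heis

variable {n : ℕ} {R : Type*} [CommRing R]

instance instMul : Mul (Heis n R) := ⟨fun x y => ⟨x.u + y.u, x.v + y.v, x.c + y.c + x.u ⬝ᵥ y.v⟩⟩
instance instOne : One (Heis n R) := ⟨⟨0, 0, 0⟩⟩
instance instInv : Inv (Heis n R) := ⟨fun x => ⟨-x.u, -x.v, -x.c + x.u ⬝ᵥ x.v⟩⟩

@[simp] theorem mul_u (x y : Heis n R) : (x * y).u = x.u + y.u := rfl
@[simp] theorem mul_v (x y : Heis n R) : (x * y).v = x.v + y.v := rfl
@[simp] theorem mul_c (x y : Heis n R) : (x * y).c = x.c + y.c + x.u ⬝ᵥ y.v := rfl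
@[simp] theorem one_u : (1 : Heis n R).u = 0 := rfl
@[simp] theorem one_v : (1 : Heis n R).v = 0 := rfl
@[simp] theorem one_c : (1 : Heis n R).c = 0 := rfl
@[simp] theorem inv_u (x : Heis n R) : (x⁻¹).u = -x.u := rfl
@[simp] theorem inv_v (x : Heis n R) : (x⁻¹).v = -x.v := rfl
@[simp] theorem inv_c (x : Heis n R) : (x⁻¹).c = -x.c + x.u ⬝ᵥ x.v := rfl

instance instGroup : Group (Heis n R) where
  mul_assoc := by
    intro x y z
    ext <;> simp [add_assoc, add_dotProduct, dotProduct_add]
    ring
  one_mul := by intro x; ext <;> simp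
  mul_one := by intro x; ext <;> simp
  inv_mul_cancel := by
    intro x
    ext <;> simp

/-- the obvious equivalence with a product, for counting -/
def equivProd : Heis n R ≃ (Fin n → R) × (Fin n → R) × R where
  toFun x := (x.u, x.v, x.c)
  invFun t := ⟨t.1, t.2.1, t.2.2⟩
  left_inv _ := rfl
  right_inv _ := rfl

omit [CommRing R] in
theorem card_eq [Finite R] : Nat.card (Heis n R) = Nat.card R ^ (1 + 2 * n) := by
  rw [Nat.card_congr (equivProd (n := n) (R := R)), Nat.card_prod, Nat.card_prod, Nat.card_fun,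
    Nat.card_fin]
  ring

instance instFinite [Finite R] : Finite (Heis n R) := Finite.of_equiv _ (equivProd (n := n) (R := R)).symm

theorem pow_u (x : Heis n R) (k : ℕ) : (x ^ k).u = k • x.u := by
  induction k with
  | zero => simp
  | succ k ih => rw [pow_succ, mul_u, ih, succ_nsmul]

theorem pow_v (x : Heis n R) (k : ℕ) : (x ^ k).v = k • x.v := by
  induction k with
  | zero => simp
  | succ k ih => rw [pow_succ, mul_v, ih, succ_nsmul]

theorem two_mul_pow_c (x : Heis n R) (k : ℕ) :
    2 * (x ^ k).c = 2 * (k : R) * x.c + (k : R) * ((k : R) - 1) * (x.u ⬝ᵥ x.v) := by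
  induction k with
  | zero => simp
  | succ k ih =>
    rw [pow_succ, mul_c, pow_u, mul_add, mul_add, ih, smul_dotProduct]
    push_cast
    simp only [nsmul_eq_mul]
    ring

/-- in characteristic `p` odd, every element has order dividing `p` -/
theorem pow_char_eq_one (p : ℕ) [CharP R p] (hp : IsUnit (2 : R)) (x : Heis n R) : x ^ p = 1 := by
  have hp0 : (p : R) = 0 := CharP.cast_eq_zero R p
  ext i
  · rw [pow_u]; simp
  · rw [pow_v]; simp
  · have := two_mul_pow_c x p
    rw [hp0] at this
    simp only [mul_zero, zero_mul, add_zero] at this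
    show (x ^ p).c = 0
    exact (hp.mul_right_eq_zero).mp this

theorem mem_center_iff (x : Heis n R) : x ∈ Subgroup.center (Heis n R) ↔ x.u = 0 ∧ x.v = 0 := by
  rw [Subgroup.mem_center_iff]
  constructor
  · intro h
    constructor
    · funext k
      have := congrArg Heis.c (h ⟨0, Pi.single k 1, 0⟩)
      simpa using this.symm
    · funext k
      have := congrArg Heis.c (h ⟨Pi.single k 1, 0, 0⟩)
      simpa using this
  · rintro ⟨hu, hv⟩ y
    ext <;> simp [hu, hv, add_comm]

theorem commutatorElement_eq (x y : Heis n R) :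
    ⁅x, y⁆ = ⟨0, 0, x.u ⬝ᵥ y.v - y.u ⬝ᵥ x.v⟩ := by
  rw [commutatorElement_def]
  ext <;> simp [add_dotProduct, dotProduct_add, neg_dotProduct, dotProduct_neg]
  ring

theorem commutator_le_center : commutator (Heis n R) ≤ Subgroup.center (Heis n R) := by
  rw [commutator_def, Subgroup.commutator_le]
  intro x _ y _
  rw [mem_center_iff, commutatorElement_eq]
  exact ⟨rfl, rfl⟩

theorem center_le_commutator (hn : 1 ≤ n) : Subgroup.center (Heis n R) ≤ commutator (Heis n R) := by
  intro z hz
  rw [mem_center_iff] at hz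
  let k : Fin n := ⟨0, hn⟩
  have : z = ⁅(⟨Pi.single k 1, 0, 0⟩ : Heis n R), ⟨0, Pi.single k z.c, 0⟩⁆ := by
    rw [commutatorElement_eq]
    ext <;> simp [hz.1, hz.2]
  rw [this, commutator_def]
  exact Subgroup.commutator_mem_commutator (Subgroup.mem_top _) (Subgroup.mem_top _)

theorem commutator_eq_center (hn : 1 ≤ n) : commutator (Heis n R) = Subgroup.center (Heis n R) :=
  le_antisymm commutator_le_center (center_le_commutator hn)

/-- the centre is a copy of `R` -/
def centerEquiv : Subgroup.center (Heis n R) ≃ R where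
  toFun z := z.1.c
  invFun c := ⟨⟨0, 0, c⟩, (mem_center_iff _).mpr ⟨rfl, rfl⟩⟩
  left_inv z := by
    have := (mem_center_iff z.1).mp z.2
    apply Subtype.ext
    ext <;> simp [this.1, this.2]
  right_inv _ := rfl

theorem card_center : Nat.card (Subgroup.center (Heis n R)) = Nat.card R :=
  Nat.card_congr centerEquiv

/-! ### the matrix representation -/

/-- first basis vector -/
def e0 (n : ℕ) (R : Type*) [CommRing R] : Fin (n + 2) → R := Pi.single 0 1

/-- last basis vector -/
def eL (n : ℕ) (R : Type*) [CommRing R] : Fin (n + 2) → R := Pi.single (Fin.last (n + 1)) 1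

/-- the first row (off the diagonal) -/
def aOf (x : Heis n R) : Fin (n + 2) → R :=
  Fin.cases 0 (fun j : Fin (n + 1) => Fin.lastCases x.c (fun k : Fin n => x.u k) j)

/-- the last column (off the diagonal) -/
def bOf (x : Heis n R) : Fin (n + 2) → R :=
  Fin.cases 0 (fun j : Fin (n + 1) => Fin.lastCases 0 (fun k : Fin n => x.v k) j)

@[simp] theorem aOf_zero (x : Heis n R) : aOf x 0 = 0 := rfl
@[simp] theorem bOf_zero (x : Heis n R) : bOf x 0 = 0 := rfl
@[simp] theorem aOf_last (x : Heis n R) : aOf x (Fin.last (n + 1)) = x.c := by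
  show aOf x (Fin.succ (Fin.last n)) = x.c
  simp only [aOf, Fin.cases_succ, Fin.lastCases_last]
@[simp] theorem bOf_last (x : Heis n R) : bOf x (Fin.last (n + 1)) = 0 := by
  show bOf x (Fin.succ (Fin.last n)) = 0
  simp only [bOf, Fin.cases_succ, Fin.lastCases_last]
@[simp] theorem aOf_mid (x : Heis n R) (k : Fin n) : aOf x (Fin.succ (Fin.castSucc k)) = x.u k := by
  simp only [aOf, Fin.cases_succ, Fin.lastCases_castSucc]
@[simp] theorem bOf_mid (x : Heis n R) (k : Fin n) : bOf x (Fin.succ (Fin.castSucc k)) = x.v k := by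
  simp only [bOf, Fin.cases_succ, Fin.lastCases_castSucc]

@[simp] theorem eL_zero : eL n R 0 = 0 := by
  simp [eL, Pi.single_apply, Fin.ext_iff]
@[simp] theorem eL_last : eL n R (Fin.last (n + 1)) = 1 := by
  simp [eL]
@[simp] theorem eL_mid (k : Fin n) : eL n R (Fin.succ (Fin.castSucc k)) = 0 := by
  simp only [eL, Pi.single_apply]
  rw [if_neg]
  intro h
  have h2 : Fin.succ (Fin.castSucc k) = Fin.succ (Fin.last n) := h
  have := Fin.succ_injective _ h2
  exact (Fin.castSucc_lt_last k).ne this

theorem aOf_mul (x y : Heis n R) : aOf (x * y) = aOf x + aOf y + (x.u ⬝ᵥ y.v) • eL n R := by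
  funext j
  refine Fin.cases ?_ (fun j' => ?_) j
  · simp
  · refine Fin.lastCases ?_ (fun k => ?_) j'
    · simp
    · simp

theorem bOf_mul (x y : Heis n R) : bOf (x * y) = bOf x + bOf y := by
  funext j
  refine Fin.cases ?_ (fun j' => ?_) j
  · simp
  · refine Fin.lastCases ?_ (fun k => ?_) j'
    · simp
    · simp

theorem aOf_one : aOf (1 : Heis n R) = 0 := by
  funext j
  refine Fin.cases ?_ (fun j' => ?_) j
  · simp
  · refine Fin.lastCases ?_ (fun k => ?_) j'
    · simp
    · simp

theorem bOf_one : bOf (1 : Heis n R) = 0 := by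
  funext j
  refine Fin.cases ?_ (fun j' => ?_) j
  · simp
  · refine Fin.lastCases ?_ (fun k => ?_) j'
    · simp
    · simp

theorem aOf_dot_bOf (x y : Heis n R) : aOf x ⬝ᵥ bOf y = x.u ⬝ᵥ y.v := by
  simp only [dotProduct]
  rw [Fin.sum_univ_succ, Fin.sum_univ_castSucc]
  simp

theorem aOf_dot_e0 (x : Heis n R) : aOf x ⬝ᵥ e0 n R = 0 := by
  simp [e0]

theorem eL_dot_e0 : eL n R ⬝ᵥ e0 n R = 0 := by
  simp [e0]

theorem eL_dot_bOf (x : Heis n R) : eL n R ⬝ᵥ bOf x = 0 := by
  simp [eL]

/-- the matrix of an element -/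
def mat (x : Heis n R) : Matrix (Fin (n + 2)) (Fin (n + 2)) R :=
  1 + vecMulVec (e0 n R) (aOf x) + vecMulVec (bOf x) (eL n R)

theorem mat_one : mat (1 : Heis n R) = 1 := by
  simp [mat, aOf_one, bOf_one]

theorem mat_mul (x y : Heis n R) : mat (x * y) = mat x * mat y := by
  simp only [mat, aOf_mul, bOf_mul, mul_add, add_mul, mul_one, one_mul, vecMulVec_mul_vecMulVec,
    aOf_dot_e0, eL_dot_e0, eL_dot_bOf, aOf_dot_bOf, zero_smul, vecMulVec_zero, add_zero,
    vecMulVec_add, add_vecMulVec]
  abel

/-- the matrix representation as a monoid hom -/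
def matHom (n : ℕ) (R : Type*) [CommRing R] : Heis n R →* Matrix (Fin (n + 2)) (Fin (n + 2)) R where
  toFun := mat
  map_one' := mat_one
  map_mul' := mat_mul

/-- the representation in `GL` -/
def toGL (n : ℕ) (R : Type*) [CommRing R] : Heis n R →* Matrix.GeneralLinearGroup (Fin (n + 2)) R :=
  (matHom n R).toHomUnits

theorem toGL_val (x : Heis n R) : ((toGL n R x : Matrix.GeneralLinearGroup (Fin (n + 2)) R) :
    Matrix (Fin (n + 2)) (Fin (n + 2)) R) = mat x := rfl

theorem mat_apply_zero_mid (x : Heis n R) (k : Fin n) :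
    mat x 0 (Fin.succ (Fin.castSucc k)) = x.u k := by
  have h0 : (0 : Fin (n + 2)) ≠ Fin.succ (Fin.castSucc k) := (Fin.succ_ne_zero _).symm
  simp [mat, vecMulVec_apply, e0, Matrix.one_apply_ne h0]

theorem mat_apply_zero_last (x : Heis n R) : mat x 0 (Fin.last (n + 1)) = x.c := by
  have h0 : (0 : Fin (n + 2)) ≠ Fin.last (n + 1) := by
    intro h; simp [Fin.ext_iff] at h
  simp [mat, vecMulVec_apply, e0, Matrix.one_apply_ne h0]

theorem mat_apply_mid_last (x : Heis n R) (k : Fin n) :
    mat x (Fin.succ (Fin.castSucc k)) (Fin.last (n + 1)) = x.v k := by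
  have h0 : Fin.succ (Fin.castSucc k) ≠ Fin.last (n + 1) := by
    intro h
    have h2 : Fin.succ (Fin.castSucc k) = Fin.succ (Fin.last n) := h
    have := Fin.succ_injective _ h2
    exact (Fin.castSucc_lt_last k).ne this
  simp [mat, vecMulVec_apply, e0, Matrix.one_apply_ne h0]

theorem mat_injective : Function.Injective (mat : Heis n R → _) := by
  intro x y h
  ext k
  · rw [← mat_apply_zero_mid, ← mat_apply_zero_mid, h]
  · rw [← mat_apply_mid_last, ← mat_apply_mid_last, h]
  · rw [← mat_apply_zero_last, ← mat_apply_zero_last, h]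

theorem toGL_injective : Function.Injective (toGL n R) := by
  intro x y h
  apply mat_injective
  rw [← toGL_val, ← toGL_val, h]

end Heis

end Cfsg.Agent.Lib.H19
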