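import Cfsg.Agent.Lib.H19.Basic
import Mathlib.GroupTheory.Sylow
import Mathlib.GroupTheory.Index
import Mathlib.GroupTheory.Nilpotent

set_option autoImplicit false

namespace Cfsg.Agent.Lib.H19

variable {G : Type*} [Group G]

/-- Sylow conjugacy inside a subgroup `K`: two `p`-subgroups of `K` of index prime to `p` in `K`
are conjugate by an element of `K`. -/
theorem exists_conj_of_relIndex [Finite G] {p : ℕ} [Fact p.Prime] {K P Q : Subgroup G}
    (hPK : P ≤ K) (hQK : Q ≤ K) (hP : IsPGroup p P) (hQ : IsPGroup p Q)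
    (hPi : ¬ p ∣ P.relIndex K) (hQi : ¬ p ∣ Q.relIndex K) :
    ∃ k ∈ K, Q = P.map (MulAut.conj k).toMonoidHom := by
  have hP' : IsPGroup p (P.subgroupOf K) := hP.comap_subtype
  have hQ' : IsPGroup p (Q.subgroupOf K) := hQ.comap_subtype
  let SP : Sylow p K := hP'.toSylow hPi
  let SQ : Sylow p K := hQ'.toSylow hQi
  obtain ⟨k, hk⟩ := MulAction.exists_smul_eq K SP SQ
  refine ⟨(k : G), k.2, ?_⟩
  have h1 : ((k • SP : Sylow p K) : Subgroup K) = (SQ : Subgroup K) := by rw [hk]
  rw [Sylow.coe_subgroup_smul] at h1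
  have h2 : (SP : Subgroup K) = P.subgroupOf K := rfl
  have h3 : (SQ : Subgroup K) = Q.subgroupOf K := rfl
  rw [h2, h3] at h1
  ext y
  rw [mem_map_conj]
  constructor
  · intro hy
    have hyK : y ∈ K := hQK hy
    have : (⟨y, hyK⟩ : K) ∈ Q.subgroupOf K := by rw [Subgroup.mem_subgroupOf]; exact hy
    rw [← h1, Subgroup.mem_pointwise_smul_iff_inv_smul_mem] at this
    rw [Subgroup.mem_subgroupOf] at this
    simpa [MulAut.smul_def, MulAut.conj_apply, mul_assoc] using this
  · intro hy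
    have hyK : y ∈ K := by
      have h4 : (k : G)⁻¹ * y * k ∈ K := hPK hy
      have := K.mul_mem (K.mul_mem k.2 h4) (K.inv_mem k.2)
      simpa [mul_assoc] using this
    have : (⟨y, hyK⟩ : K) ∈ Q.subgroupOf K := by
      rw [← h1, Subgroup.mem_pointwise_smul_iff_inv_smul_mem, Subgroup.mem_subgroupOf]
      simpa [MulAut.smul_def, MulAut.conj_apply, mul_assoc] using hy
    rw [Subgroup.mem_subgroupOf] at this
    exact this

theorem card_mul_relIndex {H K : Subgroup G} (h : H ≤ K) :
    Nat.card H * H.relIndex K = Nat.card K := by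
  have := Subgroup.relIndex_mul_relIndex (⊥ : Subgroup G) H K bot_le h
  rwa [Subgroup.relIndex_bot_left, Subgroup.relIndex_bot_left] at this

/-- if `P ⊓ N = ⊥` and `N` is normal then `P.relIndex (P ⊔ N) = |N|`. -/
theorem relIndex_sup_of_inf_eq_bot [Finite G] {P N : Subgroup G} [N.Normal] (h : P ⊓ N = ⊥) :
    P.relIndex (P ⊔ N) = Nat.card N := by
  have h1 : Nat.card P * P.relIndex (P ⊔ N) = Nat.card (P ⊔ N : Subgroup G) :=
    card_mul_relIndex le_sup_left
  have h2 : Nat.card N * N.relIndex (P ⊔ N) = Nat.card (P ⊔ N : Subgroup G) :=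
    card_mul_relIndex le_sup_right
  have h3 : N.relIndex (P ⊔ N) = Nat.card P := by
    rw [Subgroup.relIndex_sup_right, ← Subgroup.inf_relIndex_right, inf_comm, h,
      Subgroup.relIndex_bot_left]
  rw [h3] at h2
  have hpos : 0 < Nat.card P := Nat.card_pos
  have : Nat.card P * P.relIndex (P ⊔ N) = Nat.card P * Nat.card N := by
    rw [h1, ← h2, mul_comm]
  exact Nat.eq_of_mul_eq_mul_left hpos this

/-- second isomorphism theorem for indices -/
theorem relIndex_inf_normal_eq [Finite G] (H N : Subgroup G) [N.Normal] :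
    (H ⊓ N).relIndex N = H.relIndex (H ⊔ N) := by
  have h1 : Nat.card H * H.relIndex (H ⊔ N) = Nat.card (H ⊔ N : Subgroup G) :=
    card_mul_relIndex le_sup_left
  have h2 : Nat.card N * N.relIndex (H ⊔ N) = Nat.card (H ⊔ N : Subgroup G) :=
    card_mul_relIndex le_sup_right
  have h3 : N.relIndex (H ⊔ N) = (H ⊓ N).relIndex H := by
    rw [Subgroup.relIndex_sup_right, Subgroup.inf_relIndex_left]
  have h4 : Nat.card (H ⊓ N : Subgroup G) * (H ⊓ N).relIndex H = Nat.card H :=
    card_mul_relIndex inf_le_left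
  have h5 : Nat.card (H ⊓ N : Subgroup G) * (H ⊓ N).relIndex N = Nat.card N :=
    card_mul_relIndex inf_le_right
  have hpos : 0 < Nat.card (H ⊓ N : Subgroup G) * (H ⊓ N).relIndex H := by
    rw [h4]; exact Nat.card_pos
  have : (Nat.card (H ⊓ N : Subgroup G) * (H ⊓ N).relIndex H) * (H ⊓ N).relIndex N =
      (Nat.card (H ⊓ N : Subgroup G) * (H ⊓ N).relIndex H) * H.relIndex (H ⊔ N) := by
    calc (Nat.card (H ⊓ N : Subgroup G) * (H ⊓ N).relIndex H) * (H ⊓ N).relIndex N
        = (Nat.card (H ⊓ N : Subgroup G) * (H ⊓ N).relIndex N) * (H ⊓ N).relIndex H := by ring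
      _ = Nat.card N * N.relIndex (H ⊔ N) := by rw [h5, h3]
      _ = Nat.card H * H.relIndex (H ⊔ N) := by rw [h2, h1]
      _ = _ := by rw [h4]
  exact Nat.eq_of_mul_eq_mul_left hpos this

/-- the intersection of a Sylow subgroup with a normal subgroup has index prime to `p` in it -/
theorem not_dvd_relIndex_inf_normal [Finite G] {p : ℕ} [Fact p.Prime] (R : Sylow p G)
    (N : Subgroup G) [N.Normal] : ¬ p ∣ ((R : Subgroup G) ⊓ N).relIndex N := by
  rw [relIndex_inf_normal_eq]
  exact fun h => R.not_dvd_index (dvd_trans h (Subgroup.relIndex_dvd_index_of_le le_sup_left))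

/-- a subgroup of index prime to `p` contains a conjugate of any given Sylow `p`-subgroup -/
theorem exists_conj_le_of_not_dvd_index [Finite G] {p : ℕ} [Fact p.Prime] (R : Sylow p G)
    (H : Subgroup G) (h : ¬ p ∣ H.index) :
    ∃ g : G, (R : Subgroup G).map (MulAut.conj g).toMonoidHom ≤ H := by
  obtain ⟨Q⟩ : Nonempty (Sylow p H) := inferInstance
  let Q' : Subgroup G := (Q : Subgroup H).map H.subtype
  have hQ' : IsPGroup p Q' := Q.isPGroup'.map _
  have hQ'H : Q' ≤ H := by
    rintro _ ⟨x, _, rfl⟩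
    exact x.2
  have hQi : ¬ p ∣ Q'.relIndex ⊤ := by
    rw [Subgroup.relIndex_top_right, Subgroup.index_map_subtype]
    intro hd
    rcases (Nat.Prime.dvd_mul (Fact.out : p.Prime)).mp hd with h1 | h1
    · exact Q.not_dvd_index h1
    · exact h h1
  have hRi : ¬ p ∣ (R : Subgroup G).relIndex ⊤ := by
    rw [Subgroup.relIndex_top_right]; exact R.not_dvd_index
  obtain ⟨k, _, hk⟩ := exists_conj_of_relIndex (le_top : (R : Subgroup G) ≤ ⊤) le_top R.isPGroup' hQ'
    hRi hQi
  exact ⟨k, hk ▸ hQ'H⟩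

theorem card_lt_of_lt [Finite G] {H K : Subgroup G} (h : H < K) : Nat.card H < Nat.card K := by
  have h1 : (H : Set G) ⊂ (K : Set G) := h
  have := Set.ncard_lt_ncard h1 (Set.toFinite _)
  rwa [← Nat.card_coe_set_eq, ← Nat.card_coe_set_eq] at this

/-- normalizers grow in `p`-subgroups -/
theorem exists_mem_normalizer_not_mem [Finite G] {p : ℕ} [Fact p.Prime] {D P : Subgroup G}
    (hP : IsPGroup p P) (h : D < P) :
    ∃ x ∈ P, x ∈ Subgroup.normalizer (D : Set G) ∧ x ∉ D := by
  have hnil : Group.IsNilpotent P := hP.isNilpotent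
  have hlt : D.subgroupOf P < ⊤ := by
    rw [lt_top_iff_ne_top]
    intro htop
    rw [Subgroup.subgroupOf_eq_top] at htop
    exact h.not_ge htop
  have := Group.normalizerCondition_of_isNilpotent (G := P) _ hlt
  obtain ⟨x, hxn, hxD⟩ := SetLike.exists_of_lt this
  rw [← Subgroup.subgroupOf_normalizer_eq h.le, Subgroup.mem_subgroupOf] at hxn
  rw [Subgroup.mem_subgroupOf] at hxD
  exact ⟨x, x.2, hxn, hxD⟩

end Cfsg.Agent.Lib.H19
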