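import Cfsg.Agent.Lib.H1.FG19.Defs

set_option autoImplicit false

/-! S4404 pieces BAS1 (`cm_conj`, `fx_conj`) and BAS2 (`cm_le_of_mem_closure`, `apply_mem_of_cm_le`)
(helper19; architect helper1, sigs `tools/blueprints/S4404_sigs.lean`). -/

namespace Cfsg.Agent.Lib.H19.FG19

open Cfsg.Agent.Lib.H1.FG19

variable {A : Type*} [CommGroup A]

/-- BAS1 (E): conjugation formulas. -/
theorem cm_conj (X Y : MulAut A) : (cm X).map Y.toMonoidHom = cm (Y * X * Y⁻¹) := by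
  ext b
  rw [Subgroup.mem_map, mem_cm]
  constructor
  · rintro ⟨a, ha, rfl⟩
    rw [mem_cm] at ha
    obtain ⟨m, rfl⟩ := ha
    refine ⟨Y m, ?_⟩
    simp [MulAut.mul_apply]
  · rintro ⟨m, rfl⟩
    refine ⟨X (Y⁻¹ m) * (Y⁻¹ m)⁻¹, mem_cm.mpr ⟨_, rfl⟩, ?_⟩
    simp [MulAut.mul_apply]

theorem fx_conj (X Y : MulAut A) : (fx X).map Y.toMonoidHom = fx (Y * X * Y⁻¹) := by
  ext b
  rw [Subgroup.mem_map, mem_fx]
  constructor
  · rintro ⟨a, ha, rfl⟩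
    rw [mem_fx] at ha
    simp [MulAut.mul_apply, ha]
  · intro hb
    refine ⟨Y⁻¹ b, mem_fx.mpr ?_, by simp⟩
    have : Y⁻¹ ((Y * X * Y⁻¹) b) = Y⁻¹ b := by rw [hb]
    simpa [MulAut.mul_apply] using this

/-- the subgroup of automorphisms `Z` with `[A, Z] ≤ U`. -/
def cmStab (U : Subgroup A) : Subgroup (MulAut A) where
  carrier := {Z | ∀ a : A, Z a * a⁻¹ ∈ U}
  one_mem' := by intro a; simp
  mul_mem' := by
    intro Z₁ Z₂ h₁ h₂ a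
    have : (Z₁ * Z₂) a * a⁻¹ = (Z₁ (Z₂ a) * (Z₂ a)⁻¹) * (Z₂ a * a⁻¹) := by
      simp [MulAut.mul_apply]
    rw [this]
    exact U.mul_mem (h₁ _) (h₂ _)
  inv_mem' := by
    intro Z h a
    have : Z⁻¹ a * a⁻¹ = (Z (Z⁻¹ a) * (Z⁻¹ a)⁻¹)⁻¹ := by simp
    rw [this]
    exact U.inv_mem (h _)

theorem mem_cmStab {U : Subgroup A} {Z : MulAut A} : Z ∈ cmStab U ↔ ∀ a : A, Z a * a⁻¹ ∈ U :=
  Iff.rfl

theorem mem_cmStab_iff_cm_le {U : Subgroup A} {Z : MulAut A} : Z ∈ cmStab U ↔ cm Z ≤ U := by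
  rw [mem_cmStab]
  constructor
  · intro h b hb
    obtain ⟨m, rfl⟩ := mem_cm.mp hb
    exact h m
  · intro h a
    exact h (mem_cm.mpr ⟨a, rfl⟩)

/-- BAS2 (E): `[A, Z] ≤ [A, X][A, Y]` for `Z ∈ ⟨X, Y⟩`. -/
theorem cm_le_of_mem_closure (X Y Z : MulAut A) (hZ : Z ∈ Subgroup.closure {X, Y}) :
    cm Z ≤ cm X ⊔ cm Y := by
  rw [← mem_cmStab_iff_cm_le]
  have hle : Subgroup.closure {X, Y} ≤ cmStab (cm X ⊔ cm Y) := by
    rw [Subgroup.closure_le]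
    intro W hW
    rcases hW with rfl | hW
    · exact mem_cmStab_iff_cm_le.mpr le_sup_left
    · rw [Set.mem_singleton_iff] at hW
      subst hW
      exact mem_cmStab_iff_cm_le.mpr le_sup_right
  exact hle hZ

/-- BAS2 (E): a subgroup containing `[A, X]` is `X`-stable. -/
theorem apply_mem_of_cm_le {X : MulAut A} {U : Subgroup A} (h : cm X ≤ U) {u : A} (hu : u ∈ U) :
    X u ∈ U := by
  have h1 : X u * u⁻¹ ∈ U := h (mem_cm.mpr ⟨u, rfl⟩)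
  have : X u = (X u * u⁻¹) * u := by simp
  rw [this]
  exact U.mul_mem h1 hu

/-- `[A, X^k] ≤ [A, X]`. -/
theorem cm_zpow_le (X : MulAut A) (k : ℤ) : cm (X ^ k) ≤ cm X := by
  rw [← mem_cmStab_iff_cm_le]
  exact (cmStab (cm X)).zpow_mem (mem_cmStab_iff_cm_le.mpr le_rfl) k

end Cfsg.Agent.Lib.H19.FG19
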