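import Cfsg.Agent.Lib.H19.FG19BAS12

set_option autoImplicit false

/-! S4404 pieces BR1 (`comm_zpowers_eq`), BR2 (`conjNormal_eq_one_iff`), BR3 (`map_conj_cm`)
(helper19; architect helper1, sigs `tools/blueprints/S4404_sigs.lean`). -/

namespace Cfsg.Agent.Lib.H19.FG19

open Cfsg.Agent.Lib.H1.FG19
open scoped IsMulCommutative

variable {S : Type*} [Group S] (M : Subgroup S) [M.Normal]

/-- BR2 (E): the kernel of `ρ` is `C_S(M)`. -/
theorem conjNormal_eq_one_iff (g : S) :
    (MulAut.conjNormal g : MulAut ↥M) = 1 ↔ g ∈ Subgroup.centralizer (M : Set S) := by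
  rw [Subgroup.mem_centralizer_iff]
  constructor
  · intro h m hm
    have h1 : ((MulAut.conjNormal g : MulAut ↥M) ⟨m, hm⟩ : S) = m := by rw [h]; rfl
    rw [MulAut.conjNormal_apply] at h1
    have h2 : g * m = m * g := by
      calc g * m = g * m * g⁻¹ * g := by group
        _ = m * g := by rw [h1]
    exact h2.symm
  · intro h
    ext m
    rw [MulAut.conjNormal_apply, MulAut.one_apply]
    have := h m m.2
    calc g * (m : S) * g⁻¹ = (m : S) * g * g⁻¹ := by rw [this]
      _ = m := by group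

/-- BR1 (M): `[⟨x⟩, M]` is the image of `cm (ρ x)`, `ρ = MulAut.conjNormal : S →* MulAut ↥M`. -/
theorem comm_zpowers_eq [IsMulCommutative ↥M] (x : S) :
    ⁅Subgroup.zpowers x, M⁆ = (cm (MulAut.conjNormal x : MulAut ↥M)).map M.subtype := by
  apply le_antisymm
  · rw [Subgroup.commutator_le]
    intro a ha m hm
    obtain ⟨k, rfl⟩ := Subgroup.mem_zpowers_iff.mp ha
    rw [Subgroup.mem_map]
    refine ⟨((MulAut.conjNormal x : MulAut ↥M) ^ k) ⟨m, hm⟩ * (⟨m, hm⟩ : ↥M)⁻¹, ?_, ?_⟩
    · exact cm_zpow_le _ k (mem_cm.mpr ⟨_, rfl⟩)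
    · rw [← map_zpow]
      simp only [Subgroup.subtype_apply, Subgroup.coe_mul, Subgroup.coe_inv,
        MulAut.conjNormal_apply, commutatorElement_def]
  · intro b hb
    rw [Subgroup.mem_map] at hb
    obtain ⟨c, hc, rfl⟩ := hb
    obtain ⟨m, rfl⟩ := mem_cm.mp hc
    have h1 := Subgroup.commutator_mem_commutator (Subgroup.mem_zpowers x) m.2
    rw [commutatorElement_def] at h1
    simpa only [Subgroup.subtype_apply, Subgroup.coe_mul, Subgroup.coe_inv,
        MulAut.conjNormal_apply] using h1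

/-- BR3 (E): conjugation formula at the level of `S`. -/
theorem map_conj_cm [IsMulCommutative ↥M] (Z : MulAut ↥M) (g : S) :
    ((cm Z).map M.subtype).map (MulAut.conj g).toMonoidHom =
      (cm ((MulAut.conjNormal g : MulAut ↥M) * Z * (MulAut.conjNormal g : MulAut ↥M)⁻¹)).map
        M.subtype := by
  rw [← cm_conj, Subgroup.map_map, Subgroup.map_map]
  congr 1

end Cfsg.Agent.Lib.H19.FG19
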