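import Mathlib
import Cfsg.Prelude.Def_Characters
import Cfsg.Agent.Lib.H24.CharOrth
import Cfsg.Agent.Lib.H24.CharBasic
import Cfsg.Agent.Lib.H24.BrauerP4
import Cfsg.Agent.Lib.H23.DegreeDvd
import Cfsg.Agent.Lib.H16.O7920F3
import Cfsg.Agent.Lib.H21.M7920F4

/-!
# S0435/S0434 (helper19): STRONG form of the S4429 piece (BLOCK) `block11`

This is helper16's proof of `Cfsg.Agent.Lib.H16.M7920.block11` (Lib/H16/M7920BLOCK.lean), copied verbatim into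
helper19's namespace with four more conjuncts in pattern (A): the values `ψ₁ x = ψ₂ x = ψ₃ x = -1`, `ψ₄ x = 1`
(needed for the class multiplication `z, z → x` in S0435).  On top of the general core
`H16.O7920.b0_structure11` + (F4) `degrees11`.
-/

set_option autoImplicit false

namespace Cfsg.Agent.Lib.H19.M7920

open Cfsg Cfsg.Agent.Lib.L0 Cfsg.Agent.Lib.H24
open scoped BigOperators ComplexConjugate

universe u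

theorem block11_strong {G : Type u} [Group G] [Fintype G] (hG : Nat.card G = 7920) (hperf : commutator G = ⊤)
    (K : Subgroup G) (hK : Nat.card K = 11) (hC : Subgroup.centralizer (K : Set G) = K)
    {x : G} (hx : x ∈ K) (hx1 : x ≠ 1) (hconj : IsConj x (x ^ 3)) (hninv : ¬ IsConj x x⁻¹)
    (ζ : ℂ) (hζ : IsPrimitiveRoot ζ 11) :
    ∃ χ₁ χ₂ : IrrCharacter G, χ₁ ≠ χ₂ ∧
      (χ₁ : G → ℂ) x = ζ ^ 2 + ζ ^ 6 + ζ ^ 7 + ζ ^ 8 + ζ ^ 10 ∧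
      (χ₂ : G → ℂ) x = ζ + ζ ^ 3 + ζ ^ 4 + ζ ^ 5 + ζ ^ 9 ∧
      (-- pattern (A)
       (∃ ψ₁ ψ₂ ψ₃ ψ₄ : IrrCharacter G, ψ₁ ≠ ψ₂ ∧ ψ₁ ≠ ψ₃ ∧ ψ₁ ≠ ψ₄ ∧ ψ₂ ≠ ψ₃ ∧ ψ₂ ≠ ψ₄ ∧ ψ₃ ≠ ψ₄ ∧
          (χ₁ : G → ℂ) 1 = 16 ∧ (χ₂ : G → ℂ) 1 = 16 ∧
          (ψ₁ : G → ℂ) 1 = 10 ∧ (ψ₂ : G → ℂ) 1 = 10 ∧ (ψ₃ : G → ℂ) 1 = 10 ∧ (ψ₄ : G → ℂ) 1 = 45 ∧
          (ψ₁ : G → ℂ) x = -1 ∧ (ψ₂ : G → ℂ) x = -1 ∧ (ψ₃ : G → ℂ) x = -1 ∧ (ψ₄ : G → ℂ) x = 1 ∧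
          (∀ ψ : IrrCharacter G, (ψ : G → ℂ) ≠ 1 → ψ ≠ χ₁ → ψ ≠ χ₂ → ψ ≠ ψ₁ → ψ ≠ ψ₂ → ψ ≠ ψ₃ → ψ ≠ ψ₄ →
            (ψ : G → ℂ) x = 0 ∧ ∃ c : ℕ, (ψ : G → ℂ) 1 = 11 * c) ∧
          ∀ g : G, ¬ IsConj g x → ¬ IsConj g x⁻¹ → (χ₁ : G → ℂ) g = (χ₂ : G → ℂ) g ∧
            1 - (ψ₁ : G → ℂ) g - (ψ₂ : G → ℂ) g - (ψ₃ : G → ℂ) g + (ψ₄ : G → ℂ) g - (χ₁ : G → ℂ) g = 0) ∨
       -- pattern (B)
       (∃ ψ₁ ψ₂ : IrrCharacter G, ψ₁ ≠ ψ₂ ∧ (χ₁ : G → ℂ) 1 = 5 ∧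
          (ψ₁ : G → ℂ) 1 = 12 ∧ (ψ₂ : G → ℂ) 1 = 12) ∨
       -- pattern (b)
       (∃ ψ : IrrCharacter G, (χ₁ : G → ℂ) 1 = 5 ∧
          ∀ g : G, ¬ IsConj g x → ¬ IsConj g x⁻¹ → 1 + 2 * (ψ : G → ℂ) g - (χ₁ : G → ℂ) g = 0)) := by
  classical
  have hfi : Fintype (IrrCharacter G) := Fintype.ofFinite (IrrCharacter G)
  obtain ⟨χ₁, χ₂, δ, S, ε, hδ, hχ₁₂, hχ₁S, hχ₂S, hχ₁1, hχ₂1, hS1, hχ₁x, hχ₂x, hdeq, ⟨c₁, hc₁⟩, hSx, hε0, hεsq,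
    hvan, hrel⟩ := Cfsg.Agent.Lib.H16.O7920.b0_structure11 K hK hC hx hx1 hconj hninv ζ hζ
  -- degrees
  have hDex : ∀ ψ : IrrCharacter G, ∃ n : ℕ, 0 < n ∧ (ψ : G → ℂ) 1 = n := fun ψ => irr_one_eq ψ
  choose d hdpos hd using hDex
  set T : IrrCharacter G := trivialIrr G with hT
  have hT1 : ∀ ψ : IrrCharacter G, (ψ : G → ℂ) = 1 → ψ = T := by
    intro ψ h
    apply Subtype.ext
    rw [h]; rfl
  have hTv : ∀ g : G, (T : G → ℂ) g = 1 := fun g => rfl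
  have hdT : d T = 1 := by
    have := hd T
    rw [hTv] at this
    exact_mod_cast this.symm
  have hTS : T ∉ S := fun h => hS1 T h rfl
  have hdvd : ∀ ψ : IrrCharacter G, d ψ ∣ 7920 := by
    intro ψ
    have h := Cfsg.Agent.Lib.H23.charDegree_dvd_card (ψ : G → ℂ) ψ.2
    rw [Cfsg.Agent.Lib.H23.charDegree_eq_of_apply_one (hd ψ), hG] at h
    exact h
  have hdne1 : ∀ ψ : IrrCharacter G, ψ ≠ T → d ψ ≠ 1 := by
    intro ψ hψ h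
    apply hψ
    apply hT1
    apply BrP.linear_eq_one_of_perfect hperf (ψ : G → ℂ) ψ.2
    rw [hd ψ, h]
    simp
  -- the data for (F4)
  set S' : Finset (IrrCharacter G) := insert T S with hS'
  set a : IrrCharacter G → ℤ := fun ψ => if ψ = T then 1 else ε ψ with ha
  have haT : a T = 1 := by simp [ha]
  have haS : ∀ ψ ∈ S, a ψ = ε ψ := by
    intro ψ hψ
    have : ψ ≠ T := fun h => hTS (h ▸ hψ)
    simp [ha, this]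
  have hcong : ∀ ψ ∈ S', ∃ c : ℕ, (d ψ : ℤ) = a ψ + 11 * c := by
    intro ψ hψ
    rcases Finset.mem_insert.1 hψ with h | h
    · refine ⟨0, ?_⟩
      rw [h, hdT, haT]; norm_num
    · obtain ⟨c, hc⟩ := (hSx ψ h).2
      refine ⟨c, ?_⟩
      rw [haS ψ h]
      have : ((d ψ : ℤ) : ℂ) = ((ε ψ + 11 * c : ℤ) : ℂ) := by
        push_cast
        rw [← hd ψ, hc]
      exact_mod_cast this
  have hsq : ∑ ψ ∈ S', a ψ ^ 2 = 5 := by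
    rw [hS', Finset.sum_insert hTS, haT, Finset.sum_congr rfl (fun ψ hψ => by rw [haS ψ hψ]), hεsq]
    norm_num
  have h1x : ¬ IsConj (1 : G) x := fun h => hx1 (isConj_one_right.1 h)
  have h1xi : ¬ IsConj (1 : G) x⁻¹ := fun h => hx1 (inv_eq_one.1 (isConj_one_right.1 h))
  have hlin : ∑ ψ ∈ S', (d ψ : ℤ) * a ψ + δ * (d χ₁ : ℤ) = 0 := by
    have h := (hrel 1 h1x h1xi).2
    rw [hS', Finset.sum_insert hTS, hdT, haT]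
    have h2 : ((1 + ∑ ψ ∈ S, (d ψ : ℤ) * a ψ + δ * (d χ₁ : ℤ) : ℤ) : ℂ) = ((0 : ℤ) : ℂ) := by
      push_cast
      rw [← h]
      congr 1
      · congr 1
        refine Finset.sum_congr rfl fun ψ hψ => ?_
        rw [haS ψ hψ, hd ψ]; ring
      · rw [hd χ₁]
    have h3 : 1 + ∑ ψ ∈ S, (d ψ : ℤ) * a ψ + δ * (d χ₁ : ℤ) = 0 := by exact_mod_cast h2
    push_cast
    linarith
  have hχ₁S' : χ₁ ∉ S' := by
    rw [hS', Finset.mem_insert, not_or]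
    exact ⟨fun h => hχ₁1 (by rw [h]; rfl), hχ₁S⟩
  have hχ₂S' : χ₂ ∉ S' := by
    rw [hS', Finset.mem_insert, not_or]
    exact ⟨fun h => hχ₂1 (by rw [h]; rfl), hχ₂S⟩
  have hdχ : d χ₂ = d χ₁ := by
    have : ((d χ₂ : ℕ) : ℂ) = ((d χ₁ : ℕ) : ℂ) := by rw [← hd χ₂, ← hd χ₁, hdeq]
    exact_mod_cast this
  have hbound : ∑ ψ ∈ S', d ψ ^ 2 + 2 * d χ₁ ^ 2 ≤ 7920 := by
    have h := sum_irr_one_sq (G := G)
    simp only [hd] at h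
    rw [hG] at h
    have h' : ∑ ψ : IrrCharacter G, (d ψ) ^ 2 = 7920 := by exact_mod_cast h
    have hsub : insert χ₁ (insert χ₂ S') ⊆ Finset.univ := Finset.subset_univ _
    have hle := Finset.sum_le_sum_of_subset (f := fun ψ => d ψ ^ 2) hsub
    have hχ₁' : χ₁ ∉ insert χ₂ S' := by
      rw [Finset.mem_insert, not_or]
      exact ⟨hχ₁₂, hχ₁S'⟩
    rw [Finset.sum_insert hχ₁', Finset.sum_insert hχ₂S', h', hdχ] at hle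
    linarith
  have hDc : ∃ c : ℕ, (d χ₁ : ℤ) = 6 * δ + 11 * c := by
    refine ⟨c₁, ?_⟩
    have : ((d χ₁ : ℤ) : ℂ) = ((6 * δ + 11 * c₁ : ℤ) : ℂ) := by
      push_cast
      rw [← hd χ₁, hc₁]
    exact_mod_cast this
  obtain ⟨hδm, hpat⟩ := Cfsg.Agent.Lib.H21.M7920.degrees11 S' a d T (Finset.mem_insert_self _ _) haT hdT
    (fun ψ _ => hdvd ψ) (fun ψ _ h => hdne1 ψ h) hcong hsq δ hδ (d χ₁) (hdvd χ₁) hDc hlin hbound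
  -- values with `δ = -1`
  have hχ₁x' : (χ₁ : G → ℂ) x = ζ ^ 2 + ζ ^ 6 + ζ ^ 7 + ζ ^ 8 + ζ ^ 10 := by
    rw [hχ₁x, hδm]; push_cast; ring
  have hχ₂x' : (χ₂ : G → ℂ) x = ζ + ζ ^ 3 + ζ ^ 4 + ζ ^ 5 + ζ ^ 9 := by
    rw [hχ₂x, hδm]; push_cast; ring
  have hmemS : ∀ ψ, ψ ∈ S' → ψ ≠ T → ψ ∈ S := by
    intro ψ hψ hne
    rcases Finset.mem_insert.1 hψ with h | h
    · exact absurd h hne
    · exact h
  have hSS' : ∀ ψ ∈ S, ψ ∈ S' := fun ψ hψ => Finset.mem_insert_of_mem hψ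
  have hSneT : ∀ ψ ∈ S, ψ ≠ T := fun ψ hψ h => hTS (h ▸ hψ)
  refine ⟨χ₁, χ₂, hχ₁₂, hχ₁x', hχ₂x', ?_⟩
  rcases hpat with ⟨hD16, k₁, k₂, k₃, k₄, hk₁, hk₂, hk₃, hk₄, hk₁T, hk₂T, hk₃T, hk₄T, h12, h13, h14, h23,
      h24, h34, ha₁, ha₂, ha₃, ha₄, hd₁, hd₂, hd₃, hd₄, hrest⟩ |
    ⟨hD5, k₁, k₂, k₃, k₄, hk₁, hk₂, hk₃, hk₄, h12, ha₁, ha₂, ha₃, ha₄, hd₁, hd₂, hd₃, hd₄, hrest⟩ |
    ⟨hD5, k, hk, hak, hdk, hrest⟩
  · -- pattern (A)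
    left
    have hSeq : S = {k₁, k₂, k₃, k₄} := by
      ext ψ
      simp only [Finset.mem_insert, Finset.mem_singleton]
      constructor
      · intro hψ
        by_contra hcon
        push Not at hcon
        have h0 := hrest ψ (hSS' ψ hψ) (hSneT ψ hψ) hcon.1 hcon.2.1 hcon.2.2.1 hcon.2.2.2
        rw [haS ψ hψ] at h0
        exact hε0 ψ hψ h0
      · rintro (h | h | h | h) <;> rw [h]
        · exact hmemS k₁ hk₁ hk₁T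
        · exact hmemS k₂ hk₂ hk₂T
        · exact hmemS k₃ hk₃ hk₃T
        · exact hmemS k₄ hk₄ hk₄T
    have hk₁S : k₁ ∈ S := hmemS k₁ hk₁ hk₁T
    have hk₂S : k₂ ∈ S := hmemS k₂ hk₂ hk₂T
    have hk₃S : k₃ ∈ S := hmemS k₃ hk₃ hk₃T
    have hk₄S : k₄ ∈ S := hmemS k₄ hk₄ hk₄T
    have hsum4 : ∀ f : IrrCharacter G → ℂ, ∑ ψ ∈ S, f ψ = f k₁ + (f k₂ + (f k₃ + f k₄)) := by
      intro f
      rw [hSeq, Finset.sum_insert, Finset.sum_insert, Finset.sum_insert, Finset.sum_singleton]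
      · simp [h34]
      · simp [h23, h24]
      · simp [h12, h13, h14]
    refine ⟨k₁, k₂, k₃, k₄, h12, h13, h14, h23, h24, h34, ?_, ?_, ?_, ?_, ?_, ?_, ?_, ?_, ?_, ?_, ?_, ?_⟩
    · rw [hd χ₁, hD16]; norm_num
    · rw [hd χ₂, hdχ, hD16]; norm_num
    · rw [hd k₁, hd₁]; norm_num
    · rw [hd k₂, hd₂]; norm_num
    · rw [hd k₃, hd₃]; norm_num
    · rw [hd k₄, hd₄]; norm_num
    · rw [(hSx k₁ hk₁S).1, ← haS k₁ hk₁S, ha₁]; norm_num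
    · rw [(hSx k₂ hk₂S).1, ← haS k₂ hk₂S, ha₂]; norm_num
    · rw [(hSx k₃ hk₃S).1, ← haS k₃ hk₃S, ha₃]; norm_num
    · rw [(hSx k₄ hk₄S).1, ← haS k₄ hk₄S, ha₄]; norm_num
    · intro ψ hψ1 hψχ₁ hψχ₂ hψ₁ hψ₂ hψ₃ hψ₄
      apply hvan ψ hψ1 hψχ₁ hψχ₂
      rw [hSeq]
      simp [hψ₁, hψ₂, hψ₃, hψ₄]
    · intro g hgx hgxi
      obtain ⟨heq, hr⟩ := hrel g hgx hgxi
      refine ⟨heq, ?_⟩
      rw [hsum4, ← haS k₁ hk₁S, ← haS k₂ hk₂S, ← haS k₃ hk₃S, ← haS k₄ hk₄S, ha₁, ha₂, ha₃, ha₄, hδm] at hr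
      push_cast at hr
      linear_combination hr
  · -- pattern (B)
    right; left
    refine ⟨k₁, k₂, h12, ?_, ?_, ?_⟩
    · rw [hd χ₁, hD5]; norm_num
    · rw [hd k₁, hd₁]; norm_num
    · rw [hd k₂, hd₂]; norm_num
  · -- pattern (b)
    right; right
    have hkT : k ≠ T := by
      intro h
      rw [h, haT] at hak
      norm_num at hak
    have hkS : k ∈ S := hmemS k hk hkT
    have hSeq : S = {k} := by
      ext ψ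
      simp only [Finset.mem_singleton]
      constructor
      · intro hψ
        by_contra hcon
        have h0 := hrest ψ (hSS' ψ hψ) (hSneT ψ hψ) hcon
        rw [haS ψ hψ] at h0
        exact hε0 ψ hψ h0
      · rintro rfl
        exact hkS
    refine ⟨k, ?_, ?_⟩
    · rw [hd χ₁, hD5]; norm_num
    · intro g hgx hgxi
      obtain ⟨heq, hr⟩ := hrel g hgx hgxi
      rw [hSeq, Finset.sum_singleton, ← haS k hkS, hak, hδm] at hr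
      push_cast at hr
      linear_combination hr

end Cfsg.Agent.Lib.H19.M7920
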