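import Mathlib
import Cfsg.Prelude.Def_Characters
import Cfsg.Agent.Lib.H19.M7920BLOCKS
import Cfsg.Agent.Lib.H10.M7920F0
import Cfsg.Agent.Lib.H11.M7920F1
import Cfsg.Agent.Lib.H28.M7920KILLb
import Cfsg.Agent.Lib.H23.M7920KILLB
import Cfsg.Agent.Lib.H4.M7920F11
import Cfsg.Agent.Lib.H22.M7920F9
import Cfsg.Agent.Lib.H12.M7920F10
import Cfsg.Agent.Lib.H21.M7920F12a
import Cfsg.Agent.Lib.H12.O7920F2
import Cfsg.Agent.Lib.H23.DefectZero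
import Cfsg.Agent.Lib.H23.DegreeDvd
import Cfsg.Agent.Lib.H24.CharOrth
import Cfsg.Agent.Lib.H24.CharBasic
import Cfsg.Agent.Lib.H24.BrauerP4
import Cfsg.Agent.Lib.L0.CharBasic
import Cfsg.Agent.Lib.L0.CharOps

/-!
# The character-table data of a simple group of order 7920 (helper19)

`structure_7920`: the conclusion is EXACTLY the hypothesis block of
`Cfsg.Agent.Lib.H19.O7920.card_centralizer_involution` (S0435) and of the S0434 pieces.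
Assembled from the S4429 pieces: (F0) helper10, (F1) helper11, (BLOCK) helper16 [strong copy in
`Lib/H19/M7920BLOCKS`], (KILLb) helper28, (KILLB) helper23, (F11) helper4, (F9) helper22, (F10) helper12,
(F12a) helper21.
-/

set_option autoImplicit false

namespace Cfsg.Agent.Lib.H19.M7920

open Cfsg Cfsg.Agent.Lib.L0 Cfsg.Agent.Lib.H24
open scoped ComplexConjugate BigOperators

universe u

/-- An irreducible character of degree divisible by 5 of a group of order 7920 vanishes at elements of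
order 5 (defect zero). -/
theorem irr_eq_zero_of_five_dvd {G : Type u} [Group G] [Fintype G] (hG : Nat.card G = 7920)
    (χ : IrrCharacter G) (d : ℕ) (hd : (χ : G → ℂ) 1 = d) (h5 : 5 ∣ d) (y : G) (hy : orderOf y = 5) :
    (χ : G → ℂ) y = 0 := by
  classical
  obtain ⟨n, ρ, hρ, hρχ⟩ := χ.2
  have := hρ
  have hn : n = d := by
    have h1 : ρ.character 1 = (n : ℂ) := by
      rw [Representation.char_one]; simp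
    rw [hρχ, hd] at h1
    exact_mod_cast h1.symm
  rw [← hρχ]
  apply Cfsg.Agent.Lib.H23.char_eq_zero_of_defect_zero ρ 5 1 (by norm_num)
  · rw [hG]; norm_num
  · rw [Module.finrank_fin_fun, hn, pow_one]; exact h5
  · rw [hy]

theorem injective_vec3 {α : Type*} {a b c : α} (hab : a ≠ b) (hac : a ≠ c) (hbc : b ≠ c) :
    Function.Injective ![a, b, c] := by
  intro i j h
  fin_cases i <;> fin_cases j <;> simp_all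

theorem int_eq_of_sq_le_two_11 (b : ℤ) (c : ℕ) (hb : b ^ 2 ≤ 2) (h : (11 : ℤ) = b + 5 * c) : b = 1 := by
  have h1 : -1 ≤ b := by nlinarith
  have h2 : b ≤ 1 := by nlinarith
  omega

theorem int_eq_of_sq_le_two_44 (b : ℤ) (c : ℕ) (hb : b ^ 2 ≤ 2) (h : (44 : ℤ) = b + 5 * c) : b = -1 := by
  have h1 : -1 ≤ b := by nlinarith
  have h2 : b ≤ 1 := by nlinarith
  omega

theorem int_eq_of_sq_le_two_55 (b : ℤ) (c : ℕ) (hb : b ^ 2 ≤ 2) (h : (55 : ℤ) = b + 5 * c) : b = 0 := by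
  have h1 : -1 ≤ b := by nlinarith
  have h2 : b ≤ 1 := by nlinarith
  omega

theorem forall_vec3 {α : Type*} {a b c : α} (P : α → Prop) (pa : P a) (pb : P b) (pc : P c) :
    ∀ i : Fin 3, P (![a, b, c] i) := by
  intro i
  fin_cases i
  · exact pa
  · exact pb
  · exact pc

/-- The character-table data of a simple group of order 7920 needed for S0435 / S0434. -/
theorem structure_7920 {G : Type u} [Group G] [Fintype G] [IsSimpleGroup G] (hG : Nat.card G = 7920) :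
    ∃ (x y : G) (ψ : Fin 3 → IrrCharacter G) (ψ₄ χ₁ χ₂ θ θ' φ : IrrCharacter G),
      ¬ IsConj x x⁻¹ ∧ Nat.card (Subgroup.centralizer ({x} : Set G)) = 11 ∧
      Nat.card (Subgroup.centralizer ({y} : Set G)) = 5 ∧
      (∀ ξ : IrrCharacter G, (ξ : G → ℂ) = 1 ∨ (∃ i, ξ = ψ i) ∨ ξ = ψ₄ ∨ ξ = χ₁ ∨ ξ = χ₂ ∨ ξ = θ ∨
        ξ = θ' ∨ ξ = φ) ∧
      Function.Injective ψ ∧
      ((∀ i, ψ i ≠ ψ₄ ∧ ψ i ≠ χ₁ ∧ ψ i ≠ χ₂ ∧ ψ i ≠ θ ∧ ψ i ≠ θ' ∧ ψ i ≠ φ) ∧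
        ψ₄ ≠ χ₁ ∧ ψ₄ ≠ χ₂ ∧ ψ₄ ≠ θ ∧ ψ₄ ≠ θ' ∧ ψ₄ ≠ φ ∧ χ₁ ≠ χ₂ ∧ χ₁ ≠ θ ∧ χ₁ ≠ θ' ∧ χ₁ ≠ φ ∧
        χ₂ ≠ θ ∧ χ₂ ≠ θ' ∧ χ₂ ≠ φ ∧ θ ≠ θ' ∧ θ ≠ φ ∧ θ' ≠ φ) ∧
      ((∀ i, (ψ i : G → ℂ) ≠ 1) ∧ (ψ₄ : G → ℂ) ≠ 1 ∧ (χ₁ : G → ℂ) ≠ 1 ∧ (χ₂ : G → ℂ) ≠ 1 ∧
        (θ : G → ℂ) ≠ 1 ∧ (θ' : G → ℂ) ≠ 1 ∧ (φ : G → ℂ) ≠ 1) ∧
      ((∀ i, (ψ i : G → ℂ) 1 = 10) ∧ (ψ₄ : G → ℂ) 1 = 45 ∧ (χ₁ : G → ℂ) 1 = 16 ∧
        (χ₂ : G → ℂ) 1 = 16 ∧ (θ : G → ℂ) 1 = 11 ∧ (θ' : G → ℂ) 1 = 44 ∧ (φ : G → ℂ) 1 = 55) ∧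
      ((∀ i, (ψ i : G → ℂ) x = -1) ∧ (ψ₄ : G → ℂ) x = 1 ∧
        (χ₁ : G → ℂ) x⁻¹ + (χ₂ : G → ℂ) x⁻¹ = -1 ∧ (θ : G → ℂ) x = 0 ∧ (θ' : G → ℂ) x = 0 ∧
        (φ : G → ℂ) x = 0) ∧
      (∀ g : G, ¬ IsConj g x → ¬ IsConj g x⁻¹ → (χ₁ : G → ℂ) g = (χ₂ : G → ℂ) g ∧
        1 - ∑ i, (ψ i : G → ℂ) g + (ψ₄ : G → ℂ) g - (χ₁ : G → ℂ) g = 0) ∧
      ((∀ i, (ψ i : G → ℂ) y = 0) ∧ (ψ₄ : G → ℂ) y = 0 ∧ (χ₁ : G → ℂ) y = 1 ∧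
        (χ₂ : G → ℂ) y = 1 ∧ (θ : G → ℂ) y = 1 ∧ (θ' : G → ℂ) y = -1 ∧ (φ : G → ℂ) y = 0) := by
  classical
  have hfi : Fintype (IrrCharacter G) := Fintype.ofFinite _
  have hperf : commutator G = ⊤ := BrP.commutator_eq_top_of_simple (by rw [hG]; norm_num)
  obtain ⟨K, hK, hC, hN⟩ := Cfsg.Agent.Lib.H10.M7920.sylow11_data hG
  obtain ⟨x, hxK, hx1⟩ : ∃ x ∈ K, x ≠ 1 := by
    have h1 : 1 < Nat.card K := by rw [hK]; norm_num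
    have : Nontrivial K := (Finite.one_lt_card_iff_nontrivial).1 h1
    obtain ⟨k, hk⟩ := exists_ne (1 : K)
    exact ⟨k, k.2, fun h => hk (Subtype.ext h)⟩
  obtain ⟨hconj, hninv⟩ := Cfsg.Agent.Lib.H11.M7920.fusion11 K hK hC hN hxK hx1
  have hordx : orderOf x = 11 := by
    have h1 : orderOf x ∣ 11 := by
      have := orderOf_dvd_natCard (⟨x, hxK⟩ : K)
      rwa [Subgroup.orderOf_mk, hK] at this
    rcases (Nat.dvd_prime (by norm_num : Nat.Prime 11)).1 h1 with h | h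
    · exact absurd (orderOf_eq_one_iff.1 h) hx1
    · exact h
  have hzp : Subgroup.zpowers x = K :=
    Subgroup.eq_of_le_of_card_ge (Subgroup.zpowers_le.2 hxK)
      (le_of_eq (by rw [Nat.card_zpowers, hordx, hK]))
  have hCxK : Subgroup.centralizer ({x} : Set G) = K := by
    apply le_antisymm
    · intro g hg
      rw [← hC, Subgroup.mem_centralizer_iff]
      intro k hk
      rw [SetLike.mem_coe, ← hzp] at hk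
      obtain ⟨n, rfl⟩ := Subgroup.mem_zpowers_iff.1 hk
      have hgx : g * x = x * g := Subgroup.mem_centralizer_singleton_iff.1 hg
      have hc : Commute x g := hgx.symm
      exact (hc.zpow_left n).eq
    · intro k hk
      rw [Subgroup.mem_centralizer_singleton_iff]
      have hk' : k ∈ Subgroup.centralizer (K : Set G) := by rw [hC]; exact hk
      rw [Subgroup.mem_centralizer_iff] at hk'
      exact (hk' x hxK).symm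
  have hCx : Nat.card (Subgroup.centralizer ({x} : Set G)) = 11 := by rw [hCxK, hK]
  obtain ⟨ζ, hζ⟩ : ∃ ζ : ℂ, IsPrimitiveRoot ζ 11 :=
    ⟨_, Complex.isPrimitiveRoot_exp 11 (by norm_num)⟩
  obtain ⟨χ₁, χ₂, hχ₁₂, hχ₁x, hχ₂x, hpat⟩ :=
    block11_strong hG hperf K hK hC hxK hx1 hconj hninv ζ hζ
  -- elements of order 5 are not conjugate to `x`, `x⁻¹`
  have hnot5 : ∀ g : G, orderOf g = 5 → ¬ IsConj g x ∧ ¬ IsConj g x⁻¹ := by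
    intro g hg
    constructor
    · intro h
      obtain ⟨c, hc⟩ := h
      have : orderOf g = orderOf x := SemiconjBy.orderOf_eq _ hc
      rw [hordx, hg] at this
      norm_num at this
    · intro h
      obtain ⟨c, hc⟩ := h
      have : orderOf g = orderOf x⁻¹ := SemiconjBy.orderOf_eq _ hc
      rw [orderOf_inv, hordx, hg] at this
      norm_num at this
  rcases hpat with ⟨ψ₁, ψ₂, ψ₃, ψ₄, h12, h13, h14, h23, h24, h34, hd1, hd2, he1, he2, he3, he4,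
      hv1, hv2, hv3, hv4, hvan, hrel⟩ | ⟨ψ₁, ψ₂, hne, h5, h12, h12'⟩ | ⟨ψ, h5, hrel⟩
  rotate_left
  · exact (Cfsg.Agent.Lib.H23.M7920.kill_B hG χ₁ ψ₁ ψ₂ h5 hne h12 h12').elim
  · exact (Cfsg.Agent.Lib.H28.M7920.kill_b hG χ₁ ψ h5
      (fun g hg => hrel g (hnot5 g hg).1 (hnot5 g hg).2)).elim
  -- pattern (A)
  haveI : Fact (Nat.Prime 5) := ⟨by norm_num⟩
  obtain ⟨y, hy⟩ := exists_prime_orderOf_dvd_card' (G := G) 5 (by rw [hG]; norm_num)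
  obtain ⟨hyx, hyx'⟩ := hnot5 y hy
  have hy1 : ¬ IsConj y 1 := by
    intro h
    have h1 : y = 1 := isConj_one_left.1 h
    rw [h1, orderOf_one] at hy
    norm_num at hy
  have hψ₁y : (ψ₁ : G → ℂ) y = 0 :=
    irr_eq_zero_of_five_dvd hG ψ₁ 10 (by rw [he1]; norm_num) (by norm_num) y hy
  have hψ₂y : (ψ₂ : G → ℂ) y = 0 :=
    irr_eq_zero_of_five_dvd hG ψ₂ 10 (by rw [he2]; norm_num) (by norm_num) y hy
  have hψ₃y : (ψ₃ : G → ℂ) y = 0 :=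
    irr_eq_zero_of_five_dvd hG ψ₃ 10 (by rw [he3]; norm_num) (by norm_num) y hy
  have hψ₄y : (ψ₄ : G → ℂ) y = 0 :=
    irr_eq_zero_of_five_dvd hG ψ₄ 45 (by rw [he4]; norm_num) (by norm_num) y hy
  obtain ⟨hχy, hrely⟩ := hrel y hyx hyx'
  have hχ₁y : (χ₁ : G → ℂ) y = 1 := by
    rw [hψ₁y, hψ₂y, hψ₃y, hψ₄y] at hrely
    linear_combination (-1 : ℂ) * hrely
  have hχ₂y : (χ₂ : G → ℂ) y = 1 := by rw [← hχy, hχ₁y]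
  -- the trivial character and distinctness
  set T : IrrCharacter G := trivialIrr G with hT
  have hT1 : (T : G → ℂ) 1 = 1 := rfl
  have hdegne : ∀ (ξ ξ' : IrrCharacter G) (n n' : ℂ), (ξ : G → ℂ) 1 = n → (ξ' : G → ℂ) 1 = n' →
      n ≠ n' → ξ ≠ ξ' := by
    intro ξ ξ' n n' h h' hn e
    apply hn
    rw [← h, ← h', e]
  have hTχ₁ : T ≠ χ₁ := hdegne T χ₁ 1 16 hT1 hd1 (by norm_num)
  have hTχ₂ : T ≠ χ₂ := hdegne T χ₂ 1 16 hT1 hd2 (by norm_num)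
  have hTψ₁ : T ≠ ψ₁ := hdegne T ψ₁ 1 10 hT1 he1 (by norm_num)
  have hTψ₂ : T ≠ ψ₂ := hdegne T ψ₂ 1 10 hT1 he2 (by norm_num)
  have hTψ₃ : T ≠ ψ₃ := hdegne T ψ₃ 1 10 hT1 he3 (by norm_num)
  have hTψ₄ : T ≠ ψ₄ := hdegne T ψ₄ 1 45 hT1 he4 (by norm_num)
  have hχ₁ψ₁ : χ₁ ≠ ψ₁ := hdegne χ₁ ψ₁ 16 10 hd1 he1 (by norm_num)
  have hχ₁ψ₂ : χ₁ ≠ ψ₂ := hdegne χ₁ ψ₂ 16 10 hd1 he2 (by norm_num)
  have hχ₁ψ₃ : χ₁ ≠ ψ₃ := hdegne χ₁ ψ₃ 16 10 hd1 he3 (by norm_num)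
  have hχ₁ψ₄ : χ₁ ≠ ψ₄ := hdegne χ₁ ψ₄ 16 45 hd1 he4 (by norm_num)
  have hχ₂ψ₁ : χ₂ ≠ ψ₁ := hdegne χ₂ ψ₁ 16 10 hd2 he1 (by norm_num)
  have hχ₂ψ₂ : χ₂ ≠ ψ₂ := hdegne χ₂ ψ₂ 16 10 hd2 he2 (by norm_num)
  have hχ₂ψ₃ : χ₂ ≠ ψ₃ := hdegne χ₂ ψ₃ 16 10 hd2 he3 (by norm_num)
  have hχ₂ψ₄ : χ₂ ≠ ψ₄ := hdegne χ₂ ψ₄ 16 45 hd2 he4 (by norm_num)
  have hne1_of : ∀ ξ : IrrCharacter G, ξ ≠ T → (ξ : G → ℂ) ≠ 1 :=
    fun ξ h e => h (Subtype.ext e)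
  -- `|C(y)| = 5` and `y ~ y²`
  have hC15 : Nat.card (Subgroup.centralizer ({y} : Set G)) ∣ 15 := by
    apply Cfsg.Agent.Lib.H4.M7920.cent5_caseA hG (x := x) (y := y) (ζ + ζ ^ 3 + ζ ^ 4 + ζ ^ 5 + ζ ^ 9)
      χ₁ χ₂ hχ₁₂ (hne1_of χ₁ hTχ₁.symm) (hne1_of χ₂ hTχ₂.symm) _ hχ₂x hd1 hd2 hχ₁y hχ₂y
    · intro ξ hξ1 hξχ₁ hξχ₂
      by_cases e1 : ξ = ψ₁
      · left; rw [e1]; exact hψ₁y
      by_cases e2 : ξ = ψ₂
      · left; rw [e2]; exact hψ₂y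
      by_cases e3 : ξ = ψ₃
      · left; rw [e3]; exact hψ₃y
      by_cases e4 : ξ = ψ₄
      · left; rw [e4]; exact hψ₄y
      right
      exact (hvan ξ hξ1 hξχ₁ hξχ₂ e1 e2 e3 e4).1
    · rw [hχ₁x]
      linear_combination Cfsg.Agent.Lib.H12.O7920.eta_add_eta' hζ
  obtain ⟨hCy, hy2⟩ := Cfsg.Agent.Lib.H22.M7920.sylow5_data hG y hy hC15
  -- integer values at `y`, degrees
  have hBex : ∀ ξ : IrrCharacter G, ∃ (B : ℤ) (c : ℕ), (ξ : G → ℂ) y = (B : ℂ) ∧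
      (ξ : G → ℂ) 1 = (B : ℂ) + 5 * c := fun ξ => Cfsg.Agent.Lib.H12.M7920.values5 ξ y hy hy2
  choose B cc hBy hB1 using hBex
  have hDex : ∀ ξ : IrrCharacter G, ∃ n : ℕ, 0 < n ∧ (ξ : G → ℂ) 1 = n := fun ξ => irr_one_eq ξ
  choose d hdpos hd using hDex
  have hBval : ∀ (ξ : IrrCharacter G) (v : ℤ), (ξ : G → ℂ) y = v → B ξ = v := by
    intro ξ v h
    have : ((B ξ : ℤ) : ℂ) = (v : ℂ) := by rw [← hBy ξ, h]
    exact_mod_cast this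
  have hdval : ∀ (ξ : IrrCharacter G) (n : ℕ), (ξ : G → ℂ) 1 = n → d ξ = n := by
    intro ξ n h
    have : ((d ξ : ℕ) : ℂ) = (n : ℂ) := by rw [← hd ξ, h]
    exact_mod_cast this
  have hBT : B T = 1 := hBval T 1 (by rw [hT, trivialIrr_apply]; norm_num)
  have hBχ₁ : B χ₁ = 1 := hBval χ₁ 1 (by rw [hχ₁y]; norm_num)
  have hBχ₂ : B χ₂ = 1 := hBval χ₂ 1 (by rw [hχ₂y]; norm_num)
  have hBψ₁ : B ψ₁ = 0 := hBval ψ₁ 0 (by rw [hψ₁y]; norm_num)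
  have hBψ₂ : B ψ₂ = 0 := hBval ψ₂ 0 (by rw [hψ₂y]; norm_num)
  have hBψ₃ : B ψ₃ = 0 := hBval ψ₃ 0 (by rw [hψ₃y]; norm_num)
  have hBψ₄ : B ψ₄ = 0 := hBval ψ₄ 0 (by rw [hψ₄y]; norm_num)
  have hdT : d T = 1 := hdval T 1 (by rw [hT1]; norm_num)
  have hdχ₁ : d χ₁ = 16 := hdval χ₁ 16 (by rw [hd1]; norm_num)
  have hdχ₂ : d χ₂ = 16 := hdval χ₂ 16 (by rw [hd2]; norm_num)
  have hdψ₁ : d ψ₁ = 10 := hdval ψ₁ 10 (by rw [he1]; norm_num)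
  have hdψ₂ : d ψ₂ = 10 := hdval ψ₂ 10 (by rw [he2]; norm_num)
  have hdψ₃ : d ψ₃ = 10 := hdval ψ₃ 10 (by rw [he3]; norm_num)
  have hdψ₄ : d ψ₄ = 45 := hdval ψ₄ 45 (by rw [he4]; norm_num)
  -- the three global sums
  have hSq : ∑ ξ : IrrCharacter G, B ξ ^ 2 = 5 := by
    have h := second_orthogonality (G := G) y y
    rw [if_pos (IsConj.refl y), hCy] at h
    simp only [hBy, map_intCast] at h
    have h' : ((∑ ξ : IrrCharacter G, B ξ ^ 2 : ℤ) : ℂ) = ((5 : ℤ) : ℂ) := by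
      push_cast
      have e : ∀ ξ : IrrCharacter G, ((B ξ : ℤ) : ℂ) ^ 2 = (B ξ : ℂ) * (B ξ : ℂ) := fun ξ => sq _
      simp only [e]
      rw [h]
      norm_num
    exact_mod_cast h'
  have hLin : ∑ ξ : IrrCharacter G, (d ξ : ℤ) * B ξ = 0 := by
    have h := second_orthogonality (G := G) y 1
    rw [if_neg hy1] at h
    simp only [hBy, hd, map_natCast] at h
    have h' : ((∑ ξ : IrrCharacter G, (d ξ : ℤ) * B ξ : ℤ) : ℂ) = ((0 : ℤ) : ℂ) := by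
      push_cast
      exact (Finset.sum_congr rfl (fun ξ _ => mul_comm _ _)).trans h
    exact_mod_cast h'
  have hDsq : ∑ ξ : IrrCharacter G, d ξ ^ 2 = 7920 := by
    have h := sum_irr_one_sq (G := G)
    simp only [hd] at h
    rw [hG] at h
    exact_mod_cast h
  -- the seven known characters and the rest
  set Seven : Finset (IrrCharacter G) := {T, χ₁, χ₂, ψ₁, ψ₂, ψ₃, ψ₄} with hSeven
  set Ts : Finset (IrrCharacter G) := Finset.univ \ Seven with hTs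
  have hsplit : ∀ (M : Type) [AddCommMonoid M] (f : IrrCharacter G → M),
      ∑ ξ, f ξ = ∑ ξ ∈ Ts, f ξ + (f T + (f χ₁ + (f χ₂ + (f ψ₁ + (f ψ₂ + (f ψ₃ + f ψ₄)))))) := by
    intro M _ f
    rw [← Finset.sum_sdiff (Finset.subset_univ Seven)]
    congr 1
    have m6 : ψ₃ ∉ ({ψ₄} : Finset (IrrCharacter G)) := by
      simp only [Finset.mem_singleton]
      exact h34
    have m5 : ψ₂ ∉ ({ψ₃, ψ₄} : Finset (IrrCharacter G)) := by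
      simp only [Finset.mem_insert, Finset.mem_singleton, not_or]
      exact ⟨h23, h24⟩
    have m4 : ψ₁ ∉ ({ψ₂, ψ₃, ψ₄} : Finset (IrrCharacter G)) := by
      simp only [Finset.mem_insert, Finset.mem_singleton, not_or]
      exact ⟨h12, h13, h14⟩
    have m3 : χ₂ ∉ ({ψ₁, ψ₂, ψ₃, ψ₄} : Finset (IrrCharacter G)) := by
      simp only [Finset.mem_insert, Finset.mem_singleton, not_or]
      exact ⟨hχ₂ψ₁, hχ₂ψ₂, hχ₂ψ₃, hχ₂ψ₄⟩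
    have m2 : χ₁ ∉ ({χ₂, ψ₁, ψ₂, ψ₃, ψ₄} : Finset (IrrCharacter G)) := by
      simp only [Finset.mem_insert, Finset.mem_singleton, not_or]
      exact ⟨hχ₁₂, hχ₁ψ₁, hχ₁ψ₂, hχ₁ψ₃, hχ₁ψ₄⟩
    have m1 : T ∉ ({χ₁, χ₂, ψ₁, ψ₂, ψ₃, ψ₄} : Finset (IrrCharacter G)) := by
      simp only [Finset.mem_insert, Finset.mem_singleton, not_or]
      exact ⟨hTχ₁, hTχ₂, hTψ₁, hTψ₂, hTψ₃, hTψ₄⟩
    rw [hSeven, Finset.sum_insert m1, Finset.sum_insert m2, Finset.sum_insert m3, Finset.sum_insert m4,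
      Finset.sum_insert m5, Finset.sum_insert m6, Finset.sum_singleton]
  have hTsnot : ∀ ξ ∈ Ts, ξ ≠ T ∧ ξ ≠ χ₁ ∧ ξ ≠ χ₂ ∧ ξ ≠ ψ₁ ∧ ξ ≠ ψ₂ ∧ ξ ≠ ψ₃ ∧ ξ ≠ ψ₄ := by
    intro ξ hξ
    rw [hTs, Finset.mem_sdiff, hSeven] at hξ
    simp only [Finset.mem_insert, Finset.mem_singleton, not_or] at hξ
    exact hξ.2
  have hB2 : ∑ ξ ∈ Ts, B ξ ^ 2 = 2 := by
    have h := hsplit ℤ (fun ξ => B ξ ^ 2)
    simp only [hSq, hBT, hBχ₁, hBχ₂, hBψ₁, hBψ₂, hBψ₃, hBψ₄] at h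
    norm_num at h
    linarith
  have hlin : ∑ ξ ∈ Ts, (d ξ : ℤ) * B ξ = -33 := by
    have h := hsplit ℤ (fun ξ => (d ξ : ℤ) * B ξ)
    simp only [hLin, hBT, hBχ₁, hBχ₂, hBψ₁, hBψ₂, hBψ₃, hBψ₄, hdT, hdχ₁, hdχ₂, hdψ₁, hdψ₂, hdψ₃,
      hdψ₄] at h
    norm_num at h
    linarith
  have hsq : ∑ ξ ∈ Ts, d ξ ^ 2 = 5082 := by
    have h := hsplit ℕ (fun ξ => d ξ ^ 2)
    simp only [hDsq, hdT, hdχ₁, hdχ₂, hdψ₁, hdψ₂, hdψ₃, hdψ₄] at h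
    norm_num at h
    omega
  have h11 : ∀ ξ ∈ Ts, 11 ∣ d ξ := by
    intro ξ hξ
    obtain ⟨n0, n1, n2, n3, n4, n5, n6⟩ := hTsnot ξ hξ
    obtain ⟨-, c, hc⟩ := hvan ξ (hne1_of ξ n0) n1 n2 n3 n4 n5 n6
    have : ((d ξ : ℕ) : ℂ) = ((11 * c : ℕ) : ℂ) := by
      rw [← hd ξ, hc]
      push_cast
      ring
    have h2 : d ξ = 11 * c := by exact_mod_cast this
    exact ⟨c, h2⟩
  have hdvd : ∀ ξ ∈ Ts, d ξ ∣ 7920 := by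
    intro ξ _
    have h := Cfsg.Agent.Lib.H23.charDegree_dvd_card (ξ : G → ℂ) ξ.2
    rw [Cfsg.Agent.Lib.H23.charDegree_eq_of_apply_one (hd ξ), hG] at h
    exact h
  have hcong : ∀ ξ ∈ Ts, ∃ c : ℕ, (d ξ : ℤ) = B ξ + 5 * c := by
    intro ξ _
    refine ⟨cc ξ, ?_⟩
    have : ((d ξ : ℤ) : ℂ) = ((B ξ + 5 * cc ξ : ℤ) : ℂ) := by
      push_cast
      rw [← hd ξ, hB1 ξ]
    exact_mod_cast this
  obtain ⟨t₁, t₂, t₃, ht₁, ht₂, ht₃, ht12, ht13, ht23, hdt₁, hdt₂, hdt₃, hTall⟩ :=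
    Cfsg.Agent.Lib.H21.M7920.extra11 Ts B d h11 hdvd (fun ξ _ => hdpos ξ) hcong hB2 hlin hsq
  -- the values at `y` of the three new characters
  have hBle : ∀ ξ ∈ Ts, B ξ ^ 2 ≤ 2 := by
    intro ξ hξ
    rw [← hB2]
    exact Finset.single_le_sum (f := fun ξ => B ξ ^ 2) (fun i _ => sq_nonneg (B i)) hξ
  have hBt₁ : B t₁ = 1 := by
    obtain ⟨c₁, hc₁⟩ := hcong t₁ ht₁
    rw [hdt₁] at hc₁
    push_cast at hc₁
    exact int_eq_of_sq_le_two_11 (B t₁) c₁ (hBle t₁ ht₁) hc₁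
  have hBt₂ : B t₂ = -1 := by
    obtain ⟨c₁, hc₁⟩ := hcong t₂ ht₂
    rw [hdt₂] at hc₁
    push_cast at hc₁
    exact int_eq_of_sq_le_two_44 (B t₂) c₁ (hBle t₂ ht₂) hc₁
  have hBt₃ : B t₃ = 0 := by
    obtain ⟨c₁, hc₁⟩ := hcong t₃ ht₃
    rw [hdt₃] at hc₁
    push_cast at hc₁
    exact int_eq_of_sq_le_two_55 (B t₃) c₁ (hBle t₃ ht₃) hc₁
  obtain ⟨a0, a1, a2, a3, a4, a5, a6⟩ := hTsnot t₁ ht₁
  obtain ⟨b0, b1, b2, b3, b4, b5, b6⟩ := hTsnot t₂ ht₂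
  obtain ⟨c0, c1, c2, c3, c4, c5, c6⟩ := hTsnot t₃ ht₃
  refine ⟨x, y, ![ψ₁, ψ₂, ψ₃], ψ₄, χ₁, χ₂, t₁, t₂, t₃, hninv, hCx, hCy, ?_, ?_, ?_, ?_, ?_, ?_, ?_, ?_⟩
  · -- hall
    intro ξ
    by_cases hξ : ξ ∈ Seven
    · rw [hSeven] at hξ
      simp only [Finset.mem_insert, Finset.mem_singleton] at hξ
      rcases hξ with h | h | h | h | h | h | h
      · left
        rw [h]
        rfl
      · exact Or.inr (Or.inr (Or.inr (Or.inl h)))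
      · exact Or.inr (Or.inr (Or.inr (Or.inr (Or.inl h))))
      · exact Or.inr (Or.inl ⟨0, h⟩)
      · exact Or.inr (Or.inl ⟨1, h⟩)
      · exact Or.inr (Or.inl ⟨2, h⟩)
      · exact Or.inr (Or.inr (Or.inl h))
    · have hξT : ξ ∈ Ts := by
        rw [hTs, Finset.mem_sdiff]
        exact ⟨Finset.mem_univ _, hξ⟩
      rcases hTall ξ hξT with h | h | h
      · exact Or.inr (Or.inr (Or.inr (Or.inr (Or.inr (Or.inl h)))))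
      · exact Or.inr (Or.inr (Or.inr (Or.inr (Or.inr (Or.inr (Or.inl h))))))
      · exact Or.inr (Or.inr (Or.inr (Or.inr (Or.inr (Or.inr (Or.inr h))))))
  · exact injective_vec3 h12 h13 h23
  · refine ⟨forall_vec3 (fun ξ : IrrCharacter G => ξ ≠ ψ₄ ∧ ξ ≠ χ₁ ∧ ξ ≠ χ₂ ∧ ξ ≠ t₁ ∧ ξ ≠ t₂ ∧ ξ ≠ t₃)
      ⟨h14, hχ₁ψ₁.symm, hχ₂ψ₁.symm, a3.symm, b3.symm, c3.symm⟩
      ⟨h24, hχ₁ψ₂.symm, hχ₂ψ₂.symm, a4.symm, b4.symm, c4.symm⟩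
      ⟨h34, hχ₁ψ₃.symm, hχ₂ψ₃.symm, a5.symm, b5.symm, c5.symm⟩,
      hχ₁ψ₄.symm, hχ₂ψ₄.symm, a6.symm, b6.symm, c6.symm, hχ₁₂, a1.symm, b1.symm, c1.symm,
      a2.symm, b2.symm, c2.symm, ht12, ht13, ht23⟩
  · exact ⟨forall_vec3 (fun ξ : IrrCharacter G => (ξ : G → ℂ) ≠ 1) (hne1_of ψ₁ hTψ₁.symm) (hne1_of ψ₂ hTψ₂.symm)
      (hne1_of ψ₃ hTψ₃.symm), hne1_of ψ₄ hTψ₄.symm, hne1_of χ₁ hTχ₁.symm, hne1_of χ₂ hTχ₂.symm,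
      hne1_of t₁ a0, hne1_of t₂ b0, hne1_of t₃ c0⟩
  · refine ⟨forall_vec3 (fun ξ : IrrCharacter G => (ξ : G → ℂ) 1 = 10) he1 he2 he3, he4, hd1, hd2, ?_, ?_, ?_⟩
    · rw [hd t₁, hdt₁]; norm_num
    · rw [hd t₂, hdt₂]; norm_num
    · rw [hd t₃, hdt₃]; norm_num
  · refine ⟨forall_vec3 (fun ξ : IrrCharacter G => (ξ : G → ℂ) x = -1) hv1 hv2 hv3, hv4, ?_,
      (hvan t₁ (hne1_of t₁ a0) a1 a2 a3 a4 a5 a6).1, (hvan t₂ (hne1_of t₂ b0) b1 b2 b3 b4 b5 b6).1,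
      (hvan t₃ (hne1_of t₃ c0) c1 c2 c3 c4 c5 c6).1⟩
    rw [isCharacter_apply_inv (isCharacter_of_irr χ₁.2), isCharacter_apply_inv (isCharacter_of_irr χ₂.2),
      hχ₁x, hχ₂x, Cfsg.Agent.Lib.H12.O7920.conj_eta' hζ, Cfsg.Agent.Lib.H12.O7920.conj_eta hζ]
    exact Cfsg.Agent.Lib.H12.O7920.eta_add_eta' hζ
  · intro g h1 h2
    obtain ⟨e, r⟩ := hrel g h1 h2
    refine ⟨e, ?_⟩
    rw [Fin.sum_univ_three]
    show 1 - ((ψ₁ : G → ℂ) g + (ψ₂ : G → ℂ) g + (ψ₃ : G → ℂ) g) + (ψ₄ : G → ℂ) g - (χ₁ : G → ℂ) g = 0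
    linear_combination r
  · refine ⟨forall_vec3 (fun ξ : IrrCharacter G => (ξ : G → ℂ) y = 0) hψ₁y hψ₂y hψ₃y, hψ₄y, hχ₁y, hχ₂y, ?_, ?_, ?_⟩
    · rw [hBy t₁, hBt₁]; norm_num
    · rw [hBy t₂, hBt₂]; norm_num
    · rw [hBy t₃, hBt₃]; norm_num

end Cfsg.Agent.Lib.H19.M7920
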