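import Mathlib
import Cfsg.Prelude.Def_Characters
import Cfsg.Agent.Lib.H8.GaloisClassFun
import Cfsg.Agent.Lib.L0.CharBasic
import Cfsg.Agent.Lib.L0.CharOps

/-!
# S0435 pieces (INVINT) `invol_int` and (NOPAIR) `count_eq_zero` (helper19)
-/

set_option autoImplicit false

namespace Cfsg.Agent.Lib.H19.O7920

open Cfsg
open scoped BigOperators
universe u

/-- (INVINT) values at an involution are integers of absolute value at most the degree. -/
theorem invol_int {G : Type u} [Group G] [Fintype G] {z : G} (hz : orderOf z = 2) (χ : IrrCharacter G)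
    (d : ℕ) (hd : (χ : G → ℂ) 1 = d) :
    ∃ v : ℤ, (χ : G → ℂ) z = v ∧ |v| ≤ d := by
  have hzz : z ^ 2 = 1 := by
    have := pow_orderOf_eq_one z
    rwa [hz] at this
  have h2G : 2 ∣ Nat.card G := by
    rw [← hz]
    exact orderOf_dvd_natCard z
  have hpow : ∀ m : ℕ, m.Coprime (Nat.card G) → (χ : G → ℂ) (z ^ m) = (χ : G → ℂ) z := by
    intro m hm
    have hodd : ¬ 2 ∣ m := by
      intro h
      have h1 : 2 ∣ Nat.gcd m (Nat.card G) := Nat.dvd_gcd h h2G
      rw [Nat.Coprime] at hm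
      rw [hm] at h1
      omega
    obtain ⟨k, hk⟩ : ∃ k, m = 2 * k + 1 := ⟨m / 2, by omega⟩
    rw [hk, pow_succ, pow_mul, hzz, one_pow, one_mul]
  obtain ⟨v, hv⟩ := Cfsg.Agent.Lib.H8.exists_int_of_forall_pow_eq (Or.inl χ.2) z hpow
  refine ⟨v, hv, ?_⟩
  have hn := Cfsg.Agent.Lib.L0.isCharacter_norm_le (Cfsg.Agent.Lib.L0.isCharacter_of_irr χ.2) z
  rw [hv, hd] at hn
  have h1 : ‖((v : ℤ) : ℂ)‖ = |(v : ℝ)| := by
    have : ((v : ℤ) : ℂ) = ((v : ℝ) : ℂ) := by push_cast; rfl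
    rw [this, Complex.norm_real, Real.norm_eq_abs]
  have h2 : ‖((d : ℕ) : ℂ)‖ = (d : ℝ) := by
    have : ((d : ℕ) : ℂ) = ((d : ℝ) : ℂ) := by push_cast; rfl
    rw [this, Complex.norm_real, Real.norm_eq_abs, abs_of_nonneg (Nat.cast_nonneg d)]
  rw [h1, h2] at hn
  have h3 : ((|v| : ℤ) : ℝ) ≤ ((d : ℤ) : ℝ) := by
    push_cast
    exact hn
  exact_mod_cast h3

/-- (NOPAIR) if `x` is not conjugate to its inverse, no two involutions have product `x`. -/
theorem count_eq_zero {G : Type u} [Group G] [Fintype G] [DecidableEq G] {z x : G} (hz : orderOf z = 2)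
    (hx : ¬ IsConj x x⁻¹) :
    (∑ s : G, ∑ t : G, if (s * z * s⁻¹) * (t * z * t⁻¹) = x then (1 : ℂ) else 0) = 0 := by
  have hzz : z * z = 1 := by
    have := pow_orderOf_eq_one z
    rwa [hz, pow_two] at this
  apply Finset.sum_eq_zero
  intro s _
  apply Finset.sum_eq_zero
  intro t _
  rw [if_neg]
  intro h
  apply hx
  -- `a = s z s⁻¹`, `b = t z t⁻¹` involutions with `a b = x`: `a x a⁻¹ = b a = x⁻¹`
  set a := s * z * s⁻¹ with ha
  set b := t * z * t⁻¹ with hb
  have haa : a * a = 1 := by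
    rw [ha]
    have : s * z * s⁻¹ * (s * z * s⁻¹) = s * (z * z) * s⁻¹ := by group
    rw [this, hzz]
    group
  have hbb : b * b = 1 := by
    rw [hb]
    have : t * z * t⁻¹ * (t * z * t⁻¹) = t * (z * z) * t⁻¹ := by group
    rw [this, hzz]
    group
  have hainv : a⁻¹ = a := inv_eq_of_mul_eq_one_left haa
  have hbinv : b⁻¹ = b := inv_eq_of_mul_eq_one_left hbb
  rw [isConj_iff]
  refine ⟨a, ?_⟩
  rw [← h, hainv, mul_inv_rev, hainv, hbinv]
  calc a * (a * b) * a = (a * a) * b * a := by group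
    _ = b * a := by rw [haa, one_mul]

end Cfsg.Agent.Lib.H19.O7920
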