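import Mathlib
import Cfsg.Prelude.Def_Characters
import Cfsg.Agent.Lib.H19.O7920INVINT
import Cfsg.Agent.Lib.H23.O7920ARITH48
import Cfsg.Agent.Lib.H24.CharOrth
import Cfsg.Agent.Lib.H24.CharBasic
import Cfsg.Agent.Lib.H23.ClassProduct
import Cfsg.Agent.Lib.H16.SylowBasic
import Cfsg.Agent.Lib.L0.CharBasic
import Cfsg.Agent.Lib.L0.CharOps

/-!
# S0435 (helper19): piece (FINAL48) - the centralizer of an involution in a simple group of order 7920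
has order 48, from the character-table data of S4429.
-/

set_option autoImplicit false

namespace Cfsg.Agent.Lib.H19.O7920

open Cfsg Cfsg.Agent.Lib.L0 Cfsg.Agent.Lib.H24
open scoped ComplexConjugate BigOperators

universe u

/-- If `C_G(w)` has prime order `p`, `p` odd, `p² ∤ |G|`, then `p` does not divide the order of the
centralizer of an involution. -/
theorem not_dvd_card_centralizer_invol {G : Type u} [Group G] [Finite G] {p : ℕ} [hp : Fact p.Prime]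
    (hp2 : ¬ p ^ 2 ∣ Nat.card G) {w : G}
    (hCw : Nat.card (Subgroup.centralizer ({w} : Set G)) = p) {z : G} (hz : orderOf z = 2)
    (hodd : ¬ 2 ∣ p) : ¬ p ∣ Nat.card (Subgroup.centralizer ({z} : Set G)) := by
  intro hdvd
  obtain ⟨g, hg⟩ := exists_prime_orderOf_dvd_card' (G := Subgroup.centralizer ({z} : Set G)) p hdvd
  have hgG : orderOf (g : G) = p := by rw [Subgroup.orderOf_coe]; exact hg
  have hcardz : Nat.card (Subgroup.zpowers (g : G)) = p := by rw [Nat.card_zpowers, hgG]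
  have hpos : Nat.card G ≠ 0 := Nat.card_pos.ne'
  have hfac : (Nat.card G).factorization p = 1 := by
    have h1 : 1 ≤ (Nat.card G).factorization p := by
      rw [← Nat.Prime.pow_dvd_iff_le_factorization hp.out hpos, pow_one, ← hgG]
      exact orderOf_dvd_natCard _
    have h2 : ¬ 2 ≤ (Nat.card G).factorization p := by
      intro h
      exact hp2 ((Nat.Prime.pow_dvd_iff_le_factorization hp.out hpos).2 h)
    omega
  let S : Sylow p G := Sylow.ofCard (Subgroup.zpowers (g : G)) (by rw [hcardz, hfac, pow_one])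
  have hS : (S : Subgroup G) = Subgroup.zpowers (g : G) := Sylow.coe_ofCard _ _
  have hA : IsPGroup p (Subgroup.centralizer ({w} : Set G)) :=
    IsPGroup.of_card (n := 1) (by rw [hCw, pow_one])
  obtain ⟨k, hk⟩ := Cfsg.Agent.Lib.H16.exists_conj_mem_sylow _ hA S
  have hwmem : w ∈ Subgroup.centralizer ({w} : Set G) := Subgroup.mem_centralizer_singleton_iff.2 rfl
  have h1 := hk w hwmem
  rw [hS] at h1
  obtain ⟨n, hn⟩ := Subgroup.mem_zpowers_iff.1 h1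
  have hcomm : Commute (g : G) z := by
    have := g.2
    rw [Subgroup.mem_centralizer_singleton_iff] at this
    exact this
  have h2 : Commute (k * w * k⁻¹) z := by
    rw [← hn]
    exact hcomm.zpow_left n
  have h3 : k⁻¹ * z * k ∈ Subgroup.centralizer ({w} : Set G) := by
    rw [Subgroup.mem_centralizer_singleton_iff]
    have h4 : k * w * k⁻¹ * z = z * (k * w * k⁻¹) := h2
    calc k⁻¹ * z * k * w = k⁻¹ * (z * (k * w * k⁻¹)) * k := by group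
      _ = k⁻¹ * (k * w * k⁻¹ * z) * k := by rw [h4]
      _ = w * (k⁻¹ * z * k) := by group
  have h5 : orderOf (k⁻¹ * z * k) = 2 := by
    rw [← hz]
    symm
    apply SemiconjBy.orderOf_eq k⁻¹
    show k⁻¹ * z = k⁻¹ * z * k * k⁻¹
    group
  have h6 : orderOf (k⁻¹ * z * k) ∣ p := by
    have := orderOf_dvd_natCard (⟨k⁻¹ * z * k, h3⟩ : Subgroup.centralizer ({w} : Set G))
    rwa [Subgroup.orderOf_mk, hCw] at this
  rw [h5] at h6
  exact hodd h6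

/-- Splitting a sum over `IrrCharacter G` along a list of ten characters. -/
theorem sum_irr_ten {G : Type u} [Group G] [Fintype G] [Fintype (IrrCharacter G)]
    (ψ : Fin 3 → IrrCharacter G) (ψ₄ χ₁ χ₂ θ θ' φ : IrrCharacter G)
    (hall : ∀ ξ : IrrCharacter G, (ξ : G → ℂ) = 1 ∨ (∃ i, ξ = ψ i) ∨ ξ = ψ₄ ∨ ξ = χ₁ ∨ ξ = χ₂ ∨ ξ = θ ∨
      ξ = θ' ∨ ξ = φ)
    (hinj : Function.Injective ψ)
    (hdist : (∀ i, ψ i ≠ ψ₄ ∧ ψ i ≠ χ₁ ∧ ψ i ≠ χ₂ ∧ ψ i ≠ θ ∧ ψ i ≠ θ' ∧ ψ i ≠ φ) ∧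
      ψ₄ ≠ χ₁ ∧ ψ₄ ≠ χ₂ ∧ ψ₄ ≠ θ ∧ ψ₄ ≠ θ' ∧ ψ₄ ≠ φ ∧ χ₁ ≠ χ₂ ∧ χ₁ ≠ θ ∧ χ₁ ≠ θ' ∧ χ₁ ≠ φ ∧
      χ₂ ≠ θ ∧ χ₂ ≠ θ' ∧ χ₂ ≠ φ ∧ θ ≠ θ' ∧ θ ≠ φ ∧ θ' ≠ φ)
    (hne1 : (∀ i, (ψ i : G → ℂ) ≠ 1) ∧ (ψ₄ : G → ℂ) ≠ 1 ∧ (χ₁ : G → ℂ) ≠ 1 ∧ (χ₂ : G → ℂ) ≠ 1 ∧
      (θ : G → ℂ) ≠ 1 ∧ (θ' : G → ℂ) ≠ 1 ∧ (φ : G → ℂ) ≠ 1)
    (f : IrrCharacter G → ℂ) :
    ∑ ξ, f ξ = f (trivialIrr G) + ∑ i, f (ψ i) + f ψ₄ + f χ₁ + f χ₂ + f θ + f θ' + f φ := by
  classical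
  obtain ⟨hd0, h45, h46, h47, h48, h49, h56, h57, h58, h59, h67, h68, h69, h78, h79, h89⟩ := hdist
  obtain ⟨hn0, hn4, hn5, hn6, hn7, hn8, hn9⟩ := hne1
  have htv : ∀ ξ : IrrCharacter G, (ξ : G → ℂ) ≠ 1 → trivialIrr G ≠ ξ := by
    intro ξ h h'
    apply h
    rw [← h']
    rfl
  have huniv : (Finset.univ : Finset (IrrCharacter G)) =
      insert (trivialIrr G) (Finset.univ.image ψ ∪ {ψ₄, χ₁, χ₂, θ, θ', φ}) := by
    symm
    rw [Finset.eq_univ_iff_forall]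
    intro ξ
    simp only [Finset.mem_insert, Finset.mem_union, Finset.mem_image, Finset.mem_univ, true_and,
      Finset.mem_singleton]
    rcases hall ξ with h | ⟨i, h⟩ | h | h | h | h | h | h
    · have h' : ξ = trivialIrr G := Subtype.ext h
      tauto
    · have h' : ∃ a, ψ a = ξ := ⟨i, h.symm⟩
      tauto
    all_goals tauto
  have hnot : trivialIrr G ∉ Finset.univ.image ψ ∪ {ψ₄, χ₁, χ₂, θ, θ', φ} := by
    simp only [Finset.mem_union, Finset.mem_image, Finset.mem_univ, true_and, Finset.mem_insert,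
      Finset.mem_singleton, not_or, not_exists]
    exact ⟨fun i h => htv _ (hn0 i) h.symm, htv _ hn4, htv _ hn5, htv _ hn6, htv _ hn7, htv _ hn8,
      htv _ hn9⟩
  have hdisj : Disjoint (Finset.univ.image ψ) ({ψ₄, χ₁, χ₂, θ, θ', φ} : Finset (IrrCharacter G)) := by
    rw [Finset.disjoint_left]
    intro ξ h1 h2
    simp only [Finset.mem_image, Finset.mem_univ, true_and] at h1
    obtain ⟨i, rfl⟩ := h1
    simp only [Finset.mem_insert, Finset.mem_singleton] at h2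
    obtain ⟨e4, e5, e6, e7, e8, e9⟩ := hd0 i
    rcases h2 with h | h | h | h | h | h
    · exact e4 h
    · exact e5 h
    · exact e6 h
    · exact e7 h
    · exact e8 h
    · exact e9 h
  have h6 : ∑ ξ ∈ ({ψ₄, χ₁, χ₂, θ, θ', φ} : Finset (IrrCharacter G)), f ξ =
      f ψ₄ + (f χ₁ + (f χ₂ + (f θ + (f θ' + f φ)))) := by
    rw [Finset.sum_insert, Finset.sum_insert, Finset.sum_insert, Finset.sum_insert,
      Finset.sum_insert, Finset.sum_singleton]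
    all_goals simp only [Finset.mem_insert, Finset.mem_singleton, not_or]
    all_goals tauto
  rw [huniv, Finset.sum_insert hnot, Finset.sum_union hdisj,
    Finset.sum_image (fun a _ b _ h => hinj h), h6]
  ring

/-- (FINAL48) from the structure data of S4429. -/
theorem card_centralizer_involution {G : Type u} [Group G] [Fintype G] (hG : Nat.card G = 7920)
    (x y : G) (hx : ¬ IsConj x x⁻¹) (hCx : Nat.card (Subgroup.centralizer ({x} : Set G)) = 11)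
    (hCy : Nat.card (Subgroup.centralizer ({y} : Set G)) = 5)
    (ψ : Fin 3 → IrrCharacter G) (ψ₄ χ₁ χ₂ θ θ' φ : IrrCharacter G)
    (hall : ∀ ξ : IrrCharacter G, (ξ : G → ℂ) = 1 ∨ (∃ i, ξ = ψ i) ∨ ξ = ψ₄ ∨ ξ = χ₁ ∨ ξ = χ₂ ∨ ξ = θ ∨
      ξ = θ' ∨ ξ = φ)
    (hinj : Function.Injective ψ)
    (hdist : (∀ i, ψ i ≠ ψ₄ ∧ ψ i ≠ χ₁ ∧ ψ i ≠ χ₂ ∧ ψ i ≠ θ ∧ ψ i ≠ θ' ∧ ψ i ≠ φ) ∧
      ψ₄ ≠ χ₁ ∧ ψ₄ ≠ χ₂ ∧ ψ₄ ≠ θ ∧ ψ₄ ≠ θ' ∧ ψ₄ ≠ φ ∧ χ₁ ≠ χ₂ ∧ χ₁ ≠ θ ∧ χ₁ ≠ θ' ∧ χ₁ ≠ φ ∧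
      χ₂ ≠ θ ∧ χ₂ ≠ θ' ∧ χ₂ ≠ φ ∧ θ ≠ θ' ∧ θ ≠ φ ∧ θ' ≠ φ)
    (hne1 : (∀ i, (ψ i : G → ℂ) ≠ 1) ∧ (ψ₄ : G → ℂ) ≠ 1 ∧ (χ₁ : G → ℂ) ≠ 1 ∧ (χ₂ : G → ℂ) ≠ 1 ∧
      (θ : G → ℂ) ≠ 1 ∧ (θ' : G → ℂ) ≠ 1 ∧ (φ : G → ℂ) ≠ 1)
    (hdeg : (∀ i, (ψ i : G → ℂ) 1 = 10) ∧ (ψ₄ : G → ℂ) 1 = 45 ∧ (χ₁ : G → ℂ) 1 = 16 ∧
      (χ₂ : G → ℂ) 1 = 16 ∧ (θ : G → ℂ) 1 = 11 ∧ (θ' : G → ℂ) 1 = 44 ∧ (φ : G → ℂ) 1 = 55)
    (hvalx : (∀ i, (ψ i : G → ℂ) x = -1) ∧ (ψ₄ : G → ℂ) x = 1 ∧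
      (χ₁ : G → ℂ) x⁻¹ + (χ₂ : G → ℂ) x⁻¹ = -1 ∧ (θ : G → ℂ) x = 0 ∧ (θ' : G → ℂ) x = 0 ∧
      (φ : G → ℂ) x = 0)
    (hF5 : ∀ g : G, ¬ IsConj g x → ¬ IsConj g x⁻¹ → (χ₁ : G → ℂ) g = (χ₂ : G → ℂ) g ∧
      1 - ∑ i, (ψ i : G → ℂ) g + (ψ₄ : G → ℂ) g - (χ₁ : G → ℂ) g = 0)
    (hvaly : (∀ i, (ψ i : G → ℂ) y = 0) ∧ (ψ₄ : G → ℂ) y = 0 ∧ (χ₁ : G → ℂ) y = 1 ∧
      (χ₂ : G → ℂ) y = 1 ∧ (θ : G → ℂ) y = 1 ∧ (θ' : G → ℂ) y = -1 ∧ (φ : G → ℂ) y = 0)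
    (z : G) (hz : orderOf z = 2) :
    Nat.card (Subgroup.centralizer ({z} : Set G)) = 48 := by
  classical
  have : Fintype (IrrCharacter G) := Fintype.ofFinite _
  have hsplit := sum_irr_ten ψ ψ₄ χ₁ χ₂ θ θ' φ hall hinj hdist hne1
  obtain ⟨hdψ, hd4, hdχ1, hdχ2, hdθ, hdθ', hdφ⟩ := hdeg
  obtain ⟨hxψ, hx4, hxχ, hxθ, hxθ', hxφ⟩ := hvalx
  obtain ⟨hyψ, hy4, hyχ1, hyχ2, hyθ, hyθ', hyφ⟩ := hvaly
  -- values at `z`
  have hψz : ∀ i, ∃ v : ℤ, (ψ i : G → ℂ) z = v ∧ |v| ≤ ((10 : ℕ) : ℤ) :=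
    fun i => invol_int hz (ψ i) 10 (by rw [hdψ i]; norm_num)
  choose a ha ha' using hψz
  obtain ⟨b, hb, hb'⟩ := invol_int hz ψ₄ 45 (by rw [hd4]; norm_num)
  obtain ⟨u, hu, hu'⟩ := invol_int hz χ₁ 16 (by rw [hdχ1]; norm_num)
  obtain ⟨t, ht, ht'⟩ := invol_int hz θ 11 (by rw [hdθ]; norm_num)
  obtain ⟨s, hs, hs'⟩ := invol_int hz θ' 44 (by rw [hdθ']; norm_num)
  obtain ⟨f, hf, hf'⟩ := invol_int hz φ 55 (by rw [hdφ]; norm_num)
  -- orders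
  have hx1 : x ≠ 1 := by
    intro h
    apply hx
    rw [h, inv_one]
  have hordx : orderOf x = 11 := by
    have hxmem : x ∈ Subgroup.centralizer ({x} : Set G) :=
      Subgroup.mem_centralizer_singleton_iff.2 rfl
    have h1 : orderOf x ∣ 11 := by
      have := orderOf_dvd_natCard (⟨x, hxmem⟩ : Subgroup.centralizer ({x} : Set G))
      rwa [Subgroup.orderOf_mk, hCx] at this
    rcases (Nat.dvd_prime (by norm_num : Nat.Prime 11)).1 h1 with h | h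
    · exact absurd (orderOf_eq_one_iff.1 h) hx1
    · exact h
  have hordy : orderOf y ∣ 5 := by
    have hymem : y ∈ Subgroup.centralizer ({y} : Set G) :=
      Subgroup.mem_centralizer_singleton_iff.2 rfl
    have := orderOf_dvd_natCard (⟨y, hymem⟩ : Subgroup.centralizer ({y} : Set G))
    rwa [Subgroup.orderOf_mk, hCy] at this
  have hzx : ¬ IsConj z x := by
    intro h
    obtain ⟨c, hc⟩ := h
    have : orderOf z = orderOf x := SemiconjBy.orderOf_eq _ hc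
    rw [hordx, hz] at this
    norm_num at this
  have hzx' : ¬ IsConj z x⁻¹ := by
    intro h
    obtain ⟨c, hc⟩ := h
    have : orderOf z = orderOf x⁻¹ := SemiconjBy.orderOf_eq _ hc
    rw [orderOf_inv, hordx, hz] at this
    norm_num at this
  have hzy : ¬ IsConj z y := by
    intro h
    obtain ⟨c, hc⟩ := h
    have : orderOf z = orderOf y := SemiconjBy.orderOf_eq _ hc
    rw [← this, hz] at hordy
    norm_num at hordy
  have hz1 : ¬ IsConj z 1 := by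
    intro h
    have h1 : z = 1 := isConj_one_left.1 h
    rw [h1, orderOf_one] at hz
    norm_num at hz
  -- (R1)
  obtain ⟨hχeq, hrel⟩ := hF5 z hzx hzx'
  have hu2 : (χ₂ : G → ℂ) z = u := by rw [← hχeq, hu]
  have R1 : 1 - ∑ i, a i + b - u = 0 := by
    simp only [ha, hb, hu] at hrel
    exact_mod_cast hrel
  -- the centralizer order
  set c : ℕ := Nat.card (Subgroup.centralizer ({z} : Set G)) with hc_def
  -- (R5) column `z / z`
  have hc : (c : ℤ) = 1 + ∑ i, a i ^ 2 + b ^ 2 + 2 * u ^ 2 + t ^ 2 + s ^ 2 + f ^ 2 := by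
    have hzz := second_orthogonality (G := G) z z
    rw [if_pos (IsConj.refl z), hsplit] at hzz
    simp only [trivialIrr_apply, ha, hb, hu, hu2, ht, hs, hf, map_intCast, map_one,
      Fin.sum_univ_three] at hzz
    have h1 : ((c : ℤ) : ℂ) =
        ((1 + ∑ i, a i ^ 2 + b ^ 2 + 2 * u ^ 2 + t ^ 2 + s ^ 2 + f ^ 2 : ℤ) : ℂ) := by
      rw [Fin.sum_univ_three]
      push_cast
      rw [← hzz]
      ring
    exact_mod_cast h1
  -- (R3) column `z / y`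
  have R3 : 1 + t - s + 2 * u = 0 := by
    have hzy' := second_orthogonality (G := G) z y
    rw [if_neg hzy, hsplit] at hzy'
    simp only [trivialIrr_apply, ha, hb, hu, hu2, ht, hs, hf, hyψ, hy4, hyχ1, hyχ2, hyθ, hyθ', hyφ,
      map_zero, map_one, map_neg, Fin.sum_univ_three] at hzy'
    have h1 : ((1 + t - s + 2 * u : ℤ) : ℂ) = 0 := by
      push_cast
      linear_combination hzy'
    exact_mod_cast h1
  -- (R4) column `z / 1`
  have R4 : 1 + 10 * ∑ i, a i + 45 * b + 32 * u + 11 * t + 44 * s + 55 * f = 0 := by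
    have hz1' := second_orthogonality (G := G) z 1
    rw [if_neg hz1, hsplit] at hz1'
    simp only [trivialIrr_apply, ha, hb, hu, hu2, ht, hs, hf, hdψ, hd4, hdχ1, hdχ2, hdθ, hdθ', hdφ,
      map_one, map_ofNat, Fin.sum_univ_three] at hz1'
    have h1 : ((1 + 10 * ∑ i, a i + 45 * b + 32 * u + 11 * t + 44 * s + 55 * f : ℤ) : ℂ) = 0 := by
      rw [Fin.sum_univ_three]
      push_cast
      linear_combination hz1'
    exact_mod_cast h1
  -- (R2) class multiplication `z, z → x`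
  have R2 : 720 - 72 * ∑ i, a i ^ 2 + 16 * b ^ 2 - 45 * u ^ 2 = 0 := by
    have hcm := Cfsg.Agent.Lib.H23.sum_sum_ite_conj_mul_eq (G := G) z z x
    have hG' : (Nat.card G : ℂ) = 7920 := by rw [hG]; norm_num
    have hinvψ : ∀ i, (ψ i : G → ℂ) x⁻¹ = -1 := by
      intro i
      rw [isCharacter_apply_inv (isCharacter_of_irr (ψ i).2), hxψ i, map_neg, map_one]
    have hinv4 : (ψ₄ : G → ℂ) x⁻¹ = 1 := by
      rw [isCharacter_apply_inv (isCharacter_of_irr ψ₄.2), hx4, map_one]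
    have hinvθ : (θ : G → ℂ) x⁻¹ = 0 := by
      rw [isCharacter_apply_inv (isCharacter_of_irr θ.2), hxθ, map_zero]
    have hinvθ' : (θ' : G → ℂ) x⁻¹ = 0 := by
      rw [isCharacter_apply_inv (isCharacter_of_irr θ'.2), hxθ', map_zero]
    have hinvφ : (φ : G → ℂ) x⁻¹ = 0 := by
      rw [isCharacter_apply_inv (isCharacter_of_irr φ.2), hxφ, map_zero]
    rw [count_eq_zero hz hx, hG', hsplit] at hcm
    simp only [trivialIrr_apply, ha, hb, hu, hu2, ht, hs, hf, hdψ, hd4, hdχ1, hdχ2, hdθ, hdθ', hdφ,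
      hinvψ, hinv4, hinvθ, hinvθ', hinvφ, Fin.sum_univ_three] at hcm
    have h1 : ((720 - 72 * ∑ i, a i ^ 2 + 16 * b ^ 2 - 45 * u ^ 2 : ℤ) : ℂ) = 0 := by
      rw [Fin.sum_univ_three]
      push_cast
      linear_combination (-1 / 11 : ℂ) * hcm - 45 * (u : ℂ) ^ 2 * hxχ
    exact_mod_cast h1
  -- `c ∣ 144`
  have hcdvd : c ∣ 7920 := by
    rw [← hG]
    exact Subgroup.card_subgroup_dvd_card _
  have h5 : ¬ 5 ∣ c := by
    haveI : Fact (Nat.Prime 5) := ⟨by norm_num⟩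
    exact not_dvd_card_centralizer_invol (p := 5) (by rw [hG]; norm_num) hCy hz (by norm_num)
  have h11 : ¬ 11 ∣ c := by
    haveI : Fact (Nat.Prime 11) := ⟨by norm_num⟩
    exact not_dvd_card_centralizer_invol (p := 11) (by rw [hG]; norm_num) hCx hz (by norm_num)
  have hdvd : c ∣ 144 := by
    have hc5 : Nat.Coprime c 5 :=
      ((Nat.Prime.coprime_iff_not_dvd (by norm_num : Nat.Prime 5)).2 h5).symm
    have hc11 : Nat.Coprime c 11 :=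
      ((Nat.Prime.coprime_iff_not_dvd (by norm_num : Nat.Prime 11)).2 h11).symm
    have hcop : Nat.Coprime c (5 * 11) := Nat.Coprime.mul_right hc5 hc11
    have h : c ∣ 144 * (5 * 11) := by
      norm_num
      exact hcdvd
    exact hcop.dvd_of_dvd_mul_right h
  exact Cfsg.Agent.Lib.H23.O7920.arith_c48 a b u t s f c (fun i => by exact_mod_cast ha' i) (by exact_mod_cast hb')
    (by exact_mod_cast hu') (by exact_mod_cast ht') (by exact_mod_cast hs') (by exact_mod_cast hf')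
    R1 R2 R3 R4 hc hdvd

end Cfsg.Agent.Lib.H19.O7920
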