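import Mathlib

/-!
S0420 piece LOC (helper19), group-theoretic core, pure Mathlib.

`G` a finite group, `P ≤ G` of order 9, every element of order 3 has a centralizer of order 18 and every
involution a centralizer of order 48. Then
* (LOC1) `C_G(P) = P`;
* (LOC2) a 2-element centralizing `P` is trivial;
* (LOC3) if `S ≤ N_G(P)` has order 16 and `z ∈ Z(S)` is an involution then `C_P(z) = 1`
  (hence `z` inverts `P`).
-/

set_option autoImplicit false

namespace Cfsg.Agent.Lib.H19.M11

universe u

section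
variable {G : Type u} [Group G] [Finite G]

/-- A group of order 9 is commutative. -/
theorem comm_of_card_nine (P : Subgroup G) (hP : Nat.card P = 9) :
    ∀ a ∈ P, ∀ b ∈ P, a * b = b * a := by
  haveI : Fact (Nat.Prime 3) := ⟨by norm_num⟩
  intro a ha b hb
  have h := IsPGroup.commutative_of_card_eq_prime_sq (p := 3) (G := P) (by rw [hP]; norm_num)
    ⟨a, ha⟩ ⟨b, hb⟩
  exact congrArg Subtype.val h

/-- An element of a subgroup of order 9 satisfies `x ^ 9 = 1`. -/
theorem pow_nine_of_mem (P : Subgroup G) (hP : Nat.card P = 9) {x : G} (hx : x ∈ P) : x ^ 9 = 1 := by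
  have := pow_card_eq_one' (G := P) (x := ⟨x, hx⟩)
  rw [hP] at this
  exact congrArg Subtype.val this

/-- A nontrivial subgroup of order dividing 9 contains an element of order 3. -/
theorem exists_orderOf_three (D : Subgroup G) (hD : Nat.card D ∣ 9) (hD1 : D ≠ ⊥) :
    ∃ t ∈ D, orderOf t = 3 := by
  haveI : Fact (Nat.Prime 3) := ⟨by norm_num⟩
  have h3 : 3 ∣ Nat.card D := by
    have hD' : Nat.card D ∣ 3 ^ 2 := by simpa using hD
    obtain ⟨m, hm, hc⟩ := (Nat.dvd_prime_pow (by norm_num : Nat.Prime 3)).1 hD'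
    have hne : Nat.card D ≠ 1 := by
      intro h; exact hD1 (Subgroup.card_eq_one.1 h)
    interval_cases m
    · exact absurd hc hne
    · rw [hc]; norm_num
    · rw [hc]; norm_num
  obtain ⟨t, ht⟩ := exists_prime_orderOf_dvd_card' 3 h3
  exact ⟨t, t.2, by rw [← ht]; exact (Subgroup.orderOf_coe t)⟩

/-- **LOC1.** `C_G(P) = P`. -/
theorem centralizer_eq_of_card_nine (P : Subgroup G) (hP : Nat.card P = 9)
    (h18 : ∀ t : G, orderOf t = 3 → Nat.card (Subgroup.centralizer ({t} : Set G)) = 18)
    (h48 : ∀ t : G, orderOf t = 2 → Nat.card (Subgroup.centralizer ({t} : Set G)) = 48) :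
    Subgroup.centralizer ((P : Subgroup G) : Set G) = P := by
  have hcomm := comm_of_card_nine P hP
  have hPC : P ≤ Subgroup.centralizer ((P : Subgroup G) : Set G) := by
    intro a ha
    rw [Subgroup.mem_centralizer_iff]
    intro b hb
    exact hcomm b hb a ha
  have hP1 : P ≠ ⊥ := by
    intro h; rw [h, Subgroup.card_bot] at hP; norm_num at hP
  obtain ⟨t, htP, ht⟩ := exists_orderOf_three P (by rw [hP]) hP1
  have hCt : Subgroup.centralizer ((P : Subgroup G) : Set G) ≤ Subgroup.centralizer ({t} : Set G) :=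
    Subgroup.centralizer_le (by simpa using htP)
  have hd18 : Nat.card (Subgroup.centralizer ((P : Subgroup G) : Set G)) ∣ 18 := by
    rw [← h18 t ht]; exact Subgroup.card_dvd_of_le hCt
  have hd9 : 9 ∣ Nat.card (Subgroup.centralizer ((P : Subgroup G) : Set G)) := by
    rw [← hP]; exact Subgroup.card_dvd_of_le hPC
  have hcases : Nat.card (Subgroup.centralizer ((P : Subgroup G) : Set G)) = 9 ∨
      Nat.card (Subgroup.centralizer ((P : Subgroup G) : Set G)) = 18 := by
    obtain ⟨k, hk⟩ := hd9
    have hk2 : k ∣ 2 := by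
      rw [hk] at hd18
      exact Nat.dvd_of_mul_dvd_mul_left (by norm_num : 0 < 9) (by simpa using hd18)
    have : k = 1 ∨ k = 2 := by
      have := Nat.le_of_dvd (by norm_num) hk2
      have hk0 : k ≠ 0 := by rintro rfl; simp at hk2
      omega
    rcases this with rfl | rfl
    · left; rw [hk]
    · right; rw [hk]
  rcases hcases with h9 | h18'
  · exact (Subgroup.eq_of_le_of_card_ge hPC (by rw [h9, hP])).symm
  · exfalso
    haveI : Fact (Nat.Prime 2) := ⟨by norm_num⟩
    obtain ⟨s, hs⟩ := exists_prime_orderOf_dvd_card' (G := Subgroup.centralizer ((P : Subgroup G) : Set G)) 2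
      (by rw [h18']; norm_num)
    have hs2 : orderOf (s : G) = 2 := by rw [← hs]; exact (Subgroup.orderOf_coe s)
    have hPs : P ≤ Subgroup.centralizer ({(s : G)} : Set G) := by
      intro a ha
      rw [Subgroup.mem_centralizer_singleton_iff]
      exact (Subgroup.mem_centralizer_iff.1 s.2 a ha)
    have : 9 ∣ 48 := by
      rw [← hP, ← h48 (s : G) hs2]; exact Subgroup.card_dvd_of_le hPs
    norm_num at this

/-- **LOC2.** A 2-element centralizing `P` is trivial. -/
theorem eq_one_of_mem_centralizer_of_two_pow (P : Subgroup G) (hP : Nat.card P = 9)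
    (h18 : ∀ t : G, orderOf t = 3 → Nat.card (Subgroup.centralizer ({t} : Set G)) = 18)
    (h48 : ∀ t : G, orderOf t = 2 → Nat.card (Subgroup.centralizer ({t} : Set G)) = 48)
    {s : G} (hs : s ∈ Subgroup.centralizer ((P : Subgroup G) : Set G)) {k : ℕ} (hk : s ^ 2 ^ k = 1) :
    s = 1 := by
  rw [centralizer_eq_of_card_nine P hP h18 h48] at hs
  have h9 : s ^ 9 = 1 := pow_nine_of_mem P hP hs
  have hcop : Nat.Coprime (2 ^ k) 9 := by
    apply Nat.Coprime.pow_left; norm_num
  have h1 : orderOf s ∣ Nat.gcd (2 ^ k) 9 :=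
    Nat.dvd_gcd (orderOf_dvd_of_pow_eq_one hk) (orderOf_dvd_of_pow_eq_one h9)
  rw [hcop.gcd_eq_one, Nat.dvd_one] at h1
  exact orderOf_eq_one_iff.1 h1

/-- **LOC3.** For `S ≤ N_G(P)` of order 16 and an involution `z ∈ Z(S)`: `C_P(z) = 1`. -/
theorem fpf_of_central_involution (P : Subgroup G) (hP : Nat.card P = 9)
    (h18 : ∀ t : G, orderOf t = 3 → Nat.card (Subgroup.centralizer ({t} : Set G)) = 18)
    (h48 : ∀ t : G, orderOf t = 2 → Nat.card (Subgroup.centralizer ({t} : Set G)) = 48)
    (S : Subgroup G) (hS : Nat.card S = 16)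
    (hSN : S ≤ Subgroup.normalizer ((P : Subgroup G) : Set G))
    (z : G) (hzS : z ∈ S) (hzc : ∀ s ∈ S, s * z = z * s) (hz1 : z ≠ 1) (hz2 : z * z = 1) :
    ∀ x ∈ P, z * x * z⁻¹ = x → x = 1 := by
  classical
  intro x hxP hzx
  by_contra hx1
  -- `D = C_P(z)`
  set D : Subgroup G := P ⊓ Subgroup.centralizer ({z} : Set G) with hD
  have hxD : x ∈ D := by
    refine Subgroup.mem_inf.2 ⟨hxP, ?_⟩
    rw [Subgroup.mem_centralizer_singleton_iff]
    calc x * z = (z * x * z⁻¹) * z := by rw [hzx]
      _ = z * x := by group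
  have hDP : D ≤ P := inf_le_left
  have hDd : Nat.card D ∣ 9 := by rw [← hP]; exact Subgroup.card_dvd_of_le hDP
  have hD1 : D ≠ ⊥ := by
    intro h; rw [h, Subgroup.mem_bot] at hxD; exact hx1 hxD
  -- `D ≠ P`
  have hDne : Nat.card D ≠ 9 := by
    intro h9
    have hDeq : D = P := Subgroup.eq_of_le_of_card_ge hDP (by rw [h9, hP])
    have hzC : z ∈ Subgroup.centralizer ((P : Subgroup G) : Set G) := by
      rw [Subgroup.mem_centralizer_iff]
      intro a ha
      have : a ∈ D := by rw [hDeq]; exact ha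
      have h2 := (Subgroup.mem_inf.1 this).2
      rw [Subgroup.mem_centralizer_singleton_iff] at h2
      exact h2
    exact hz1 (eq_one_of_mem_centralizer_of_two_pow P hP h18 h48 hzC (k := 1)
      (by rw [pow_one, pow_two]; exact hz2))
  have hD3 : Nat.card D = 3 := by
    have hDd' : Nat.card D ∣ 3 ^ 2 := by simpa using hDd
    obtain ⟨m, hm, hc⟩ := (Nat.dvd_prime_pow (by norm_num : Nat.Prime 3)).1 hDd'
    have hne : Nat.card D ≠ 1 := fun h => hD1 (Subgroup.card_eq_one.1 h)
    interval_cases m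
    · exact absurd hc hne
    · simpa using hc
    · exact absurd (by simpa using hc) hDne
  -- an element `t` of order 3 of `D`
  obtain ⟨t, htD, ht⟩ := exists_orderOf_three D hDd hD1
  -- every element of `D` is `1`, `t` or `t⁻¹`
  have hDelts : ∀ d ∈ D, d = 1 ∨ d = t ∨ d = t⁻¹ := by
    intro d hd
    haveI : Fact (Nat.Prime 3) := ⟨by norm_num⟩
    have htop : Subgroup.zpowers (⟨t, htD⟩ : D) = ⊤ := by
      apply zpowers_eq_top_of_prime_card (p := 3) hD3
      intro h
      have : t = 1 := congrArg Subtype.val h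
      rw [this, orderOf_one] at ht
      norm_num at ht
    have hmem : (⟨d, hd⟩ : D) ∈ Subgroup.zpowers (⟨t, htD⟩ : D) := by rw [htop]; trivial
    obtain ⟨k, hk⟩ := Subgroup.mem_zpowers_iff.1 hmem
    have hk' : t ^ k = d := by
      have := congrArg Subtype.val hk
      simpa using this
    have ht3 : t ^ (3 : ℤ) = 1 := by
      have := pow_orderOf_eq_one t
      rw [ht] at this
      exact_mod_cast this
    have hkm : t ^ k = t ^ (k % 3) := by
      have := zpow_mod_orderOf t k
      rw [ht] at this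
      exact_mod_cast this.symm
    have h0 : 0 ≤ k % 3 := Int.emod_nonneg k (by norm_num)
    have h3 : k % 3 < 3 := Int.emod_lt_of_pos k (by norm_num)
    rw [← hk', hkm]
    have hcases : k % 3 = 0 ∨ k % 3 = 1 ∨ k % 3 = 2 := by omega
    rcases hcases with h | h | h
    · left; rw [h, zpow_zero]
    · right; left; rw [h, zpow_one]
    · right; right
      rw [h]
      have : t ^ (2 : ℤ) * t = 1 := by
        have : t ^ (2 : ℤ) * t = t ^ (3 : ℤ) := by
          rw [show (3 : ℤ) = 2 + 1 by norm_num, zpow_add, zpow_one]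
        rw [this, ht3]
      exact eq_inv_of_mul_eq_one_left this
  -- `S` normalizes `D`
  have hSD : ∀ s ∈ S, s * t * s⁻¹ ∈ D := by
    intro s hs
    refine Subgroup.mem_inf.2 ⟨?_, ?_⟩
    · exact (Subgroup.mem_normalizer_iff.1 (hSN hs) t).1 (hDP htD)
    · rw [Subgroup.mem_centralizer_singleton_iff]
      have h1 : t * z = z * t := by
        have := (Subgroup.mem_inf.1 htD).2
        rw [Subgroup.mem_centralizer_singleton_iff] at this
        exact this
      have h2 : s * z = z * s := hzc s hs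
      have h3 : s⁻¹ * z = z * s⁻¹ := by
        calc s⁻¹ * z = s⁻¹ * (z * s) * s⁻¹ := by group
          _ = s⁻¹ * (s * z) * s⁻¹ := by rw [h2]
          _ = z * s⁻¹ := by group
      calc s * t * s⁻¹ * z = s * t * (s⁻¹ * z) := by group
        _ = s * t * (z * s⁻¹) := by rw [h3]
        _ = s * (t * z) * s⁻¹ := by group
        _ = s * (z * t) * s⁻¹ := by rw [h1]
        _ = (s * z) * t * s⁻¹ := by group
        _ = (z * s) * t * s⁻¹ := by rw [h2]
        _ = z * (s * t * s⁻¹) := by group
  have ht1 : t ≠ 1 := by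
    intro h; rw [h, orderOf_one] at ht; norm_num at ht
  have hSt : ∀ s ∈ S, s * t * s⁻¹ = t ∨ s * t * s⁻¹ = t⁻¹ := by
    intro s hs
    rcases hDelts _ (hSD s hs) with h | h | h
    · exfalso
      apply ht1
      have : t = s⁻¹ * (s * t * s⁻¹) * s := by group
      rw [this, h]; group
    · left; exact h
    · right; exact h
  -- `S₁ = C_S(t)`
  set S₁ : Subgroup G := S ⊓ Subgroup.centralizer ({t} : Set G) with hS₁
  have hS₁d18 : Nat.card S₁ ∣ 18 := by
    rw [← h18 t ht]; exact Subgroup.card_dvd_of_le inf_le_right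
  have hS₁d16 : Nat.card S₁ ∣ 16 := by
    rw [← hS]; exact Subgroup.card_dvd_of_le inf_le_left
  have hS₁2 : Nat.card S₁ ∣ 2 := by
    have := Nat.dvd_gcd hS₁d18 hS₁d16
    norm_num at this
    exact this
  have hS₁le : Nat.card S₁ ≤ 2 := Nat.le_of_dvd (by norm_num) hS₁2
  have hmemS₁ : ∀ s ∈ S, s * t * s⁻¹ = t → s ∈ S₁ := by
    intro s hs h
    refine Subgroup.mem_inf.2 ⟨hs, ?_⟩
    rw [Subgroup.mem_centralizer_singleton_iff]
    calc s * t = (s * t * s⁻¹) * s := by group
      _ = t * s := by rw [h]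
  -- `|S| ≤ 2 |S₁|`
  have hle : Nat.card S ≤ 2 * Nat.card S₁ := by
    by_cases hall : ∀ s ∈ S, s * t * s⁻¹ = t
    · have : S ≤ S₁ := fun s hs => hmemS₁ s hs (hall s hs)
      have := Subgroup.card_le_of_le this
      omega
    · push Not at hall
      obtain ⟨s₀, hs₀, hs₀t⟩ := hall
      have hs₀inv : s₀ * t * s₀⁻¹ = t⁻¹ := (hSt s₀ hs₀).resolve_left hs₀t
      -- injection `S → Bool × S₁`
      let f : S → Bool × S₁ := fun s =>
        if h : (s : G) * t * (s : G)⁻¹ = t then (true, ⟨s, hmemS₁ s s.2 h⟩)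
        else (false, ⟨s₀⁻¹ * s, hmemS₁ _ (S.mul_mem (S.inv_mem hs₀) s.2) (by
          have hs : (s : G) * t * (s : G)⁻¹ = t⁻¹ := (hSt s s.2).resolve_left h
          have h0 : s₀⁻¹ * t⁻¹ * s₀ = t := by
            rw [← hs₀inv]; group
          calc s₀⁻¹ * (s : G) * t * (s₀⁻¹ * (s : G))⁻¹
              = s₀⁻¹ * ((s : G) * t * (s : G)⁻¹) * s₀ := by group
            _ = s₀⁻¹ * t⁻¹ * s₀ := by rw [hs]
            _ = t := h0)⟩)
      have hf : Function.Injective f := by
        intro a b hab
        by_cases ha : (a : G) * t * (a : G)⁻¹ = t <;> by_cases hb : (b : G) * t * (b : G)⁻¹ = t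
        · simp only [f, dif_pos ha, dif_pos hb, Prod.mk.injEq, true_and, Subtype.mk.injEq] at hab
          exact Subtype.ext hab
        · simp only [f, dif_pos ha, dif_neg hb, Prod.mk.injEq] at hab
          exact absurd hab.1 (by simp)
        · simp only [f, dif_neg ha, dif_pos hb, Prod.mk.injEq] at hab
          exact absurd hab.1 (by simp)
        · simp only [f, dif_neg ha, dif_neg hb, Prod.mk.injEq, true_and, Subtype.mk.injEq] at hab
          exact Subtype.ext (mul_left_cancel hab)
      have := Nat.card_le_card_of_injective f hf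
      rw [Nat.card_prod] at this
      have hb : Nat.card Bool = 2 := by rw [Nat.card_eq_fintype_card, Fintype.card_bool]
      rw [hb] at this
      exact this
  rw [hS] at hle
  omega

end

end Cfsg.Agent.Lib.H19.M11
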