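import Mathlib
import Cfsg.Agent.Lib.H1.M11U.Defs
import Cfsg.Agent.Lib.H19.M11LOC

/-!
S0420 piece P2 = LOC in the EXACT signatures of `tools/blueprints/S0420_sigs.lean` (architect helper1):
`centralizer_eq` and `central_invol_fpf`.
-/

set_option autoImplicit false
open scoped Pointwise

universe u

namespace Cfsg.Agent.Lib.H19.M11U

open Cfsg.Agent.Lib.H1.M11U

variable {G : Type u} [Group G] [Finite G]

theorem card_sylow3_nine (h : Hyp G) (P : Sylow 3 G) : Nat.card (P : Subgroup G) = 9 := by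
  haveI : Fact (Nat.Prime 3) := ⟨by norm_num⟩
  rw [Sylow.card_eq_multiplicity, h.card]
  have h7920 : (7920 : ℕ) = 3 ^ 2 * 880 := by norm_num
  rw [h7920, Nat.factorization_mul (by norm_num) (by norm_num),
    Nat.Prime.factorization_pow (by norm_num)]
  simp [Nat.factorization_eq_zero_of_not_dvd]

/-- `C_G(P) = P` (`|C(x)| = 18` for `x ∈ P#`; an involution centralising `P` would give `9 ∣ 48`). -/
theorem centralizer_eq (h : Hyp G) (P : Sylow 3 G) :
    Subgroup.centralizer ((P : Subgroup G) : Set G) = (P : Subgroup G) :=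
  Cfsg.Agent.Lib.H19.M11.centralizer_eq_of_card_nine (P : Subgroup G) (card_sylow3_nine h P)
    h.cent3 h.cent2

/-- a central involution of a Sylow 2-subgroup `S` of `N(P)` is fixed-point-free on `P`. -/
theorem central_invol_fpf (h : Hyp G) (P : Sylow 3 G) (S : Subgroup G) (hS : S ≤ Nrm P)
    (hS16 : Nat.card S = 16) {z : G} (hzS : z ∈ S) (hz2 : orderOf z = 2)
    (hzc : ∀ s ∈ S, s * z = z * s) {v : G} (hv : v ∈ (P : Subgroup G)) (hzv : z * v * z⁻¹ = v) :
    v = 1 := by
  have hz1 : z ≠ 1 := by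
    intro h1; rw [h1, orderOf_one] at hz2; norm_num at hz2
  have hzz : z * z = 1 := by
    have := pow_orderOf_eq_one z
    rw [hz2, pow_two] at this
    exact this
  exact Cfsg.Agent.Lib.H19.M11.fpf_of_central_involution (P : Subgroup G) (card_sylow3_nine h P)
    h.cent3 h.cent2 S hS16 hS z hzS hzc hz1 hzz v hv hzv

end Cfsg.Agent.Lib.H19.M11U
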