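import Mathlib
import Cfsg.Agent.Lib.H1.M11U.Defs

/-!
S0420 piece CLOSE (helper19): the 10-clique `C = {P} ∪ orb P P'` and its stabiliser property, from
`local_prop` (LP) and the API / SUB lemmas, which enter this sig-shaped core as explicit hypotheses.
-/

set_option autoImplicit false
open scoped Pointwise

universe u

namespace Cfsg.Agent.Lib.H19.M11U

open Cfsg.Agent.Lib.H1.M11U

variable {G : Type u} [Group G] [Finite G]

/-- `u • P = P` for `u ∈ P`. -/
theorem smul_self_of_mem {P : Sylow 3 G} {u : G} (hu : u ∈ (P : Subgroup G)) : u • P = P :=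
  Sylow.smul_eq_iff_mem_normalizer.2 (Subgroup.le_normalizer hu)

theorem mem_orb_self (P x : Sylow 3 G) : x ∈ orb P x := ⟨1, Subgroup.one_mem _, one_smul _ _⟩

theorem smul_mem_orb {P x : Sylow 3 G} {u : G} (hu : u ∈ (P : Subgroup G)) {y : Sylow 3 G}
    (hy : y ∈ orb P x) : u • y ∈ orb P x := by
  obtain ⟨v, hv, rfl⟩ := hy
  exact ⟨u * v, Subgroup.mul_mem _ hu hv, by rw [mul_smul]⟩

section core

variable
  (hcomm : ∀ {P P' : Sylow 3 G}, Adj P P' ↔ Adj P' P)
  (hsmul : ∀ (g : G) {P P' : Sylow 3 G}, Adj (g • P) (g • P') ↔ Adj P P')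
  (hirr : ∀ P : Sylow 3 G, ¬ Adj P P)
  (hsemi : ∀ {P P' : Sylow 3 G}, P' ≠ P → ∀ {u : G}, u ∈ (P : Subgroup G) → u ≠ 1 → u • P' ≠ P')
  (hcard9 : ∀ P : Sylow 3 G, Nat.card (P : Subgroup G) = 9)
  (hlp : ∀ {P P' : Sylow 3 G}, Adj P P' →
    (∀ u ∈ (P : Subgroup G), u ≠ 1 → Adj P' (u • P')) ∧
    (∀ y, Adj P y → y ∉ orb P P' → ∃! x, x ∈ orb P P' ∧ Adj y x) ∧
    (∀ x ∈ orb P P', ∃! y, Adj P y ∧ y ∉ orb P P' ∧ Adj x y))

include hirr in
theorem ne_of_adj {P P' : Sylow 3 G} (h : Adj P P') : P' ≠ P := by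
  rintro rfl; exact hirr _ h

include hirr in
/-- `P ∉ orb P P'`. -/
theorem self_notMem_orb {P P' : Sylow 3 G} (h : Adj P P') : P ∉ orb P P' := by
  rintro ⟨u, hu, hu'⟩
  have h1 : P' = u⁻¹ • P := by rw [← hu', inv_smul_smul]
  rw [smul_self_of_mem (Subgroup.inv_mem _ hu)] at h1
  exact ne_of_adj hirr h h1

include hirr hsemi hcard9 in
/-- `|orb P P'| = 9`. -/
theorem ncard_orb {P P' : Sylow 3 G} (h : Adj P P') : (orb P P').ncard = 9 := by
  have hne := ne_of_adj hirr h
  let f : ↥(P : Subgroup G) → Sylow 3 G := fun u => (u : G) • P'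
  have hf : Function.Injective f := by
    intro u v huv
    by_contra hne'
    have h1 : ((v : G)⁻¹ * (u : G)) • P' = P' := by
      rw [mul_smul]
      show (v : G)⁻¹ • f u = P'
      rw [huv]
      exact inv_smul_smul _ _
    refine hsemi hne (Subgroup.mul_mem _ (Subgroup.inv_mem _ v.2) u.2) ?_ h1
    intro h2
    apply hne'
    apply Subtype.ext
    have : (u : G) = (v : G) * ((v : G)⁻¹ * (u : G)) := by group
    rw [this, h2, mul_one]
  have hrange : orb P P' = Set.range f := by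
    ext y
    constructor
    · rintro ⟨u, hu, rfl⟩; exact ⟨⟨u, hu⟩, rfl⟩
    · rintro ⟨u, rfl⟩; exact ⟨u, u.2, rfl⟩
  rw [hrange, ← _root_.Nat.card_coe_set_eq, Nat.card_range_of_injective hf, hcard9]

include hsmul in
/-- `P` is adjacent to every point of `orb P P'`. -/
theorem adj_of_mem_orb {P P' : Sylow 3 G} (h : Adj P P') {y : Sylow 3 G} (hy : y ∈ orb P P') :
    Adj P y := by
  obtain ⟨u, hu, rfl⟩ := hy
  have := (hsmul u (P := P) (P' := P')).2 h
  rwa [smul_self_of_mem hu] at this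

include hsmul hlp in
/-- `orb P P'` is a clique. -/
theorem adj_of_mem_orb_orb {P P' : Sylow 3 G} (h : Adj P P') {x y : Sylow 3 G} (hx : x ∈ orb P P')
    (hy : y ∈ orb P P') (hxy : x ≠ y) : Adj x y := by
  obtain ⟨u, hu, rfl⟩ := hx
  obtain ⟨v, hv, rfl⟩ := hy
  have hw : u⁻¹ * v ∈ (P : Subgroup G) := Subgroup.mul_mem _ (Subgroup.inv_mem _ hu) hv
  have hw1 : u⁻¹ * v ≠ 1 := by
    intro h1
    apply hxy
    have : v = u := by
      have : v = u * (u⁻¹ * v) := by group
      rw [this, h1, mul_one]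
    rw [this]
  have h2 := (hlp h).1 (u⁻¹ * v) hw hw1
  have h3 := (hsmul u (P := P') (P' := (u⁻¹ * v) • P')).2 h2
  rwa [← mul_smul, mul_inv_cancel_left] at h3

/-- the candidate clique -/
def cliq (P P' : Sylow 3 G) : Set (Sylow 3 G) := insert P (orb P P')

include hcomm hsmul hlp in
theorem cliq_adj {P P' : Sylow 3 G} (h : Adj P P') {x y : Sylow 3 G} (hx : x ∈ cliq P P')
    (hy : y ∈ cliq P P') (hxy : x ≠ y) : Adj x y := by
  rcases hx with rfl | hx <;> rcases hy with rfl | hy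
  · exact absurd rfl hxy
  · exact adj_of_mem_orb hsmul h hy
  · exact hcomm.1 (adj_of_mem_orb hsmul h hx)
  · exact adj_of_mem_orb_orb hsmul hlp h hx hy hxy

include hirr hsemi hcard9 in
theorem cliq_ncard {P P' : Sylow 3 G} (h : Adj P P') : (cliq P P').ncard = 10 := by
  unfold cliq
  rw [Set.ncard_insert_of_notMem (self_notMem_orb hirr h) (Set.toFinite _),
    ncard_orb hirr hsemi hcard9 h]

theorem cliq_smul {P P' : Sylow 3 G} {u : G} (hu : u ∈ (P : Subgroup G)) {y : Sylow 3 G}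
    (hy : y ∈ cliq P P') : u • y ∈ cliq P P' := by
  rcases hy with rfl | hy
  · left; exact smul_self_of_mem hu
  · right; exact smul_mem_orb hu hy

include hcomm hsmul hirr hsemi hcard9 hlp in
/-- for `x ∈ orb P P'` the clique of `(P, P')` is the clique of `(x, P)`. -/
theorem cliq_eq {P P' : Sylow 3 G} (h : Adj P P') {x : Sylow 3 G} (hx : x ∈ orb P P') :
    cliq P P' = cliq x P := by
  have hxP : Adj x P := hcomm.1 (adj_of_mem_orb hsmul h hx)
  have hxne : x ≠ P := fun hh => self_notMem_orb hirr h (hh ▸ hx)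
  have hPO : P ∈ orb x P := mem_orb_self x P
  have hxC : x ∈ cliq P P' := Or.inr hx
  have hPC : P ∈ cliq P P' := Or.inl rfl
  have hcl : ∀ {a b : Sylow 3 G}, a ∈ cliq P P' → b ∈ cliq P P' → a ≠ b → Adj a b :=
    fun ha hb hab => cliq_adj hcomm hsmul hlp h ha hb hab
  -- every point of `C` other than `x` lies in `orb x P`
  have key : ∀ y ∈ cliq P P', y ≠ x → y ∈ orb x P := by
    intro y hyC hyx
    by_contra hyO
    have hyP : y ≠ P := fun hh => hyO (hh ▸ hPO)
    -- the unique neighbour of `y` in `orb x P` is `P`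
    have huniq : ∀ w ∈ orb x P, Adj y w → w = P := by
      intro w hw hyw
      obtain ⟨w₀, _, hw₀⟩ := (hlp hxP).2.1 y (hcl hxC hyC (Ne.symm hyx)) hyO
      rw [hw₀ w ⟨hw, hyw⟩, hw₀ P ⟨hPO, hcl hyC hPC hyP⟩]
    -- a third point `y'`
    obtain ⟨y', hy'C, hy'P, hy'x, hy'y⟩ : ∃ y' ∈ cliq P P', y' ≠ P ∧ y' ≠ x ∧ y' ≠ y := by
      by_contra hcon
      push Not at hcon
      have hsub : cliq P P' ⊆ ({P, x, y} : Set (Sylow 3 G)) := by
        intro a ha
        by_cases h1 : a = P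
        · left; exact h1
        by_cases h2 : a = x
        · right; left; exact h2
        · right; right; exact hcon a ha h1 h2
      have h3 : ({P, x, y} : Set (Sylow 3 G)).ncard ≤ 3 := by
        have h1 := Set.ncard_insert_le P ({x, y} : Set (Sylow 3 G))
        have h2 := Set.ncard_insert_le x ({y} : Set (Sylow 3 G))
        rw [Set.ncard_singleton] at h2
        omega
      have h10 := cliq_ncard hirr hsemi hcard9 h
      have := Set.ncard_le_ncard hsub (Set.toFinite _)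
      omega
    have hy'O : y' ∉ orb x P := by
      intro hh
      exact hy'P (huniq y' hh (hcl hyC hy'C (Ne.symm hy'y)))
    -- uniqueness in LP3 at `w = P`
    obtain ⟨y₀, _, hy₀⟩ := (hlp hxP).2.2 P hPO
    have e1 := hy₀ y ⟨hcl hxC hyC (Ne.symm hyx), hyO, hcl hPC hyC (Ne.symm hyP)⟩
    have e2 := hy₀ y' ⟨hcl hxC hy'C (Ne.symm hy'x), hy'O, hcl hPC hy'C (Ne.symm hy'P)⟩
    exact hy'y (e2.trans e1.symm)
  -- `C ∖ {x} = orb x P` by cardinality
  have hsub : cliq P P' \ {x} ⊆ orb x P := fun y hy => key y hy.1 hy.2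
  have hcard : (cliq P P' \ {x}).ncard = 9 := by
    have := Set.ncard_sdiff_singleton_add_one hxC (Set.toFinite _)
    rw [cliq_ncard hirr hsemi hcard9 h] at this
    omega
  have heq : cliq P P' \ {x} = orb x P :=
    Set.eq_of_subset_of_ncard_le hsub
      (by rw [hcard, ncard_orb hirr hsemi hcard9 hxP]) (Set.toFinite _)
  unfold cliq at heq ⊢
  rw [← heq]
  ext a
  constructor
  · intro ha
    by_cases hax : a = x
    · left; exact hax
    · right; exact ⟨ha, hax⟩
  · rintro (rfl | ha)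
    · exact hxC
    · exact ha.1

include hcomm hsmul hirr hsemi hcard9 hlp in
/-- **CLOSE core.** -/
theorem exists_clique_core (hex : ∃ P P' : Sylow 3 G, Adj P P') :
    ∃ C : Set (Sylow 3 G), C.ncard = 10 ∧ (∀ x ∈ C, ∀ y ∈ C, x ≠ y → Adj x y) ∧
      ∀ x ∈ C, ∀ u ∈ (x : Subgroup G), ∀ y ∈ C, u • y ∈ C := by
  obtain ⟨P, P', h⟩ := hex
  refine ⟨cliq P P', cliq_ncard hirr hsemi hcard9 h,
    fun x hx y hy hxy => cliq_adj hcomm hsmul hlp h hx hy hxy, ?_⟩
  intro x hx u hu y hy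
  rcases hx with rfl | hx
  · exact cliq_smul hu hy
  · rw [cliq_eq hcomm hsmul hirr hsemi hcard9 hlp h hx] at hy ⊢
    exact cliq_smul hu hy

end core

end Cfsg.Agent.Lib.H19.M11U
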