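import Mathlib
import Cfsg.Agent.Lib.H1.M11U.Defs
import Cfsg.Agent.Lib.H1.M11U.Base
import Cfsg.Agent.Lib.H9.M11SUB
import Cfsg.Agent.Lib.H19.M11CLOSE

/-!
S0420 piece CLOSE (helper19): `exists_clique` with ONLY `local_prop` left as a hypothesis
(API = helper1's `Base`, SUB = helper9's `M11SUB` are plugged in).
-/

set_option autoImplicit false
open scoped Pointwise

universe u

namespace Cfsg.Agent.Lib.H19.M11U

open Cfsg.Agent.Lib.H1.M11U

variable {G : Type u} [Group G] [Finite G]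

/-- `exists_clique` from `local_prop` (stated for all adjacent pairs). -/
theorem exists_clique_of_local_prop (h : Hyp G)
    (hlp : ∀ {P P' : Sylow 3 G}, Adj P P' →
      (∀ u ∈ (P : Subgroup G), u ≠ 1 → Adj P' (u • P')) ∧
      (∀ y, Adj P y → y ∉ orb P P' → ∃! x, x ∈ orb P P' ∧ Adj y x) ∧
      (∀ x ∈ orb P P', ∃! y, Adj P y ∧ y ∉ orb P P' ∧ Adj x y)) :
    ∃ C : Set (Sylow 3 G), C.ncard = 10 ∧ (∀ x ∈ C, ∀ y ∈ C, x ≠ y → Adj x y) ∧
      ∀ x ∈ C, ∀ u ∈ (x : Subgroup G), ∀ y ∈ C, u • y ∈ C := by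
  haveI : Fact (Nat.Prime 3) := ⟨by norm_num⟩
  have hex : ∃ P P' : Sylow 3 G, Adj P P' := by
    obtain ⟨P⟩ : Nonempty (Sylow 3 G) := inferInstance
    have h18 := Cfsg.Agent.Lib.H9.M11U.card_adj h P
    have hne : Nonempty {P' : Sylow 3 G // Adj P P'} := by
      by_contra hcon
      rw [not_nonempty_iff] at hcon
      rw [Nat.card_of_isEmpty] at h18
      norm_num at h18
    obtain ⟨⟨P', hP'⟩⟩ := hne
    exact ⟨P, P', hP'⟩
  exact exists_clique_core (fun {P P'} => adj_comm) (fun g {P P'} => adj_smul g) (adj_irrefl h)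
    (fun {P P'} hne {u} hu hu1 => Cfsg.Agent.Lib.H9.M11U.semireg h hne hu hu1)
    (card_sylow3_sub h) hlp hex

end Cfsg.Agent.Lib.H19.M11U
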