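import Mathlib
import Cfsg.Agent.Lib.H15.CD

/-!
helper19: the Chermak–Delgado measure `|R| |C_G(R)|` in a finite `p`-group `G`, `p` odd, having a
cyclic normal subgroup `N ≥ G'` (e.g. a metacyclic `p`-group): the measure is monotone in `R`, so it
is maximal exactly on the subgroups containing `Z(G)`, and `C_G(C_G(K)) = K` for `K ≥ Z(G)`.
-/

set_option autoImplicit false

namespace Cfsg.Agent.Lib.H19.MC

open Cfsg.Agent.Lib.H15

variable {G : Type*} [Group G]

/-- `Σ_{s<k} ρ^s` -/
def geomSum (ρ k : ℕ) : ℕ := ∑ s ∈ Finset.range k, ρ ^ s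

theorem geomSum_succ (ρ k : ℕ) : geomSum ρ (k + 1) = geomSum ρ k + ρ ^ k := by
  unfold geomSum; rw [Finset.sum_range_succ]

/-- if `x` acts on `z` as the `ρ`-th power map (on all powers of `z`), then
`(z x)^k = z^(1+ρ+…+ρ^(k-1)) x^k`. -/
theorem mul_pow_of_conj {x z : G} {ρ : ℕ} (h : ∀ t : ℕ, x * z ^ t * x⁻¹ = (z ^ t) ^ ρ) (k : ℕ) :
    (z * x) ^ k = z ^ geomSum ρ k * x ^ k := by
  have hconj : ∀ k : ℕ, x ^ k * z * x⁻¹ ^ k = z ^ ρ ^ k := by
    intro k
    induction k with
    | zero => simp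
    | succ k ih =>
      have h1 := h (ρ ^ k)
      calc x ^ (k + 1) * z * x⁻¹ ^ (k + 1) = x * (x ^ k * z * x⁻¹ ^ k) * x⁻¹ := by
            rw [pow_succ', pow_succ]; group
        _ = x * z ^ ρ ^ k * x⁻¹ := by rw [ih]
        _ = (z ^ ρ ^ k) ^ ρ := h1
        _ = z ^ ρ ^ (k + 1) := by rw [← pow_mul, ← pow_succ]
  induction k with
  | zero => simp [geomSum]
  | succ k ih =>
    have h2 := hconj k
    have h3 : x ^ k * z = z ^ ρ ^ k * x ^ k := by
      have : x ^ k * z = (x ^ k * z * x⁻¹ ^ k) * x ^ k := by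
        rw [inv_pow]; group
      rw [this, h2]
    calc (z * x) ^ (k + 1) = (z * x) ^ k * (z * x) := pow_succ _ _
      _ = z ^ geomSum ρ k * x ^ k * (z * x) := by rw [ih]
      _ = z ^ geomSum ρ k * (x ^ k * z) * x := by group
      _ = z ^ geomSum ρ k * (z ^ ρ ^ k * x ^ k) * x := by rw [h3]
      _ = (z ^ geomSum ρ k * z ^ ρ ^ k) * (x ^ k * x) := by group
      _ = z ^ geomSum ρ (k + 1) * x ^ (k + 1) := by rw [← pow_add, ← geomSum_succ, ← pow_succ]

/-- `(1+pt)^s ≡ 1 + s p t (mod p²)` -/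
theorem one_add_pow_modEq (p t s : ℕ) : (1 + p * t) ^ s ≡ 1 + s * (p * t) [MOD p ^ 2] := by
  induction s with
  | zero => simp [Nat.ModEq]
  | succ s ih =>
    have h1 : (1 + p * t) ^ (s + 1) ≡ (1 + s * (p * t)) * (1 + p * t) [MOD p ^ 2] := by
      rw [pow_succ]; exact ih.mul_right _
    have h2 : (1 + s * (p * t)) * (1 + p * t) = 1 + (s + 1) * (p * t) + p ^ 2 * (s * t * t) := by
      ring
    rw [h2] at h1
    refine h1.trans ?_
    have : p ^ 2 * (s * t * t) ≡ 0 [MOD p ^ 2] := (Nat.modEq_zero_iff_dvd).mpr (dvd_mul_right _ _)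
    have := (Nat.ModEq.refl (1 + (s + 1) * (p * t))).add this
    simpa using this

/-- for `p` odd and `ρ ≡ 1 (mod p)`: `1 + ρ + … + ρ^(p-1) ≡ p (mod p²)` -/
theorem geomSum_modEq {p : ℕ} (hp : p.Prime) (hp2 : p ≠ 2) {ρ : ℕ} (hρ : ρ % p = 1) :
    geomSum ρ p ≡ p [MOD p ^ 2] := by
  obtain ⟨t, ht⟩ : ∃ t, ρ = 1 + p * t := ⟨ρ / p, by
    have := Nat.div_add_mod ρ p
    rw [hρ] at this; omega⟩
  subst ht
  have h1 : geomSum (1 + p * t) p ≡ ∑ s ∈ Finset.range p, (1 + s * (p * t)) [MOD p ^ 2] := by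
    unfold geomSum
    exact Nat.ModEq.sum (fun s _ => one_add_pow_modEq p t s)
  have h2 : ∑ s ∈ Finset.range p, (1 + s * (p * t)) = p + (∑ s ∈ Finset.range p, s) * (p * t) := by
    rw [Finset.sum_add_distrib, Finset.sum_const, Finset.card_range, smul_eq_mul, mul_one,
      Finset.sum_mul]
  obtain ⟨k, hk⟩ : ∃ k, p = 2 * k + 1 := by
    rcases hp.eq_two_or_odd with h | h
    · exact absurd h hp2
    · exact ⟨p / 2, by omega⟩
  have h3 : ∑ s ∈ Finset.range p, s = p * k := by
    have := Finset.sum_range_id_mul_two p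
    have h4 : p - 1 = 2 * k := by omega
    rw [h4] at this
    have : (∑ s ∈ Finset.range p, s) * 2 = (p * k) * 2 := by rw [this]; ring
    exact Nat.eq_of_mul_eq_mul_right (by norm_num) this
  rw [h2, h3] at h1
  refine h1.trans ?_
  have h5 : p * k * (p * t) = p ^ 2 * (k * t) := by ring
  rw [h5]
  have : p ^ 2 * (k * t) ≡ 0 [MOD p ^ 2] := (Nat.modEq_zero_iff_dvd).mpr (dvd_mul_right _ _)
  have := (Nat.ModEq.refl p).add this
  simpa using this

/-- Every element of a finite `p`-group acts on a cyclic normal subgroup `N` as a power map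
`y ↦ y^ρ` with `ρ ≡ 1 (mod p)`. -/
theorem exists_pow_conj [Finite G] {p : ℕ} [Fact p.Prime] (hG : IsPGroup p G)
    (N : Subgroup G) [N.Normal] (hNc : IsCyclic N) (x : G) :
    ∃ ρ : ℕ, ρ % p = 1 ∧ ∀ y ∈ N, x * y * x⁻¹ = y ^ ρ := by
  have hp := (Fact.out : p.Prime)
  obtain ⟨⟨a, haN⟩, ha⟩ := hNc.exists_generator
  have hgen : ∀ y ∈ N, ∃ t : ℤ, y = a ^ t := by
    intro y hy
    obtain ⟨t, ht⟩ := Subgroup.mem_zpowers_iff.mp (ha ⟨y, hy⟩)
    refine ⟨t, ?_⟩
    have := congrArg Subtype.val ht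
    simpa using this.symm
  by_cases ha1 : a = 1
  · refine ⟨1, Nat.mod_eq_of_lt hp.one_lt, ?_⟩
    intro y hy
    obtain ⟨t, rfl⟩ := hgen y hy
    rw [ha1]; simp
  -- x a x⁻¹ = a^k
  have hxa : x * a * x⁻¹ ∈ N := Subgroup.Normal.conj_mem inferInstance a haN x
  obtain ⟨k, hk⟩ := hgen _ hxa
  set ρ := (k % (orderOf a : ℤ)).toNat with hρ
  have hopos : 0 < orderOf a := orderOf_pos a
  have hρk : a ^ ρ = a ^ k := by
    have h1 : ((ρ : ℕ) : ℤ) = k % (orderOf a : ℤ) := by
      rw [hρ]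
      exact Int.toNat_of_nonneg (Int.emod_nonneg _ (by exact_mod_cast hopos.ne'))
    rw [← zpow_natCast, h1, zpow_mod_orderOf]
  have hconj : ∀ y ∈ N, x * y * x⁻¹ = y ^ ρ := by
    intro y hy
    obtain ⟨t, rfl⟩ := hgen y hy
    have : x * a ^ t * x⁻¹ = (x * a * x⁻¹) ^ t := by
      rw [← MulAut.conj_apply, map_zpow, MulAut.conj_apply]
    rw [this, hk, ← hρk, ← zpow_natCast, ← zpow_natCast, ← zpow_mul, ← zpow_mul, mul_comm]
  refine ⟨ρ, ?_, hconj⟩
  -- ρ ≡ 1 mod p
  have hiter : ∀ e : ℕ, x ^ e * a * (x ^ e)⁻¹ = a ^ ρ ^ e := by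
    intro e
    induction e with
    | zero => simp
    | succ e ih =>
      have h1 : x ^ (e + 1) * a * (x ^ (e + 1))⁻¹ = x * (x ^ e * a * (x ^ e)⁻¹) * x⁻¹ := by
        rw [pow_succ']; group
      rw [h1, ih, hconj _ (pow_mem haN _), ← pow_mul, ← pow_succ]
  obtain ⟨e, he⟩ := hG x
  have h2 := hiter (p ^ e)
  rw [he] at h2
  simp only [one_mul, inv_one, mul_one] at h2
  -- a = a^(ρ^(p^e))
  have h3 : orderOf a ∣ ρ ^ p ^ e - 1 := by
    have hpos : 1 ≤ ρ ^ p ^ e := by
      rcases Nat.eq_zero_or_pos (ρ ^ p ^ e) with h0 | h0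
      · rw [h0, pow_zero] at h2; exact absurd h2 ha1
      · exact h0
    rw [orderOf_dvd_iff_pow_eq_one]
    have : a ^ (ρ ^ p ^ e - 1) * a = a := by
      rw [← pow_succ, Nat.sub_add_cancel hpos]; exact h2.symm
    exact mul_eq_right.mp this
  have h4 : p ∣ orderOf a := by
    obtain ⟨f, hf⟩ := (hG.to_subgroup N) ⟨a, haN⟩
    have hf' : a ^ p ^ f = 1 := by
      have := congrArg Subtype.val hf
      simpa using this
    have h5 : orderOf a ∣ p ^ f := orderOf_dvd_of_pow_eq_one hf'
    obtain ⟨g, _, hg⟩ := (Nat.dvd_prime_pow hp).mp h5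
    rcases Nat.eq_zero_or_pos g with rfl | hgpos
    · rw [pow_zero, orderOf_eq_one_iff] at hg; exact absurd hg ha1
    · rw [hg]; exact dvd_pow_self p hgpos.ne'
  have h6 : p ∣ ρ ^ p ^ e - 1 := h4.trans h3
  have hpos : 1 ≤ ρ ^ p ^ e := by
    rcases Nat.eq_zero_or_pos (ρ ^ p ^ e) with h0 | h0
    · rw [h0, pow_zero] at h2; exact absurd h2 ha1
    · exact h0
  have h7 : ((ρ ^ p ^ e : ℕ) : ZMod p) = 1 := by
    have := (ZMod.natCast_eq_zero_iff (ρ ^ p ^ e - 1) p).mpr h6
    rw [Nat.cast_sub hpos, Nat.cast_one, sub_eq_zero] at this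
    exact this
  rw [Nat.cast_pow, ZMod.pow_card_pow] at h7
  have h8 : ((ρ : ℕ) : ZMod p) = ((1 : ℕ) : ZMod p) := by rw [h7, Nat.cast_one]
  rw [ZMod.natCast_eq_natCast_iff'] at h8
  rw [h8]; exact Nat.mod_eq_of_lt hp.one_lt

/-- elements of order dividing `p` of the cyclic normal subgroup `N` are central -/
theorem central_of_pow_p [Finite G] {p : ℕ} [Fact p.Prime] (hG : IsPGroup p G)
    (N : Subgroup G) [N.Normal] (hNc : IsCyclic N) {z : G} (hz : z ∈ N) (hzp : z ^ p = 1) (x : G) :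
    x * z = z * x := by
  obtain ⟨ρ, hρ, hconj⟩ := exists_pow_conj hG N hNc x
  have h1 := hconj z hz
  have h2 : z ^ ρ = z := by
    have : ρ = p * (ρ / p) + 1 := by
      have := Nat.div_add_mod ρ p
      rw [hρ] at this; omega
    rw [this, pow_succ, pow_mul, hzp, one_pow, one_mul]
  rw [h2] at h1
  calc x * z = x * z * x⁻¹ * x := by group
    _ = z * x := by rw [h1]

/-- if `c` commutes with `x^p` and `[c, x] ∈ N`, then `[c, x]^p = 1` (`p` odd) -/
theorem commutator_pow_p_eq_one [Finite G] {p : ℕ} [Fact p.Prime] (hp2 : p ≠ 2) (hG : IsPGroup p G)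
    (N : Subgroup G) [N.Normal] (hNc : IsCyclic N) {c x : G} (hz : c * x * c⁻¹ * x⁻¹ ∈ N)
    (hc : c * x ^ p = x ^ p * c) : (c * x * c⁻¹ * x⁻¹) ^ p = 1 := by
  have hp := (Fact.out : p.Prime)
  set z := c * x * c⁻¹ * x⁻¹ with hzdef
  obtain ⟨ρ, hρ, hconj⟩ := exists_pow_conj hG N hNc x
  have h1 : (z * x) ^ p = z ^ geomSum ρ p * x ^ p :=
    mul_pow_of_conj (fun t => hconj _ (pow_mem hz t)) p
  have h2 : z * x = c * x * c⁻¹ := by rw [hzdef]; group
  have h3 : (c * x * c⁻¹) ^ p = x ^ p := by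
    have : (c * x * c⁻¹) ^ p = c * x ^ p * c⁻¹ := by
      rw [← MulAut.conj_apply, ← map_pow, MulAut.conj_apply]
    rw [this, hc]; group
  rw [h2, h3] at h1
  have h4 : z ^ geomSum ρ p = 1 := by
    have := mul_eq_right.mp h1.symm
    exact this
  have h5 : orderOf z ∣ geomSum ρ p := orderOf_dvd_of_pow_eq_one h4
  obtain ⟨f, hf⟩ := hG z
  have h6 : orderOf z ∣ p ^ f := orderOf_dvd_of_pow_eq_one hf
  obtain ⟨g, _, hg⟩ := (Nat.dvd_prime_pow hp).mp h6
  have hmod := geomSum_modEq hp hp2 hρ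
  have hg1 : g ≤ 1 := by
    by_contra hgt
    push Not at hgt
    have h7 : p ^ 2 ∣ orderOf z := by rw [hg]; exact pow_dvd_pow p hgt
    have h8 : p ^ 2 ∣ geomSum ρ p := h7.trans h5
    have h9 : geomSum ρ p ≡ 0 [MOD p ^ 2] := (Nat.modEq_zero_iff_dvd).mpr h8
    have h10 : p ≡ 0 [MOD p ^ 2] := hmod.symm.trans h9
    have h11 : p ^ 2 ∣ p := (Nat.modEq_zero_iff_dvd).mp h10
    have h12 := Nat.le_of_dvd hp.pos h11
    have : p < p ^ 2 := by
      calc p = p ^ 1 := (pow_one p).symm
        _ < p ^ 2 := Nat.pow_lt_pow_right hp.one_lt (by norm_num)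
    omega
  have h13 : orderOf z ∣ p := by
    rw [hg]
    calc p ^ g ∣ p ^ 1 := pow_dvd_pow p hg1
      _ = p := pow_one p
  exact orderOf_dvd_iff_pow_eq_one.mp h13

/-- in a finite cyclic group at most `n` elements satisfy `z^n = 1` (`Nat.card` form) -/
theorem card_pow_eq_one_le {C : Type*} [Group C] [Finite C] [IsCyclic C] {n : ℕ} (hn : 0 < n) :
    Nat.card {z : C // z ^ n = 1} ≤ n := by
  classical
  have : Fintype C := Fintype.ofFinite C
  rw [Nat.card_eq_fintype_card, Fintype.card_subtype]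
  exact IsCyclic.card_pow_eq_one_le hn

/-- KEY: enlarging `R₀` by index `p` shrinks the centralizer by index at most `p`. -/
theorem card_centralizer_le_mul [Finite G] {p : ℕ} [Fact p.Prime] (hp2 : p ≠ 2) (hG : IsPGroup p G)
    (N : Subgroup G) [N.Normal] (hNc : IsCyclic N) (hGN : commutator G ≤ N)
    {R₀ R : Subgroup G} (hle : R₀ ≤ R) (hidx : R₀.relIndex R = p) :
    Nat.card (Subgroup.centralizer (R₀ : Set G)) ≤ p * Nat.card (Subgroup.centralizer (R : Set G)) := by
  have hp := (Fact.out : p.Prime)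
  -- an element of `R` outside `R₀`
  obtain ⟨x, hxR, hxR₀⟩ : ∃ x ∈ R, x ∉ R₀ := by
    by_contra hne
    push Not at hne
    have : R ≤ R₀ := hne
    rw [← Subgroup.relIndex_eq_one] at this
    rw [this] at hidx
    exact hp.one_lt.ne hidx
  -- `R₀` is normal in `R`, so `x^p ∈ R₀`
  have hxp : x ^ p ∈ R₀ := by
    have hRp : IsPGroup p R := hG.to_subgroup R
    have hnorm : (R₀.subgroupOf R).Normal := by
      apply Subgroup.normal_of_index_eq_minFac_card
      show R₀.relIndex R = _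
      rw [hidx]
      obtain ⟨k, hk⟩ := IsPGroup.iff_card.mp hRp
      rw [hk]
      have hk0 : k ≠ 0 := by
        rintro rfl
        rw [pow_zero] at hk
        have h1 : R₀.relIndex R ∣ Nat.card R := Subgroup.relIndex_dvd_card R₀ R
        rw [hk, hidx] at h1
        exact hp.one_lt.ne' (Nat.dvd_one.mp h1)
      exact (hp.pow_minFac hk0).symm
    have h1 := Subgroup.pow_index_mem (R₀.subgroupOf R) (⟨x, hxR⟩ : ↥R)
    have h2 : (R₀.subgroupOf R).index = p := hidx
    rw [h2, Subgroup.mem_subgroupOf] at h1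
    simpa using h1
  -- `R = R₀ ⟨x⟩`
  have hsup : R₀ ⊔ Subgroup.zpowers x = R := by
    have h1 : R₀ ⊔ Subgroup.zpowers x ≤ R := sup_le hle ((Subgroup.zpowers_le).mpr hxR)
    have h2 := Subgroup.relIndex_mul_relIndex R₀ (R₀ ⊔ Subgroup.zpowers x) R le_sup_left h1
    rw [hidx] at h2
    have h3 : R₀.relIndex (R₀ ⊔ Subgroup.zpowers x) ≠ 1 := by
      intro h
      rw [Subgroup.relIndex_eq_one] at h
      exact hxR₀ (h (Subgroup.mem_sup_right (Subgroup.mem_zpowers x)))
    have h4 : R₀.relIndex (R₀ ⊔ Subgroup.zpowers x) ∣ p := Dvd.intro _ h2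
    rcases (Nat.dvd_prime hp).mp h4 with h5 | h5
    · exact absurd h5 h3
    · rw [h5] at h2
      have h6 : (R₀ ⊔ Subgroup.zpowers x).relIndex R = 1 := by
        have : p * (R₀ ⊔ Subgroup.zpowers x).relIndex R = p * 1 := by rw [h2, mul_one]
        exact Nat.eq_of_mul_eq_mul_left hp.pos this
      exact le_antisymm h1 (Subgroup.relIndex_eq_one.mp h6)
  set C₀ := Subgroup.centralizer (R₀ : Set G) with hC₀
  have hzN : ∀ c : G, c * x * c⁻¹ * x⁻¹ ∈ N := by
    intro c
    apply hGN
    rw [commutator_def, ← commutatorElement_def]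
    exact Subgroup.commutator_mem_commutator (Subgroup.mem_top c) (Subgroup.mem_top x)
  have hzp : ∀ c ∈ C₀, (c * x * c⁻¹ * x⁻¹) ^ p = 1 := by
    intro c hc
    apply commutator_pow_p_eq_one hp2 hG N hNc (hzN c)
    rw [hC₀, Subgroup.mem_centralizer_iff] at hc
    exact (hc _ hxp).symm
  have hzc : ∀ c ∈ C₀, ∀ g : G, g * (c * x * c⁻¹ * x⁻¹) = (c * x * c⁻¹ * x⁻¹) * g :=
    fun c hc g => central_of_pow_p hG N hNc (hzN c) (hzp c hc) g
  let φ : ↥C₀ →* ↥N :=
    { toFun := fun c => ⟨(c : G) * x * (c : G)⁻¹ * x⁻¹, hzN c⟩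
      map_one' := by ext; simp
      map_mul' := by
        intro c c'
        ext
        simp only [Subgroup.coe_mul]
        have h1 := hzc c' c'.2 (c : G)
        calc (c : G) * c' * x * ((c : G) * c')⁻¹ * x⁻¹
            = ((c : G) * ((c' : G) * x * (c' : G)⁻¹ * x⁻¹)) * (x * (c : G)⁻¹ * x⁻¹) := by group
          _ = (((c' : G) * x * (c' : G)⁻¹ * x⁻¹) * (c : G)) * (x * (c : G)⁻¹ * x⁻¹) := by rw [h1]
          _ = ((c' : G) * x * (c' : G)⁻¹ * x⁻¹) * ((c : G) * x * (c : G)⁻¹ * x⁻¹) := by group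
          _ = ((c : G) * x * (c : G)⁻¹ * x⁻¹) * ((c' : G) * x * (c' : G)⁻¹ * x⁻¹) :=
              (hzc c' c'.2 _).symm }
  have hφ : ∀ c : ↥C₀, ((φ c : ↥N) : G) = (c : G) * x * (c : G)⁻¹ * x⁻¹ := fun _ => rfl
  -- the range has at most `p` elements
  have hrange : Nat.card φ.range ≤ p := by
    have : IsCyclic ↥N := hNc
    refine le_trans ?_ (card_pow_eq_one_le (C := ↥N) hp.pos)
    apply Nat.card_le_card_of_injective
      (fun z : φ.range => (⟨z.1, by
        obtain ⟨c, hc⟩ := z.2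
        rw [← hc]
        apply Subtype.ext
        rw [Subgroup.coe_pow, hφ, Subgroup.coe_one]
        exact hzp c c.2⟩ : {z : ↥N // z ^ p = 1}))
    intro z z' h
    apply Subtype.ext
    exact congrArg (fun w : {z : ↥N // z ^ p = 1} => w.1) h
  -- the kernel embeds into the centralizer of `R`
  have hker : Nat.card φ.ker ≤ Nat.card (Subgroup.centralizer (R : Set G)) := by
    apply Nat.card_le_card_of_injective
      (fun c : φ.ker => (⟨((c : ↥C₀) : G), by
        have hc := c.2
        rw [MonoidHom.mem_ker] at hc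
        have h1 : ((c : ↥C₀) : G) * x * ((c : ↥C₀) : G)⁻¹ * x⁻¹ = 1 := by
          rw [← hφ, hc]; rfl
        have h2 : ((c : ↥C₀) : G) * x = x * ((c : ↥C₀) : G) := by
          have := mul_inv_eq_one.mp h1
          calc ((c : ↥C₀) : G) * x = ((c : ↥C₀) : G) * x * ((c : ↥C₀) : G)⁻¹ * ((c : ↥C₀) : G) := by
                group
            _ = x * ((c : ↥C₀) : G) := by rw [this]
        have h3 : R ≤ Subgroup.centralizer ({((c : ↥C₀) : G)} : Set G) := by
          rw [← hsup]
          apply sup_le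
          · intro y hy
            rw [Subgroup.mem_centralizer_singleton_iff]
            have hcc : ((c : ↥C₀) : G) ∈ Subgroup.centralizer (R₀ : Set G) := (c : ↥C₀).2
            rw [Subgroup.mem_centralizer_iff] at hcc
            exact hcc y hy
          · rw [Subgroup.zpowers_le, Subgroup.mem_centralizer_singleton_iff]
            exact h2.symm
        rw [Subgroup.mem_centralizer_iff]
        intro y hy
        have := h3 hy
        rw [Subgroup.mem_centralizer_singleton_iff] at this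
        exact this⟩ : Subgroup.centralizer (R : Set G)))
    intro c c' h
    apply Subtype.ext
    apply Subtype.ext
    exact congrArg (fun w : Subgroup.centralizer (R : Set G) => (w : G)) h
  have hcard := Subgroup.card_mul_index φ.ker
  rw [Subgroup.index_ker] at hcard
  rw [← hcard, mul_comm]
  exact Nat.mul_le_mul hrange hker

/-- in a finite `p`-group, a proper subgroup `R₀ < R` is contained in some `R₁ ≤ R` with
`|R₁ : R₀| = p` -/
theorem exists_relIndex_eq_prime [Finite G] {p : ℕ} [Fact p.Prime] (hG : IsPGroup p G)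
    {R₀ R : Subgroup G} (hlt : R₀ < R) :
    ∃ R₁ : Subgroup G, R₀ ≤ R₁ ∧ R₁ ≤ R ∧ R₀.relIndex R₁ = p ∧ Nat.card R₁ = p * Nat.card R₀ := by
  have hp := (Fact.out : p.Prime)
  obtain ⟨n, hn⟩ := IsPGroup.iff_card.mp (hG.to_subgroup R₀)
  obtain ⟨k, hk⟩ := IsPGroup.iff_card.mp (hG.to_subgroup R)
  have hH : Nat.card (R₀.subgroupOf R) = p ^ n := by
    rw [Nat.card_congr (Subgroup.subgroupOfEquivOfLe hlt.le).toEquiv, hn]
  have hnk : n < k := by
    have h1 : Nat.card R₀ < Nat.card R := by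
      by_contra hge
      push Not at hge
      exact hlt.ne (eq_of_le_of_card_le hlt.le hge)
    rw [hn, hk] at h1
    exact (Nat.pow_lt_pow_iff_right hp.one_lt).mp h1
  have hdvd : p ^ (n + 1) ∣ Nat.card R := by
    rw [hk]; exact pow_dvd_pow p hnk
  obtain ⟨K, hK, hHK⟩ := Sylow.exists_subgroup_card_pow_succ hdvd hH
  refine ⟨K.map R.subtype, ?_, ?_, ?_, ?_⟩
  · intro x hx
    exact ⟨⟨x, hlt.le hx⟩, hHK (Subgroup.mem_subgroupOf.mpr hx), rfl⟩
  · exact Subgroup.map_subtype_le K
  · have hle : R₀ ≤ K.map R.subtype := by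
      intro x hx
      exact ⟨⟨x, hlt.le hx⟩, hHK (Subgroup.mem_subgroupOf.mpr hx), rfl⟩
    have h1 : Nat.card R₀ * R₀.relIndex (K.map R.subtype) = Nat.card (K.map R.subtype) := by
      have := Subgroup.relIndex_mul_relIndex (⊥ : Subgroup G) R₀ (K.map R.subtype) bot_le hle
      rwa [Subgroup.relIndex_bot_left, Subgroup.relIndex_bot_left] at this
    rw [Subgroup.card_map_of_injective R.subtype_injective, hK, hn, pow_succ] at h1
    exact Nat.eq_of_mul_eq_mul_left (pow_pos hp.pos n) h1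
  · rw [Subgroup.card_map_of_injective R.subtype_injective, hK, hn, pow_succ, mul_comm]

/-- the Chermak–Delgado measure is monotone -/
theorem meas_mono [Finite G] {p : ℕ} [Fact p.Prime] (hp2 : p ≠ 2) (hG : IsPGroup p G)
    (N : Subgroup G) [N.Normal] (hNc : IsCyclic N) (hGN : commutator G ≤ N)
    {R₀ R : Subgroup G} (hle : R₀ ≤ R) : meas R₀ ≤ meas R := by
  have key : ∀ (d : ℕ) (R₀ : Subgroup G), R₀ ≤ R → Nat.card R - Nat.card R₀ ≤ d →
      meas R₀ ≤ meas R := by
    intro d
    induction d with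
    | zero =>
      intro R₀ hle hd
      have : R₀ = R := eq_of_le_of_card_le hle (by omega)
      rw [this]
    | succ d ih =>
      intro R₀ hle hd
      by_cases heq : R₀ = R
      · rw [heq]
      have hlt : R₀ < R := lt_of_le_of_ne hle heq
      obtain ⟨R₁, h01, h1R, hidx, hcard⟩ := exists_relIndex_eq_prime hG hlt
      have hpos : 0 < Nat.card R₀ := Nat.card_pos
      have h2 : 2 ≤ p := (Fact.out : p.Prime).two_le
      have hd' : Nat.card R - Nat.card R₁ ≤ d := by
        rw [hcard]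
        have : Nat.card R₀ * 2 ≤ p * Nat.card R₀ := by
          rw [mul_comm]; exact Nat.mul_le_mul_right _ h2
        omega
      have h3 := ih R₁ h1R hd'
      have h4 := card_centralizer_le_mul hp2 hG N hNc hGN h01 hidx
      refine le_trans ?_ h3
      unfold meas
      rw [hcard]
      calc Nat.card R₀ * Nat.card (Subgroup.centralizer (R₀ : Set G))
          ≤ Nat.card R₀ * (p * Nat.card (Subgroup.centralizer (R₁ : Set G))) :=
            Nat.mul_le_mul_left _ h4
        _ = p * Nat.card R₀ * Nat.card (Subgroup.centralizer (R₁ : Set G)) := by ring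
  exact key _ R₀ hle le_rfl

theorem centralizer_top_eq : Subgroup.centralizer ((⊤ : Subgroup G) : Set G) = Subgroup.center G := by
  rw [Subgroup.coe_top, Subgroup.centralizer_univ]

theorem centralizer_center_eq : Subgroup.centralizer ((Subgroup.center G : Subgroup G) : Set G) = ⊤ := by
  rw [eq_top_iff]
  intro x _
  rw [Subgroup.mem_centralizer_iff]
  intro z hz
  exact (Subgroup.mem_center_iff.mp hz x).symm

theorem meas_top [Finite G] : meas (⊤ : Subgroup G) = Nat.card G * Nat.card (Subgroup.center G) := by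
  unfold meas
  rw [centralizer_top_eq, Subgroup.card_top]

theorem meas_center [Finite G] :
    meas (Subgroup.center G) = Nat.card G * Nat.card (Subgroup.center G) := by
  unfold meas
  rw [centralizer_center_eq, Subgroup.card_top, mul_comm]

section main

variable [Finite G] {p : ℕ} [Fact p.Prime] (hp2 : p ≠ 2) (hG : IsPGroup p G)
  (N : Subgroup G) [N.Normal] (hNc : IsCyclic N) (hGN : commutator G ≤ N)

include hp2 hG hNc hGN

theorem meas_le (R : Subgroup G) : meas R ≤ Nat.card G * Nat.card (Subgroup.center G) := by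
  rw [← meas_top]; exact meas_mono hp2 hG N hNc hGN le_top

theorem meas_eq_of_center_le {R : Subgroup G} (hR : Subgroup.center G ≤ R) :
    meas R = Nat.card G * Nat.card (Subgroup.center G) := by
  apply le_antisymm (meas_le hp2 hG N hNc hGN R)
  rw [← meas_center]; exact meas_mono hp2 hG N hNc hGN hR

theorem center_le_of_meas_eq {R : Subgroup G}
    (hR : meas R = Nat.card G * Nat.card (Subgroup.center G)) : Subgroup.center G ≤ R := by
  have h1 := meas_le hp2 hG N hNc hGN (R ⊔ Subgroup.center G)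
  have h2 : Subgroup.centralizer ((R ⊔ Subgroup.center G : Subgroup G) : Set G) =
      Subgroup.centralizer (R : Set G) := by
    rw [centralizer_sup, centralizer_center_eq, inf_top_eq]
  unfold meas at h1 hR
  rw [h2, ← hR] at h1
  have h3 : Nat.card (R ⊔ Subgroup.center G : Subgroup G) ≤ Nat.card R :=
    Nat.le_of_mul_le_mul_right h1 Nat.card_pos
  have h4 : R = R ⊔ Subgroup.center G := eq_of_le_of_card_le le_sup_left h3
  rw [h4]; exact le_sup_right

theorem maxCentralizerProduct_eq :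
    Cfsg.maxCentralizerProduct G = Nat.card G * Nat.card (Subgroup.center G) := by
  obtain ⟨H, hH⟩ := exists_meas_eq_max (G := G)
  apply le_antisymm
  · rw [← hH]; exact meas_le hp2 hG N hNc hGN H
  · rw [← meas_top]; exact meas_le_max ⊤

/-- the members of the Chermak–Delgado lattice of largest measure are exactly the subgroups
containing the centre -/
theorem isCentralizerLarge_iff_center_le (R : Subgroup G) :
    Cfsg.IsCentralizerLarge R ↔ Subgroup.center G ≤ R := by
  have h1 : Cfsg.IsCentralizerLarge R ↔ meas R = Cfsg.maxCentralizerProduct G := Iff.rfl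
  rw [h1, maxCentralizerProduct_eq hp2 hG N hNc hGN]
  exact ⟨center_le_of_meas_eq hp2 hG N hNc hGN, meas_eq_of_center_le hp2 hG N hNc hGN⟩

/-- double centralizer property above the centre -/
theorem centralizer_centralizer_eq {K : Subgroup G} (hK : Subgroup.center G ≤ K) :
    Subgroup.centralizer ((Subgroup.centralizer (K : Set G) : Subgroup G) : Set G) = K := by
  have hC : Subgroup.center G ≤ Subgroup.centralizer (K : Set G) := Subgroup.center_le_centralizer _
  have h1 := meas_eq_of_center_le hp2 hG N hNc hGN hK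
  have h2 := meas_eq_of_center_le hp2 hG N hNc hGN hC
  unfold meas at h1 h2
  rw [← h1, mul_comm] at h2
  have h3 : Nat.card (Subgroup.centralizer ((Subgroup.centralizer (K : Set G) : Subgroup G) : Set G)) =
      Nat.card K := Nat.eq_of_mul_eq_mul_right Nat.card_pos h2
  exact (eq_of_le_of_card_le (le_centralizer_centralizer K) (le_of_eq h3)).symm

/-- index form of the duality: `|G : C_G(R)| = |R : Z(G)|` -/
theorem card_mul_card_centralizer {R : Subgroup G} (hR : Subgroup.center G ≤ R) :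
    Nat.card R * Nat.card (Subgroup.centralizer (R : Set G)) =
      Nat.card G * Nat.card (Subgroup.center G) :=
  meas_eq_of_center_le hp2 hG N hNc hGN hR

end main

end Cfsg.Agent.Lib.H19.MC
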