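import Mathlib
import Cfsg.Agent.Lib.H19.MetaKey
import Cfsg.Agent.Lib.H22.AbelianCyclicExt

/-!
helper19: basic structure of finite metacyclic `p`-groups, `p` odd: coordinates `g = a^j b^i`,
`C_G(N) = N Z(G)` is abelian, `|G : Z(G)| = |G'|²`.
-/

set_option autoImplicit false

namespace Cfsg.Agent.Lib.H19.MC

open Cfsg.Agent.Lib.H15

variable {G : Type*} [Group G]

/-- in a metacyclic group the derived subgroup lies in the cyclic normal subgroup -/
theorem commutator_le_of_isCyclic_quotient' (N : Subgroup G) [N.Normal]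
    (h : IsCyclic (G ⧸ N)) : commutator G ≤ N := by
  have : IsMulCommutative (G ⧸ N) := h.isMulCommutative
  exact (Subgroup.Normal.quotient_commutative_iff_commutator_le).mp this

/-- coordinates in a finite metacyclic group -/
theorem exists_coords [Finite G] (N : Subgroup G) [N.Normal] (hNc : IsCyclic N)
    (hQ : IsCyclic (G ⧸ N)) :
    ∃ a b : G, a ∈ N ∧ (∀ y ∈ N, ∃ t : ℕ, y = a ^ t) ∧ ∀ g : G, ∃ j i : ℕ, g = a ^ j * b ^ i := by
  obtain ⟨⟨a, haN⟩, ha⟩ := IsCyclic.exists_monoid_generator (α := ↥N)
  obtain ⟨q, hq⟩ := IsCyclic.exists_monoid_generator (α := G ⧸ N)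
  obtain ⟨b, rfl⟩ := QuotientGroup.mk_surjective q
  have hN : ∀ y ∈ N, ∃ t : ℕ, y = a ^ t := by
    intro y hy
    obtain ⟨t, ht⟩ := (Submonoid.mem_powers_iff _ _).mp (ha ⟨y, hy⟩)
    refine ⟨t, ?_⟩
    have := congrArg Subtype.val ht
    simpa using this.symm
  refine ⟨a, b, haN, hN, ?_⟩
  intro g
  obtain ⟨i, hi⟩ := (Submonoid.mem_powers_iff _ _).mp (hq (QuotientGroup.mk g))
  have h1 : g * (b ^ i)⁻¹ ∈ N := by
    rw [← QuotientGroup.eq_one_iff, QuotientGroup.mk_mul, QuotientGroup.mk_inv,
      QuotientGroup.mk_pow, hi, mul_inv_cancel]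
  obtain ⟨j, hj⟩ := hN _ h1
  refine ⟨j, i, ?_⟩
  rw [← hj]; group

section

variable [Finite G] (N : Subgroup G) [N.Normal] (hNc : IsCyclic N) (hQ : IsCyclic (G ⧸ N))

omit [Finite G] [N.Normal] in
include hNc in
theorem le_centralizer_self : N ≤ Subgroup.centralizer (N : Set G) := by
  have : IsMulCommutative ↥N := hNc.isMulCommutative
  intro x hx
  rw [Subgroup.mem_centralizer_iff]
  intro y hy
  exact congrArg Subtype.val (this.is_comm.comm ⟨y, hy⟩ ⟨x, hx⟩)

include hNc hQ in
/-- `C_G(N) = N Z(G)` -/
theorem centralizer_eq_sup_center :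
    Subgroup.centralizer (N : Set G) = N ⊔ Subgroup.center G := by
  obtain ⟨a, b, haN, hN, hgen⟩ := exists_coords N hNc hQ
  apply le_antisymm
  · intro y hy
    obtain ⟨j, i, rfl⟩ := hgen y
    have h1 : b ^ i ∈ Subgroup.centralizer (N : Set G) := by
      have : b ^ i = (a ^ j)⁻¹ * (a ^ j * b ^ i) := by group
      rw [this]
      exact mul_mem (inv_mem (le_centralizer_self N hNc (pow_mem haN j))) hy
    have h2 : b ^ i ∈ Subgroup.center G := by
      rw [Subgroup.mem_center_iff]
      intro g
      obtain ⟨l, k, rfl⟩ := hgen g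
      rw [Subgroup.mem_centralizer_iff] at h1
      have e1 : a ^ l * b ^ i = b ^ i * a ^ l := h1 _ (pow_mem haN l)
      have e2 : b ^ k * b ^ i = b ^ i * b ^ k := by rw [← pow_add, ← pow_add, add_comm]
      calc a ^ l * b ^ k * b ^ i = a ^ l * (b ^ k * b ^ i) := by group
        _ = a ^ l * (b ^ i * b ^ k) := by rw [e2]
        _ = (a ^ l * b ^ i) * b ^ k := by group
        _ = b ^ i * a ^ l * b ^ k := by rw [e1]
        _ = b ^ i * (a ^ l * b ^ k) := by group
    exact mul_mem (Subgroup.mem_sup_left (pow_mem haN j)) (Subgroup.mem_sup_right h2)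
  · exact sup_le (le_centralizer_self N hNc) (Subgroup.center_le_centralizer _)

include hNc hQ in
theorem centralizer_comm :
    ∀ x ∈ Subgroup.centralizer (N : Set G), ∀ y ∈ Subgroup.centralizer (N : Set G), x * y = y * x := by
  intro x hx y hy
  rw [centralizer_eq_sup_center N hNc hQ] at hy
  obtain ⟨n, hn, z, hz, rfl⟩ := Subgroup.mem_sup_of_normal_right.mp hy
  rw [Subgroup.mem_centralizer_iff] at hx
  have e1 : n * x = x * n := hx n hn
  have e2 : z * x = x * z := (Subgroup.mem_center_iff.mp hz x).symm
  calc x * (n * z) = (x * n) * z := by group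
    _ = n * x * z := by rw [e1]
    _ = n * (x * z) := by group
    _ = n * (z * x) := by rw [e2]
    _ = n * z * x := by group

variable {p : ℕ} [Fact p.Prime] (hp2 : p ≠ 2) (hG : IsPGroup p G)

include hNc hQ hp2 hG in
/-- `|C_G(N)|² = |G| |Z(G)|` -/
theorem card_centralizer_sq :
    Nat.card (Subgroup.centralizer (N : Set G)) * Nat.card (Subgroup.centralizer (N : Set G)) =
      Nat.card G * Nat.card (Subgroup.center G) := by
  have hGN := commutator_le_of_isCyclic_quotient' N hQ
  have hZA : Subgroup.center G ≤ Subgroup.centralizer (N : Set G) :=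
    Subgroup.center_le_centralizer _
  have h1 := meas_eq_of_center_le hp2 hG N hNc hGN hZA
  have h2 : Subgroup.centralizer ((Subgroup.centralizer (N : Set G) : Subgroup G) : Set G) =
      Subgroup.centralizer (N : Set G) := by
    conv_lhs => rw [centralizer_eq_sup_center N hNc hQ]
    rw [centralizer_sup, centralizer_center_eq, inf_top_eq]
  unfold meas at h1
  rw [h2] at h1
  exact h1

include hNc hQ in
/-- `|G'| |Z(G)| = |C_G(N)|` -/
theorem card_commutator_mul_card_center :
    Nat.card (commutator G) * Nat.card (Subgroup.center G) =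
      Nat.card (Subgroup.centralizer (N : Set G)) := by
  obtain ⟨a, b, haN, hN, hgen⟩ := exists_coords N hNc hQ
  set A := Subgroup.centralizer (N : Set G) with hA
  have hAn : A.Normal := Subgroup.normal_centralizer
  have hAc := centralizer_comm N hNc hQ
  have hgenA : A ⊔ Subgroup.zpowers b = ⊤ := by
    rw [eq_top_iff]
    intro g _
    obtain ⟨j, i, rfl⟩ := hgen g
    exact mul_mem (Subgroup.mem_sup_left (le_centralizer_self N hNc (pow_mem haN j)))
      (Subgroup.mem_sup_right (pow_mem (Subgroup.mem_zpowers b) i))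
  have h1 := Cfsg.Agent.Lib.H22.card_commutator_mul_card_centralizer A hAc b hgenA
  have h2 : A ⊓ Subgroup.centralizer {b} = Subgroup.center G := by
    apply le_antisymm
    · intro y hy
      obtain ⟨hyA, hyb⟩ := Subgroup.mem_inf.mp hy
      rw [Subgroup.mem_center_iff]
      intro g
      obtain ⟨l, k, rfl⟩ := hgen g
      rw [hA, Subgroup.mem_centralizer_iff] at hyA
      rw [Subgroup.mem_centralizer_singleton_iff] at hyb
      have e1 : a ^ l * y = y * a ^ l := hyA _ (pow_mem haN l)
      have e2 : b ^ k * y = y * b ^ k := by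
        have hc : Commute y b := hyb
        exact ((hc.pow_right k).eq).symm
      calc a ^ l * b ^ k * y = a ^ l * (b ^ k * y) := by group
        _ = a ^ l * (y * b ^ k) := by rw [e2]
        _ = (a ^ l * y) * b ^ k := by group
        _ = y * a ^ l * b ^ k := by rw [e1]
        _ = y * (a ^ l * b ^ k) := by group
    · apply le_inf (Subgroup.center_le_centralizer _)
      intro z hz
      rw [Subgroup.mem_centralizer_singleton_iff]
      exact (Subgroup.mem_center_iff.mp hz b).symm
  rw [h2] at h1
  exact h1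

include hNc hQ hp2 hG in
/-- `|G : Z(G)| = |G'|²` -/
theorem index_center_eq :
    (Subgroup.center G).index = Nat.card (commutator G) ^ 2 := by
  have h1 := card_centralizer_sq N hNc hQ hp2 hG
  have h2 := card_commutator_mul_card_center N hNc hQ
  have h3 := Subgroup.card_mul_index (Subgroup.center G)
  set z := Nat.card (Subgroup.center G)
  set c := Nat.card (commutator G)
  set A := Nat.card (Subgroup.centralizer (N : Set G))
  have hz : 0 < z := Nat.card_pos
  rw [← h2, ← h3] at h1
  -- (c z)(c z) = (z * idx) * z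
  have : z * z * (Subgroup.center G).index = z * z * c ^ 2 := by
    rw [sq]
    calc z * z * (Subgroup.center G).index = z * (Subgroup.center G).index * z := by ring
      _ = c * z * (c * z) := h1.symm
      _ = z * z * (c * c) := by ring
  exact Nat.eq_of_mul_eq_mul_left (Nat.mul_pos hz hz) this

end

end Cfsg.Agent.Lib.H19.MC
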