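import Mathlib
import Cfsg.Prelude.Def_Transfer
import Cfsg.Agent.Lib.H1.SchurZassenhaus
import Cfsg.Agent.Lib.H1.Complement
import Cfsg.Agent.Lib.H19.SylowAux

/-!
# Normal `p`-complements (helper19)

* `exists_complement_internal`: internal Schur–Zassenhaus existence;
* `frattini_sz`: Frattini argument for complements of a normal Hall `p`-subgroup `Q` of a normal
  subgroup `K`;
* `hasNormalPComplement_of_quotient`: if `Q ⊴ X` is a `p`-subgroup with `Q ≤ Φ(S)` for a Sylow
  `p`-subgroup `S` of `X` and `X ⧸ Q` has a normal `p`-complement then so does `X`.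
-/

set_option autoImplicit false

open scoped Pointwise

namespace Cfsg.Agent.Lib.H19

open Cfsg.Agent.Lib.H1

universe u

variable {G : Type u} [Group G]

/-- internal Schur–Zassenhaus existence -/
theorem exists_complement_internal [Finite G] {Q K : Subgroup G} (hQK : Q ≤ K)
    (hKQ : K ≤ Subgroup.normalizer (Q : Set G))
    (hcop : (Nat.card Q).Coprime (Q.relIndex K)) :
    ∃ L : Subgroup G, L ≤ K ∧ Disjoint Q L ∧ Q ⊔ L = K ∧ Nat.card L = Q.relIndex K := by
  have hn : (Q.subgroupOf K).Normal :=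
    (Subgroup.normal_subgroupOf_iff_le_normalizer hQK).2 hKQ
  have hcop' : (Nat.card (Q.subgroupOf K)).Coprime (Q.subgroupOf K).index := by
    rw [card_subgroupOf_of_le hQK]; exact hcop
  obtain ⟨L1, hL1⟩ := Subgroup.exists_right_complement'_of_coprime hcop'
  refine ⟨L1.map K.subtype, Subgroup.map_subtype_le _, ?_, ?_, ?_⟩
  · rw [Subgroup.disjoint_def]
    rintro x hxQ ⟨l, hl, rfl⟩
    have h1 : l ∈ Q.subgroupOf K := Subgroup.mem_subgroupOf.2 hxQ
    have h2 := (Subgroup.disjoint_def.1 hL1.disjoint) h1 hl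
    rw [h2]; rfl
  · apply le_antisymm (sup_le hQK (Subgroup.map_subtype_le _))
    intro k hk
    obtain ⟨n, hn', l, hl, hkl⟩ := isComplement'_exists_mul hL1 ⟨k, hk⟩
    have : k = n.1 * l.1 := congrArg Subtype.val hkl
    rw [this]
    exact Subgroup.mul_mem_sup (Subgroup.mem_subgroupOf.1 hn') ⟨l, hl, rfl⟩
  · have h1 := hL1.index_eq_card
    have h2 := hL1.card_mul_card
    have h3 : Nat.card (L1.map K.subtype) = Nat.card L1 :=
      (Nat.card_congr (L1.equivMapOfInjective K.subtype (Subgroup.subtype_injective K)).toEquiv).symm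
    rw [h3]
    have h4 := (Q.subgroupOf K).card_mul_index
    have h5 : Nat.card (Q.subgroupOf K) * Nat.card L1
        = Nat.card (Q.subgroupOf K) * (Q.subgroupOf K).index := by rw [h2, h4]
    exact Nat.eq_of_mul_eq_mul_left Nat.card_pos h5

theorem conj_smul_eq_iff_mem_normalizer {L : Subgroup G} {g : G} :
    MulAut.conj g • L = L ↔ g ∈ Subgroup.normalizer (L : Set G) := by
  rw [mem_normalizer_iff_map_conj]
  constructor
  · intro h
    ext x
    rw [mem_map_conj, ← mem_conj_smul_iff, h]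
  · intro h
    ext x
    rw [mem_conj_smul_iff, ← mem_map_conj, h]

/-- Frattini argument via Schur–Zassenhaus: if `Q ⊴ G` is a `p`-group, `K ⊴ G`, `K = Q ⋊ L` with
`|L|` prime to `p`, then `G = Q N_G(L)`. -/
theorem frattini_sz [Finite G] {p : ℕ} [Fact p.Prime] {Q K L : Subgroup G} [hQn : Q.Normal]
    [hKn : K.Normal] (hQ : IsPGroup p Q) (hd : Disjoint Q L) (hsup : Q ⊔ L = K)
    (hL : (Nat.card L).Coprime p) (x : G) :
    ∃ q ∈ Q, q⁻¹ * x ∈ Subgroup.normalizer (L : Set G) := by
  have hLN : L ≤ Subgroup.normalizer (Q : Set G) := by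
    rw [Subgroup.normalizer_eq_top_iff.2 hQn]; exact le_top
  have hLxN : MulAut.conj x • L ≤ Subgroup.normalizer (Q : Set G) := by
    rw [Subgroup.normalizer_eq_top_iff.2 hQn]; exact le_top
  have hcop : (Nat.card Q).Coprime (Nat.card L) := by
    obtain ⟨a, ha⟩ := hQ.exists_card_eq
    rw [ha]
    exact Nat.Coprime.pow_left a hL.symm
  have hdx : Disjoint Q (MulAut.conj x • L) := by
    rw [Subgroup.disjoint_def]
    intro y hyQ hyL
    rw [mem_conj_smul_iff] at hyL
    have h1 : x⁻¹ * y * x ∈ Q := by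
      have := hQn.conj_mem y hyQ x⁻¹
      rwa [inv_inv] at this
    have h2 := (Subgroup.disjoint_def.1 hd) h1 hyL
    calc y = x * (x⁻¹ * y * x) * x⁻¹ := by group
      _ = 1 := by rw [h2]; group
  have hsupx : Q ⊔ L = Q ⊔ MulAut.conj x • L := by
    have h1 : MulAut.conj x • (Q ⊔ L) = MulAut.conj x • Q ⊔ MulAut.conj x • L :=
      Subgroup.smul_sup _ _ _
    rw [hsup, conj_smul_eq_self_of_normal (H := K), conj_smul_eq_self_of_normal (H := Q)] at h1
    rw [hsup, h1]
  have hsolv : Group.IsSolvable Q := by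
    have : Group.IsNilpotent Q := hQ.isNilpotent
    infer_instance
  obtain ⟨n, hn, hconj⟩ := sz_conj_internal hLN hLxN hcop hd hdx hsupx (Or.inl hsolv)
  refine ⟨n, hn, ?_⟩
  rw [← conj_smul_eq_iff_mem_normalizer, ← conj_smul_conj_smul, ← hconj, conj_smul_conj_smul,
    inv_mul_cancel, map_one, one_smul]

theorem eq_of_pow_mul_eq {p m c a i : ℕ} (hp : p.Prime) (h : p ^ m * a = p ^ c * i)
    (ha : a.Coprime p) (hi : i.Coprime p) : a = i := by
  apply Nat.dvd_antisymm
  · have h1 : a ∣ p ^ c * i := Dvd.intro_left _ h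
    exact (Nat.Coprime.pow_right c ha).dvd_of_dvd_mul_left h1
  · have h1 : i ∣ p ^ m * a := Dvd.intro_left _ h.symm
    exact (Nat.Coprime.pow_right m hi).dvd_of_dvd_mul_left h1

/-- If `Q ⊴ X` is contained in the Frattini subgroup of a Sylow `p`-subgroup `S` of `X` and `X ⧸ Q`
has a normal `p`-complement, then `X` has a normal `p`-complement. -/
theorem hasNormalPComplement_of_quotient {X : Type u} [Group X] [Finite X] {p : ℕ} [Fact p.Prime]
    (S : Sylow p X) (Q : Subgroup X) [hQn : Q.Normal] (hQS : Q ≤ S)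
    (hQΦ : Q ≤ (frattini ↥(S : Subgroup X)).map (S : Subgroup X).subtype)
    (hbar : Cfsg.HasNormalPComplement p (X ⧸ Q)) : Cfsg.HasNormalPComplement p X := by
  have hp : p.Prime := Fact.out
  obtain ⟨Sb, Kb, hKbn, hKbc⟩ := hbar
  have hQp : IsPGroup p Q := S.isPGroup'.to_le hQS
  -- `|Kb|` is prime to `p`
  have hKbcop : (Nat.card Kb).Coprime p := by
    rw [← hKbc.index_eq_card]
    exact ((Nat.Prime.coprime_iff_not_dvd hp).2 Sb.not_dvd_index).symm
  -- the preimage `K1` of `Kb`
  have hK1n : (Kb.comap (QuotientGroup.mk' Q)).Normal := hKbn.comap _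
  have hQK1 : Q ≤ Kb.comap (QuotientGroup.mk' Q) := by
    intro q hq
    rw [Subgroup.mem_comap]
    have : (QuotientGroup.mk' Q) q = 1 := (QuotientGroup.eq_one_iff q).2 hq
    rw [this]; exact Kb.one_mem
  have hidx : (Kb.comap (QuotientGroup.mk' Q)).index = Kb.index :=
    Subgroup.index_comap_of_surjective Kb (QuotientGroup.mk'_surjective Q)
  have hcardK1 : Nat.card (Kb.comap (QuotientGroup.mk' Q) : Subgroup X) = Nat.card Q * Nat.card Kb := by
    have h1 := (Kb.comap (QuotientGroup.mk' Q)).card_mul_index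
    have h2 := Kb.card_mul_index
    have h3 : Nat.card X = Nat.card Q * Nat.card (X ⧸ Q) := by
      rw [mul_comm]; exact Subgroup.card_eq_card_quotient_mul_card_subgroup Q
    have hpos : 0 < Kb.index := Nat.pos_of_ne_zero Subgroup.index_ne_zero_of_finite
    have h4 : Nat.card (Kb.comap (QuotientGroup.mk' Q) : Subgroup X) * Kb.index
        = Nat.card Q * Nat.card Kb * Kb.index := by
      rw [← hidx, h1, h3, ← h2, hidx]; ring
    exact Nat.eq_of_mul_eq_mul_right hpos h4
  have hrel : Q.relIndex (Kb.comap (QuotientGroup.mk' Q)) = Nat.card Kb := by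
    have h1 := card_mul_relIndex hQK1
    rw [hcardK1] at h1
    exact Nat.eq_of_mul_eq_mul_left Nat.card_pos h1
  -- a complement `L` of `Q` in `K1`
  have hcop1 : (Nat.card Q).Coprime (Q.relIndex (Kb.comap (QuotientGroup.mk' Q))) := by
    rw [hrel]
    obtain ⟨a, ha⟩ := hQp.exists_card_eq
    rw [ha]
    exact Nat.Coprime.pow_left a hKbcop.symm
  obtain ⟨L, hLK1, hdL, hsupL, hcardL⟩ := exists_complement_internal hQK1
    (by rw [Subgroup.normalizer_eq_top_iff.2 hQn]; exact le_top) hcop1
  rw [hrel] at hcardL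
  have hLcop : (Nat.card L).Coprime p := by rw [hcardL]; exact hKbcop
  -- Frattini argument
  have hfr : ∀ x : X, ∃ q ∈ Q, q⁻¹ * x ∈ Subgroup.normalizer (L : Set X) :=
    fun x => frattini_sz hQp hdL hsupL hLcop x
  -- `S` normalizes `L`
  have hSL : (S : Subgroup X) ≤ Subgroup.normalizer (L : Set X) := by
    have htop : ((S : Subgroup X) ⊓ Subgroup.normalizer (L : Set X)).subgroupOf (S : Subgroup X) = ⊤ := by
      apply frattini_nongenerating
      rw [eq_top_iff]
      intro s _
      obtain ⟨q, hq, hn⟩ := hfr s.1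
      have hqS : q ∈ (S : Subgroup X) := hQS hq
      have hnS : q⁻¹ * s.1 ∈ (S : Subgroup X) := Subgroup.mul_mem _ (Subgroup.inv_mem _ hqS) s.2
      have hqΦ : (⟨q, hqS⟩ : (S : Subgroup X)) ∈ frattini ↥(S : Subgroup X) := by
        obtain ⟨f, hf, hfq⟩ := hQΦ hq
        have : f = ⟨q, hqS⟩ := Subtype.ext hfq
        rw [← this]; exact hf
      have hs : s = (⟨q⁻¹ * s.1, hnS⟩ : (S : Subgroup X)) * ⟨s.1⁻¹ * q * s.1, by
          exact Subgroup.mul_mem _ (Subgroup.mul_mem _ (Subgroup.inv_mem _ s.2) hqS) s.2⟩ := by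
        apply Subtype.ext
        show s.1 = q⁻¹ * s.1 * (s.1⁻¹ * q * s.1)
        group
      rw [hs]
      apply Subgroup.mul_mem_sup
      · rw [Subgroup.mem_subgroupOf]
        exact ⟨hnS, hn⟩
      · have hnorm : (frattini ↥(S : Subgroup X)).Normal := inferInstance
        have := hnorm.conj_mem _ hqΦ (s⁻¹)
        rw [inv_inv] at this
        exact this
    intro s hs
    have : (⟨s, hs⟩ : (S : Subgroup X)) ∈
        ((S : Subgroup X) ⊓ Subgroup.normalizer (L : Set X)).subgroupOf (S : Subgroup X) := by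
      rw [htop]; trivial
    rw [Subgroup.mem_subgroupOf] at this
    exact this.2
  -- `L` is normal
  have hLn : L.Normal := by
    rw [← Subgroup.normalizer_eq_top_iff, eq_top_iff]
    intro x _
    obtain ⟨q, hq, hn⟩ := hfr x
    have : x = q * (q⁻¹ * x) := by group
    rw [this]
    exact Subgroup.mul_mem _ (hSL (hQS hq)) hn
  -- cardinalities
  obtain ⟨a, ha⟩ := hQp.exists_card_eq
  obtain ⟨b, hb⟩ := Sb.isPGroup'.exists_card_eq
  obtain ⟨c, hc⟩ := S.isPGroup'.exists_card_eq
  have hX1 : Nat.card X = p ^ (a + b) * Nat.card L := by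
    have h1 := (Kb.comap (QuotientGroup.mk' Q)).card_mul_index
    rw [hidx, hcardK1, hKbc.symm.index_eq_card, hb, ha, ← hcardL] at h1
    rw [← h1, pow_add]; ring
  have hX2 : Nat.card X = p ^ c * (S : Subgroup X).index := by
    rw [← hc]; exact ((S : Subgroup X).card_mul_index).symm
  have hSi : ((S : Subgroup X).index).Coprime p :=
    ((Nat.Prime.coprime_iff_not_dvd hp).2 S.not_dvd_index).symm
  have hLi : Nat.card L = (S : Subgroup X).index :=
    eq_of_pow_mul_eq hp (hX1.symm.trans hX2) hLcop hSi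
  refine ⟨S, L, hLn, ?_⟩
  apply Subgroup.isComplement'_of_coprime
  · rw [hLi, mul_comm]; exact (S : Subgroup X).card_mul_index
  · rw [hc]; exact Nat.Coprime.pow_right c hLcop

end Cfsg.Agent.Lib.H19
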