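import Mathlib
import Cfsg.Prelude.Def_OddOrderLocal
import Cfsg.Prelude.Def_CaseTheorems

/-!
# S3888 (Blackburn: `p`-groups of rank at most two, `p` odd): definitions (helper19)

Blueprint: `tools/blueprints/S3888.md`.
-/

set_option autoImplicit false

namespace Cfsg.Agent.Lib.H19.R2

universe u

open scoped commutatorElement

/-- second alternative of S3888 -/
def T2 (p n : ℕ) (G : Type*) [Group G] : Prop :=
  3 ≤ n ∧ ∃ x y z : G, Subgroup.closure ({x, y, z} : Set G) = ⊤ ∧ x ^ p = 1 ∧ y ^ p = 1 ∧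
    z ^ p ^ (n - 2) = 1 ∧ x * z = z * x ∧ y * z = z * y ∧ x⁻¹ * y * x = y * z ^ p ^ (n - 3)

/-- third alternative of S3888 -/
def T3 (p n : ℕ) (G : Type*) [Group G] : Prop :=
  4 ≤ n ∧ ∃ (s : ℕ) (x y z : G), (s = 1 ∨ ¬ IsSquare (s : ZMod p)) ∧
    Subgroup.closure ({x, y, z} : Set G) = ⊤ ∧ x ^ p = 1 ∧ y ^ p = 1 ∧ z ^ p ^ (n - 2) = 1 ∧
    y * z = z * y ∧ x⁻¹ * y * x = y * z ^ (s * p ^ (n - 3)) ∧ x⁻¹ * z * x = y * z

/-- fourth alternative of S3888: `p = 3` and maximal class -/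
def MC (p n : ℕ) (G : Type*) [Group G] : Prop :=
  p = 3 ∧ 2 ≤ n ∧ (⊤ : Subgroup G).lowerCentralSeries (n - 2) ≠ ⊥

/-- the conclusion of S3888 -/
def Concl (p n : ℕ) (G : Type*) [Group G] : Prop :=
  Cfsg.IsMetacyclic G ∨ T2 p n G ∨ T3 p n G ∨ MC p n G

/-- the induction hypothesis: S3888 for all groups of order `p ^ m`, `m < n`, in the universe `u` -/
def IH (p n : ℕ) : Prop :=
  ∀ m : ℕ, m < n → ∀ (H : Type u) [Group H] [Finite H], Nat.card H = p ^ m →
    Cfsg.PRankLE p 2 H → Concl p m H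

/-- `N` is a normal elementary abelian subgroup of order `p ^ 2` -/
structure NData (p : ℕ) (G : Type*) [Group G] (N : Subgroup G) : Prop where
  normal : N.Normal
  comm : ∀ a ∈ N, ∀ b ∈ N, a * b = b * a
  exp : ∀ a ∈ N, a ^ p = 1
  card : Nat.card N = p ^ 2

/-- hypothesis (H2): every element with `g ^ p = 1` lies in the normal elementary abelian subgroup `N` of
order `p ^ 2` -/
def H2 (p : ℕ) (G : Type*) [Group G] (N : Subgroup G) : Prop :=
  NData p G N ∧ ∀ g : G, g ^ p = 1 → g ∈ N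

/-- minimal nonmetacyclic -/
def MNM (G : Type*) [Group G] : Prop :=
  ¬ Cfsg.IsMetacyclic G ∧ ∀ H : Subgroup G, H ≠ ⊤ → Cfsg.IsMetacyclic H

/-- the subgroup generated by the `p`-th powers of the elements of `H` -/
def agemoOf (p : ℕ) {G : Type*} [Group G] (H : Subgroup G) : Subgroup G :=
  Subgroup.closure {x : G | ∃ d ∈ H, d ^ p = x}

/-- `℧₁(G)` -/
def agemo (p : ℕ) (G : Type*) [Group G] : Subgroup G := agemoOf p (⊤ : Subgroup G)

/-- Blackburn's subgroup `℧₁(G') γ₃(G)` -/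
def LB (p : ℕ) (G : Type*) [Group G] : Subgroup G :=
  agemoOf p (commutator G) ⊔ (⊤ : Subgroup G).lowerCentralSeries 2

theorem pow_mem_agemoOf (p : ℕ) {G : Type*} [Group G] {H : Subgroup G} {d : G} (hd : d ∈ H) :
    d ^ p ∈ agemoOf p H := Subgroup.subset_closure ⟨d, hd, rfl⟩

theorem pow_mem_agemo (p : ℕ) {G : Type*} [Group G] (g : G) : g ^ p ∈ agemo p G :=
  pow_mem_agemoOf p (Subgroup.mem_top g)

theorem agemoOf_le {p : ℕ} {G : Type*} [Group G] {H K : Subgroup G} (h : ∀ d ∈ H, d ^ p ∈ K) :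
    agemoOf p H ≤ K := by
  rw [agemoOf, Subgroup.closure_le]
  rintro x ⟨d, hd, rfl⟩
  exact h d hd

theorem agemoOf_mono {p : ℕ} {G : Type*} [Group G] {H K : Subgroup G} (h : H ≤ K) :
    agemoOf p H ≤ agemoOf p K :=
  agemoOf_le fun _ hd => pow_mem_agemoOf p (h hd)

theorem map_agemoOf {p : ℕ} {G G' : Type*} [Group G] [Group G'] (f : G →* G') (H : Subgroup G) :
    (agemoOf p H).map f = agemoOf p (H.map f) := by
  rw [agemoOf, agemoOf, MonoidHom.map_closure]
  congr 1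
  ext y
  constructor
  · rintro ⟨x, ⟨d, hd, rfl⟩, rfl⟩
    exact ⟨f d, Subgroup.mem_map_of_mem f hd, (map_pow f d p).symm⟩
  · rintro ⟨e, ⟨d, hd, rfl⟩, rfl⟩
    exact ⟨d ^ p, ⟨d, hd, rfl⟩, map_pow f d p⟩

instance agemoOf_characteristic (p : ℕ) {G : Type*} [Group G] (H : Subgroup G) [hH : H.Characteristic] :
    (agemoOf p H).Characteristic := by
  rw [Subgroup.characteristic_iff_map_eq]
  intro φ
  rw [map_agemoOf, Subgroup.characteristic_iff_map_eq.mp hH φ]

instance agemo_characteristic (p : ℕ) (G : Type*) [Group G] : (agemo p G).Characteristic := by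
  unfold agemo; infer_instance

instance LB_characteristic (p : ℕ) (G : Type*) [Group G] : (LB p G).Characteristic := by
  unfold LB
  have : (commutator G).Characteristic := by unfold commutator; infer_instance
  rw [Subgroup.characteristic_iff_map_eq]
  intro φ
  rw [Subgroup.map_sup, Subgroup.characteristic_iff_map_eq.mp inferInstance φ,
    Subgroup.characteristic_iff_map_eq.mp inferInstance φ]

theorem map_agemo_of_surjective {p : ℕ} {G G' : Type*} [Group G] [Group G'] (f : G →* G')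
    (hf : Function.Surjective f) : (agemo p G).map f = agemo p G' := by
  unfold agemo
  rw [map_agemoOf, ← MonoidHom.range_eq_map, MonoidHom.range_eq_top.mpr hf]

theorem map_LB_of_surjective {p : ℕ} {G G' : Type*} [Group G] [Group G'] (f : G →* G')
    (hf : Function.Surjective f) : (LB p G).map f = LB p G' := by
  unfold LB
  have htop : (⊤ : Subgroup G).map f = ⊤ := by
    rw [← MonoidHom.range_eq_map, MonoidHom.range_eq_top.mpr hf]
  have hc : (commutator G).map f = commutator G' := by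
    unfold commutator
    rw [Subgroup.map_commutator, htop]
  rw [Subgroup.map_sup, map_agemoOf, hc, Subgroup.map_lowerCentralSeries, htop]

theorem concl_iff (p n : ℕ) (G : Type*) [Group G] :
    Concl p n G ↔
    (Cfsg.IsMetacyclic G ∨
    (3 ≤ n ∧ ∃ x y z : G, Subgroup.closure ({x, y, z} : Set G) = ⊤ ∧ x ^ p = 1 ∧ y ^ p = 1 ∧ z ^ p ^ (n - 2) = 1 ∧
        x * z = z * x ∧ y * z = z * y ∧ x⁻¹ * y * x = y * z ^ p ^ (n - 3)) ∨
    (4 ≤ n ∧ ∃ (s : ℕ) (x y z : G), (s = 1 ∨ ¬ IsSquare (s : ZMod p)) ∧ Subgroup.closure ({x, y, z} : Set G) = ⊤ ∧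
        x ^ p = 1 ∧ y ^ p = 1 ∧ z ^ p ^ (n - 2) = 1 ∧ y * z = z * y ∧ x⁻¹ * y * x = y * z ^ (s * p ^ (n - 3)) ∧
        x⁻¹ * z * x = y * z) ∨
    (p = 3 ∧ 2 ≤ n ∧ (⊤ : Subgroup G).lowerCentralSeries (n - 2) ≠ ⊥)) := Iff.rfl

/-- Case 1 data: `x` of order `p` outside `C_G(N)`, in a group of rank at most two -/
structure C1 (p : ℕ) (G : Type*) [Group G] (N : Subgroup G) (x : G) : Prop where
  nd : NData p G N
  hx : x ^ p = 1
  hxC : x ∉ Subgroup.centralizer (N : Set G)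
  rk : Cfsg.PRankLE p 2 G

/-- Case 1, `E = N⟨x⟩` normal, first structure: `G = E * ⟨z⟩` -/
def StructA {G : Type*} [Group G] (N : Subgroup G) (x : G) : Prop :=
  ∃ z : G, z * x = x * z ∧ (∀ a ∈ N, z * a = a * z) ∧
    N ⊔ Subgroup.zpowers x ⊔ Subgroup.zpowers z = ⊤

/-- Case 1, `E = N⟨x⟩` normal, second structure: `G = (⟨y⟩ × ⟨z⟩) ⋊ ⟨x⟩` -/
def StructB {G : Type*} [Group G] (N : Subgroup G) (x : G) : Prop :=
  ∃ y z : G, y ∈ N ∧ y * x ≠ x * y ∧ (∀ a ∈ N, z * a = a * z) ∧ x⁻¹ * z * x = y * z ∧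
    N ⊔ Subgroup.zpowers x ⊔ Subgroup.zpowers z = ⊤

/-- the data produced by the analysis of a minimal nonmetacyclic group with `G / L` nonabelian -/
structure Gam (p : ℕ) (G : Type*) [Group G] (u v : G) : Prop where
  gen : Subgroup.closure ({u, v} : Set G) = ⊤
  cnot : ⁅u, v⁆ ∉ (⊤ : Subgroup G).lowerCentralSeries 2
  cpow : ⁅u, v⁆ ^ p ∈ (⊤ : Subgroup G).lowerCentralSeries 2
  comm : commutator G = Subgroup.zpowers ⁅u, v⁆ ⊔ (⊤ : Subgroup G).lowerCentralSeries 2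
  idx : ((⊤ : Subgroup G).lowerCentralSeries 2).index = p ^ 3
  pow : ∀ g : G, g ^ p ∈ (⊤ : Subgroup G).lowerCentralSeries 2
  ag : ∀ M : Subgroup G, M.index = p → agemoOf p M = (⊤ : Subgroup G).lowerCentralSeries 2

end Cfsg.Agent.Lib.H19.R2
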