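import Cfsg.Prelude.Def_Solvable
import Cfsg.Prelude.Def_CaseTheorems
import Mathlib.GroupTheory.Sylow

set_option autoImplicit false

namespace Cfsg.Agent.Lib.H19

variable {G : Type*} [Group G]

theorem pCore_isPGroup (p : ℕ) (G : Type*) [Group G] : IsPGroup p (Cfsg.pCore p G) :=
  Sylow.sSup_of_normal _ (fun _ h => h.2) (fun _ h => h.1)

theorem le_pCore {p : ℕ} {N : Subgroup G} (hn : N.Normal) (hp : IsPGroup p N) :
    N ≤ Cfsg.pCore p G :=
  le_sSup (a := N) ⟨hn, hp⟩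

theorem le_pPrimeCore {p : ℕ} {N : Subgroup G} (hn : N.Normal) (hp : (Nat.card N).Coprime p) :
    N ≤ Cfsg.pPrimeCore p G :=
  le_sSup (a := N) ⟨hn, hp⟩

end Cfsg.Agent.Lib.H19
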