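import Mathlib

/-!
# Irreducible modules for a cyclic group of prime order over `ZMod q` (helper19)

`card_eq_pow_orderOf_of_irreducible`: if `f` is an endomorphism of a finite nontrivial
`ZMod q`-module `V` with `f ^ p = 1`, `f ≠ 1`, and `V` has no proper nonzero `f`-invariant submodule,
then `|V| = q ^ (order of q mod p)`.
-/

set_option autoImplicit false

namespace Cfsg.Agent.Lib.H19

open Polynomial

section

variable {K : Type*} [Field K] {V : Type*} [AddCommGroup V] [Module K V]

theorem aeval_comm (f : Module.End K V) (a b : K[X]) :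
    (aeval f a) * (aeval f b) = (aeval f b) * (aeval f a) := by
  rw [← map_mul, mul_comm, map_mul]

theorem aeval_apply_comm (f : Module.End K V) (a b : K[X]) (v : V) :
    (aeval f a) ((aeval f b) v) = (aeval f b) ((aeval f a) v) := by
  have := congrArg (fun g : Module.End K V => g v) (aeval_comm f a b)
  simpa [Module.End.mul_apply] using this

variable [FiniteDimensional K V] [Nontrivial V]

/-- the minimal polynomial of an irreducible endomorphism is irreducible -/
theorem minpoly_irreducible_of_irreducible (f : Module.End K V)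
    (hirr : ∀ W : Submodule K V, (∀ w ∈ W, f w ∈ W) → W = ⊥ ∨ W = ⊤) :
    Irreducible (minpoly K f) := by
  have hint : IsIntegral K f := Algebra.IsIntegral.isIntegral f
  refine ⟨minpoly.not_isUnit K f, ?_⟩
  intro a b hab
  have hμ0 : minpoly K f ≠ 0 := minpoly.ne_zero hint
  have hker_inv : ∀ w ∈ LinearMap.ker (aeval f a), f w ∈ LinearMap.ker (aeval f a) := by
    intro w hw
    rw [LinearMap.mem_ker] at hw ⊢
    have h1 := aeval_apply_comm f a X w
    rw [aeval_X] at h1
    rw [h1, hw, map_zero]
  rcases hirr _ hker_inv with h | h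
  · -- `a(f)` injective, so `b(f) = 0`
    left
    have hb : aeval f b = 0 := by
      apply LinearMap.ext
      intro v
      have h1 : (aeval f a) ((aeval f b) v) = 0 := by
        have h2 : (aeval f (a * b)) v = 0 := by
          rw [← hab, minpoly.aeval]; rfl
        rw [map_mul] at h2
        exact h2
      have h3 : (aeval f b) v ∈ LinearMap.ker (aeval f a) := h1
      rw [h] at h3
      exact (Submodule.mem_bot K).1 h3
    obtain ⟨c, hc⟩ := minpoly.dvd K f hb
    -- `μ = a * b = a * μ * c` so `a * c = 1`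
    have h4 : minpoly K f * 1 = minpoly K f * (a * c) := by
      rw [mul_one]
      calc minpoly K f = a * b := hab
        _ = a * (minpoly K f * c) := by rw [hc]
        _ = minpoly K f * (a * c) := by ring
    have h5 := mul_left_cancel₀ hμ0 h4
    exact IsUnit.of_mul_eq_one c h5.symm
  · -- `a(f) = 0`
    right
    have ha : aeval f a = 0 := by
      apply LinearMap.ext
      intro v
      have : v ∈ LinearMap.ker (aeval f a) := by rw [h]; trivial
      exact this
    obtain ⟨c, hc⟩ := minpoly.dvd K f ha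
    have h4 : minpoly K f * 1 = minpoly K f * (c * b) := by
      rw [mul_one]
      calc minpoly K f = a * b := hab
        _ = (minpoly K f * c) * b := by rw [hc]
        _ = minpoly K f * (c * b) := by ring
    have h5 := mul_left_cancel₀ hμ0 h4
    exact IsUnit.of_mul_eq_one c (by rw [mul_comm]; exact h5.symm)

/-- an irreducible endomorphism acts on a space isomorphic to `K[X]_{< deg μ}` -/
theorem equivDegreeLT (f : Module.End K V)
    (hirr : ∀ W : Submodule K V, (∀ w ∈ W, f w ∈ W) → W = ⊥ ∨ W = ⊤) :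
    Nonempty ((degreeLT K (minpoly K f).natDegree) ≃ₗ[K] V) := by
  classical
  have hint : IsIntegral K f := Algebra.IsIntegral.isIntegral f
  have hmonic : (minpoly K f).Monic := minpoly.monic hint
  obtain ⟨v, hv⟩ := exists_ne (0 : V)
  let φ : K[X] →ₗ[K] V := (LinearMap.applyₗ v).comp (aeval f).toLinearMap
  have hφ : ∀ P : K[X], φ P = (aeval f P) v := fun P => rfl
  -- the range is everything
  have hrange : LinearMap.range φ = ⊤ := by
    have hinv : ∀ w ∈ LinearMap.range φ, f w ∈ LinearMap.range φ := by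
      rintro _ ⟨P, rfl⟩
      refine ⟨X * P, ?_⟩
      rw [hφ, hφ, map_mul, aeval_X]; rfl
    rcases hirr _ hinv with h | h
    · exfalso
      have : v ∈ LinearMap.range φ := ⟨1, by rw [hφ, map_one]; rfl⟩
      rw [h] at this
      exact hv ((Submodule.mem_bot K).1 this)
    · exact h
  -- annihilator of `v` is the annihilator of `V`
  have hann : ∀ P : K[X], (aeval f P) v = 0 → aeval f P = 0 := by
    intro P hP
    apply LinearMap.ext
    intro w
    have hw : w ∈ LinearMap.range φ := by rw [hrange]; trivial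
    obtain ⟨Q, rfl⟩ := hw
    rw [hφ, aeval_apply_comm, hP, map_zero]; rfl
  refine ⟨LinearEquiv.ofBijective (φ.comp (degreeLT K (minpoly K f).natDegree).subtype) ⟨?_, ?_⟩⟩
  · rw [← LinearMap.ker_eq_bot, LinearMap.ker_eq_bot']
    rintro ⟨P, hP⟩ hP0
    have h1 : (aeval f P) v = 0 := hP0
    have h2 := minpoly.dvd K f (hann P h1)
    rw [mem_degreeLT] at hP
    have h3 : P = 0 := by
      apply Polynomial.eq_zero_of_dvd_of_degree_lt h2
      rwa [Polynomial.degree_eq_natDegree (minpoly.ne_zero hint)]
    exact Subtype.ext h3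
  · intro w
    have hw : w ∈ LinearMap.range φ := by rw [hrange]; trivial
    obtain ⟨P, rfl⟩ := hw
    refine ⟨⟨P %ₘ minpoly K f, ?_⟩, ?_⟩
    · rw [mem_degreeLT]
      have := Polynomial.degree_modByMonic_lt P hmonic
      rwa [Polynomial.degree_eq_natDegree (minpoly.ne_zero hint)] at this
    · show φ (P %ₘ minpoly K f) = φ P
      have h1 := Polynomial.modByMonic_add_div P (minpoly K f)
      rw [hφ, hφ]
      conv_rhs => rw [← h1]
      rw [map_add, map_mul, minpoly.aeval, zero_mul, add_zero]

end

/-- the key lemma -/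
theorem card_eq_pow_orderOf_of_irreducible {q p : ℕ} [hq : Fact q.Prime] [hp : Fact p.Prime]
    (hqp : q ≠ p) {V : Type*} [AddCommGroup V] [Module (ZMod q) V] [Finite V] [Nontrivial V]
    (f : Module.End (ZMod q) V) (hf : f ^ p = 1) (hf1 : f ≠ 1)
    (hirr : ∀ W : Submodule (ZMod q) V, (∀ w ∈ W, f w ∈ W) → W = ⊥ ∨ W = ⊤) :
    Nat.card V = q ^ orderOf (q : ZMod p) := by
  have hfd : FiniteDimensional (ZMod q) V := Module.Finite.of_finite
  have hint : IsIntegral (ZMod q) f := Algebra.IsIntegral.isIntegral f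
  have hμirr := minpoly_irreducible_of_irreducible f hirr
  -- cardinality
  have hcard : Nat.card V = q ^ (minpoly (ZMod q) f).natDegree := by
    obtain ⟨e⟩ := equivDegreeLT f hirr
    have e2 := (degreeLTEquiv (ZMod q) (minpoly (ZMod q) f).natDegree)
    rw [← Nat.card_congr (e2.symm.trans e).toEquiv, Nat.card_fun, Nat.card_fin, Nat.card_zmod]
  -- `μ ∣ X^p - 1`
  have hdvd : minpoly (ZMod q) f ∣ (X : (ZMod q)[X]) ^ p - 1 := by
    apply minpoly.dvd
    rw [map_sub, map_pow, aeval_X, map_one, hf, sub_self]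
  rw [← cyclotomic_prime_mul_X_sub_one (ZMod q) p] at hdvd
  rcases (hμirr.prime).dvd_or_dvd hdvd with h | h
  · -- `μ ∣ cyclotomic p`
    have hcop : q.Coprime p := (Nat.coprime_primes hq.out hp.out).2 hqp
    have h1 := natDegree_of_dvd_cyclotomic_of_irreducible (K := ZMod q) (p := q) (f := 1) (n := p)
      (by rw [ZMod.card, pow_one]) hcop h hμirr
    rw [hcard, h1]
    congr 1
    rw [← orderOf_units]
    congr 1
    simp
  · -- `μ ∣ X - 1`, so `f = 1`
    exfalso
    apply hf1
    obtain ⟨c, hc⟩ := h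
    have h2 : aeval f ((X : (ZMod q)[X]) - 1) = 0 := by
      rw [hc, map_mul, minpoly.aeval, zero_mul]
    rw [map_sub, aeval_X, map_one] at h2
    exact sub_eq_zero.1 h2

/-- additive-group form with a `ZMod q`-module instance -/
theorem card_eq_pow_orderOf_addHom_aux {q p : ℕ} [hq : Fact q.Prime] [hp : Fact p.Prime]
    (hqp : q ≠ p) {V : Type*} [AddCommGroup V] [Module (ZMod q) V] [Finite V] [Nontrivial V]
    (g : V →+ V) (hg : ∀ v, g^[p] v = v) (hg1 : ∃ v, g v ≠ v)
    (hirr : ∀ W : AddSubgroup V, (∀ w ∈ W, g w ∈ W) → W = ⊥ ∨ W = ⊤) :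
    Nat.card V = q ^ orderOf (q : ZMod p) := by
  have hpow : ∀ (i : ℕ) (v : V), ((g.toZModLinearMap q : Module.End (ZMod q) V) ^ i) v = g^[i] v := by
    intro i
    induction i with
    | zero => intro v; rfl
    | succ i ih =>
      intro v
      rw [pow_succ, Module.End.mul_apply, ih, Function.iterate_succ_apply]
      rfl
  apply card_eq_pow_orderOf_of_irreducible hqp (g.toZModLinearMap q : Module.End (ZMod q) V)
  · apply LinearMap.ext
    intro v
    rw [hpow, hg]; rfl
  · intro h
    obtain ⟨v, hv⟩ := hg1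
    apply hv
    have := congrArg (fun F : Module.End (ZMod q) V => F v) h
    exact this
  · intro W hW
    rcases hirr W.toAddSubgroup (fun w hw => hW w hw) with h | h
    · left
      apply Submodule.toAddSubgroup_injective
      rw [h]; rfl
    · right
      apply Submodule.toAddSubgroup_injective
      rw [h]; rfl

/-- additive-group form -/
theorem card_eq_pow_orderOf_addHom {q p : ℕ} [hq : Fact q.Prime] [hp : Fact p.Prime]
    (hqp : q ≠ p) {V : Type*} [AddCommGroup V] [Finite V] [Nontrivial V] (hV : ∀ v : V, q • v = 0)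
    (g : V →+ V) (hg : ∀ v, g^[p] v = v) (hg1 : ∃ v, g v ≠ v)
    (hirr : ∀ W : AddSubgroup V, (∀ w ∈ W, g w ∈ W) → W = ⊥ ∨ W = ⊤) :
    Nat.card V = q ^ orderOf (q : ZMod p) :=
  @card_eq_pow_orderOf_addHom_aux q p hq hp hqp V _ (AddCommGroup.zmodModule hV) _ _ g hg hg1 hirr

/-- multiplicative form -/
theorem card_eq_pow_orderOf_monoidHom {q p : ℕ} [hq : Fact q.Prime] [hp : Fact p.Prime]
    (hqp : q ≠ p) {W : Type*} [CommGroup W] [Finite W] [Nontrivial W] (hW : ∀ w : W, w ^ q = 1)
    (β : W →* W) (hβ : ∀ w, β^[p] w = w) (hβ1 : ∃ w, β w ≠ w)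
    (hirr : ∀ B : Subgroup W, (∀ b ∈ B, β b ∈ B) → B = ⊥ ∨ B = ⊤) :
    Nat.card W = q ^ orderOf (q : ZMod p) := by
  have hM : ∀ x : Additive W, q • x = 0 := by
    intro x
    show Additive.ofMul (x.toMul ^ q) = 0
    rw [hW]; rfl
  have h := card_eq_pow_orderOf_addHom hqp hM (MonoidHom.toAdditive β) (fun m => hβ m.toMul)
    (by obtain ⟨w, hw⟩ := hβ1; exact ⟨Additive.ofMul w, hw⟩)
    (by
      intro A hA
      rcases hirr (AddSubgroup.toSubgroup' A) (fun b hb => hA (Additive.ofMul b) hb) with h | h
      · left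
        ext x
        have := congrArg (fun B : Subgroup W => x.toMul ∈ B) h
        simpa using this
      · right
        ext x
        have := congrArg (fun B : Subgroup W => x.toMul ∈ B) h
        simpa using this)
  exact h

/-- subgroup form: `x` normalizes the elementary abelian `q`-subgroup `A`, `x ^ p` centralizes `A`,
`x` does not, and `A` has no proper nontrivial `x`-invariant subgroup. -/
theorem card_eq_pow_orderOf_of_minimal {G : Type*} [Group G] [Finite G] {q p : ℕ}
    [hq : Fact q.Prime] [hp : Fact p.Prime] (hqp : q ≠ p) (A : Subgroup G)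
    (hAab : IsMulCommutative A) (hAq : ∀ a ∈ A, a ^ q = 1) (hAne : A ≠ ⊥) (x : G)
    (hxA : x ∈ Subgroup.normalizer (A : Set G)) (hxp : x ^ p ∈ Subgroup.centralizer (A : Set G))
    (hxc : x ∉ Subgroup.centralizer (A : Set G))
    (hmin : ∀ B : Subgroup G, B ≤ A → (∀ b ∈ B, x * b * x⁻¹ ∈ B) → B = ⊥ ∨ B = A) :
    Nat.card A = q ^ orderOf (q : ZMod p) := by
  let _ : CommGroup A := { (inferInstance : Group A) with mul_comm := hAab.is_comm.comm }
  have hnt : Nontrivial A := (Subgroup.nontrivial_iff_ne_bot A).2 hAne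
  let β : A →* A :=
    { toFun := fun a => ⟨x * a.1 * x⁻¹, (Subgroup.mem_normalizer_iff.1 hxA a.1).1 a.2⟩
      map_one' := by apply Subtype.ext; simp
      map_mul' := by
        intro a b
        apply Subtype.ext
        show x * (a.1 * b.1) * x⁻¹ = (x * a.1 * x⁻¹) * (x * b.1 * x⁻¹)
        group }
  have hβv : ∀ a : A, ((β a : A) : G) = x * a.1 * x⁻¹ := fun a => rfl
  have hβi : ∀ (i : ℕ) (a : A), (((⇑β)^[i] a : A) : G) = x ^ i * a.1 * (x ^ i)⁻¹ := by
    intro i
    induction i with
    | zero => intro a; simp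
    | succ i ih =>
      intro a
      rw [Function.iterate_succ_apply, ih, hβv, pow_succ]
      group
  apply card_eq_pow_orderOf_monoidHom hqp (fun w => Subtype.ext (hAq w.1 w.2)) β
  · intro a
    apply Subtype.ext
    rw [hβi]
    have := (Subgroup.mem_centralizer_iff.1 hxp) a.1 a.2
    rw [← this]; group
  · by_contra hno
    apply hxc
    rw [Subgroup.mem_centralizer_iff]
    intro a ha
    have h1 : β ⟨a, ha⟩ = ⟨a, ha⟩ := by
      by_contra h2
      exact hno ⟨⟨a, ha⟩, h2⟩
    have h3 : x * a * x⁻¹ = a := congrArg Subtype.val h1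
    calc a * x = x * a * x⁻¹ * x := by rw [h3]
      _ = x * a := by group
  · intro B hB
    have h1 : B.map A.subtype ≤ A := Subgroup.map_subtype_le B
    have h2 : ∀ b ∈ B.map A.subtype, x * b * x⁻¹ ∈ B.map A.subtype := by
      rintro _ ⟨b, hb, rfl⟩
      exact ⟨β b, hB b hb, rfl⟩
    rcases hmin _ h1 h2 with h | h
    · left
      rwa [Subgroup.map_eq_bot_iff_of_injective _ (Subgroup.subtype_injective A)] at h
    · right
      rw [eq_top_iff]
      intro a _
      have : (a : G) ∈ B.map A.subtype := by rw [h]; exact a.2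
      obtain ⟨b, hb, hba⟩ := this
      have : b = a := Subtype.ext hba
      rw [← this]; exact hb

end Cfsg.Agent.Lib.H19
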