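import Mathlib
import Cfsg.Prelude.Def_Transfer
import Cfsg.Prelude.Def_LocalStructure
import Cfsg.Agent.Lib.H19.SylowAux
import Cfsg.Agent.S3749
import Cfsg.Agent.S3869

/-!
# Structure of `G = P N` with `N` a minimal normal `p'`-subgroup and `P` a non-normal Sylow
`p`-subgroup that is normal in every proper subgroup containing it
(common core of the "minimal non-`p`-closed" statements).
-/

set_option autoImplicit false

namespace Cfsg.Agent.Lib.H19

variable {G : Type*} [Group G]

/-- two subgroups normalizing each other and meeting trivially commute elementwise -/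
theorem commute_of_normalize_of_inf_eq_bot {P0 N0 : Subgroup G} (h : P0 ⊓ N0 = ⊥)
    (h1 : P0 ≤ Subgroup.normalizer (N0 : Set G)) (h2 : N0 ≤ Subgroup.normalizer (P0 : Set G))
    {a b : G} (ha : a ∈ P0) (hb : b ∈ N0) : a * b = b * a := by
  have h3 : a * b * a⁻¹ * b⁻¹ ∈ P0 ⊓ N0 := by
    constructor
    · have : b * a⁻¹ * b⁻¹ ∈ P0 := (Subgroup.mem_normalizer_iff.1 (h2 hb) a⁻¹).1 (P0.inv_mem ha)
      have h4 : a * b * a⁻¹ * b⁻¹ = a * (b * a⁻¹ * b⁻¹) := by group
      rw [h4]; exact P0.mul_mem ha this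
    · have : a * b * a⁻¹ ∈ N0 := (Subgroup.mem_normalizer_iff.1 (h1 ha) b).1 hb
      exact N0.mul_mem this (N0.inv_mem hb)
  rw [h, Subgroup.mem_bot] at h3
  calc a * b = (a * b * a⁻¹ * b⁻¹) * (b * a) := by group
    _ = b * a := by rw [h3, one_mul]

/-- a non-simple nontrivial finite group has a proper minimal normal subgroup -/
theorem exists_minimal_normal_of_not_simple [Finite G] [Nontrivial G] (hns : ¬ IsSimpleGroup G) :
    ∃ N : Subgroup G, N.Normal ∧ N ≠ ⊥ ∧ N ≠ ⊤ ∧
      ∀ B : Subgroup G, B.Normal → B ≤ N → B = ⊥ ∨ B = N := by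
  obtain ⟨K, hKn, hKbot, hKtop⟩ : ∃ K : Subgroup G, K.Normal ∧ K ≠ ⊥ ∧ K ≠ ⊤ := by
    by_contra h
    push Not at h
    apply hns
    refine ⟨fun H hH => ?_⟩
    by_cases h1 : H = ⊥
    · exact Or.inl h1
    · exact Or.inr (h H hH h1)
  obtain ⟨N, ⟨hNn, hNbot, hNK⟩, hmin⟩ := wellFounded_lt.has_min
    {B : Subgroup G | B.Normal ∧ B ≠ ⊥ ∧ B ≤ K} ⟨K, hKn, hKbot, le_rfl⟩
  refine ⟨N, hNn, hNbot, ?_, ?_⟩
  · intro h
    apply hKtop
    rw [eq_top_iff, ← h]; exact hNK
  · intro B hBn hBN
    by_cases hB : B = ⊥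
    · exact Or.inl hB
    · right
      have := hmin B ⟨hBn, hB, hBN.trans hNK⟩
      exact eq_of_le_of_not_lt hBN this

/-- a minimal normal subgroup that is a `q`-group is elementary abelian -/
theorem isElementaryAbelian_of_minimal_normal [Finite G] {q : ℕ} [Fact q.Prime] (N : Subgroup G)
    [hN : N.Normal] (hNq : IsPGroup q N)
    (hmin : ∀ B : Subgroup G, B.Normal → B ≤ N → B = ⊥ ∨ B = N) :
    Cfsg.IsElementaryAbelian q N := by
  by_cases hbot : N = ⊥
  · have h1 : ∀ a ∈ N, a = 1 := by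
      intro a ha
      rw [hbot] at ha
      exact Subgroup.mem_bot.1 ha
    refine ⟨⟨⟨fun a b => ?_⟩⟩, fun a ha => ?_⟩
    · apply Subtype.ext
      rw [Subgroup.coe_mul, Subgroup.coe_mul, h1 a.1 a.2, h1 b.1 b.2]
    · rw [h1 a ha, one_pow]
  have hnt : Nontrivial N := (Subgroup.nontrivial_iff_ne_bot N).2 hbot
  have hZ : Nontrivial (Subgroup.center N) := hNq.center_nontrivial
  have hZn : ((Subgroup.center N).map N.subtype).Normal := inferInstance
  rcases hmin _ hZn (Subgroup.map_subtype_le _) with h | h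
  · exfalso
    rw [Subgroup.map_eq_bot_iff_of_injective _ N.subtype_injective] at h
    exact (Subgroup.nontrivial_iff_ne_bot _).1 hZ h
  have hcomm : ∀ a ∈ N, ∀ b ∈ N, a * b = b * a := by
    intro a ha b hb
    have h2 : a ∈ (Subgroup.center N).map N.subtype := by rw [h]; exact ha
    obtain ⟨z, hz, rfl⟩ := h2
    have h3 := Subgroup.mem_center_iff.1 hz ⟨b, hb⟩
    exact (congrArg Subtype.val h3).symm
  let Ω : Subgroup G :=
    { carrier := {x | x ∈ N ∧ x ^ q = 1}
      mul_mem' := by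
        rintro a b ⟨ha, ha'⟩ ⟨hb, hb'⟩
        refine ⟨N.mul_mem ha hb, ?_⟩
        have hc : Commute a b := hcomm a ha b hb
        rw [hc.mul_pow, ha', hb', one_mul]
      one_mem' := ⟨N.one_mem, one_pow _⟩
      inv_mem' := by
        rintro a ⟨ha, ha'⟩
        exact ⟨N.inv_mem ha, by rw [inv_pow, ha', inv_one]⟩ }
  have hΩn : Ω.Normal := by
    refine ⟨fun a ha g => ?_⟩
    obtain ⟨ha, ha'⟩ := ha
    exact ⟨hN.conj_mem a ha g, by rw [conj_pow, ha', mul_one, mul_inv_cancel]⟩
  have hΩN : Ω ≤ N := fun x hx => hx.1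
  have hΩbot : Ω ≠ ⊥ := by
    intro h0
    obtain ⟨k, hk⟩ := hNq.exists_card_eq
    have hk0 : k ≠ 0 := by
      intro hk0
      rw [hk0, pow_zero] at hk
      exact hbot (Subgroup.card_eq_one.1 hk)
    have hdvd : q ∣ Nat.card N := by rw [hk]; exact dvd_pow_self q hk0
    obtain ⟨x, hx⟩ := exists_prime_orderOf_dvd_card' (G := N) q hdvd
    have hxΩ : (x : G) ∈ Ω := by
      refine ⟨x.2, ?_⟩
      have := pow_orderOf_eq_one x
      rw [hx] at this
      exact congrArg Subtype.val this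
    rw [h0, Subgroup.mem_bot] at hxΩ
    have hx1 : x = 1 := Subtype.ext hxΩ
    rw [hx1, orderOf_one] at hx
    exact (Fact.out : q.Prime).one_lt.ne hx
  rcases hmin Ω hΩn hΩN with h0 | h0
  · exact absurd h0 hΩbot
  refine ⟨⟨⟨fun a b => ?_⟩⟩, fun a ha => ?_⟩
  · apply Subtype.ext
    rw [Subgroup.coe_mul, Subgroup.coe_mul]
    exact hcomm a.1 a.2 b.1 b.2
  · have : a ∈ Ω := by rw [h0]; exact ha
    exact this.2

/-- **Core structure lemma.** `G = P N`, `N` a minimal normal `p'`-subgroup, `P` a non-normal Sylow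
`p`-subgroup; every Sylow `p`-subgroup `P0 ≤ P` of a proper subgroup `H` is normal in `H`.
Then `N` is an elementary abelian `q`-group and `P` is cyclic, generated by any element not
centralizing `N`; proper subgroups of `P` centralize `N`. -/
theorem minNonPClosed_structure [Finite G] {p : ℕ} [hp : Fact p.Prime] (P N : Subgroup G)
    [hNn : N.Normal] (hP : IsPGroup p P) (hPidx : ¬ p ∣ P.index)
    (hNp : ¬ p ∣ Nat.card N) (hPN : P ⊔ N = ⊤) (hNbot : N ≠ ⊥)
    (hNmin : ∀ B : Subgroup G, B.Normal → B ≤ N → B = ⊥ ∨ B = N)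
    (hPn : ¬ P.Normal)
    (hH : ∀ H P0 : Subgroup G, H ≠ ⊤ → P0 ≤ P → P0 ≤ H → ¬ p ∣ P0.relIndex H →
      H ≤ Subgroup.normalizer (P0 : Set G)) :
    ∃ q : ℕ, q.Prime ∧ q ≠ p ∧ Cfsg.IsElementaryAbelian q N ∧
      ∃ x ∈ P, Subgroup.zpowers x = P ∧ x ∉ Subgroup.centralizer (N : Set G) ∧
        ∀ P0 : Subgroup G, P0 < P → P0 ≤ Subgroup.centralizer (N : Set G) := by
  have hdisj : P ⊓ N = ⊥ := by
    apply disjoint_iff.1
    apply Subgroup.disjoint_of_coprime_natCard
    obtain ⟨k, hk⟩ := hP.exists_card_eq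
    rw [hk]
    exact Nat.Coprime.pow_left k ((Nat.Prime.coprime_iff_not_dvd hp.out).2 hNp)
  have hcardG : Nat.card P * Nat.card N = Nat.card G := by
    have h1 := card_mul_relIndex (le_sup_left : P ≤ P ⊔ N)
    rw [relIndex_sup_of_inf_eq_bot hdisj, hPN, Subgroup.card_top] at h1
    exact h1
  -- elementwise commuting
  have hcomm : ∀ P0 N0 : Subgroup G, P0 ≤ P → N0 ≤ N →
      P0 ≤ Subgroup.normalizer (N0 : Set G) → N0 ≤ Subgroup.normalizer (P0 : Set G) →
      ∀ a ∈ P0, ∀ b ∈ N0, a * b = b * a := by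
    intro P0 N0 hP0 hN0 h1 h2 a ha b hb
    have h0 : P0 ⊓ N0 = ⊥ := by
      rw [eq_bot_iff, ← hdisj]; exact inf_le_inf hP0 hN0
    exact commute_of_normalize_of_inf_eq_bot h0 h1 h2 ha hb
  -- `N` does not centralize `P`
  have hnc : ¬ N ≤ Subgroup.centralizer (P : Set G) := by
    intro h
    apply hPn
    rw [← Subgroup.normalizer_eq_top_iff, eq_top_iff, ← hPN]
    exact sup_le Subgroup.le_normalizer (h.trans (Subgroup.centralizer_le_normalizer _))
  have hNnorm : ∀ P0 : Subgroup G, P0 ≤ Subgroup.normalizer (N : Set G) := by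
    intro P0
    rw [Subgroup.normalizer_eq_top_iff.2 hNn]; exact le_top
  -- proper subgroups of `P` centralize `N`
  have hprop : ∀ P0 : Subgroup G, P0 < P → P0 ≤ Subgroup.centralizer (N : Set G) := by
    intro P0 hlt
    have hd0 : P0 ⊓ N = ⊥ := by
      rw [eq_bot_iff, ← hdisj]; exact inf_le_inf hlt.le le_rfl
    have hne : P0 ⊔ N ≠ ⊤ := by
      intro htop
      have h1 := card_mul_relIndex (le_sup_left : P0 ≤ P0 ⊔ N)
      rw [relIndex_sup_of_inf_eq_bot hd0, htop, Subgroup.card_top, ← hcardG] at h1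
      have h2 := card_lt_of_lt hlt
      have hpos : 0 < Nat.card N := Nat.card_pos
      have := Nat.eq_of_mul_eq_mul_right hpos h1
      omega
    have hidx : ¬ p ∣ P0.relIndex (P0 ⊔ N) := by
      rw [relIndex_sup_of_inf_eq_bot hd0]; exact hNp
    have h3 := hH (P0 ⊔ N) P0 hne hlt.le le_sup_left hidx
    have h4 : N ≤ Subgroup.normalizer (P0 : Set G) := le_sup_right.trans h3
    intro a ha
    rw [Subgroup.mem_centralizer_iff]
    intro b hb
    exact (hcomm P0 N hlt.le le_rfl (hNnorm P0) h4 a ha b hb).symm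
  -- a prime `q` with `P Q = G`
  obtain ⟨q, hq, Q, hQP, hQtop⟩ : ∃ q : ℕ, ∃ hq : Fact q.Prime, ∃ Q : Sylow q ↥N,
      P ≤ Subgroup.normalizer (((Q : Subgroup N).map N.subtype : Subgroup G) : Set G) ∧
      P ⊔ (Q : Subgroup N).map N.subtype = ⊤ := by
    by_contra hcon
    push Not at hcon
    apply hnc
    have hall : ∀ q : ℕ, q.Prime →
        (Nat.card N).factorization q ≤
          (Nat.card (N ⊓ Subgroup.centralizer (P : Set G) : Subgroup G)).factorization q := by
      intro q hq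
      have hqF : Fact q.Prime := ⟨hq⟩
      obtain ⟨Q, hQ⟩ := Cfsg.Agent.S3749.exists_invariant_sylow q P N hP hNp
      have hne := hcon q hqF Q hQ
      have hQN : (Q : Subgroup N).map N.subtype ≤ N := Subgroup.map_subtype_le _
      have hidx : ¬ p ∣ P.relIndex (P ⊔ (Q : Subgroup N).map N.subtype) := fun hd =>
        hPidx (hd.trans (Subgroup.relIndex_dvd_index_of_le le_sup_left))
      have h3 := hH _ P hne le_rfl le_sup_left hidx
      have h4 : (Q : Subgroup N).map N.subtype ≤ Subgroup.normalizer (P : Set G) :=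
        le_sup_right.trans h3
      have h5 : (Q : Subgroup N).map N.subtype ≤ N ⊓ Subgroup.centralizer (P : Set G) := by
        apply le_inf hQN
        intro b hb
        rw [Subgroup.mem_centralizer_iff]
        intro a ha
        exact hcomm P _ le_rfl hQN hQ h4 a ha b hb
      have h6 : Nat.card ((Q : Subgroup N).map N.subtype : Subgroup G) =
          q ^ (Nat.card N).factorization q := by
        rw [Subgroup.card_map_of_injective N.subtype_injective]
        exact Q.card_eq_multiplicity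
      have h7 := Subgroup.card_dvd_of_le h5
      rw [h6] at h7
      exact (Nat.Prime.pow_dvd_iff_le_factorization hq Nat.card_pos.ne').1 h7
    have hdvd : Nat.card N ∣ Nat.card (N ⊓ Subgroup.centralizer (P : Set G) : Subgroup G) :=
      (Nat.factorization_prime_le_iff_dvd Nat.card_pos.ne' Nat.card_pos.ne').1 hall
    have heq : N ⊓ Subgroup.centralizer (P : Set G) = N :=
      Subgroup.eq_of_le_of_card_ge inf_le_left (Nat.le_of_dvd Nat.card_pos hdvd)
    rw [← heq]; exact inf_le_right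
  -- `N = Q`
  have hNQ : (Q : Subgroup N).map N.subtype = N := by
    apply le_antisymm (Subgroup.map_subtype_le _)
    intro n hn
    have hmem : n ∈ ((P ⊔ (Q : Subgroup N).map N.subtype : Subgroup G) : Set G) := by
      rw [hQtop]; trivial
    rw [Subgroup.coe_mul_of_left_le_normalizer_right _ _ hQP] at hmem
    obtain ⟨a, ha, b, hb, hab⟩ := hmem
    have hbN : b ∈ N := Subgroup.map_subtype_le _ hb
    have haN : a ∈ N := by
      have : a = n * b⁻¹ := by rw [← hab]; group
      rw [this]; exact N.mul_mem hn (N.inv_mem hbN)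
    have ha1 : a = 1 := by
      have : a ∈ P ⊓ N := ⟨ha, haN⟩
      rwa [hdisj, Subgroup.mem_bot] at this
    have hnb : n = b := by
      have : a * b = n := hab
      rw [ha1, one_mul] at this
      exact this.symm
    rw [hnb]; exact hb
  have hNq : IsPGroup q N := hNQ ▸ (Q.isPGroup'.map N.subtype)
  have hqp : q ≠ p := by
    rintro rfl
    apply hNp
    obtain ⟨k, hk⟩ := hNq.exists_card_eq
    have hk0 : k ≠ 0 := by
      intro hk0
      rw [hk0, pow_zero] at hk
      exact hNbot (Subgroup.card_eq_one.1 hk)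
    rw [hk]; exact dvd_pow_self q hk0
  have hel := isElementaryAbelian_of_minimal_normal N hNq hNmin
  refine ⟨q, hq.out, hqp, hel, ?_⟩
  -- generator
  have hPc : ¬ P ≤ Subgroup.centralizer (N : Set G) := fun h =>
    hnc (Subgroup.le_centralizer_iff.1 h)
  obtain ⟨x, hxP, hxc⟩ := SetLike.not_le_iff_exists.1 hPc
  refine ⟨x, hxP, ?_, hxc, hprop⟩
  by_contra hne
  have hle : Subgroup.zpowers x ≤ P := (Subgroup.zpowers_le).2 hxP
  exact hxc (hprop _ (lt_of_le_of_ne hle hne) (Subgroup.mem_zpowers x))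

/-- final step: from `|P| = p` to the orders -/
theorem minNonPClosed_final [Finite G] {p q : ℕ} [hp : Fact p.Prime] (hq : q.Prime) (hqp : q ≠ p)
    (P N : Subgroup G) [hNn : N.Normal] (hPc : Nat.card P = p) (hdisj : P ⊓ N = ⊥)
    (hPN : P ⊔ N = ⊤) (hPn : ¬ P.Normal) (hel : Cfsg.IsElementaryAbelian q N)
    (hNmin : ∀ B : Subgroup G, B.Normal → B ≤ N → B = ⊥ ∨ B = N) :
    Nat.card G = p * q ^ orderOf (q : ZMod p) ∧ Nat.card N = q ^ orderOf (q : ZMod p) := by
  have hcardG : Nat.card P * Nat.card N = Nat.card G := by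
    have h1 := card_mul_relIndex (le_sup_left : P ≤ P ⊔ N)
    rw [relIndex_sup_of_inf_eq_bot hdisj, hPN, Subgroup.card_top] at h1
    exact h1
  have hidx : N.index = p := by
    have h1 := N.card_mul_index
    rw [← hcardG, hPc, mul_comm] at h1
    have hpos : 0 < Nat.card N := Nat.card_pos
    exact Nat.eq_of_mul_eq_mul_right hpos h1
  have hna : ¬ IsMulCommutative G := by
    intro h
    apply hPn
    refine ⟨fun a ha g => ?_⟩
    have : g * a * g⁻¹ = a := by
      rw [h.is_comm.comm g a]; group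
    rw [this]; exact ha
  have h1 := (Cfsg.Agent.S3869.main hq hqp hna N hel hidx hNmin).1
  refine ⟨?_, h1⟩
  rw [← hcardG, hPc, h1]

end Cfsg.Agent.Lib.H19
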