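import Mathlib
import Cfsg.Prelude.Def_Local

/-!
# S3797 (solvable groups with one class of involutions): the cut (helper19, architect)

Paper proof: board #9612.  `T` = "if `O(G) = 1` then the Sylow 2-subgroup is normal", proved by strong
induction on `|G|`; S3797 follows by passing to `G ⧸ O(G)`.

All pieces are `Prop`-valued `def`s (`…Stmt`); a piece is a theorem `x : XStmt.{u}`.  The assemblies
`t_of` and `main_of` are in `S3797Asm.lean`.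
-/

set_option autoImplicit false

namespace Cfsg.Agent.Lib.H19.S3797

universe u

/-- hypotheses of Theorem T -/
def THyp (G : Type u) [Group G] : Prop :=
  Group.IsSolvable G ∧
  (∀ N : Subgroup G, N.Normal → Odd (Nat.card N) → N = ⊥) ∧
  (∀ x y : G, x ≠ 1 → x ^ 2 = 1 → y ≠ 1 → y ^ 2 = 1 → IsConj x y) ∧
  (∃ x y : G, x ≠ y ∧ x ≠ 1 ∧ x ^ 2 = 1 ∧ y ≠ 1 ∧ y ^ 2 = 1)

/-- **Theorem T**: `O(G) = 1`, solvable, one class of involutions, at least two involutions ⇒ the Sylow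
2-subgroups are normal. -/
def TStmt : Prop :=
  ∀ (G : Type u) [Group G] [Finite G], THyp G → ∀ S : Sylow 2 G, (S : Subgroup G).Normal

/-- the induction hypothesis of Theorem T at `G` -/
def IH (G : Type u) [Group G] : Prop :=
  ∀ (H : Type u) [Group H] [Finite H], Nat.card H < Nat.card G → THyp H →
    ∀ S : Sylow 2 H, (S : Subgroup H).Normal

/-- the frame: `Q = O_2(G)` is self-centralising, `V = Ω_1(Z(Q))` is the set of all `x` with `x² = 1`,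
`G` is transitive on `V ∖ 1` and `V` has at least two involutions. -/
structure Frame {G : Type u} [Group G] (Q V : Subgroup G) : Prop where
  Qn : Q.Normal
  Q2 : IsPGroup 2 Q
  Qmax : ∀ P : Subgroup G, P.Normal → IsPGroup 2 P → P ≤ Q
  cent : Subgroup.centralizer (Q : Set G) ≤ Q
  Vn : V.Normal
  VQ : V ≤ Q
  Vmem : ∀ x : G, x ∈ V ↔ x ^ 2 = 1
  Vcen : ∀ v ∈ V, ∀ q ∈ Q, q * v = v * q
  trans : ∀ v w : G, v ∈ V → w ∈ V → v ≠ 1 → w ≠ 1 → ∃ g : G, g * v * g⁻¹ = w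
  four : ∃ x y : G, x ≠ y ∧ x ≠ 1 ∧ x ^ 2 = 1 ∧ y ≠ 1 ∧ y ^ 2 = 1

/-- (FRAME) steps (1) of the proof: the frame exists. -/
def FrameStmt : Prop :=
  ∀ (G : Type u) [Group G] [Finite G], THyp G → ∃ Q V : Subgroup G, Frame Q V

/-- (IDX2) Huppert (S3360): if `|G : C_G(V)|` is even then `G` has a normal subgroup of index 2. -/
def Idx2Stmt : Prop :=
  ∀ (G : Type u) [Group G] [Finite G], Group.IsSolvable G → ∀ Q V : Subgroup G, Frame Q V →
    Even (Subgroup.centralizer (V : Set G)).index → ∃ G1 : Subgroup G, G1.Normal ∧ G1.index = 2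

/-- (DESC) step (2): a normal subgroup of index 2 and the induction hypothesis give `S ⊴ G`. -/
def DescStmt : Prop :=
  ∀ (G : Type u) [Group G] [Finite G], THyp G → IH G → ∀ Q V : Subgroup G, Frame Q V →
    ∀ G1 : Subgroup G, G1.Normal → G1.index = 2 → ∀ S : Sylow 2 G, (S : Subgroup G).Normal

/-- (E0) step (3): if `S` centralises `V`, an odd-order subgroup `E` of `N_G(S)` is transitive on
`V ∖ 1` and has no fixed point on `S`. -/
def E0Stmt : Prop :=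
  ∀ (G : Type u) [Group G] [Finite G] (Q V : Subgroup G), Frame Q V → ∀ S : Sylow 2 G,
    (S : Subgroup G) ≤ Subgroup.centralizer (V : Set G) →
    ∃ E : Subgroup G, Odd (Nat.card E) ∧ (∀ e ∈ E, ∀ s ∈ (S : Subgroup G), e * s * e⁻¹ ∈ (S : Subgroup G)) ∧
      (∀ v w : G, v ∈ V → w ∈ V → v ≠ 1 → w ≠ 1 → ∃ e ∈ E, e * v * e⁻¹ = w) ∧
      (∀ s ∈ (S : Subgroup G), (∀ e ∈ E, e * s * e⁻¹ = s) → s = 1)

/-- a critical subgroup `K` of `Q`, seen inside `G` -/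
structure Crit {G : Type u} [Group G] (Q K : Subgroup G) : Prop where
  KQ : K ≤ Q
  Kn : K.Normal
  sqc : ∀ k ∈ K, ∀ c ∈ K, k ^ 2 * c = c * k ^ 2
  comc : ∀ a ∈ K, ∀ b ∈ K, ∀ c ∈ K, (a * b * a⁻¹ * b⁻¹) * c = c * (a * b * a⁻¹ * b⁻¹)
  KQc : ∀ k ∈ K, ∀ q ∈ Q, ∀ c ∈ K, (q * k * q⁻¹ * k⁻¹) * c = c * (q * k * q⁻¹ * k⁻¹)
  selfc : ∀ q ∈ Q, (∀ k ∈ K, q * k = k * q) → q ∈ K
  faith : ∀ y : G, Odd (orderOf y) → (∀ k ∈ K, y * k * y⁻¹ = k) → ∀ q ∈ Q, y * q * y⁻¹ = q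

/-- (CRIT) step (4): S0093 + S0121 inside `G`. -/
def CritStmt : Prop :=
  ∀ (G : Type u) [Group G] [Finite G] (Q : Subgroup G), Q.Normal → IsPGroup 2 Q →
    ∃ K : Subgroup G, Crit Q K

/-- conclusion of the main lemma for `(V, K, S)` -/
def MLConcl {G : Type u} [Group G] (V K S : Subgroup G) : Prop :=
  ∀ s ∈ S, ∀ k ∈ K, s * k * s⁻¹ * k⁻¹ ∈ V

/-- **(ML) the main lemma**, group form: `V ≤ Z(K)`, `K/V` of exponent 2, `V` = all `x` of `G` with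
`x² = 1`; `S` a 2-group centralising `V`; `E` of odd order normalising `S`, transitive on `V ∖ 1`, without
fixed points on `S`.  Then `[K, S] ≤ V`. -/
def MLStmt : Prop :=
  ∀ (G : Type u) [Group G] [Finite G] (V K S E : Subgroup G), V.Normal → K.Normal → V ≤ K →
    (∀ x : G, x ∈ V ↔ x ^ 2 = 1) → (∀ v ∈ V, ∀ k ∈ K, k * v = v * k) → (∀ k ∈ K, k ^ 2 ∈ V) →
    IsPGroup 2 S → (∀ s ∈ S, ∀ v ∈ V, s * v = v * s) → Odd (Nat.card E) →
    (∀ e ∈ E, ∀ s ∈ S, e * s * e⁻¹ ∈ S) →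
    (∀ v w : G, v ∈ V → w ∈ V → v ≠ 1 → w ≠ 1 → ∃ e ∈ E, e * v * e⁻¹ = w) →
    (∀ s ∈ S, (∀ e ∈ E, e * s * e⁻¹ = s) → s = 1) → MLConcl V K S

/-- a `G`-invariant series of `K` all of whose factors are centralised by `S` -/
def HasSeries {G : Type u} [Group G] (K S : Subgroup G) : Prop :=
  ∃ (r : ℕ) (L : ℕ → Subgroup G), L 0 = ⊥ ∧ L r = K ∧ (∀ i, (L i).Normal) ∧ (∀ i, L i ≤ L (i + 1)) ∧
    ∀ s ∈ S, ∀ i, i < r → ∀ k ∈ L (i + 1), s * k * s⁻¹ * k⁻¹ ∈ L i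

/-- (SER) step (5): the series `L j = {k ∈ K | k ^ 2 ^ j = 1}` of `K`; the factor `L 2 / L 1` needs the
main lemma for `K1 = L 2`. -/
def SerStmt : Prop :=
  ∀ (G : Type u) [Group G] [Finite G] (Q V K : Subgroup G), Frame Q V → Crit Q K →
    ∀ S : Subgroup G, (∀ s ∈ S, ∀ v ∈ V, s * v = v * s) →
    (∀ K1 : Subgroup G, K1.Normal → V ≤ K1 → K1 ≤ K → (∀ k ∈ K1, k ^ 2 ∈ V) → MLConcl V K1 S) →
    HasSeries K S

/-- (FIN) step (6): a series centralised by `S` forces `S ≤ Q`. -/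
def FinStmt : Prop :=
  ∀ (G : Type u) [Group G] [Finite G] (Q V K : Subgroup G), Frame Q V → Crit Q K →
    ∀ S : Sylow 2 G, (S : Subgroup G) ≤ Subgroup.centralizer (V : Set G) →
    HasSeries K (S : Subgroup G) → (S : Subgroup G) ≤ Q

/-! ### From Theorem T to S3797 -/

/-- (RED-A) pass to `G ⧸ N`, `N` a maximal normal subgroup of odd order. -/
def RedAStmt : Prop :=
  ∀ (G : Type u) [Group G] [Finite G], Group.IsSolvable G → ∀ S : Sylow 2 G,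
    (∃ x y : G, x ∈ (S : Subgroup G) ∧ y ∈ (S : Subgroup G) ∧ x ≠ y ∧ x ≠ 1 ∧ x ^ 2 = 1 ∧ y ≠ 1 ∧ y ^ 2 = 1) →
    (∀ x y : G, x ≠ 1 → x ^ 2 = 1 → y ≠ 1 → y ^ 2 = 1 → IsConj x y) →
    ∃ (N : Subgroup G) (_ : N.Normal), Odd (Nat.card N) ∧ THyp (G ⧸ N)

/-- (RED-B) `N` of odd order, `G ⧸ N` with normal Sylow 2-subgroups ⇒ 2-length at most 1. -/
def RedBStmt : Prop :=
  ∀ (G : Type u) [Group G] [Finite G] (N : Subgroup G) [N.Normal], Odd (Nat.card N) →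
    (∀ T : Sylow 2 (G ⧸ N), (T : Subgroup (G ⧸ N)).Normal) → Cfsg.PLengthLE 2 1 G

/-- (RED-C) the group of automorphisms of `S` induced by `N_G(S)`-free argument: `S ≅ SN/N ⊴ G/N`. -/
def RedCStmt : Prop :=
  ∀ (G : Type u) [Group G] [Finite G] (N : Subgroup G) [N.Normal], Group.IsSolvable G → Odd (Nat.card N) →
    (∀ T : Sylow 2 (G ⧸ N), (T : Subgroup (G ⧸ N)).Normal) →
    (∀ x y : G, x ≠ 1 → x ^ 2 = 1 → y ≠ 1 → y ^ 2 = 1 → IsConj x y) → ∀ S : Sylow 2 G,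
    ∃ Y : Subgroup (MulAut ↥(S : Subgroup G)), Group.IsSolvable Y ∧
      ∀ x y : ↥(S : Subgroup G), x ≠ 1 → x ^ 2 = 1 → y ≠ 1 → y ^ 2 = 1 → ∃ a ∈ Y, a x = y

/-- (HOMO) an abelian 2-group with a group of automorphisms transitive on its involutions is homocyclic. -/
def HomoStmt : Prop :=
  ∀ (A : Type u) [Group A] [Finite A], IsPGroup 2 A → (∀ a b : A, a * b = b * a) →
    (∃ Y : Subgroup (MulAut A), ∀ x y : A, x ≠ 1 → x ^ 2 = 1 → y ≠ 1 → y ^ 2 = 1 → ∃ a ∈ Y, a x = y) →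
    ∃ m r : ℕ, Nonempty (A ≃* (Fin r → Multiplicative (ZMod (2 ^ m))))

end Cfsg.Agent.Lib.H19.S3797
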