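import Mathlib
import Cfsg.Agent.Lib.H5.S3797MLFinal

/-!
# S3776: the main lemma of S3797 (`MLStmt`) for a group `E` of odd order ACTING on a 2-group `G`

`ml_act`: `G` a finite 2-group, `φ : E →* MulAut G` with `|E|` odd, `V = {x | x² = 1}` central, `E` transitive
on `V ∖ 1` and without fixed points on `G`; `K ⊴ G` an `E`-invariant subgroup with `V ≤ K`, `k² ∈ V` for all
`k ∈ K`.  Then `[K, G] ≤ V`.  Proof: the landed `MLStmt` in `Γ = G ⋊[φ] E` with `S = inl G`, `E = inr E`.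
-/

set_option autoImplicit false

namespace Cfsg.Agent.Lib.H19.S3776MLAct

universe u

open SemidirectProduct

/-- an element of `G ⋊[φ] E` (`|E|` odd) with square `1` lies in `inl G` -/
theorem right_eq_one_of_sq {G E : Type u} [Group G] [Group E] [Finite E] (φ : E →* MulAut G)
    (hE : Odd (Nat.card E)) (x : G ⋊[φ] E) (hx : x ^ 2 = 1) : x.right = 1 := by
  have h2 : x.right ^ 2 = 1 := by
    have := congrArg SemidirectProduct.right hx
    simpa [pow_two] using this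
  have hdvd : orderOf x.right ∣ 2 := orderOf_dvd_of_pow_eq_one h2
  have hdvd' : orderOf x.right ∣ Nat.card E := orderOf_dvd_natCard _
  have hodd : Odd (orderOf x.right) := hE.of_dvd_nat hdvd'
  have : orderOf x.right = 1 := by
    rcases (Nat.dvd_prime Nat.prime_two).1 hdvd with h | h
    · exact h
    · rw [h] at hodd; exact absurd hodd (by decide)
  exact orderOf_eq_one_iff.1 this

/-- no fixed points: from transitivity on the involutions and two different involutions -/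
theorem fix_trivial {G E : Type u} [Group G] [Finite G] [Group E] (φ : E →* MulAut G)
    (hG : IsPGroup 2 G)
    (htr : ∀ v w : G, v ^ 2 = 1 → w ^ 2 = 1 → v ≠ 1 → w ≠ 1 → ∃ e : E, φ e v = w)
    (hfour : ∃ x y : G, x ≠ y ∧ x ≠ 1 ∧ x ^ 2 = 1 ∧ y ≠ 1 ∧ y ^ 2 = 1) :
    ∀ g : G, (∀ e : E, φ e g = g) → g = 1 := by
  intro g hg
  by_contra hne
  -- an involution in ⟨g⟩
  obtain ⟨k, hk⟩ := hG g
  have hk0 : k ≠ 0 := by
    rintro rfl
    exact hne (by simpa using hk)
  -- least j with g^(2^j) = 1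
  classical
  have hex : ∃ j, g ^ (2 ^ j) = 1 := ⟨k, hk⟩
  set j := Nat.find hex with hj
  have hjspec : g ^ (2 ^ j) = 1 := Nat.find_spec hex
  have hj0 : j ≠ 0 := by
    intro h0
    rw [h0] at hjspec
    exact hne (by simpa using hjspec)
  obtain ⟨i, hi⟩ := Nat.exists_eq_succ_of_ne_zero hj0
  have hmin : g ^ (2 ^ i) ≠ 1 := by
    have : i < j := by omega
    exact Nat.find_min hex this
  set v := g ^ (2 ^ i) with hv
  have hv2 : v ^ 2 = 1 := by
    rw [hv, ← pow_mul, ← pow_succ, ← Nat.succ_eq_add_one, ← hi]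
    exact hjspec
  have hvfix : ∀ e : E, φ e v = v := by
    intro e
    rw [hv, map_pow, hg e]
  obtain ⟨x, y, hxy, hx1, hx2, hy1, hy2⟩ := hfour
  -- some involution w ≠ v
  obtain ⟨w, hw1, hw2, hwv⟩ : ∃ w : G, w ≠ 1 ∧ w ^ 2 = 1 ∧ w ≠ v := by
    by_cases hxv : x = v
    · exact ⟨y, hy1, hy2, fun h => hxy (hxv.trans h.symm)⟩
    · exact ⟨x, hx1, hx2, hxv⟩
  obtain ⟨e, he⟩ := htr v w hv2 hw2 hmin hw1
  exact hwv (he.symm.trans (hvfix e))

/-- **the main lemma for an action** -/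
theorem ml_act {G E : Type u} [Group G] [Finite G] [Group E] [Finite E] (φ : E →* MulAut G)
    (hE : Odd (Nat.card E)) (hG : IsPGroup 2 G) (V K : Subgroup G)
    (hVmem : ∀ x : G, x ∈ V ↔ x ^ 2 = 1) (hVc : ∀ v ∈ V, ∀ g : G, g * v = v * g) (hVK : V ≤ K)
    (hKn : K.Normal) (hKE : ∀ e : E, ∀ k ∈ K, φ e k ∈ K) (hsq : ∀ k ∈ K, k ^ 2 ∈ V)
    (htr : ∀ v w : G, v ∈ V → w ∈ V → v ≠ 1 → w ≠ 1 → ∃ e : E, φ e v = w)
    (hfix : ∀ g : G, (∀ e : E, φ e g = g) → g = 1) :
    ∀ g : G, ∀ k ∈ K, g * k * g⁻¹ * k⁻¹ ∈ V := by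
  classical
  -- the ambient group
  let Γ := G ⋊[φ] E
  haveI : Finite Γ := Finite.of_equiv _ (SemidirectProduct.equivProd (φ := φ)).symm
  let V' : Subgroup Γ := V.map (inl : G →* Γ)
  let K' : Subgroup Γ := K.map (inl : G →* Γ)
  let S' : Subgroup Γ := (inl : G →* Γ).range
  let E' : Subgroup Γ := (inr : E →* Γ).range
  -- E preserves V
  have hVE : ∀ e : E, ∀ v ∈ V, φ e v ∈ V := by
    intro e v hv
    rw [hVmem] at hv ⊢
    rw [← map_pow, hv, map_one]
  -- conjugation formulas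
  have conj_inl : ∀ (x : Γ) (n : G), x * inl n * x⁻¹ = inl (x.left * φ x.right n * x.left⁻¹) := by
    intro x n
    have hx : x = inl x.left * inr x.right := (inl_left_mul_inr_right x).symm
    have h1 : inr x.right * inl n * (inr x.right : Γ)⁻¹ = inl (φ x.right n) := by
      rw [← map_inv]; exact (inl_aut x.right n).symm
    calc x * inl n * x⁻¹
        = (inl x.left * inr x.right) * inl n * (inl x.left * inr x.right : Γ)⁻¹ := by rw [← hx]
      _ = inl x.left * (inr x.right * inl n * (inr x.right : Γ)⁻¹) * (inl x.left : Γ)⁻¹ := by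
          simp only [mul_inv_rev, mul_assoc]
      _ = inl (x.left * φ x.right n * x.left⁻¹) := by
          rw [h1, map_mul, map_mul, map_inv]
  have hVn : V'.Normal := by
    constructor
    rintro _ ⟨v, hv, rfl⟩ x
    rw [conj_inl]
    refine ⟨_, ?_, rfl⟩
    have h1 : φ x.right v ∈ V := hVE _ v hv
    have : x.left * φ x.right v * x.left⁻¹ = φ x.right v := by
      rw [hVc _ h1 x.left, mul_inv_cancel_right]
    rw [this]; exact h1
  have hKn' : K'.Normal := by
    constructor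
    rintro _ ⟨k, hk, rfl⟩ x
    rw [conj_inl]
    exact ⟨_, hKn.conj_mem _ (hKE _ k hk) _, rfl⟩
  have hVK' : V' ≤ K' := Subgroup.map_mono hVK
  have hVmem' : ∀ x : Γ, x ∈ V' ↔ x ^ 2 = 1 := by
    intro x
    constructor
    · rintro ⟨v, hv, rfl⟩
      rw [← map_pow, (hVmem v).1 hv, map_one]
    · intro hx
      have hr : x.right = 1 := right_eq_one_of_sq φ hE x hx
      have hxl : x = inl x.left := by
        have := (inl_left_mul_inr_right x).symm
        rw [hr, map_one, mul_one] at this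
        exact this
      refine ⟨x.left, (hVmem _).2 ?_, hxl.symm⟩
      have h2 : (inl (x.left ^ 2) : Γ) = inl 1 := by
        rw [map_pow, ← hxl, hx, map_one]
      exact inl_injective h2
  have hVcK' : ∀ v ∈ V', ∀ k ∈ K', k * v = v * k := by
    rintro _ ⟨v, hv, rfl⟩ _ ⟨k, _, rfl⟩
    rw [← map_mul, ← map_mul, hVc v hv k]
  have hsq' : ∀ k ∈ K', k ^ 2 ∈ V' := by
    rintro _ ⟨k, hk, rfl⟩
    exact ⟨k ^ 2, hsq k hk, by rw [map_pow]⟩
  have hS2 : IsPGroup 2 S' := by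
    rintro ⟨_, g, rfl⟩
    obtain ⟨n, hn⟩ := hG g
    refine ⟨n, ?_⟩
    apply Subtype.ext
    simp only [Subgroup.coe_pow, Subgroup.coe_one]
    rw [← map_pow, hn, map_one]
  have hSV : ∀ s ∈ S', ∀ v ∈ V', s * v = v * s := by
    rintro _ ⟨g, rfl⟩ _ ⟨v, hv, rfl⟩
    rw [← map_mul, ← map_mul, hVc v hv g]
  have hEodd : Odd (Nat.card E') := by
    have : Nat.card E' = Nat.card E :=
      Nat.card_congr (MonoidHom.ofInjective (inr_injective (φ := φ))).toEquiv.symm
    rw [this]; exact hE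
  have hES : ∀ e ∈ E', ∀ s ∈ S', e * s * e⁻¹ ∈ S' := by
    rintro _ ⟨e, rfl⟩ _ ⟨g, rfl⟩
    exact ⟨φ e g, by rw [inl_aut, map_inv]⟩
  have htr' : ∀ v w : Γ, v ∈ V' → w ∈ V' → v ≠ 1 → w ≠ 1 → ∃ e ∈ E', e * v * e⁻¹ = w := by
    rintro _ _ ⟨v, hv, rfl⟩ ⟨w, hw, rfl⟩ hv1 hw1
    have hv1' : v ≠ 1 := fun h => hv1 (by rw [h, map_one])
    have hw1' : w ≠ 1 := fun h => hw1 (by rw [h, map_one])
    obtain ⟨e, he⟩ := htr v w hv hw hv1' hw1'
    exact ⟨inr e, ⟨e, rfl⟩, by rw [← map_inv, ← inl_aut, he]⟩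
  have hfix' : ∀ s ∈ S', (∀ e ∈ E', e * s * e⁻¹ = s) → s = 1 := by
    rintro _ ⟨g, rfl⟩ h
    have : g = 1 := by
      apply hfix
      intro e
      have := h (inr e) ⟨e, rfl⟩
      rw [← map_inv, ← inl_aut] at this
      exact inl_injective this
    rw [this, map_one]
  have key := Cfsg.Agent.Lib.H5.S3797MLFinal.ml.{u} Γ V' K' S' E' hVn hKn' hVK' hVmem' hVcK' hsq'
    hS2 hSV hEodd hES htr' hfix'
  intro g k hk
  have := key (inl g) ⟨g, rfl⟩ (inl k) ⟨k, hk, rfl⟩
  rw [← map_inv, ← map_inv, ← map_mul, ← map_mul, ← map_mul] at this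
  obtain ⟨v, hv, hveq⟩ := this
  rw [inl_injective hveq] at hv
  exact hv

end Cfsg.Agent.Lib.H19.S3776MLAct
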