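import Cfsg.Agent.Lib.H19.SHODDP1
import Cfsg.Agent.Lib.H24.ShIDefs

/-!
# S3016 (I), piece I-KEY in helper24's exact shape (helper19)

`key_conj : EC H Y → KeyStmt H Y` (wrapper of `Cfsg.Agent.Lib.H19.SHODD.key_conj`).
-/

set_option autoImplicit false

universe u

namespace Cfsg.Agent.Lib.H19.ShI

open Cfsg.Agent.Lib.H24.ShI Cfsg.Agent.Lib.H24.Glaub

variable {G : Type u} [Group G]

theorem key_conj [Finite G] {p : ℕ} [Fact p.Prime] (hp2 : p ≠ 2) (H Y : Subgroup G)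
    (hHp : IsPGroup p H) (hHab : ∀ a ∈ H, ∀ b ∈ H, a * b = b * a) (hYp : ¬ p ∣ Nat.card Y)
    (hnorm : ∀ h ∈ H, ∀ y ∈ Y, h * y * h⁻¹ ∈ Y) (hEC : EC H Y) : KeyStmt H Y := by
  intro x hx y hy
  have hEC' : (H ⊔ H.map (MulAut.conj y).toMonoidHom) ⊓ Y ⊓ Subgroup.centralizer (H : Set G) = ⊥ := by
    rw [eq_bot_iff]
    intro z hz
    rw [Subgroup.mem_inf, Subgroup.mem_inf] at hz
    rw [Subgroup.mem_bot]
    exact hEC y hy z hz.1.1 hz.1.2 (fun h hh => Subgroup.mem_centralizer_iff.mp hz.2 h hh)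
  obtain ⟨u, hu, w, _, hw, h⟩ :=
    Cfsg.Agent.Lib.H19.SHODD.key_conj hp2 Y H hHp hHab hnorm hYp x hx y hy hEC'
  exact ⟨u, hu, w, hw, h⟩

end Cfsg.Agent.Lib.H19.ShI
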