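import Mathlib
import Cfsg.Agent.Lib.H1.QuotientBasic

/-!
# The section `N_X(N)/N` and transport of subgroups of `X` to and from it

`bar N S` is the image of `S ∩ N_X(N)` in `N_X(N)/N`, `lift N T` is the full preimage in `X` of a
subgroup `T` of `N_X(N)/N`.
-/

set_option autoImplicit false

namespace Cfsg.Agent.Lib.H19

universe u

variable {X : Type u} [Group X]

/-- `N_X(N)/N` -/
abbrev NQ (N : Subgroup X) : Type u :=
  ↥(Subgroup.normalizer (N : Set X)) ⧸ N.subgroupOf (Subgroup.normalizer (N : Set X))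

/-- the projection `N_X(N) → N_X(N)/N` -/
def nqMk (N : Subgroup X) : ↥(Subgroup.normalizer (N : Set X)) →* NQ N :=
  QuotientGroup.mk' _

theorem nqMk_surjective (N : Subgroup X) : Function.Surjective (nqMk N) :=
  QuotientGroup.mk'_surjective _

/-- image of `S ∩ N_X(N)` in `N_X(N)/N` -/
def bar (N S : Subgroup X) : Subgroup (NQ N) :=
  (S.subgroupOf (Subgroup.normalizer (N : Set X))).map (nqMk N)

/-- full preimage in `X` of a subgroup of `N_X(N)/N` -/
def lift (N : Subgroup X) (T : Subgroup (NQ N)) : Subgroup X :=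
  (T.comap (nqMk N)).map (Subgroup.normalizer (N : Set X)).subtype

variable {N S S' A : Subgroup X} {T T' : Subgroup (NQ N)}

theorem mem_lift {x : X} :
    x ∈ lift N T ↔ ∃ h : x ∈ Subgroup.normalizer (N : Set X), nqMk N ⟨x, h⟩ ∈ T := by
  constructor
  · rintro ⟨y, hy, rfl⟩
    exact ⟨y.2, hy⟩
  · rintro ⟨h, hx⟩
    exact ⟨⟨x, h⟩, hx, rfl⟩

theorem mem_bar {y : NQ N} :
    y ∈ bar N S ↔ ∃ x : X, ∃ h : x ∈ Subgroup.normalizer (N : Set X), x ∈ S ∧ nqMk N ⟨x, h⟩ = y := by
  constructor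
  · rintro ⟨x, hx, rfl⟩
    exact ⟨x.1, x.2, Subgroup.mem_subgroupOf.1 hx, rfl⟩
  · rintro ⟨x, h, hxS, rfl⟩
    exact ⟨⟨x, h⟩, Subgroup.mem_subgroupOf.2 hxS, rfl⟩

theorem nqMk_mem_bar {x : X} (h : x ∈ Subgroup.normalizer (N : Set X)) (hx : x ∈ S) :
    nqMk N ⟨x, h⟩ ∈ bar N S := mem_bar.2 ⟨x, h, hx, rfl⟩

theorem nqMk_eq_one_iff {x : X} (h : x ∈ Subgroup.normalizer (N : Set X)) :
    nqMk N ⟨x, h⟩ = 1 ↔ x ∈ N := by
  unfold nqMk
  rw [QuotientGroup.mk'_apply, QuotientGroup.eq_one_iff, Subgroup.mem_subgroupOf]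

theorem le_lift (N : Subgroup X) (T : Subgroup (NQ N)) : N ≤ lift N T := by
  intro x hx
  refine mem_lift.2 ⟨Subgroup.le_normalizer hx, ?_⟩
  rw [(nqMk_eq_one_iff _).2 hx]; exact T.one_mem

theorem lift_le_normalizer (N : Subgroup X) (T : Subgroup (NQ N)) :
    lift N T ≤ Subgroup.normalizer (N : Set X) := by
  intro x hx
  obtain ⟨h, -⟩ := mem_lift.1 hx
  exact h

theorem bar_mono (h : S ≤ S') : bar N S ≤ bar N S' := by
  intro y hy
  obtain ⟨x, hx, hxS, rfl⟩ := mem_bar.1 hy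
  exact nqMk_mem_bar hx (h hxS)

theorem lift_mono (h : T ≤ T') : lift N T ≤ lift N T' := by
  intro x hx
  obtain ⟨hx', hxT⟩ := mem_lift.1 hx
  exact mem_lift.2 ⟨hx', h hxT⟩

theorem lift_bar (hS : S ≤ Subgroup.normalizer (N : Set X)) : lift N (bar N S) = S ⊔ N := by
  apply le_antisymm
  · intro x hx
    obtain ⟨hx', hxT⟩ := mem_lift.1 hx
    obtain ⟨s, hs, hsS, hsx⟩ := mem_bar.1 hxT
    have h1 : nqMk N (⟨s, hs⟩⁻¹ * ⟨x, hx'⟩) = 1 := by
      rw [map_mul, map_inv, hsx, inv_mul_cancel]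
    have h2 : s⁻¹ * x ∈ N := (nqMk_eq_one_iff (N := N)
      ((Subgroup.normalizer (N : Set X)).mul_mem
        ((Subgroup.normalizer (N : Set X)).inv_mem hs) hx')).1 h1
    have : x = s * (s⁻¹ * x) := by group
    rw [this]
    exact Subgroup.mul_mem _ (Subgroup.mem_sup_left hsS) (Subgroup.mem_sup_right h2)
  · apply sup_le
    · intro s hs
      exact mem_lift.2 ⟨hS hs, nqMk_mem_bar (hS hs) hs⟩
    · exact le_lift N _

theorem bar_lift (N : Subgroup X) (T : Subgroup (NQ N)) : bar N (lift N T) = T := by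
  apply le_antisymm
  · intro y hy
    obtain ⟨x, hx, hxL, rfl⟩ := mem_bar.1 hy
    obtain ⟨_, hxT⟩ := mem_lift.1 hxL
    exact hxT
  · intro y hy
    obtain ⟨x, rfl⟩ := nqMk_surjective N y
    exact nqMk_mem_bar x.2 (mem_lift.2 ⟨x.2, hy⟩)

theorem bar_self (N : Subgroup X) : bar N N = ⊥ := by
  rw [eq_bot_iff]
  intro y hy
  obtain ⟨x, hx, hxN, rfl⟩ := mem_bar.1 hy
  rw [Subgroup.mem_bot, nqMk_eq_one_iff]; exact hxN

theorem bar_sup_self (hS : S ≤ Subgroup.normalizer (N : Set X)) : bar N (S ⊔ N) = bar N S := by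
  rw [← lift_bar hS, bar_lift]

theorem card_lift [Finite X] (N : Subgroup X) (T : Subgroup (NQ N)) :
    Nat.card (lift N T) = Nat.card T * Nat.card N := by
  unfold lift
  rw [Subgroup.card_map_of_injective (Subgroup.subtype_injective _)]
  have h1 := Cfsg.Agent.Lib.H1.card_comap_mk' (N.subgroupOf (Subgroup.normalizer (N : Set X))) T
  have h2 : Nat.card (N.subgroupOf (Subgroup.normalizer (N : Set X))) = Nat.card N :=
    Nat.card_congr (Subgroup.subgroupOfEquivOfLe Subgroup.le_normalizer).toEquiv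
  rw [h2] at h1
  exact h1

theorem card_bar_mul [Finite X] (hNS : N ≤ S) (hS : S ≤ Subgroup.normalizer (N : Set X)) :
    Nat.card (bar N S) * Nat.card N = Nat.card S := by
  rw [← card_lift, lift_bar hS, sup_of_le_left hNS]

theorem card_bar_dvd (N S : Subgroup X) : Nat.card (bar N S) ∣ Nat.card S := by
  unfold bar
  refine (Subgroup.card_map_dvd _ _).trans ?_
  have h1 : Nat.card (S.subgroupOf (Subgroup.normalizer (N : Set X))) =
      Nat.card (S ⊓ Subgroup.normalizer (N : Set X) : Subgroup X) := by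
    rw [← Subgroup.subgroupOf_map_subtype,
      Subgroup.card_map_of_injective (Subgroup.subtype_injective _)]
  rw [h1]
  exact Subgroup.card_dvd_of_le inf_le_left

theorem relIndex_lift [Finite X] (h : T ≤ T') : (lift N T).relIndex (lift N T') = T.relIndex T' := by
  have h1 := Subgroup.relIndex_mul_relIndex ⊥ (lift N T) (lift N T') bot_le (lift_mono h)
  have h2 := Subgroup.relIndex_mul_relIndex ⊥ T T' bot_le h
  rw [Subgroup.relIndex_bot_left, Subgroup.relIndex_bot_left, card_lift, card_lift] at h1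
  rw [Subgroup.relIndex_bot_left, Subgroup.relIndex_bot_left] at h2
  have hpos : 0 < Nat.card T * Nat.card N := Nat.mul_pos Nat.card_pos Nat.card_pos
  have : Nat.card T * Nat.card N * (lift N T).relIndex (lift N T') =
      Nat.card T * Nat.card N * T.relIndex T' := by
    rw [h1, ← h2]; ring
  exact Nat.eq_of_mul_eq_mul_left hpos this

theorem nqMk_conj {g x : X} (hg : g ∈ Subgroup.normalizer (N : Set X))
    (hx : x ∈ Subgroup.normalizer (N : Set X)) :
    nqMk N ⟨g * x * g⁻¹, (Subgroup.normalizer (N : Set X)).mul_mem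
      ((Subgroup.normalizer (N : Set X)).mul_mem hg hx)
      ((Subgroup.normalizer (N : Set X)).inv_mem hg)⟩ =
    nqMk N ⟨g, hg⟩ * nqMk N ⟨x, hx⟩ * (nqMk N ⟨g, hg⟩)⁻¹ := by
  rw [← map_inv, ← map_mul, ← map_mul]
  rfl

theorem mem_normalizer_bar [Finite X] {g : X} (hg : g ∈ Subgroup.normalizer (N : Set X))
    (hgS : g ∈ Subgroup.normalizer (S : Set X)) :
    nqMk N ⟨g, hg⟩ ∈ Subgroup.normalizer ((bar N S : Subgroup (NQ N)) : Set (NQ N)) := by
  apply Subgroup.mem_normalizer_fintype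
  intro y hy
  obtain ⟨x, hx, hxS, rfl⟩ := mem_bar.1 hy
  rw [SetLike.mem_coe, ← nqMk_conj hg hx]
  exact nqMk_mem_bar _ ((Subgroup.mem_normalizer_iff.1 hgS x).1 hxS)

theorem mem_normalizer_lift [Finite X] {g : X} (hg : g ∈ Subgroup.normalizer (N : Set X))
    (h : nqMk N ⟨g, hg⟩ ∈ Subgroup.normalizer (T : Set (NQ N))) :
    g ∈ Subgroup.normalizer ((lift N T : Subgroup X) : Set X) := by
  apply Subgroup.mem_normalizer_fintype
  intro x hx
  obtain ⟨hx', hxT⟩ := mem_lift.1 hx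
  rw [SetLike.mem_coe]
  have hm : g * x * g⁻¹ ∈ Subgroup.normalizer (N : Set X) :=
    (Subgroup.normalizer (N : Set X)).mul_mem
      ((Subgroup.normalizer (N : Set X)).mul_mem hg hx')
      ((Subgroup.normalizer (N : Set X)).inv_mem hg)
  refine mem_lift.2 ⟨hm, ?_⟩
  have e : nqMk N ⟨g * x * g⁻¹, hm⟩ =
      nqMk N ⟨g, hg⟩ * nqMk N ⟨x, hx'⟩ * (nqMk N ⟨g, hg⟩)⁻¹ := nqMk_conj hg hx'
  rw [e]
  exact (Subgroup.mem_normalizer_iff.1 h _).1 hxT

theorem bar_le_normalizer_bar [Finite X] (hAS : A ≤ Subgroup.normalizer (S : Set X)) :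
    bar N A ≤ Subgroup.normalizer ((bar N S : Subgroup (NQ N)) : Set (NQ N)) := by
  intro y hy
  obtain ⟨a, ha, haA, rfl⟩ := mem_bar.1 hy
  exact mem_normalizer_bar ha (hAS haA)

theorem le_normalizer_lift [Finite X] (hA : A ≤ Subgroup.normalizer (N : Set X))
    (h : bar N A ≤ Subgroup.normalizer (T : Set (NQ N))) :
    A ≤ Subgroup.normalizer ((lift N T : Subgroup X) : Set X) := by
  intro a ha
  exact mem_normalizer_lift (hA ha) (h (nqMk_mem_bar (hA ha) ha))

theorem isSolvable_bar (N S : Subgroup X) [hs : Group.IsSolvable S] :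
    Group.IsSolvable (bar N S) := by
  have h1 : Group.IsSolvable (S.subgroupOf (Subgroup.normalizer (N : Set X))) := by
    let φ : ↥(S.subgroupOf (Subgroup.normalizer (N : Set X))) →* ↥S :=
      { toFun := fun y => ⟨(y.1 : X), Subgroup.mem_subgroupOf.1 y.2⟩
        map_one' := rfl
        map_mul' := fun _ _ => rfl }
    have hinj : Function.Injective φ := by
      intro a b hab
      have h2 : ((φ a : ↥S) : X) = ((φ b : ↥S) : X) := congrArg Subtype.val hab
      exact Subtype.ext (Subtype.ext h2)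
    exact Group.isSolvable_of_isSolvable_injective hinj
  exact Group.isSolvable_of_surjective ((nqMk N).subgroupMap_surjective _)

end Cfsg.Agent.Lib.H19
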