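import Mathlib
import Cfsg.Prelude.Def_OddOrderLocal

/-!
# `O_π(G)` (helper19): normal, characteristic, a π-group, contains subnormal π-subgroups
-/

set_option autoImplicit false

namespace Cfsg.Agent.Lib.H19

open Cfsg

universe u v

/-- `N` is a π-group: every prime divisor of its order lies in π. -/
def IsPiCard (π : Set ℕ) (n : ℕ) : Prop := ∀ p : ℕ, p.Prime → p ∣ n → p ∈ π

theorem isPiCard_of_dvd {π : Set ℕ} {m n : ℕ} (h : m ∣ n) (hn : IsPiCard π n) : IsPiCard π m :=
  fun p hp hpm => hn p hp (hpm.trans h)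

theorem isPiCard_mul {π : Set ℕ} {m n : ℕ} (hm : IsPiCard π m) (hn : IsPiCard π n) :
    IsPiCard π (m * n) := by
  intro p hp hpmn
  rcases (Nat.Prime.dvd_mul hp).1 hpmn with h | h
  · exact hm p hp h
  · exact hn p hp h

section

variable {G : Type u} [Group G]

instance piCore_normal (π : Set ℕ) : (piCore π G).Normal :=
  Subgroup.sSup_normal _ (fun _ h => h.1)

theorem le_piCore {π : Set ℕ} {N : Subgroup G} (hn : N.Normal)
    (h : ∀ p : ℕ, p.Prime → p ∣ Nat.card N → p ∈ π) : N ≤ piCore π G :=
  le_sSup ⟨hn, h⟩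

theorem piCore_map_equiv_le {G' : Type v} [Group G'] (π : Set ℕ) (e : G ≃* G') :
    (piCore π G).map e.toMonoidHom ≤ piCore π G' := by
  rw [Subgroup.map_le_iff_le_comap]
  apply sSup_le
  rintro N ⟨hNn, hN⟩
  rw [← Subgroup.map_le_iff_le_comap]
  apply le_piCore (hNn.map _ e.surjective)
  have hc : Nat.card (N.map e.toMonoidHom) = Nat.card N :=
    (Nat.card_congr (N.equivMapOfInjective e.toMonoidHom e.injective).toEquiv).symm
  rw [hc]; exact hN

theorem piCore_map_equiv {G' : Type v} [Group G'] (π : Set ℕ) (e : G ≃* G') :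
    (piCore π G).map e.toMonoidHom = piCore π G' := by
  apply le_antisymm (piCore_map_equiv_le π e)
  have h := piCore_map_equiv_le π e.symm
  have h2 := Subgroup.map_mono (f := e.toMonoidHom) h
  rw [Subgroup.map_map] at h2
  have h3 : e.toMonoidHom.comp e.symm.toMonoidHom = MonoidHom.id G' := by
    ext x; simp
  rwa [h3, Subgroup.map_id] at h2

instance piCore_characteristic (π : Set ℕ) : (piCore π G).Characteristic :=
  Subgroup.characteristic_iff_map_eq.2 (fun e => piCore_map_equiv π e)

theorem card_sup_dvd_mul' (A B : Subgroup G) [B.Normal] :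
    Nat.card (A ⊔ B : Subgroup G) ∣ Nat.card A * Nat.card B := by
  have h1 : Nat.card B * B.relIndex (A ⊔ B) = Nat.card (A ⊔ B : Subgroup G) := by
    have := Subgroup.relIndex_mul_relIndex ⊥ B (A ⊔ B) bot_le le_sup_right
    rwa [Subgroup.relIndex_bot_left, Subgroup.relIndex_bot_left] at this
  rw [← h1, Subgroup.relIndex_sup_right, mul_comm]
  exact Nat.mul_dvd_mul_right (Subgroup.relIndex_dvd_card B A) _

variable [Finite G]

/-- `O_π(G)` is a π-group. -/
theorem piCore_isPiCard (π : Set ℕ) : IsPiCard π (Nat.card (piCore π G)) := by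
  have key : ∀ T : Set (Subgroup G), T.Finite →
      T ⊆ {N | N.Normal ∧ ∀ p : ℕ, p.Prime → p ∣ Nat.card N → p ∈ π} →
      (sSup T).Normal ∧ IsPiCard π (Nat.card (sSup T : Subgroup G)) := by
    intro T hT
    induction T, hT using Set.Finite.induction_on with
    | empty =>
      intro _
      rw [sSup_empty]
      refine ⟨inferInstance, ?_⟩
      intro p hp hdvd
      rw [Subgroup.card_bot] at hdvd
      exact absurd (Nat.dvd_one.1 hdvd) hp.one_lt.ne'
    | @insert a s _ _ ih =>
      intro hsub
      rw [sSup_insert]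
      obtain ⟨h1, h2⟩ := ih (fun x hx => hsub (Set.mem_insert_of_mem _ hx))
      obtain ⟨h3, h4⟩ := hsub (Set.mem_insert a s)
      exact ⟨inferInstance, isPiCard_of_dvd (card_sup_dvd_mul' a (sSup s)) (isPiCard_mul h4 h2)⟩
  exact (key _ (Set.toFinite _) le_rfl).2

/-- For a subnormal subgroup `H` of a finite group, `O_π(H) ≤ O_π(G)`. -/
theorem piCore_subnormal_le (π : Set ℕ) {H : Subgroup G} (hH : H.IsSubnormal) :
    (piCore π H).map H.subtype ≤ piCore π G := by
  induction hH with
  | top =>
    have := piCore_map_equiv π (Subgroup.topEquiv : (⊤ : Subgroup G) ≃* G)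
    exact this.le
  | step H K hHK hKsn hHn ih =>
    set H' : Subgroup K := H.subgroupOf K with hH'
    let e : H' ≃* H := Subgroup.subgroupOfEquivOfLe hHK
    have h1 : ((piCore π H').map H'.subtype).Normal :=
      ConjAct.normal_of_characteristic_of_normal
    have h2 : IsPiCard π (Nat.card ((piCore π H').map H'.subtype : Subgroup K)) := by
      have hc : Nat.card ((piCore π H').map H'.subtype : Subgroup K) = Nat.card (piCore π H') :=
        (Nat.card_congr ((piCore π H').equivMapOfInjective H'.subtype
          (Subgroup.subtype_injective H')).toEquiv).symm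
      rw [hc]; exact piCore_isPiCard π
    have h3 : (piCore π H').map H'.subtype ≤ piCore π K := le_piCore h1 h2
    have h4 : (piCore π H).map H.subtype
        = ((piCore π H').map H'.subtype).map K.subtype := by
      rw [← piCore_map_equiv π e, Subgroup.map_map, Subgroup.map_map]
      rfl
    rw [h4]
    exact (Subgroup.map_mono h3).trans ih

/-- A subnormal π-subgroup of a finite group lies in `O_π(G)`. -/
theorem subnormal_le_piCore {π : Set ℕ} {S : Subgroup G} (hS : S.IsSubnormal)
    (hn : ∀ p : ℕ, p.Prime → p ∣ Nat.card S → p ∈ π) : S ≤ piCore π G := by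
  have h1 : piCore π S = ⊤ := by
    rw [eq_top_iff]
    apply le_piCore inferInstance
    intro p hp hdvd
    rw [Subgroup.card_top] at hdvd
    exact hn p hp hdvd
  have h2 := piCore_subnormal_le π hS
  rwa [h1, ← MonoidHom.range_eq_map, Subgroup.range_subtype] at h2

end

end Cfsg.Agent.Lib.H19
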