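import Mathlib
import Cfsg.Prelude.Def_OddOrderLocal
import Cfsg.Agent.Lib.H19.PiCore
import Cfsg.Agent.Lib.H19.NormQuot
import Cfsg.Agent.Lib.H19.SylowAux
import Cfsg.Agent.Lib.H1.Hall
import Cfsg.Agent.Lib.H1.CoprimeAction
import Cfsg.Agent.Lib.H1.CoprimeSylow
import Cfsg.Agent.Lib.H1.Complement
import Cfsg.Agent.Lib.H1.PCore
import Cfsg.Agent.Lib.H20.Solvable

/-!
# Hall `π`-subgroups of a solvable subgroup `G ≤ X` (`Cfsg.IsPiHallOf`) and coprime action
-/

set_option autoImplicit false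

namespace Cfsg.Agent.Lib.H19

open scoped Pointwise
open Cfsg.Agent.Lib.H1

universe u

/-! ### π-parts of natural numbers -/

theorem isPiCard_one (π : Set ℕ) : IsPiCard π 1 :=
  fun _ hp h => absurd (Nat.dvd_one.1 h) hp.ne_one

theorem isPiCard_prime_pow {π : Set ℕ} {q : ℕ} (hq : q.Prime) (hqπ : q ∈ π) (j : ℕ) :
    IsPiCard π (q ^ j) := by
  intro p hp hd
  have := (Nat.prime_dvd_prime_iff_eq hp hq).1 (hp.dvd_of_dvd_pow hd)
  rw [this]; exact hqπ

theorem exists_pi_decomp (π : Set ℕ) (N : ℕ) (hN : N ≠ 0) :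
    ∃ m n : ℕ, N = m * n ∧ IsPiCard π m ∧ IsPiCard πᶜ n := by
  refine Nat.recOnMul (motive := fun N => N ≠ 0 → ∃ m n : ℕ, N = m * n ∧ IsPiCard π m ∧
    IsPiCard πᶜ n) ?_ ?_ ?_ ?_ N hN
  · intro h; exact absurd rfl h
  · intro _; exact ⟨1, 1, rfl, isPiCard_one _, isPiCard_one _⟩
  · intro p hp _
    by_cases hpπ : p ∈ π
    · refine ⟨p, 1, (mul_one p).symm, ?_, isPiCard_one _⟩
      have := isPiCard_prime_pow hp hpπ 1
      rwa [pow_one] at this
    · refine ⟨1, p, (one_mul p).symm, isPiCard_one _, ?_⟩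
      have := isPiCard_prime_pow (π := πᶜ) hp hpπ 1
      rwa [pow_one] at this
  · intro a b iha ihb hab
    have ha : a ≠ 0 := fun h => hab (by rw [h, zero_mul])
    have hb : b ≠ 0 := fun h => hab (by rw [h, mul_zero])
    obtain ⟨ma, na, rfl, h1, h2⟩ := iha ha
    obtain ⟨mb, nb, rfl, h3, h4⟩ := ihb hb
    exact ⟨ma * mb, na * nb, by ring, isPiCard_mul h1 h3, isPiCard_mul h2 h4⟩

theorem coprime_of_isPiCard {π : Set ℕ} {m n : ℕ} (hm : IsPiCard π m) (hn : IsPiCard πᶜ n) :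
    m.Coprime n :=
  Nat.coprime_of_dvd fun k hk hkm hkn => hn k hk hkn (hm k hk hkm)

theorem pi_part_unique {π : Set ℕ} {m n m' n' : ℕ} (h : m * n = m' * n') (hm : IsPiCard π m)
    (hn : IsPiCard πᶜ n) (hm' : IsPiCard π m') (hn' : IsPiCard πᶜ n') : m = m' := by
  apply Nat.dvd_antisymm
  · exact Nat.Coprime.dvd_of_dvd_mul_right (coprime_of_isPiCard hm hn') (h ▸ Dvd.intro _ rfl)
  · exact Nat.Coprime.dvd_of_dvd_mul_right (coprime_of_isPiCard hm' hn) (h.symm ▸ Dvd.intro _ rfl)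

section

variable {X : Type u} [Group X] [Finite X] {π : Set ℕ}

theorem card_sup_dvd_mul_of_le_normalizer {U N : Subgroup X}
    (h : U ≤ Subgroup.normalizer (N : Set X)) :
    Nat.card (U ⊔ N : Subgroup X) ∣ Nat.card U * Nat.card N := by
  rw [← lift_bar h, card_lift]
  exact Nat.mul_dvd_mul_right (card_bar_dvd N U) _

theorem relIndex_sup_dvd_card {U N : Subgroup X} (h : U ≤ Subgroup.normalizer (N : Set X)) :
    U.relIndex (U ⊔ N) ∣ Nat.card N := by
  have h1 := card_mul_relIndex (le_sup_left : U ≤ U ⊔ N)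
  have h2 := card_sup_dvd_mul_of_le_normalizer h
  rw [← h1] at h2
  exact Nat.dvd_of_mul_dvd_mul_left Nat.card_pos h2

/-- characterization of Hall subgroups by their order -/
theorem isPiHallOf_iff_card {G H : Subgroup X} {m n : ℕ} (hG : Nat.card G = m * n)
    (hm : IsPiCard π m) (hn : IsPiCard πᶜ n) :
    Cfsg.IsPiHallOf π H G ↔ H ≤ G ∧ Nat.card H = m := by
  constructor
  · rintro ⟨hle, h1, h2⟩
    refine ⟨hle, ?_⟩
    have h3 := card_mul_relIndex hle
    rw [hG] at h3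
    have h4 : IsPiCard πᶜ (H.relIndex G) := fun p hp hd hpπ => h2 p hp hpπ hd
    exact pi_part_unique h3 h1 h4 hm hn
  · rintro ⟨hle, hc⟩
    refine ⟨hle, hc ▸ hm, ?_⟩
    have h3 := card_mul_relIndex hle
    rw [hG, hc] at h3
    have hm0 : 0 < m := by
      rcases Nat.eq_zero_or_pos m with h0 | h0
      · rw [h0, zero_mul] at hG
        exact absurd hG Nat.card_pos.ne'
      · exact h0
    have h4 : H.relIndex G = n := Nat.eq_of_mul_eq_mul_left hm0 h3
    intro p hp hpπ hd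
    rw [h4] at hd
    exact hn p hp hd hpπ

theorem IsPiHallOf.card_eq {G H K : Subgroup X} (hH : Cfsg.IsPiHallOf π H G)
    (hK : Cfsg.IsPiHallOf π K G) : Nat.card H = Nat.card K := by
  obtain ⟨m, n, hmn, hm, hn⟩ := exists_pi_decomp π (Nat.card G) Nat.card_pos.ne'
  rw [((isPiHallOf_iff_card hmn hm hn).1 hH).2, ((isPiHallOf_iff_card hmn hm hn).1 hK).2]

/-- Hall's theorem (existence/containment) for a solvable subgroup -/
theorem exists_isPiHallOf_ge {G U : Subgroup X} [Group.IsSolvable G] (hUG : U ≤ G)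
    (hU : IsPiCard π (Nat.card U)) : ∃ H, Cfsg.IsPiHallOf π H G ∧ U ≤ H := by
  obtain ⟨m, n, hmn, hm, hn⟩ := exists_pi_decomp π (Nat.card G) Nat.card_pos.ne'
  have hcop := coprime_of_isPiCard hm hn
  have hK : (Nat.card (U.subgroupOf G)).Coprime n := by
    rw [card_subgroupOf_of_le hUG]; exact coprime_of_isPiCard hU hn
  obtain ⟨H', hH', hUH'⟩ := hall_contain hmn hcop (U.subgroupOf G) hK
  refine ⟨H'.map G.subtype, (isPiHallOf_iff_card hmn hm hn).2 ⟨Subgroup.map_subtype_le _, ?_⟩, ?_⟩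
  · rw [Subgroup.card_map_of_injective G.subtype_injective]; exact hH'
  · intro u hu
    exact ⟨⟨u, hUG hu⟩, hUH' (Subgroup.mem_subgroupOf.2 hu), rfl⟩

theorem exists_isPiHallOf (G : Subgroup X) [Group.IsSolvable G] (π : Set ℕ) :
    ∃ H, Cfsg.IsPiHallOf π H G := by
  obtain ⟨H, hH, -⟩ := exists_isPiHallOf_ge (π := π) (bot_le : (⊥ : Subgroup X) ≤ G) (by
    rw [Subgroup.card_bot]; exact isPiCard_one _)
  exact ⟨H, hH⟩

/-- Hall's theorem (conjugacy) for a solvable subgroup -/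
theorem isPiHallOf_exists_conj {G H₁ H₂ : Subgroup X} [Group.IsSolvable G]
    (h1 : Cfsg.IsPiHallOf π H₁ G) (h2 : Cfsg.IsPiHallOf π H₂ G) :
    ∃ g ∈ G, MulAut.conj g • H₁ = H₂ := by
  obtain ⟨m, n, hmn, hm, hn⟩ := exists_pi_decomp π (Nat.card G) Nat.card_pos.ne'
  have hcop := coprime_of_isPiCard hm hn
  obtain ⟨hle1, hc1⟩ := (isPiHallOf_iff_card hmn hm hn).1 h1
  obtain ⟨hle2, hc2⟩ := (isPiHallOf_iff_card hmn hm hn).1 h2
  obtain ⟨g, hg⟩ := hall_conj hmn hcop (H₁.subgroupOf G) (H₂.subgroupOf G)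
    (by rw [card_subgroupOf_of_le hle1]; exact hc1) (by rw [card_subgroupOf_of_le hle2]; exact hc2)
  exact ⟨g, g.2, conj_smul_eq_of_subgroupOf hle1 hle2 g hg⟩

theorem IsPiHallOf.conj {G H : Subgroup X} (h : Cfsg.IsPiHallOf π H G) {g : X}
    (hg : g ∈ Subgroup.normalizer (G : Set X)) : Cfsg.IsPiHallOf π (MulAut.conj g • H) G := by
  obtain ⟨m, n, hmn, hm, hn⟩ := exists_pi_decomp π (Nat.card G) Nat.card_pos.ne'
  obtain ⟨hle, hc⟩ := (isPiHallOf_iff_card hmn hm hn).1 h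
  refine (isPiHallOf_iff_card hmn hm hn).2 ⟨?_, ?_⟩
  · rw [conj_smul_le_iff]
    intro x hx
    exact (Subgroup.mem_normalizer_iff.1 hg x).1 (hle hx)
  · rw [card_conj_smul]; exact hc

/-- a Hall subgroup of a Hall subgroup ... : transitivity upward -/
theorem IsPiHallOf.trans {G K H : Subgroup X} (hH : Cfsg.IsPiHallOf π H K) (hKG : K ≤ G)
    (hK : ∀ p : ℕ, p.Prime → p ∈ π → ¬ p ∣ K.relIndex G) : Cfsg.IsPiHallOf π H G := by
  obtain ⟨hle, h1, h2⟩ := hH
  refine ⟨hle.trans hKG, h1, ?_⟩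
  intro p hp hpπ hd
  rw [← Subgroup.relIndex_mul_relIndex H K G hle hKG] at hd
  rcases (Nat.Prime.dvd_mul hp).1 hd with h | h
  · exact h2 p hp hpπ h
  · exact hK p hp hpπ h

/-! ### coprime action: existence and conjugacy of invariant Hall subgroups -/

variable {A G : Subgroup X}

theorem coprime_exists_invariant_hall (h : CoprimeAction A G) [Group.IsSolvable G] (π : Set ℕ) :
    ∃ H, Cfsg.IsPiHallOf π H G ∧ A ≤ Subgroup.normalizer (H : Set X) := by
  let _ : MulAction X (Subgroup X) :=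
    MulAction.compHom (Subgroup X) (MulAut.conj : X →* MulAut X)
  have hsmul : ∀ (g : X) (H : Subgroup X), g • H = MulAut.conj g • H := fun _ _ => rfl
  obtain ⟨P, hP, hfix⟩ := glauberman_set_exists_fixed h {P | Cfsg.IsPiHallOf π P G}
    (exists_isPiHallOf G π)
    (fun k hk P hP => by
      rw [hsmul]; exact IsPiHallOf.conj hP (Subgroup.le_normalizer hk))
    (fun a ha P hP => by
      rw [hsmul]; exact IsPiHallOf.conj hP (h.normalizes ha))
    (fun P hP Q hQ => by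
      obtain ⟨k, hk, hkPQ⟩ := isPiHallOf_exists_conj hP hQ
      exact ⟨k, hk, hkPQ⟩)
  refine ⟨P, hP, ?_⟩
  intro a ha
  rw [← conj_smul_eq_self_iff_mem_normalizer]
  exact hfix a ha

theorem coprime_invariant_hall_conj (h : CoprimeAction A G) [Group.IsSolvable G]
    {P Q : Subgroup X} (hP : Cfsg.IsPiHallOf π P G) (hQ : Cfsg.IsPiHallOf π Q G)
    (hPA : A ≤ Subgroup.normalizer (P : Set X)) (hQA : A ≤ Subgroup.normalizer (Q : Set X)) :
    ∃ c ∈ G ⊓ Subgroup.centralizer (A : Set X), MulAut.conj c • P = Q := by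
  let _ : MulAction X (Subgroup X) :=
    MulAction.compHom (Subgroup X) (MulAut.conj : X →* MulAut X)
  have hsmul : ∀ (g : X) (H : Subgroup X), g • H = MulAut.conj g • H := fun _ _ => rfl
  obtain ⟨c, hc, hcPQ⟩ := glauberman_set_fixed_trans h {P | Cfsg.IsPiHallOf π P G}
    (fun k hk P hP => by
      rw [hsmul]; exact IsPiHallOf.conj hP (Subgroup.le_normalizer hk))
    (fun a ha P hP => by
      rw [hsmul]; exact IsPiHallOf.conj hP (h.normalizes ha))
    (fun P hP Q hQ => by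
      obtain ⟨k, hk, hkPQ⟩ := isPiHallOf_exists_conj hP hQ
      exact ⟨k, hk, hkPQ⟩) hP hQ
    (fun a ha => by rw [hsmul]; exact conj_smul_eq_self_iff_mem_normalizer.mpr (hPA ha))
    (fun a ha => by rw [hsmul]; exact conj_smul_eq_self_iff_mem_normalizer.mpr (hQA ha))
  exact ⟨c, hc, hcPQ⟩

end

end Cfsg.Agent.Lib.H19
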