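import Mathlib
import Cfsg.Prelude.Def_Local
import Cfsg.Agent.Lib.H1.PCore
import Cfsg.Agent.Lib.H22.PPrimeCore
import Cfsg.Agent.Lib.H9.PPrimeCore

/-!
# `p`-length via alternating normal series

`Reach p j N`: `N` is the last term of a normal series `⊥ = N₀ ≤ N₁ ≤ ⋯ ≤ N_j = N` of `G` whose factors
are alternately `p'`-groups (steps leaving an even position) and `p`-groups.  The upper `p`-series is
the fastest such series, so `Cfsg.PLengthLE p k G ↔ Reach p (2 * k + 1) ⊤`.
-/

set_option autoImplicit false
open Cfsg

namespace Cfsg.Agent.Lib.H19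

universe u v

section Index

variable {G : Type u} [Group G]

theorem relIndex_map_dvd {G' : Type v} [Group G'] (f : G →* G') (N M : Subgroup G) :
    (N.map f).relIndex (M.map f) ∣ N.relIndex M := by
  rw [← Subgroup.relIndex_comap, Subgroup.comap_map_eq]
  exact Subgroup.relIndex_dvd_of_le_left M le_sup_left

theorem relIndex_subgroupOf_dvd {N M : Subgroup G} (K : Subgroup G) (hN : N.Normal) (hNM : N ≤ M) :
    (N.subgroupOf K).relIndex (M.subgroupOf K) ∣ N.relIndex M := by
  rw [← Subgroup.inf_subgroupOf_right M K, Subgroup.relIndex_subgroupOf inf_le_right]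
  have h1 : N.relIndex (N ⊔ (M ⊓ K)) = N.relIndex (M ⊓ K) := Subgroup.relIndex_sup_left (M ⊓ K) N
  have h2 := Subgroup.relIndex_mul_relIndex N (N ⊔ (M ⊓ K)) M le_sup_left (sup_le hNM inf_le_left)
  rw [← h1]
  exact Dvd.intro _ h2

theorem relIndex_comap_comap {G' : Type v} [Group G'] (f : G →* G') (hf : Function.Surjective f)
    (N M : Subgroup G') : (N.comap f).relIndex (M.comap f) = N.relIndex M := by
  rw [Subgroup.relIndex_comap, Subgroup.map_comap_eq_self_of_surjective hf]

theorem relIndex_comap_mk' (N : Subgroup G) [N.Normal] (O : Subgroup (G ⧸ N)) :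
    N.relIndex (O.comap (QuotientGroup.mk' N)) = Nat.card O := by
  have h1 := Subgroup.relIndex_comap (⊥ : Subgroup (G ⧸ N)) (QuotientGroup.mk' N)
    (O.comap (QuotientGroup.mk' N))
  rw [MonoidHom.comap_bot, QuotientGroup.ker_mk',
    Subgroup.map_comap_eq_self_of_surjective (QuotientGroup.mk'_surjective N),
    Subgroup.relIndex_bot_left] at h1
  exact h1

theorem card_map_mk' (N : Subgroup G) [N.Normal] (M : Subgroup G) :
    Nat.card (M.map (QuotientGroup.mk' N)) = N.relIndex M := by
  rw [← Subgroup.relIndex_ker, QuotientGroup.ker_mk']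

end Index

section Reach

variable {G : Type u} [Group G]

/-- `N` is reached in `j` steps by a normal series with alternating `p'`- and `p`-factors. -/
inductive Reach (p : ℕ) : ℕ → Subgroup G → Prop
  | zero : Reach p 0 ⊥
  | even {j : ℕ} {N M : Subgroup G} : Reach p j N → Even j → N ≤ M → M.Normal →
      (N.relIndex M).Coprime p → Reach p (j + 1) M
  | odd {j : ℕ} {N M : Subgroup G} : Reach p j N → ¬ Even j → N ≤ M → M.Normal →
      (∃ m : ℕ, N.relIndex M = p ^ m) → Reach p (j + 1) M

theorem Reach.normal {p j : ℕ} {N : Subgroup G} (h : Reach p j N) : N.Normal := by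
  cases h with
  | zero => infer_instance
  | even _ _ _ hn _ => exact hn
  | odd _ _ _ hn _ => exact hn

theorem Reach.succ {p j : ℕ} {N : Subgroup G} (h : Reach p j N) : Reach p (j + 1) N := by
  by_cases hj : Even j
  · exact Reach.even h hj le_rfl h.normal (by
      rw [Subgroup.relIndex_self]; exact Nat.coprime_one_left p)
  · exact Reach.odd h hj le_rfl h.normal ⟨0, by rw [Subgroup.relIndex_self, pow_zero]⟩

theorem Reach.mono {p j j' : ℕ} {N : Subgroup G} (h : Reach p j N) (hjj : j ≤ j') :
    Reach p j' N := by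
  induction hjj with
  | refl => exact h
  | step _ ih => exact ih.succ

theorem Reach.map {G' : Type v} [Group G'] {p j : ℕ} {N : Subgroup G} (h : Reach p j N)
    (hp : p.Prime) (f : G →* G') (hf : Function.Surjective f) : Reach p j (N.map f) := by
  induction h with
  | zero => rw [Subgroup.map_bot]; exact Reach.zero
  | @even j N M _ hj hle hn hc ih =>
    exact Reach.even ih hj (Subgroup.map_mono hle) (hn.map f hf)
      (Nat.Coprime.coprime_dvd_left (relIndex_map_dvd f N M) hc)
  | @odd j N M _ hj hle hn hc ih =>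
    obtain ⟨m, hm⟩ := hc
    have hd : (N.map f).relIndex (M.map f) ∣ p ^ m := hm ▸ relIndex_map_dvd f N M
    obtain ⟨i, -, hi⟩ := (Nat.dvd_prime_pow hp).1 hd
    exact Reach.odd ih hj (Subgroup.map_mono hle) (hn.map f hf) ⟨i, hi⟩

theorem Reach.subgroupOf {p j : ℕ} {N : Subgroup G} (h : Reach p j N) (hp : p.Prime)
    (K : Subgroup G) : Reach p j (N.subgroupOf K) := by
  induction h with
  | zero => rw [Subgroup.bot_subgroupOf]; exact Reach.zero
  | @even j N M h' hj hle hn hc ih =>
    exact Reach.even ih hj (Subgroup.comap_mono hle) (hn.subgroupOf K)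
      (Nat.Coprime.coprime_dvd_left (relIndex_subgroupOf_dvd K h'.normal hle) hc)
  | @odd j N M h' hj hle hn hc ih =>
    obtain ⟨m, hm⟩ := hc
    have hd : (N.subgroupOf K).relIndex (M.subgroupOf K) ∣ p ^ m :=
      hm ▸ relIndex_subgroupOf_dvd K h'.normal hle
    obtain ⟨i, -, hi⟩ := (Nat.dvd_prime_pow hp).1 hd
    exact Reach.odd ih hj (Subgroup.comap_mono hle) (hn.subgroupOf K) ⟨i, hi⟩

/-- the last `p'`-step can be enlarged -/
theorem Reach.merge {p j : ℕ} {K M : Subgroup G} (h : Reach p (j + 1) K) (hj : Even j)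
    (hKM : K ≤ M) (hM : M.Normal) (hc : (K.relIndex M).Coprime p) : Reach p (j + 1) M := by
  cases h with
  | even h' _ hle _ hc' =>
    refine Reach.even h' hj (hle.trans hKM) hM ?_
    rw [← Subgroup.relIndex_mul_relIndex _ _ _ hle hKM]
    exact Nat.Coprime.mul_left hc' hc
  | odd _ hj' _ _ _ => exact absurd hj hj'

end Reach

section Upper

variable {G : Type u} [Group G]

theorem upper_zero (p : ℕ) : (upperPSeries p G 0).1 = ⊥ := rfl

/-- unfolding by `rfl` (no on-demand equation lemmas `upperPSeries.eq_def` are generated, which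
would collide with other files' copies in the grader) -/
theorem upper_succ_raw (p j : ℕ) :
    upperPSeries p G (j + 1) =
      (if Even j then
        ⟨(pPrimeCore p (G ⧸ (upperPSeries p G j).1)).comap (QuotientGroup.mk' _), inferInstance⟩
      else
        ⟨(pCore p (G ⧸ (upperPSeries p G j).1)).comap (QuotientGroup.mk' _), inferInstance⟩) := rfl

theorem upper_succ_even (p : ℕ) {j : ℕ} (hj : Even j) :
    (upperPSeries p G (j + 1)).1 =
      (pPrimeCore p (G ⧸ (upperPSeries p G j).1)).comap (QuotientGroup.mk' _) := by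
  rw [upper_succ_raw, if_pos hj]

theorem upper_succ_odd (p : ℕ) {j : ℕ} (hj : ¬ Even j) :
    (upperPSeries p G (j + 1)).1 =
      (pCore p (G ⧸ (upperPSeries p G j).1)).comap (QuotientGroup.mk' _) := by
  rw [upper_succ_raw, if_neg hj]

theorem upper_le_succ (p j : ℕ) : (upperPSeries p G j).1 ≤ (upperPSeries p G (j + 1)).1 := by
  by_cases hj : Even j
  · rw [upper_succ_even p hj]; exact QuotientGroup.le_comap_mk' _ _
  · rw [upper_succ_odd p hj]; exact QuotientGroup.le_comap_mk' _ _

theorem upper_relIndex_even [Finite G] (p : ℕ) {j : ℕ} (hj : Even j) :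
    ((upperPSeries p G j).1.relIndex (upperPSeries p G (j + 1)).1).Coprime p := by
  rw [upper_succ_even p hj, relIndex_comap_mk']
  exact Cfsg.Agent.Lib.H22.card_pPrimeCore_coprime p

theorem upper_relIndex_odd [Finite G] (p : ℕ) [Fact p.Prime] {j : ℕ} (hj : ¬ Even j) :
    ∃ m : ℕ, (upperPSeries p G j).1.relIndex (upperPSeries p G (j + 1)).1 = p ^ m := by
  rw [upper_succ_odd p hj, relIndex_comap_mk']
  exact IsPGroup.iff_card.1 (Cfsg.Agent.Lib.H1.pCore_isPGroup p _)

theorem reach_upper [Finite G] (p : ℕ) [Fact p.Prime] (j : ℕ) :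
    Reach p j (upperPSeries p G j).1 := by
  induction j with
  | zero => rw [upper_zero]; exact Reach.zero
  | succ j ih =>
    by_cases hj : Even j
    · exact Reach.even ih hj (upper_le_succ p j) inferInstance (upper_relIndex_even p hj)
    · exact Reach.odd ih hj (upper_le_succ p j) inferInstance (upper_relIndex_odd p hj)

theorem Reach.le_upper {p : ℕ} [hp : Fact p.Prime] {j : ℕ} {N : Subgroup G} (h : Reach p j N) :
    N ≤ (upperPSeries p G j).1 := by
  induction h with
  | zero => exact bot_le
  | @even j N M _ hj hle hn hc ih =>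
    rw [upper_succ_even p hj, ← Subgroup.map_le_iff_le_comap]
    apply Cfsg.Agent.Lib.H22.le_pPrimeCore p _ (hn.map _ (QuotientGroup.mk'_surjective _))
    rw [card_map_mk']
    exact Nat.Coprime.coprime_dvd_left
      ((Subgroup.relIndex_dvd_of_le_left M ih)) hc
  | @odd j N M _ hj hle hn hc ih =>
    rw [upper_succ_odd p hj, ← Subgroup.map_le_iff_le_comap]
    apply Cfsg.Agent.Lib.H1.le_pCore (hn.map _ (QuotientGroup.mk'_surjective _))
    obtain ⟨m, hm⟩ := hc
    have hd : Nat.card (M.map (QuotientGroup.mk' (upperPSeries p G j).1)) ∣ p ^ m := by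
      rw [card_map_mk', ← hm]
      exact Subgroup.relIndex_dvd_of_le_left M ih
    obtain ⟨i, -, hi⟩ := (Nat.dvd_prime_pow hp.out).1 hd
    exact IsPGroup.of_card hi

theorem plengthLE_iff [Finite G] {p : ℕ} [Fact p.Prime] {k : ℕ} :
    PLengthLE p k G ↔ Reach p (2 * k + 1) (⊤ : Subgroup G) := by
  constructor
  · intro h
    have := reach_upper (G := G) p (2 * k + 1)
    rwa [show (upperPSeries p G (2 * k + 1)).1 = ⊤ from h] at this
  · intro h
    exact top_le_iff.1 h.le_upper

theorem comap_mk'_characteristic (N : Subgroup G) [N.Normal] (hN : N.Characteristic)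
    (O : Subgroup (G ⧸ N)) (hO : O.Characteristic) :
    (O.comap (QuotientGroup.mk' N)).Characteristic := by
  rw [Subgroup.characteristic_iff_le_comap]
  intro φ x hx
  rw [Subgroup.mem_comap] at hx ⊢
  have he : N.map φ.toMonoidHom = N := Subgroup.characteristic_iff_map_eq.1 hN φ
  let e : G ⧸ N ≃* G ⧸ N := QuotientGroup.congr N N φ he
  have h1 : O.map e.toMonoidHom = O := Subgroup.characteristic_iff_map_eq.1 hO e
  have h2 : e (QuotientGroup.mk' N x) ∈ O.map e.toMonoidHom := ⟨_, hx, rfl⟩
  rw [h1] at h2
  exact h2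

theorem upper_characteristic (p j : ℕ) : (upperPSeries p G j).1.Characteristic := by
  induction j with
  | zero => rw [upper_zero]; infer_instance
  | succ j ih =>
    by_cases hj : Even j
    · rw [upper_succ_even p hj]
      exact comap_mk'_characteristic _ ih _ (Cfsg.Agent.Lib.H9.pPrimeCore_characteristic p)
    · rw [upper_succ_odd p hj]
      exact comap_mk'_characteristic _ ih _ (Cfsg.Agent.Lib.H1.pCore_characteristic p _)

end Upper

section PLength

variable {G : Type u} [Group G] [Finite G] {p : ℕ} [hp : Fact p.Prime]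

theorem plengthLE_of_surjective {G' : Type v} [Group G'] [Finite G'] {k : ℕ}
    (h : PLengthLE p k G) (f : G →* G') (hf : Function.Surjective f) : PLengthLE p k G' := by
  rw [plengthLE_iff] at h ⊢
  have := h.map hp.out f hf
  rwa [Subgroup.map_top_of_surjective f hf] at this

theorem plengthLE_of_mulEquiv {G' : Type v} [Group G'] [Finite G'] {k : ℕ}
    (h : PLengthLE p k G) (e : G ≃* G') : PLengthLE p k G' :=
  plengthLE_of_surjective h e.toMonoidHom e.surjective

theorem plengthLE_quotient {k : ℕ} (h : PLengthLE p k G) (N : Subgroup G) [N.Normal] :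
    PLengthLE p k (G ⧸ N) :=
  plengthLE_of_surjective h (QuotientGroup.mk' N) (QuotientGroup.mk'_surjective N)

theorem plengthLE_subgroup {k : ℕ} (h : PLengthLE p k G) (K : Subgroup G) :
    PLengthLE p k ↥K := by
  rw [plengthLE_iff] at h ⊢
  have := h.subgroupOf hp.out K
  rwa [Subgroup.top_subgroupOf] at this

theorem plengthLE_mono {k k' : ℕ} (h : PLengthLE p k G) (hkk : k ≤ k') : PLengthLE p k' G := by
  rw [plengthLE_iff] at h ⊢
  exact h.mono (by omega)

theorem plengthLE_zero_of_coprime (h : (Nat.card G).Coprime p) : PLengthLE p 0 G := by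
  rw [plengthLE_iff]
  refine Reach.even Reach.zero (by decide) bot_le inferInstance ?_
  rw [Subgroup.relIndex_bot_left, Subgroup.card_top]
  exact h

theorem plengthLE_one_of_isPGroup {m : ℕ} (h : Nat.card G = p ^ m) : PLengthLE p 1 G := by
  rw [plengthLE_iff]
  have h1 : Reach p 1 (⊥ : Subgroup G) := Reach.zero.succ
  have h2 : Reach p 2 (⊤ : Subgroup G) :=
    Reach.odd h1 (by decide) bot_le inferInstance
      ⟨m, by rw [Subgroup.relIndex_bot_left, Subgroup.card_top]; exact h⟩
  exact h2.succ

omit [Finite G] hp in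
/-- pulling back a series of `G ⧸ K` on top of a series reaching `K` at an odd position -/
theorem Reach.comap_of_reach (K : Subgroup G) [K.Normal] {a : ℕ} (hK : Reach p (2 * a + 1) K)
    {i : ℕ} {N : Subgroup (G ⧸ K)} (h : Reach p i N) :
    Reach p (2 * a + max i 1) (N.comap (QuotientGroup.mk' K)) := by
  induction h with
  | zero =>
    rw [MonoidHom.comap_bot, QuotientGroup.ker_mk']
    exact hK
  | @even j N M _ hj hle hn hc ih =>
    have hidx : ((N.comap (QuotientGroup.mk' K)).relIndex (M.comap (QuotientGroup.mk' K))).Coprime p := by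
      rw [relIndex_comap_comap _ (QuotientGroup.mk'_surjective K)]; exact hc
    have hnorm : (M.comap (QuotientGroup.mk' K)).Normal := hn.comap _
    rcases Nat.eq_zero_or_pos j with rfl | hjpos
    · have h1 : 2 * a + max 0 1 = 2 * a + 1 := by simp
      have h2 : 2 * a + max (0 + 1) 1 = 2 * a + 1 := by simp
      rw [h1] at ih
      rw [h2]
      exact ih.merge (even_two_mul a) (Subgroup.comap_mono hle) hnorm hidx
    · have h1 : 2 * a + max j 1 = 2 * a + j := by rw [max_eq_left hjpos]
      have h2 : 2 * a + max (j + 1) 1 = 2 * a + j + 1 := by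
        rw [max_eq_left (by omega)]; ring
      rw [h1] at ih
      rw [h2]
      exact Reach.even ih ((even_two_mul a).add hj) (Subgroup.comap_mono hle) hnorm hidx
  | @odd j N M _ hj hle hn hc ih =>
    have hjpos : 0 < j := by
      rcases Nat.eq_zero_or_pos j with rfl | h
      · exact absurd (by decide : Even 0) hj
      · exact h
    obtain ⟨m, hm⟩ := hc
    have hidx : ∃ m : ℕ, (N.comap (QuotientGroup.mk' K)).relIndex (M.comap (QuotientGroup.mk' K)) = p ^ m :=
      ⟨m, by rw [relIndex_comap_comap _ (QuotientGroup.mk'_surjective K)]; exact hm⟩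
    have hnorm : (M.comap (QuotientGroup.mk' K)).Normal := hn.comap _
    have h1 : 2 * a + max j 1 = 2 * a + j := by rw [max_eq_left hjpos]
    have h2 : 2 * a + max (j + 1) 1 = 2 * a + j + 1 := by
      rw [max_eq_left (by omega)]; ring
    rw [h1] at ih
    rw [h2]
    refine Reach.odd ih ?_ (Subgroup.comap_mono hle) hnorm hidx
    intro he
    apply hj
    have := (Nat.even_add.1 he).1 (even_two_mul a)
    exact this

/-- the canonical series of a normal subgroup `K`, seen in `G` -/
theorem reach_upper_map (K : Subgroup G) [K.Normal] (j : ℕ) :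
    Reach p j ((upperPSeries p ↥K j).1.map K.subtype) := by
  induction j with
  | zero => rw [upper_zero, Subgroup.map_bot]; exact Reach.zero
  | succ j ih =>
    have hchar : (upperPSeries p ↥K (j + 1)).1.Characteristic := upper_characteristic p (j + 1)
    have hnorm : ((upperPSeries p ↥K (j + 1)).1.map K.subtype).Normal :=
      ConjAct.normal_of_characteristic_of_normal
    by_cases hj : Even j
    · refine Reach.even ih hj (Subgroup.map_mono (upper_le_succ p j)) hnorm ?_
      rw [Subgroup.relIndex_map_map_of_injective _ _ K.subtype_injective]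
      exact upper_relIndex_even p hj
    · refine Reach.odd ih hj (Subgroup.map_mono (upper_le_succ p j)) hnorm ?_
      rw [Subgroup.relIndex_map_map_of_injective _ _ K.subtype_injective]
      exact upper_relIndex_odd p hj

/-- `p`-length is subadditive on extensions -/
theorem plengthLE_of_extension (K : Subgroup G) [K.Normal] {a b : ℕ} (hK : PLengthLE p a ↥K)
    (hQ : PLengthLE p b (G ⧸ K)) : PLengthLE p (a + b) G := by
  have h1 : Reach p (2 * a + 1) K := by
    have := reach_upper_map (p := p) K (2 * a + 1)
    rwa [show (upperPSeries p ↥K (2 * a + 1)).1 = ⊤ from hK, ← MonoidHom.range_eq_map,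
      Subgroup.range_subtype] at this
  rw [plengthLE_iff] at hQ ⊢
  have h2 := Reach.comap_of_reach K h1 hQ
  rw [Subgroup.comap_top] at h2
  have e : 2 * a + max (2 * b + 1) 1 = 2 * (a + b) + 1 := by
    rw [max_eq_left (by omega)]; ring
  rwa [e] at h2

omit [Finite G] hp in
theorem upper_mono (p : ℕ) {j j' : ℕ} (h : j ≤ j') :
    (upperPSeries p G j).1 ≤ (upperPSeries p G j').1 := by
  induction h with
  | refl => exact le_rfl
  | step _ ih => exact ih.trans (upper_le_succ p _)

/-- the quotient by `O_{p',p}(G)` has `p`-length one less -/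
theorem plengthLE_quotient_upper_two {k : ℕ} (h : PLengthLE p (k + 1) G) :
    PLengthLE p k (G ⧸ (upperPSeries p G 2).1) := by
  set U2 := (upperPSeries p G 2).1 with hU2
  have key : ∀ i : ℕ, Reach p i ((upperPSeries p G (i + 2)).1.map (QuotientGroup.mk' U2)) := by
    intro i
    induction i with
    | zero =>
      rw [show (upperPSeries p G (0 + 2)).1 = U2 from rfl, QuotientGroup.map_mk'_self]
      exact Reach.zero
    | succ i ih =>
      have hker : (QuotientGroup.mk' U2).ker ≤ (upperPSeries p G (i + 2)).1 := by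
        rw [QuotientGroup.ker_mk']; exact upper_mono p (by omega)
      have hidx : ((upperPSeries p G (i + 2)).1.map (QuotientGroup.mk' U2)).relIndex
          ((upperPSeries p G (i + 1 + 2)).1.map (QuotientGroup.mk' U2)) =
          (upperPSeries p G (i + 2)).1.relIndex (upperPSeries p G (i + 2 + 1)).1 := by
        rw [show i + 1 + 2 = i + 2 + 1 by ring, Subgroup.relIndex_map_map,
          sup_of_le_left hker, sup_of_le_left (hker.trans (upper_le_succ p _))]
      have hnorm : ((upperPSeries p G (i + 1 + 2)).1.map (QuotientGroup.mk' U2)).Normal :=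
        Subgroup.Normal.map inferInstance _ (QuotientGroup.mk'_surjective U2)
      have hle : (upperPSeries p G (i + 2)).1.map (QuotientGroup.mk' U2) ≤
          (upperPSeries p G (i + 1 + 2)).1.map (QuotientGroup.mk' U2) :=
        Subgroup.map_mono (upper_mono p (by omega))
      by_cases hi : Even i
      · have hi2 : Even (i + 2) := hi.add (by decide)
        refine Reach.even ih hi hle hnorm ?_
        rw [hidx]; exact upper_relIndex_even p hi2
      · have hi2 : ¬ Even (i + 2) := by
          intro h2
          apply hi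
          have := (Nat.even_add.1 h2).2 (by decide)
          exact this
        refine Reach.odd ih hi hle hnorm ?_
        rw [hidx]; exact upper_relIndex_odd p hi2
  rw [plengthLE_iff]
  have h1 := key (2 * k + 1)
  have h2 : (upperPSeries p G (2 * k + 1 + 2)).1 = ⊤ := by
    rw [show 2 * k + 1 + 2 = 2 * (k + 1) + 1 by ring]; exact h
  rwa [h2, Subgroup.map_top_of_surjective _ (QuotientGroup.mk'_surjective U2)] at h1

end PLength

end Cfsg.Agent.Lib.H19
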