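import Mathlib

/-!
# Basic tools for representations in coprime characteristic (helper19)

* `Inv ρ U` : invariant subspaces, `sub ρ U hU` the restricted representation, `exists_compl`
  (Maschke).
* `isSemisimple_apply` : group elements act semisimply.
* `wt ρ A χ` : simultaneous eigenspaces for a subgroup `A` acting through commuting operators;
  `iSup_wt_eq_top`, `iSupIndep_wt`.
-/

set_option autoImplicit false

namespace Cfsg.Agent.Lib.H19.ModRep

open Module

variable {k : Type*} [Field k] {Γ : Type*} [Group Γ] {W : Type*} [AddCommGroup W] [Module k W]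

/-- `U` is an invariant subspace. -/
def Inv (ρ : Representation k Γ W) (U : Submodule k W) : Prop := ∀ g : Γ, ∀ u ∈ U, ρ g u ∈ U

theorem inv_bot (ρ : Representation k Γ W) : Inv ρ ⊥ := by
  intro g u hu
  rw [Submodule.mem_bot] at hu
  rw [hu, map_zero]
  exact Submodule.zero_mem _

theorem inv_top (ρ : Representation k Γ W) : Inv ρ ⊤ := fun _ _ _ => Submodule.mem_top

/-- the restricted representation on an invariant subspace -/
def sub (ρ : Representation k Γ W) (U : Submodule k W) (hU : Inv ρ U) : Representation k Γ U :=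
  Subrepresentation.toRepresentation ⟨U, fun g v hv => hU g v hv⟩

@[simp] theorem sub_apply (ρ : Representation k Γ W) (U : Submodule k W) (hU : Inv ρ U) (g : Γ)
    (u : U) : ((sub ρ U hU g u : U) : W) = ρ g u := rfl

/-- Maschke's theorem for invariant subspaces. -/
theorem exists_compl [Finite Γ] [NeZero (Nat.card Γ : k)] (ρ : Representation k Γ W)
    (U : Submodule k W) (hU : Inv ρ U) : ∃ T : Submodule k W, Inv ρ T ∧ IsCompl U T := by
  obtain ⟨q, hq⟩ := exists_isCompl (⟨U, fun g v hv => hU g v hv⟩ : Subrepresentation ρ)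
  refine ⟨q.toSubmodule, fun g v hv => q.apply_mem_toSubmodule g hv, ?_⟩
  constructor
  · rw [disjoint_iff]
    exact congrArg Subrepresentation.toSubmodule hq.inf_eq_bot
  · rw [codisjoint_iff]
    exact congrArg Subrepresentation.toSubmodule hq.sup_eq_top

theorem apply_pow_card [Finite Γ] (ρ : Representation k Γ W) (g : Γ) :
    (ρ g) ^ Nat.card Γ = 1 := by
  rw [← map_pow, pow_card_eq_one', map_one]

/-- Group elements act semisimply in coprime characteristic. -/
theorem isSemisimple_apply [Finite Γ] [FiniteDimensional k W] (h : (Nat.card Γ : k) ≠ 0)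
    (ρ : Representation k Γ W) (g : Γ) : Module.End.IsSemisimple (ρ g) := by
  have hsep : (Polynomial.X ^ Nat.card Γ - Polynomial.C (1 : k)).Separable :=
    Polynomial.separable_X_pow_sub_C (1 : k) h one_ne_zero
  apply Module.End.isSemisimple_of_squarefree_aeval_eq_zero hsep.squarefree
  rw [map_sub, map_pow, Polynomial.aeval_X, Polynomial.aeval_C, apply_pow_card, map_one, sub_self]

section weights

variable (ρ : Representation k Γ W) (A : Subgroup Γ)

/-- the simultaneous eigenspace of `A` for the "character" `χ` -/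
def wt (χ : A → k) : Submodule k W := ⨅ a : A, End.eigenspace (ρ (a : Γ)) (χ a)

theorem mem_wt {χ : A → k} {w : W} : w ∈ wt ρ A χ ↔ ∀ a : A, ρ (a : Γ) w = χ a • w := by
  unfold wt
  rw [Submodule.mem_iInf]
  exact forall_congr' fun a => End.mem_eigenspace_iff

variable [Finite Γ] [FiniteDimensional k W]

theorem wt_eq (h : (Nat.card Γ : k) ≠ 0) (χ : A → k) :
    wt ρ A χ = ⨅ a : A, End.maxGenEigenspace (ρ (a : Γ)) (χ a) := by
  unfold wt
  congr 1
  funext a
  exact ((isSemisimple_apply h ρ (a : Γ)).isFinitelySemisimple.maxGenEigenspace_eq_eigenspace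
    (χ a)).symm

theorem iSupIndep_wt (h : (Nat.card Γ : k) ≠ 0)
    (hcomm : ∀ a b : A, Commute (ρ (a : Γ)) (ρ (b : Γ))) : iSupIndep (wt ρ A) := by
  have h1 : wt ρ A = fun χ : A → k => ⨅ a : A, End.maxGenEigenspace (ρ (a : Γ)) (χ a) := by
    funext χ
    exact wt_eq ρ A h χ
  rw [h1]
  apply End.independent_iInf_maxGenEigenspace_of_forall_mapsTo
  intro a b φ
  exact End.mapsTo_maxGenEigenspace_of_comm (hcomm b a) φ

theorem iSup_wt_eq_top [IsAlgClosed k] (h : (Nat.card Γ : k) ≠ 0)
    (hcomm : ∀ a b : A, Commute (ρ (a : Γ)) (ρ (b : Γ))) : ⨆ χ : A → k, wt ρ A χ = ⊤ := by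
  have h1 : wt ρ A = fun χ : A → k => ⨅ a : A, End.maxGenEigenspace (ρ (a : Γ)) (χ a) := by
    funext χ
    exact wt_eq ρ A h χ
  rw [h1]
  apply End.iSup_iInf_maxGenEigenspace_eq_top_of_iSup_maxGenEigenspace_eq_top_of_commute
  · intro a b _
    exact hcomm a b
  · intro a
    exact End.iSup_maxGenEigenspace_eq_top _

end weights

end Cfsg.Agent.Lib.H19.ModRep
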