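import Mathlib
import Cfsg.Agent.Lib.H19.ModRepBasic

/-!
# A Frobenius-type group acting with small fixed space (helper19)

`N` a nilpotent normal subgroup of the finite group `Γ`, `x ∈ Γ` with `x ^ r = 1` such that no
`x ^ j` (`0 < j < r`) centralizes a nonidentity element of `N`.  If `ρ` is a representation of `Γ`
over an algebraically closed field of characteristic prime to `|Γ|` in which any two `x`-fixed
vectors are linearly dependent, then `ρ(N)` is commutative (`comm_of_dep`).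
-/

set_option autoImplicit false

namespace Cfsg.Agent.Lib.H19.ModRep

open Module
open scoped commutatorElement

universe u v w

variable {k : Type u} [Field k] {Γ : Type v} [Group Γ]

/-- any two `x`-fixed vectors are linearly dependent -/
def Dep {W : Type w} [AddCommGroup W] [Module k W] (ρ : Representation k Γ W) (x : Γ) : Prop :=
  ∀ u u' : W, ρ x u = u → ρ x u' = u' → ∃ a b : k, (a ≠ 0 ∨ b ≠ 0) ∧ a • u + b • u' = 0

theorem Dep.sub {W : Type w} [AddCommGroup W] [Module k W] {ρ : Representation k Γ W} {x : Γ}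
    (h : Dep ρ x) (U : Submodule k W) (hU : Inv ρ U) : Dep (sub ρ U hU) x := by
  intro u u' hu hu'
  have h1 : ρ x (u : W) = u := congrArg Subtype.val hu
  have h2 : ρ x (u' : W) = u' := congrArg Subtype.val hu'
  obtain ⟨a, b, hab, h3⟩ := h u u' h1 h2
  refine ⟨a, b, hab, ?_⟩
  apply Subtype.ext
  simpa using h3

/-- the hypotheses on `N` and `x` -/
structure FrobData (N : Subgroup Γ) (x : Γ) (r : ℕ) : Prop where
  normal : N.Normal
  pos : 0 < r
  pow : x ^ r = 1
  fpf : ∀ j, 0 < j → j < r → ∀ n ∈ N, x ^ j * n = n * x ^ j → n = 1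
  nil : Group.IsNilpotent N

section

variable {W : Type w} [AddCommGroup W] [Module k W] (ρ : Representation k Γ W) (N : Subgroup Γ)

/-- elements of `N` acting centrally on `ρ(N)` -/
def cen : Subgroup Γ where
  carrier := {a | a ∈ N ∧ ∀ n ∈ N, ρ a * ρ n = ρ n * ρ a}
  one_mem' := ⟨N.one_mem, fun n _ => by rw [map_one, one_mul, mul_one]⟩
  mul_mem' := by
    rintro a b ⟨ha, ha'⟩ ⟨hb, hb'⟩
    refine ⟨N.mul_mem ha hb, fun n hn => ?_⟩
    rw [map_mul, mul_assoc, hb' n hn, ← mul_assoc, ha' n hn, mul_assoc]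
  inv_mem' := by
    rintro a ⟨ha, ha'⟩
    refine ⟨N.inv_mem ha, fun n hn => ?_⟩
    have h1 : ρ a⁻¹ * ρ a = 1 := by rw [← map_mul, inv_mul_cancel, map_one]
    have h2 : ρ a * ρ a⁻¹ = 1 := by rw [← map_mul, mul_inv_cancel, map_one]
    calc ρ a⁻¹ * ρ n = ρ a⁻¹ * ρ n * (ρ a * ρ a⁻¹) := by rw [h2, mul_one]
      _ = ρ a⁻¹ * (ρ n * ρ a) * ρ a⁻¹ := by simp only [mul_assoc]
      _ = ρ a⁻¹ * (ρ a * ρ n) * ρ a⁻¹ := by rw [ha' n hn]
      _ = (ρ a⁻¹ * ρ a) * ρ n * ρ a⁻¹ := by simp only [mul_assoc]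
      _ = ρ n * ρ a⁻¹ := by rw [h1, one_mul]

theorem mem_cen {a : Γ} : a ∈ cen ρ N ↔ a ∈ N ∧ ∀ n ∈ N, ρ a * ρ n = ρ n * ρ a := Iff.rfl

theorem cen_le : cen ρ N ≤ N := fun _ h => h.1

theorem cen_conj [hN : N.Normal] {a : Γ} (ha : a ∈ cen ρ N) (g : Γ) : g * a * g⁻¹ ∈ cen ρ N := by
  refine ⟨hN.conj_mem a ha.1 g, fun n hn => ?_⟩
  have hn' : g⁻¹ * n * g ∈ N := by
    have := hN.conj_mem n hn g⁻¹
    simpa using this
  have h1 := ha.2 _ hn'
  have e1 : ρ (g * a * g⁻¹) * ρ n = ρ g * (ρ a * ρ (g⁻¹ * n * g)) * ρ g⁻¹ := by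
    simp only [← map_mul]
    congr 1
    group
  have e2 : ρ n * ρ (g * a * g⁻¹) = ρ g * (ρ (g⁻¹ * n * g) * ρ a) * ρ g⁻¹ := by
    simp only [← map_mul]
    congr 1
    group
  rw [e1, e2, h1]

theorem cen_commute (a b : cen ρ N) : Commute (ρ (a : Γ)) (ρ (b : Γ)) :=
  a.2.2 b b.2.1

/-- a nilpotent group acting nontrivially has an element acting nontrivially and centrally -/
theorem exists_cen_ne_one (hnil : Group.IsNilpotent N) (h : ¬ ∀ n ∈ N, ρ n = 1) :
    ∃ z ∈ cen ρ N, ρ z ≠ 1 := by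
  classical
  let P : ℕ → Prop := fun i => ∀ n ∈ N.lowerCentralSeries i, ρ n = 1
  have hex : ∃ i, P i := by
    obtain ⟨c, hc⟩ := (Subgroup.isNilpotent_iff_lowerCentralSeries N).mp hnil
    refine ⟨c, fun n hn => ?_⟩
    rw [hc, Subgroup.mem_bot] at hn
    rw [hn, map_one]
  have h0 : ¬ P 0 := by
    intro h0
    apply h
    intro n hn
    exact h0 n (by rw [Subgroup.lowerCentralSeries_zero]; exact hn)
  have hi0 : Nat.find hex ≠ 0 := by
    intro h'
    apply h0
    rw [← h']
    exact Nat.find_spec hex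
  obtain ⟨i, hi⟩ := Nat.exists_eq_succ_of_ne_zero hi0
  have hPi : ¬ P i := Nat.find_min hex (by rw [hi]; exact Nat.lt_succ_self i)
  have hPi1 : P (i + 1) := by
    have := Nat.find_spec hex
    rwa [hi] at this
  simp only [P] at hPi
  push Not at hPi
  obtain ⟨z, hz, hz1⟩ := hPi
  have hzN : z ∈ N := by
    have := Subgroup.lowerCentralSeries_antitone N (Nat.zero_le i) hz
    rwa [Subgroup.lowerCentralSeries_zero] at this
  refine ⟨z, ⟨hzN, fun n hn => ?_⟩, hz1⟩
  have h1 : ⁅z, n⁆ ∈ N.lowerCentralSeries (i + 1) := by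
    rw [Subgroup.lowerCentralSeries_succ]
    exact Subgroup.commutator_mem_commutator hz hn
  have h2 := hPi1 _ h1
  rw [commutatorElement_def] at h2
  have h4 : ρ z * ρ n = ρ (z * n * z⁻¹ * n⁻¹) * (ρ n * ρ z) := by
    simp only [← map_mul]
    congr 1
    group
  rw [h4, h2, one_mul]

end

section main

variable [IsAlgClosed k] [Finite Γ]

/-- **Main theorem**: `ρ(N)` is commutative if any two `x`-fixed vectors are dependent. -/
theorem comm_of_dep (hk : (Nat.card Γ : k) ≠ 0) {N : Subgroup Γ} {x : Γ} {r : ℕ}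
    (hF : FrobData N x r) :
    ∀ (d : ℕ) (W : Type w) [AddCommGroup W] [Module k W] [FiniteDimensional k W]
      (ρ : Representation k Γ W), finrank k W = d → Dep ρ x →
      ∀ n ∈ N, ∀ n' ∈ N, ρ n * ρ n' = ρ n' * ρ n := by
  haveI : NeZero (Nat.card Γ : k) := ⟨hk⟩
  haveI := hF.normal
  intro d
  induction d using Nat.strong_induction_on with
  | _ d ih =>
  intro W _ _ _ ρ hd hdep
  by_cases htriv : ∀ n ∈ N, ρ n = 1
  · intro n hn n' hn'
    rw [htriv n hn, htriv n' hn']
  obtain ⟨z, hzA, hz1⟩ := exists_cen_ne_one ρ N hF.nil htriv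
  set A := cen ρ N with hA
  -- the fixed space of `A`
  set W₁ : Submodule k W := wt ρ A (fun _ => 1) with hW₁
  have hW₁mem : ∀ w, w ∈ W₁ ↔ ∀ a ∈ A, ρ a w = w := by
    intro w
    rw [hW₁, mem_wt]
    constructor
    · intro h a ha
      have := h ⟨a, ha⟩
      rwa [one_smul] at this
    · intro h a
      rw [one_smul]
      exact h a a.2
  have hW₁inv : Inv ρ W₁ := by
    intro g u hu
    rw [hW₁mem] at hu ⊢
    intro a ha
    have h1 : g⁻¹ * a * g ∈ A := by
      have := cen_conj ρ N ha g⁻¹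
      simpa using this
    have h2 := hu _ h1
    have e : ρ a (ρ g u) = ρ g (ρ (g⁻¹ * a * g) u) := by
      rw [← Module.End.mul_apply, ← Module.End.mul_apply, ← map_mul, ← map_mul]
      congr 2
      group
    rw [e, h2]
  obtain ⟨W₂, hW₂inv, hc⟩ := exists_compl ρ W₁ hW₁inv
  have hW₁top : W₁ ≠ ⊤ := by
    intro h
    apply hz1
    apply LinearMap.ext
    intro w
    have : w ∈ W₁ := by rw [h]; trivial
    exact (hW₁mem w).mp this z hzA
  by_cases hW₁bot : W₁ = ⊥
  · -- the main case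
    have hcommA : ∀ a b : A, Commute (ρ (a : Γ)) (ρ (b : Γ)) := cen_commute ρ N
    have hsup := iSup_wt_eq_top ρ A hk hcommA
    have hind := iSupIndep_wt ρ A hk hcommA
    let cj : Γ → A → A := fun g a => ⟨g * a * g⁻¹, cen_conj ρ N a.2 g⟩
    have htw : ∀ (y : Γ) (χ : A → k) (u : W), u ∈ wt ρ A χ →
        ρ y u ∈ wt ρ A (fun a => χ (cj y⁻¹ a)) := by
      intro y χ u hu
      rw [mem_wt] at hu ⊢
      intro a
      have h1 := hu (cj y⁻¹ a)
      have e : ρ (a : Γ) (ρ y u) = ρ y (ρ ((cj y⁻¹ a : A) : Γ) u) := by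
        rw [← Module.End.mul_apply, ← Module.End.mul_apply, ← map_mul, ← map_mul]
        congr 2
        show (a : Γ) * y = y * (y⁻¹ * a * y⁻¹⁻¹)
        group
      rw [e, h1, map_smul]
    -- characters fixed by a power of `x` have trivial weight space
    have hfix : ∀ (j : ℕ), 0 < j → j < r → ∀ (χ : A → k),
        (∀ a, χ (cj (x ^ j)⁻¹ a) = χ a) → ∀ u ∈ wt ρ A χ, u = 0 := by
      intro j hj0 hjr χ hχ u hu
      have hmem : u ∈ W₁ := by
        rw [hW₁mem]
        intro c hc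
        have hinj : Function.Injective (fun a : A => a⁻¹ * cj (x ^ j)⁻¹ a) := by
          intro a b hab
          have h1 : ((a : Γ))⁻¹ * ((x ^ j)⁻¹ * a * (x ^ j)⁻¹⁻¹) =
              ((b : Γ))⁻¹ * ((x ^ j)⁻¹ * b * (x ^ j)⁻¹⁻¹) := congrArg Subtype.val hab
          have h2 : x ^ j * ((b : Γ) * (a : Γ)⁻¹) = ((b : Γ) * (a : Γ)⁻¹) * x ^ j := by
            have e1 : x ^ j * ((b : Γ) * (a : Γ)⁻¹) =
                x ^ j * b * (((a : Γ))⁻¹ * ((x ^ j)⁻¹ * a * (x ^ j)⁻¹⁻¹)) * (x ^ j)⁻¹ * (a : Γ)⁻¹ * x ^ j := by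
              group
            rw [e1, h1]
            group
          have h3 := hF.fpf j hj0 hjr _ (N.mul_mem (cen_le ρ N b.2) (N.inv_mem (cen_le ρ N a.2))) h2
          apply Subtype.ext
          exact (mul_inv_eq_one.mp h3).symm
        have hsurj := Finite.injective_iff_surjective.mp hinj
        obtain ⟨a, ha⟩ := hsurj ⟨c, hc⟩
        have hc' : c = (a : Γ)⁻¹ * ((cj (x ^ j)⁻¹ a : A) : Γ) := by
          have := congrArg Subtype.val ha
          exact this.symm
        rw [mem_wt] at hu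
        rw [hc', map_mul, Module.End.mul_apply, hu (cj (x ^ j)⁻¹ a), hχ a, map_smul, ← map_smul,
          ← hu a, ← Module.End.mul_apply, ← map_mul, inv_mul_cancel, map_one,
          Module.End.one_apply]
      rw [hW₁bot] at hmem
      exact (Submodule.mem_bot k).mp hmem
    -- the averaging map
    let v : W →ₗ[k] W := ∑ j ∈ Finset.range r, ρ (x ^ j)
    have hvapp : ∀ u, v u = ∑ j ∈ Finset.range r, ρ (x ^ j) u := by
      intro u
      simp only [v, LinearMap.sum_apply]
    have hvfix : ∀ u, ρ x (v u) = v u := by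
      intro u
      rw [hvapp, map_sum]
      have h1 : ∀ j, ρ x (ρ (x ^ j) u) = ρ (x ^ (j + 1)) u := by
        intro j
        rw [pow_succ', map_mul, Module.End.mul_apply]
      simp only [h1]
      have h2 := Finset.sum_range_succ' (fun j => ρ (x ^ j) u) r
      have h3 := Finset.sum_range_succ (fun j => ρ (x ^ j) u) r
      rw [h3, hF.pow, pow_zero] at h2
      exact (add_right_cancel h2).symm
    -- `v` is injective on weight spaces
    have hI : ∀ (χ : A → k), ∀ u ∈ wt ρ A χ, v u = 0 → u = 0 := by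
      intro χ u hu hvu
      by_cases hex : ∃ j, 0 < j ∧ j < r ∧ ∀ a, χ (cj (x ^ j)⁻¹ a) = χ a
      · obtain ⟨j, h0, hr, hχ⟩ := hex
        exact hfix j h0 hr χ hχ u hu
      · push Not at hex
        have h1 : u = -(∑ j ∈ Finset.Ico 1 r, ρ (x ^ j) u) := by
          rw [hvapp, Finset.range_eq_Ico, Finset.sum_eq_sum_Ico_succ_bot hF.pos, pow_zero, map_one,
            Module.End.one_apply] at hvu
          exact eq_neg_of_add_eq_zero_left hvu
        have h2 : (∑ j ∈ Finset.Ico 1 r, ρ (x ^ j) u) ∈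
            ⨆ (χ' : A → k) (_ : χ' ≠ χ), wt ρ A χ' := by
          apply Submodule.sum_mem
          intro j hj
          have hj' := Finset.mem_Ico.mp hj
          have hne : (fun a => χ (cj (x ^ j)⁻¹ a)) ≠ χ := by
            intro h
            obtain ⟨a, ha⟩ := hex j (by omega) hj'.2
            exact ha (congrFun h a)
          exact Submodule.mem_iSup_of_mem _ (Submodule.mem_iSup_of_mem hne (htw (x ^ j) χ u hu))
        have h3 := hind χ
        have h4 : u ∈ wt ρ A χ ⊓ ⨆ (χ' : A → k) (_ : χ' ≠ χ), wt ρ A χ' := by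
          refine ⟨hu, ?_⟩
          rw [h1]
          exact Submodule.neg_mem _ h2
        rw [h3.eq_bot] at h4
        exact (Submodule.mem_bot k).mp h4
    -- weight spaces are at most one-dimensional
    have hD : ∀ (χ : A → k), ∀ u ∈ wt ρ A χ, ∀ u' ∈ wt ρ A χ,
        ∃ a b : k, (a ≠ 0 ∨ b ≠ 0) ∧ a • u + b • u' = 0 := by
      intro χ u hu u' hu'
      obtain ⟨a, b, hab, h⟩ := hdep (v u) (v u') (hvfix u) (hvfix u')
      refine ⟨a, b, hab, hI χ _ (Submodule.add_mem _ (Submodule.smul_mem _ a hu)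
        (Submodule.smul_mem _ b hu')) ?_⟩
      rw [map_add, map_smul, map_smul]
      exact h
    -- `N` preserves the weight spaces
    have hNw : ∀ m ∈ N, ∀ (χ : A → k), ∀ u ∈ wt ρ A χ, ρ m u ∈ wt ρ A χ := by
      intro m hm χ u hu
      rw [mem_wt] at hu ⊢
      intro a
      have h1 : ρ (a : Γ) * ρ m = ρ m * ρ (a : Γ) := a.2.2 m hm
      have h2 := congrArg (fun f : Module.End k W => f u) h1
      simp only [Module.End.mul_apply] at h2
      rw [h2, hu a, map_smul]
    intro n hn n' hn'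
    have hle : ∀ χ : A → k, wt ρ A χ ≤ LinearMap.eqLocus (ρ n * ρ n') (ρ n' * ρ n) := by
      intro χ u hu
      rw [LinearMap.mem_eqLocus, Module.End.mul_apply, Module.End.mul_apply]
      by_cases hu0 : u = 0
      · rw [hu0, map_zero, map_zero, map_zero]
      have key : ∀ m ∈ N, ∃ c : k, ρ m u = c • u := by
        intro m hm
        obtain ⟨a, b, hab, h⟩ := hD χ (ρ m u) (hNw m hm χ u hu) u hu
        have ha : a ≠ 0 := by
          intro ha
          rw [ha, zero_smul, zero_add] at h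
          rcases hab with h' | h'
          · exact h' ha
          · exact hu0 ((smul_eq_zero.mp h).resolve_left h')
        refine ⟨-(a⁻¹ * b), ?_⟩
        have h1 : a • ρ m u = -(b • u) := eq_neg_of_add_eq_zero_left h
        have h2 : ρ m u = a⁻¹ • (a • ρ m u) := by rw [smul_smul, inv_mul_cancel₀ ha, one_smul]
        rw [h2, h1, smul_neg, smul_smul, neg_smul]
      obtain ⟨c, hc⟩ := key n hn
      obtain ⟨c', hc'⟩ := key n' hn'
      rw [hc', map_smul, hc, map_smul, hc', smul_smul, smul_smul, mul_comm]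
    have htop : (⊤ : Submodule k W) ≤ LinearMap.eqLocus (ρ n * ρ n') (ρ n' * ρ n) := by
      rw [← hsup]
      exact iSup_le hle
    apply LinearMap.ext
    intro w
    exact htop (Submodule.mem_top)
  · -- induction
    have hW₂top : W₂ ≠ ⊤ := by
      intro h
      apply hW₁bot
      have := hc.inf_eq_bot
      rwa [h, inf_top_eq] at this
    have hd1 : finrank k W₁ < d := hd ▸ Submodule.finrank_lt hW₁top
    have hd2 : finrank k W₂ < d := hd ▸ Submodule.finrank_lt hW₂top
    have ih1 := ih _ hd1 W₁ (sub ρ W₁ hW₁inv) rfl (hdep.sub W₁ hW₁inv)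
    have ih2 := ih _ hd2 W₂ (sub ρ W₂ hW₂inv) rfl (hdep.sub W₂ hW₂inv)
    intro n hn n' hn'
    apply LinearMap.ext
    intro w
    obtain ⟨w₁, hw₁, w₂, hw₂, rfl⟩ := Submodule.mem_sup.mp
      (show w ∈ W₁ ⊔ W₂ by rw [hc.sup_eq_top]; trivial)
    have e1 := congrArg (fun f : Module.End k W₁ => ((f ⟨w₁, hw₁⟩ : W₁) : W)) (ih1 n hn n' hn')
    have e2 := congrArg (fun f : Module.End k W₂ => ((f ⟨w₂, hw₂⟩ : W₂) : W)) (ih2 n hn n' hn')
    simp only [Module.End.mul_apply, sub_apply] at e1 e2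
    rw [Module.End.mul_apply, Module.End.mul_apply, map_add, map_add, map_add, map_add, e1, e2]

end main

end Cfsg.Agent.Lib.H19.ModRep
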