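import Mathlib
import Cfsg.Agent.Lib.H19.ModRepFrob

/-!
# Base change of representations (helper19)

`bc K ρ` : the representation `K ⊗[F] V` obtained from `ρ : Representation F Γ V`.
* `bc_injective` : equalities of operators descend.
* `dep_bc` : if the `x`-fixed vectors of `ρ` lie on a line then `Dep (bc K ρ) x`.
-/

set_option autoImplicit false

namespace Cfsg.Agent.Lib.H19.ModRep

open Module TensorProduct

variable {F : Type*} [Field F] (K : Type*) [Field K] [Algebra F K] {Γ : Type*} [Group Γ]
  {V : Type*} [AddCommGroup V] [Module F V]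

/-- base change of a representation -/
noncomputable def bc (ρ : Representation F Γ V) : Representation K Γ (K ⊗[F] V) where
  toFun g := (ρ g).baseChange K
  map_one' := by rw [map_one]; exact LinearMap.baseChange_one F V
  map_mul' g h := by rw [map_mul]; exact LinearMap.baseChange_mul _ _

@[simp] theorem bc_apply (ρ : Representation F Γ V) (g : Γ) :
    bc K ρ g = (ρ g).baseChange K := rfl

theorem bc_tmul (ρ : Representation F Γ V) (g : Γ) (a : K) (v : V) :
    bc K ρ g (a ⊗ₜ[F] v) = a ⊗ₜ[F] ρ g v := by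
  rw [bc_apply, LinearMap.baseChange_tmul]

/-- operator identities descend along base change -/
theorem bc_injective {f g : Module.End F V}
    (h : f.baseChange K = g.baseChange K) : f = g := by
  have := LinearMap.baseChangeHom_injective (R := F) (S := K) (M := V) (N := V)
  exact this h

theorem comm_of_bc_comm (ρ : Representation F Γ V) {n n' : Γ}
    (h : bc K ρ n * bc K ρ n' = bc K ρ n' * bc K ρ n) : ρ n * ρ n' = ρ n' * ρ n := by
  apply bc_injective K
  rw [LinearMap.baseChange_mul, LinearMap.baseChange_mul]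
  exact h

/-- if the `x`-fixed vectors of `ρ` lie on a line, the same holds after base change -/
theorem dep_bc [Finite Γ] (hK : (Nat.card Γ : K) ≠ 0) (ρ : Representation F Γ V) (x : Γ) (v₀ : V)
    (hfix : ∀ v : V, ρ x v = v → ∃ c : F, v = c • v₀) : Dep (bc K ρ) x := by
  classical
  set m := Nat.card Γ with hm
  have hxm : x ^ m = 1 := pow_card_eq_one'
  -- the averaging operator
  let P : Module.End F V := ∑ j ∈ Finset.range m, ρ (x ^ j)
  have hPfix : ∀ v, ρ x (P v) = P v := by
    intro v
    simp only [P, LinearMap.sum_apply, map_sum]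
    have h1 : ∀ j, ρ x (ρ (x ^ j) v) = ρ (x ^ (j + 1)) v := by
      intro j
      rw [pow_succ', map_mul, Module.End.mul_apply]
    simp only [h1]
    have h2 := Finset.sum_range_succ' (fun j => ρ (x ^ j) v) m
    have h3 := Finset.sum_range_succ (fun j => ρ (x ^ j) v) m
    rw [h3, hxm, pow_zero] at h2
    exact (add_right_cancel h2).symm
  -- its base change
  have hPK : ∀ w : K ⊗[F] V, P.baseChange K w = ∑ j ∈ Finset.range m, bc K ρ (x ^ j) w := by
    intro w
    have h1 : P.baseChange K = ∑ j ∈ Finset.range m, (ρ (x ^ j)).baseChange K :=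
      map_sum (Module.End.baseChangeHom F K V) _ _
    rw [h1, LinearMap.sum_apply]
    rfl
  have hline : ∀ w : K ⊗[F] V, ∃ c : K, P.baseChange K w = c • ((1 : K) ⊗ₜ[F] v₀) := by
    intro w
    induction w using TensorProduct.induction_on with
    | zero => exact ⟨0, by rw [map_zero, zero_smul]⟩
    | tmul a v =>
      obtain ⟨c, hc⟩ := hfix (P v) (hPfix v)
      refine ⟨a * algebraMap F K c, ?_⟩
      rw [LinearMap.baseChange_tmul, hc, ← TensorProduct.smul_tmul, TensorProduct.smul_tmul',
        smul_eq_mul, mul_one, Algebra.smul_def, mul_comm]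
    | add w w' hw hw' =>
      obtain ⟨c, hc⟩ := hw
      obtain ⟨c', hc'⟩ := hw'
      exact ⟨c + c', by rw [map_add, hc, hc', add_smul]⟩
  have hfixK : ∀ w : K ⊗[F] V, bc K ρ x w = w → ∃ c : K, w = c • ((1 : K) ⊗ₜ[F] v₀) := by
    intro w hw
    have hpow : ∀ j : ℕ, bc K ρ (x ^ j) w = w := by
      intro j
      induction j with
      | zero => rw [pow_zero, map_one, Module.End.one_apply]
      | succ j ih => rw [pow_succ, map_mul, Module.End.mul_apply, hw, ih]
    obtain ⟨c, hc⟩ := hline w
    rw [hPK w] at hc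
    simp only [hpow] at hc
    rw [Finset.sum_const, Finset.card_range, ← Nat.cast_smul_eq_nsmul K] at hc
    refine ⟨(m : K)⁻¹ * c, ?_⟩
    rw [← smul_smul, ← hc, smul_smul, inv_mul_cancel₀ hK, one_smul]
  intro w w' hw hw'
  obtain ⟨c, hc⟩ := hfixK w hw
  obtain ⟨c', hc'⟩ := hfixK w' hw'
  by_cases h0 : c = 0 ∧ c' = 0
  · refine ⟨1, 0, Or.inl one_ne_zero, ?_⟩
    rw [hc, h0.1, zero_smul, smul_zero, zero_smul, add_zero]
  · refine ⟨c', -c, ?_, ?_⟩
    · by_contra hcon
      push Not at hcon
      exact h0 ⟨neg_eq_zero.mp hcon.2, hcon.1⟩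
    · rw [hc, hc', smul_smul, smul_smul, neg_mul, neg_smul, mul_comm, add_neg_cancel]

end Cfsg.Agent.Lib.H19.ModRep
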