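import Mathlib
import Cfsg.Agent.Lib.H1.QuadMul
import Cfsg.Agent.Lib.H19.ModRepBC

/-!
# From conjugation on an elementary abelian subgroup to a linear representation (helper19)

`conjRep G V hGV` : the representation of `↥G` on the `𝔽_ℓ`-space `EA ℓ ↥V` (helper1's `QuadMul`)
given by conjugation, for `G ≤ N(V)`.
-/

set_option autoImplicit false

namespace Cfsg.Agent.Lib.H19.ModRep

open Cfsg.Agent.Lib.H1.QuadMul

variable {X : Type*} [Group X] {ℓ : ℕ}

/-- the conjugation representation -/
noncomputable def conjRep (G V : Subgroup X) [IsEA ℓ ↥V]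
    (hGV : G ≤ Subgroup.normalizer (V : Set X)) : Representation (ZMod ℓ) ↥G (EA ℓ ↥V) where
  toFun g := (mulAutToLin ℓ ↥V (act V G hGV g)).toLinearMap
  map_one' := by rw [map_one, map_one]; rfl
  map_mul' g h := by rw [map_mul, map_mul]; rfl

theorem conjRep_apply (G V : Subgroup X) [IsEA ℓ ↥V]
    (hGV : G ≤ Subgroup.normalizer (V : Set X)) (g : G) (v : EA ℓ ↥V) :
    (((conjRep G V hGV g v).val : ↥V) : X) = (g : X) * (v.val : X) * (g : X)⁻¹ := rfl

theorem conjRep_eq_self_iff (G V : Subgroup X) [IsEA ℓ ↥V]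
    (hGV : G ≤ Subgroup.normalizer (V : Set X)) (g : G) (v : EA ℓ ↥V) :
    conjRep G V hGV g v = v ↔ (g : X) * (v.val : X) = (v.val : X) * (g : X) := by
  constructor
  · intro h
    have h1 := congrArg (fun w : EA ℓ ↥V => ((w.val : ↥V) : X)) h
    simp only [conjRep_apply] at h1
    calc (g : X) * (v.val : X) = ((g : X) * (v.val : X) * (g : X)⁻¹) * g := by group
      _ = (v.val : X) * g := by rw [h1]
  · intro h
    have h1 : (conjRep G V hGV g v).val = v.val := by
      apply Subtype.ext
      rw [conjRep_apply (ℓ := ℓ), h]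
      group
    exact h1

theorem conjRep_eq_one_iff (G V : Subgroup X) [IsEA ℓ ↥V]
    (hGV : G ≤ Subgroup.normalizer (V : Set X)) (g : G) :
    conjRep (ℓ := ℓ) G V hGV g = 1 ↔ (g : X) ∈ Subgroup.centralizer (V : Set X) := by
  rw [Subgroup.mem_centralizer_iff]
  constructor
  · intro h v hv
    have h1 := congrArg (fun f : Module.End (ZMod ℓ) (EA ℓ ↥V) => f (EA.of ℓ ⟨v, hv⟩)) h
    simp only [Module.End.one_apply] at h1
    have h2 := (conjRep_eq_self_iff G V hGV g _).mp h1
    exact h2.symm
  · intro h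
    apply LinearMap.ext
    intro v
    rw [Module.End.one_apply, conjRep_eq_self_iff]
    exact (h _ v.val.2).symm

end Cfsg.Agent.Lib.H19.ModRep
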