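import Mathlib
import Cfsg.Agent.Lib.H19.ModRepBasic

/-!
# A prime-order element acting without fixed vectors centralizes abelian normal subgroups
(modulo the kernel) (helper19)

`abelian_fix` : `ρ(A)` commutative, `x` normalizes `A`, `x ^ r = 1` with `r` prime, and `ρ x` has no
nonzero fixed vector. Then `ρ (x a x⁻¹) = ρ a` for all `a ∈ A`.
-/

set_option autoImplicit false

namespace Cfsg.Agent.Lib.H19.ModRep

open Module

variable {k : Type*} [Field k] {Γ : Type*} [Group Γ] {W : Type*} [AddCommGroup W] [Module k W]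

theorem abelian_fix [IsAlgClosed k] [FiniteDimensional k W] [Finite Γ]
    (hk : (Nat.card Γ : k) ≠ 0) (ρ : Representation k Γ W) (A : Subgroup Γ)
    (hcomm : ∀ a b : A, Commute (ρ (a : Γ)) (ρ (b : Γ)))
    (x : Γ) {r : ℕ} (hr : r.Prime) (hxr : x ^ r = 1) (hxA : ∀ a ∈ A, x * a * x⁻¹ ∈ A)
    (hfpf : ∀ w, ρ x w = w → w = 0) : ∀ a ∈ A, ρ (x * a * x⁻¹) = ρ a := by
  classical
  have hsup := iSup_wt_eq_top ρ A hk hcomm
  have hind := iSupIndep_wt ρ A hk hcomm
  -- conjugation by powers of `x`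
  have hxjA : ∀ (j : ℕ), ∀ a ∈ A, x ^ j * a * (x ^ j)⁻¹ ∈ A := by
    intro j
    induction j with
    | zero => intro a ha; simpa using ha
    | succ j ih =>
      intro a ha
      have h1 := hxA _ (ih a ha)
      have e : x ^ (j + 1) * a * (x ^ (j + 1))⁻¹ = x * (x ^ j * a * (x ^ j)⁻¹) * x⁻¹ := by
        rw [pow_succ']
        group
      rw [e]
      exact h1
  have hxinv : x⁻¹ = x ^ (r - 1) := by
    have h1 : x ^ (r - 1) * x = 1 := by
      rw [← pow_succ, Nat.sub_add_cancel hr.pos, hxr]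
    exact inv_eq_of_mul_eq_one_left h1
  have hxA' : ∀ a ∈ A, x⁻¹ * a * x ∈ A := by
    intro a ha
    have := hxjA (r - 1) a ha
    rw [← hxinv, inv_inv] at this
    exact this
  -- the twist on characters
  let tw : (A → k) → (A → k) := fun χ a => χ ⟨x⁻¹ * a * x, hxA' a a.2⟩
  have htw : ∀ (χ : A → k) (u : W), u ∈ wt ρ A χ → ρ x u ∈ wt ρ A (tw χ) := by
    intro χ u hu
    rw [mem_wt] at hu ⊢
    intro a
    have h1 := hu ⟨x⁻¹ * a * x, hxA' a a.2⟩
    have e : ρ (a : Γ) (ρ x u) = ρ x (ρ (x⁻¹ * a * x) u) := by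
      rw [← Module.End.mul_apply, ← Module.End.mul_apply, ← map_mul, ← map_mul]
      congr 2
      group
    rw [e, h1, map_smul]
  have htwj : ∀ (j : ℕ) (χ : A → k) (u : W), u ∈ wt ρ A χ →
      ρ (x ^ j) u ∈ wt ρ A (tw^[j] χ) := by
    intro j
    induction j with
    | zero => intro χ u hu; simpa using hu
    | succ j ih =>
      intro χ u hu
      rw [pow_succ', map_mul, Module.End.mul_apply, Function.iterate_succ_apply']
      exact htw _ _ (ih χ u hu)
  have htwj_apply : ∀ (j : ℕ) (χ : A → k) (a : A),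
      tw^[j] χ a = χ ⟨(x ^ j)⁻¹ * a * x ^ j, by
        have := hxjA (j * (r - 1)) a a.2
        rw [pow_mul', ← hxinv, inv_pow, inv_inv] at this
        exact this⟩ := by
    intro j
    induction j with
    | zero =>
      intro χ a
      simp
    | succ j ih =>
      intro χ a
      rw [Function.iterate_succ_apply, ih]
      show χ _ = χ _
      congr 1
      apply Subtype.ext
      show x⁻¹ * ((x ^ j)⁻¹ * a * x ^ j) * x = (x ^ (j + 1))⁻¹ * a * x ^ (j + 1)
      rw [pow_succ]
      group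
  have htwr : ∀ χ : A → k, tw^[r] χ = χ := by
    intro χ
    funext a
    rw [htwj_apply]
    congr 1
    apply Subtype.ext
    show (x ^ r)⁻¹ * a * x ^ r = a
    rw [hxr]
    group
  -- characters with nonzero weight space are fixed by the twist
  have hfix : ∀ χ : A → k, ∀ u ∈ wt ρ A χ, u ≠ 0 → tw χ = χ := by
    intro χ u hu hu0
    by_contra hne
    have hper : Function.IsPeriodicPt tw r χ := htwr χ
    have hmin : Function.minimalPeriod tw χ = r := by
      have h1 := hper.minimalPeriod_dvd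
      rcases (Nat.dvd_prime hr).mp h1 with h2 | h2
      · exfalso
        apply hne
        exact Function.minimalPeriod_eq_one_iff_isFixedPt.mp h2
      · exact h2
    have hj : ∀ j, 0 < j → j < r → tw^[j] χ ≠ χ := by
      intro j hj0 hjr h
      have : Function.IsPeriodicPt tw j χ := h
      exact Function.not_isPeriodicPt_of_pos_of_lt_minimalPeriod hj0.ne' (hmin ▸ hjr) this
    -- the averaged vector is fixed
    have hsumfix : ρ x (∑ j ∈ Finset.range r, ρ (x ^ j) u) = ∑ j ∈ Finset.range r, ρ (x ^ j) u := by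
      rw [map_sum]
      have h1 : ∀ j, ρ x (ρ (x ^ j) u) = ρ (x ^ (j + 1)) u := by
        intro j
        rw [pow_succ', map_mul, Module.End.mul_apply]
      simp only [h1]
      have h2 := Finset.sum_range_succ' (fun j => ρ (x ^ j) u) r
      have h3 := Finset.sum_range_succ (fun j => ρ (x ^ j) u) r
      rw [h3, hxr, pow_zero] at h2
      exact (add_right_cancel h2).symm
    have hzero := hfpf _ hsumfix
    have h1 : u = -(∑ j ∈ Finset.Ico 1 r, ρ (x ^ j) u) := by
      rw [Finset.range_eq_Ico, Finset.sum_eq_sum_Ico_succ_bot hr.pos, pow_zero, map_one,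
        Module.End.one_apply] at hzero
      exact eq_neg_of_add_eq_zero_left hzero
    have h2 : (∑ j ∈ Finset.Ico 1 r, ρ (x ^ j) u) ∈
        ⨆ (χ' : A → k) (_ : χ' ≠ χ), wt ρ A χ' := by
      apply Submodule.sum_mem
      intro j hj'
      have hj'' := Finset.mem_Ico.mp hj'
      exact Submodule.mem_iSup_of_mem _
        (Submodule.mem_iSup_of_mem (hj j (by omega) hj''.2) (htwj j χ u hu))
    have h3 := hind χ
    have h4 : u ∈ wt ρ A χ ⊓ ⨆ (χ' : A → k) (_ : χ' ≠ χ), wt ρ A χ' := by
      refine ⟨hu, ?_⟩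
      rw [h1]
      exact Submodule.neg_mem _ h2
    rw [h3.eq_bot] at h4
    exact hu0 ((Submodule.mem_bot k).mp h4)
  -- conclusion
  have hmain : ∀ a ∈ A, ρ (x⁻¹ * a * x) = ρ a := by
    intro a ha
    have hle : ∀ χ : A → k, wt ρ A χ ≤ LinearMap.eqLocus (ρ (x⁻¹ * a * x)) (ρ a) := by
      intro χ u hu
      rw [LinearMap.mem_eqLocus]
      by_cases hu0 : u = 0
      · rw [hu0, map_zero, map_zero]
      have h1 := hfix χ u hu hu0
      rw [mem_wt] at hu
      have h2 := hu ⟨x⁻¹ * a * x, hxA' a ha⟩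
      have h3 := hu ⟨a, ha⟩
      have h4 : tw χ ⟨a, ha⟩ = χ ⟨a, ha⟩ := congrFun h1 _
      rw [h2, h3, ← h4]
    have htop : (⊤ : Submodule k W) ≤ LinearMap.eqLocus (ρ (x⁻¹ * a * x)) (ρ a) := by
      rw [← hsup]
      exact iSup_le hle
    apply LinearMap.ext
    intro w
    exact htop Submodule.mem_top
  intro a ha
  have := hmain _ (hxA a ha)
  rw [← this]
  congr 1
  group

end Cfsg.Agent.Lib.H19.ModRep
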