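import Mathlib
import Cfsg.Agent.Lib.H19.ModRepBasic

/-!
# Irreducibility relative to a subgroup, Schur's lemma (helper19)

* `InvOn ρ N U`, `IrrOn ρ N` : invariance / irreducibility with respect to a subgroup `N`.
* `schur_on` : over an algebraically closed field, operators commuting with an irreducible
  family are scalars.
* `exists_compl_on` : Maschke for a subgroup.
* `exists_irrOn_le` : a nonzero invariant subspace contains an irreducible invariant subspace.
-/

set_option autoImplicit false

namespace Cfsg.Agent.Lib.H19.ModRep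

open Module

variable {k : Type*} [Field k] {Γ : Type*} [Group Γ] {W : Type*} [AddCommGroup W] [Module k W]

/-- `U` is invariant under the subgroup `N`. -/
def InvOn (ρ : Representation k Γ W) (N : Subgroup Γ) (U : Submodule k W) : Prop :=
  ∀ n ∈ N, ∀ u ∈ U, ρ n u ∈ U

/-- `W` is a nonzero space without proper nonzero `N`-invariant subspaces. -/
def IrrOn (ρ : Representation k Γ W) (N : Subgroup Γ) : Prop :=
  Nontrivial W ∧ ∀ U : Submodule k W, InvOn ρ N U → U = ⊥ ∨ U = ⊤

theorem invOn_top_iff (ρ : Representation k Γ W) (U : Submodule k W) :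
    InvOn ρ ⊤ U ↔ Inv ρ U :=
  ⟨fun h g u hu => h g (Subgroup.mem_top g) u hu, fun h g _ u hu => h g u hu⟩

/-- Schur's lemma. -/
theorem schur_on [IsAlgClosed k] [FiniteDimensional k W] {ρ : Representation k Γ W}
    {N : Subgroup Γ} (h : IrrOn ρ N) (f : Module.End k W)
    (hf : ∀ n ∈ N, f * ρ n = ρ n * f) : ∃ c : k, f = c • (1 : Module.End k W) := by
  have := h.1
  obtain ⟨μ, hμ⟩ := Module.End.exists_eigenvalue f
  have hinv : InvOn ρ N (End.eigenspace f μ) := by
    intro n hn u hu
    rw [End.mem_eigenspace_iff] at hu ⊢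
    have h1 : f (ρ n u) = ρ n (f u) := by
      have := congrArg (fun g : Module.End k W => g u) (hf n hn)
      simpa using this
    rw [h1, hu, map_smul]
  rcases h.2 _ hinv with h1 | h1
  · exact absurd h1 hμ
  · refine ⟨μ, ?_⟩
    apply LinearMap.ext
    intro w
    have hw : w ∈ End.eigenspace f μ := by rw [h1]; trivial
    rw [End.mem_eigenspace_iff] at hw
    rw [hw, LinearMap.smul_apply, Module.End.one_apply]

/-- Maschke's theorem relative to a subgroup. -/
theorem exists_compl_on [Finite Γ] (hk : (Nat.card Γ : k) ≠ 0) (ρ : Representation k Γ W)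
    (N : Subgroup Γ) (U : Submodule k W) (hU : InvOn ρ N U) :
    ∃ T : Submodule k W, InvOn ρ N T ∧ IsCompl U T := by
  have : NeZero (Nat.card ↥N : k) := by
    constructor
    intro h0
    apply hk
    obtain ⟨c, hc⟩ := Subgroup.card_subgroup_dvd_card N
    rw [hc, Nat.cast_mul, h0, zero_mul]
  let σ : Representation k ↥N W := ρ.comp N.subtype
  have hU' : Inv σ U := fun n u hu => hU n n.2 u hu
  obtain ⟨T, hT, hc⟩ := exists_compl σ U hU'
  exact ⟨T, fun n hn u hu => hT ⟨n, hn⟩ u hu, hc⟩

/-- A nonzero `N`-invariant subspace contains an `N`-invariant subspace which is irreducible. -/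
theorem exists_irr_le [FiniteDimensional k W] (ρ : Representation k Γ W)
    (U : Submodule k W) (hU : Inv ρ U) (hU0 : U ≠ ⊥) :
    ∃ U₁ : Submodule k W, ∃ h₁ : Inv ρ U₁, U₁ ≤ U ∧ IrrOn (sub ρ U₁ h₁) ⊤ := by
  classical
  -- induction on the dimension
  suffices H : ∀ d : ℕ, ∀ U : Submodule k W, Inv ρ U → U ≠ ⊥ → finrank k U ≤ d →
      ∃ U₁ : Submodule k W, ∃ h₁ : Inv ρ U₁, U₁ ≤ U ∧ IrrOn (sub ρ U₁ h₁) ⊤ from
    H _ U hU hU0 le_rfl
  intro d
  induction d with
  | zero =>
    intro U _ hU0 hd
    exfalso
    apply hU0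
    exact Submodule.finrank_eq_zero.mp (Nat.le_zero.mp hd)
  | succ d ih =>
    intro U hU hU0 hd
    by_cases hirr : IrrOn (sub ρ U hU) ⊤
    · exact ⟨U, hU, le_rfl, hirr⟩
    · -- there is a proper nonzero invariant subspace
      have hnt : Nontrivial U := Submodule.nontrivial_iff_ne_bot.mpr hU0
      unfold IrrOn at hirr
      push Not at hirr
      obtain ⟨U', hU'inv, hU'0, hU'1⟩ := hirr hnt
      -- push forward
      let U'' : Submodule k W := U'.map U.subtype
      have hU''le : U'' ≤ U := by
        rintro _ ⟨u, -, rfl⟩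
        exact u.2
      have hU''inv : Inv ρ U'' := by
        rintro g _ ⟨u, hu, rfl⟩
        refine ⟨sub ρ U hU g u, hU'inv g (Subgroup.mem_top g) u hu, rfl⟩
      have hU''0 : U'' ≠ ⊥ := by
        intro h
        apply hU'0
        apply Submodule.map_injective_of_injective U.subtype_injective
        rw [Submodule.map_bot]
        exact h
      have hlt : U'' < U := by
        refine lt_of_le_of_ne hU''le ?_
        intro h
        apply hU'1
        rw [eq_top_iff]
        intro u _
        have : (u : W) ∈ U'' := by rw [h]; exact u.2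
        obtain ⟨u', hu', hu'eq⟩ := this
        have : u' = u := Subtype.ext hu'eq
        rw [← this]
        exact hu'
      have hdim : finrank k U'' ≤ d := by
        have := Submodule.finrank_lt_finrank_of_lt hlt
        omega
      obtain ⟨U₁, h₁, hle, hirr₁⟩ := ih U'' hU''inv hU''0 hdim
      exact ⟨U₁, h₁, hle.trans hU''le, hirr₁⟩

end Cfsg.Agent.Lib.H19.ModRep
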