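import Mathlib
import Cfsg.Agent.Lib.H19.ModRepSchur

/-!
# Burnside's density theorem (helper19)

`span_range_eq_top` : if `ρ` is irreducible on the subgroup `N` over an algebraically closed field,
then the operators `ρ n`, `n ∈ N`, span `End W`.
-/

set_option autoImplicit false

namespace Cfsg.Agent.Lib.H19.ModRep

open Module

variable {k : Type*} [Field k] {Γ : Type*} [Group Γ] {W : Type*} [AddCommGroup W] [Module k W]

theorem span_range_eq_top [IsAlgClosed k] [FiniteDimensional k W] (ρ : Representation k Γ W)
    (N : Subgroup Γ) (h : IrrOn ρ N) :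
    Submodule.span k (Set.range (fun n : N => ρ (n : Γ))) = ⊤ := by
  classical
  have hnt := h.1
  let σ : Representation k ↥N W := ρ.comp N.subtype
  haveI : Nontrivial (Subrepresentation σ) := ⟨⟨⊥, ⊤, fun hbt => by
    have h1 : (⊥ : Submodule k W) = ⊤ := congrArg Subrepresentation.toSubmodule hbt
    exact bot_ne_top h1⟩⟩
  haveI : Representation.IsIrreducible σ :=
    { eq_bot_or_eq_top := fun U => by
        rcases h.2 U.toSubmodule (fun n hn u hu => U.apply_mem_toSubmodule ⟨n, hn⟩ hu) with h1 | h1
        · left; exact Subrepresentation.toSubmodule_injective h1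
        · right; exact Subrepresentation.toSubmodule_injective h1 }
  have hschur : Function.Bijective
      (algebraMap k (Module.End (MonoidAlgebra k ↥N) σ.asModule)) :=
    IsSimpleModule.algebraMap_end_bijective_of_isAlgClosed k
  haveI : Module.Finite (Module.End (MonoidAlgebra k ↥N) σ.asModule) σ.asModule :=
    Module.Finite.of_restrictScalars_finite k _ _
  rw [eq_top_iff]
  intro g _
  let f : Module.End (Module.End (MonoidAlgebra k ↥N) σ.asModule) σ.asModule :=
    { toFun := fun m => σ.asModuleEquiv.symm (g (σ.asModuleEquiv m))
      map_add' := fun m m' => by simp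
      map_smul' := fun φ m => by
        obtain ⟨c, rfl⟩ := hschur.2 φ
        simp }
  obtain ⟨a, ha⟩ := Module.Finite.toModuleEnd_moduleEnd_surjective (R := MonoidAlgebra k ↥N)
    (M := σ.asModule) f
  have hg : g = σ.asAlgebraHom a := by
    apply LinearMap.ext
    intro w
    have h1 := congrArg (fun F : Module.End (Module.End (MonoidAlgebra k ↥N) σ.asModule) σ.asModule
      => F (σ.asModuleEquiv.symm w)) ha
    simp only [f] at h1
    have h2 : σ.asModuleEquiv (a • σ.asModuleEquiv.symm w) = g w := by
      have := congrArg σ.asModuleEquiv h1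
      simpa using this
    rw [← h2, Representation.asModuleEquiv_map_smul]
    simp
  rw [hg, Representation.asAlgebraHom_def, MonoidAlgebra.lift_apply]
  apply Submodule.sum_mem
  intro n _
  apply Submodule.smul_mem
  apply Submodule.subset_span
  exact ⟨n, rfl⟩

end Cfsg.Agent.Lib.H19.ModRep
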