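import Mathlib
import Cfsg.Agent.Lib.H19.ModRepSchur

/-!
# Restriction to a normal subgroup of prime index with a fixed-point-free generator (helper19)

`irrOn_of_fpf` : let `Γ = ⟨x⟩ N` with `N` normal, `x ^ r = 1`, `r` prime, `ρ` irreducible over an
algebraically closed field of characteristic prime to `|Γ|`. If `ρ x` has no nonzero fixed vector
then `ρ` is irreducible on `N`.
-/

set_option autoImplicit false

namespace Cfsg.Agent.Lib.H19.ModRep

open Module

variable {k : Type*} [Field k] {Γ : Type*} [Group Γ] {W : Type*} [AddCommGroup W] [Module k W]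

/-- The key computation: a nonzero operator commuting with `N` which is an eigenvector of
conjugation by `ρ x` has eigenvalue `1`. -/
theorem twisted_eq_one [IsAlgClosed k] [FiniteDimensional k W] (ρ : Representation k Γ W)
    (N : Subgroup Γ) (x : Γ) {r : ℕ} (hr : r.Prime) (hxr : x ^ r = 1)
    (hgen : ∀ g : Γ, ∃ j : ℕ, ∃ n ∈ N, g = x ^ j * n)
    (hirr : IrrOn ρ ⊤) (hfpf : ∀ w, ρ x w = w → w = 0)
    (c : Module.End k W) (hc0 : c ≠ 0) (hcN : ∀ n ∈ N, c * ρ n = ρ n * c) (ω : k)
    (hcx : ρ x * c = ω • (c * ρ x)) : ω = 1 := by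
  classical
  have hnt := hirr.1
  have : Fact r.Prime := ⟨hr⟩
  set T := ρ x with hT
  -- powers
  have hpow : ∀ j : ℕ, T ^ j * c = ω ^ j • (c * T ^ j) := by
    intro j
    induction j with
    | zero => simp
    | succ j ih =>
      calc T ^ (j + 1) * c = T * (T ^ j * c) := by rw [pow_succ', mul_assoc]
        _ = T * (ω ^ j • (c * T ^ j)) := by rw [ih]
        _ = ω ^ j • ((T * c) * T ^ j) := by rw [mul_smul_comm, mul_assoc]
        _ = ω ^ j • ((ω • (c * T)) * T ^ j) := by rw [hcx]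
        _ = ω ^ (j + 1) • (c * T ^ (j + 1)) := by
          rw [smul_mul_assoc, smul_smul, mul_assoc, ← pow_succ', ← pow_succ]
  have hTr : T ^ r = 1 := by rw [hT, ← map_pow, hxr, map_one]
  have hωr : ω ^ r = 1 := by
    have h1 := hpow r
    rw [hTr, one_mul, mul_one] at h1
    by_contra hne
    apply hc0
    have h2 : (1 - ω ^ r) • c = 0 := by rw [sub_smul, one_smul, ← h1, sub_self]
    rcases smul_eq_zero.mp h2 with h3 | h3
    · exact absurd (sub_eq_zero.mp h3).symm hne
    · exact h3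
  by_contra hω1
  have hω0 : ω ≠ 0 := by
    intro h
    rw [h, zero_pow hr.ne_zero] at hωr
    exact zero_ne_one hωr
  -- `c * T^j = ω⁻¹^j • T^j * c`
  have hpow' : ∀ j : ℕ, c * T ^ j = (ω⁻¹) ^ j • (T ^ j * c) := by
    intro j
    rw [hpow j, smul_smul, ← mul_pow, inv_mul_cancel₀ hω0, one_pow, one_smul]
  -- the kernel of `c` is invariant
  have hker : InvOn ρ ⊤ (LinearMap.ker c) := by
    intro g _ w hw
    rw [LinearMap.mem_ker] at hw ⊢
    obtain ⟨j, n, hn, rfl⟩ := hgen g
    rw [map_mul, map_pow, Module.End.mul_apply]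
    have h1 : c (ρ n w) = 0 := by
      have := congrArg (fun f : Module.End k W => f w) (hcN n hn)
      simp only [Module.End.mul_apply] at this
      rw [this, hw, map_zero]
    have h2 := congrArg (fun f : Module.End k W => f (ρ n w)) (hpow' j)
    simp only [Module.End.mul_apply, LinearMap.smul_apply] at h2
    rw [h2, h1, map_zero, smul_zero]
  have hker0 : LinearMap.ker c = ⊥ := by
    rcases hirr.2 _ hker with h | h
    · exact h
    · exfalso
      apply hc0
      exact LinearMap.ker_eq_top.mp h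
  -- an eigenvector
  obtain ⟨μ, hμ⟩ := Module.End.exists_eigenvalue c
  obtain ⟨v, hv⟩ := hμ.exists_hasEigenvector
  have hcv : c v = μ • v := End.mem_eigenspace_iff.mp hv.1
  have hv0 : v ≠ 0 := hv.2
  have hμ0 : μ ≠ 0 := by
    intro h
    apply hv0
    have : v ∈ LinearMap.ker c := by rw [LinearMap.mem_ker, hcv, h, zero_smul]
    rw [hker0, Submodule.mem_bot] at this
    exact this
  -- `T^j` is injective
  have hTinj : ∀ j : ℕ, ∀ w, (T ^ j) w = 0 → w = 0 := by
    intro j w hw
    have h1 : ρ (x ^ j)⁻¹ ((T ^ j) w) = w := by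
      rw [hT, ← map_pow, ← Module.End.mul_apply, ← map_mul, inv_mul_cancel, map_one,
        Module.End.one_apply]
    rw [← h1, hw, map_zero]
  let vs : Fin r → W := fun j => (T ^ (j : ℕ)) v
  let μs : Fin r → k := fun j => (ω⁻¹) ^ (j : ℕ) * μ
  have hord : orderOf ω⁻¹ = r := by
    apply orderOf_eq_prime
    · rw [inv_pow, hωr, inv_one]
    · intro h
      apply hω1
      rw [inv_eq_one] at h
      exact h
  have hμs : Function.Injective μs := by
    intro i j hij
    have h1 : (ω⁻¹) ^ (i : ℕ) = (ω⁻¹) ^ (j : ℕ) := mul_right_cancel₀ hμ0 hij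
    apply Fin.ext
    apply pow_injOn_Iio_orderOf (x := ω⁻¹)
    · rw [hord]; exact i.2
    · rw [hord]; exact j.2
    · exact h1
  have heig : ∀ j : Fin r, c.HasEigenvector (μs j) (vs j) := by
    intro j
    refine ⟨?_, ?_⟩
    · rw [End.mem_eigenspace_iff]
      have h2 := congrArg (fun f : Module.End k W => f v) (hpow' j)
      simp only [Module.End.mul_apply, LinearMap.smul_apply] at h2
      show c ((T ^ (j : ℕ)) v) = ((ω⁻¹) ^ (j : ℕ) * μ) • (T ^ (j : ℕ)) v
      rw [h2, hcv, map_smul, smul_smul]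
    · intro h
      exact hv0 (hTinj j v h)
  have hli := Module.End.eigenvectors_linearIndependent' c μs hμs vs heig
  -- the sum is fixed
  have hsum : T (∑ j : Fin r, vs j) = ∑ j : Fin r, vs j := by
    have h1 : ∑ j : Fin r, vs j = ∑ j ∈ Finset.range r, (T ^ j) v :=
      Fin.sum_univ_eq_sum_range (fun j => (T ^ j) v) r
    rw [h1, map_sum]
    have h2 : ∀ j, T ((T ^ j) v) = (T ^ (j + 1)) v := by
      intro j
      rw [pow_succ', Module.End.mul_apply]
    simp only [h2]
    have h3 := Finset.sum_range_succ' (fun j => (T ^ j) v) r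
    have h4 := Finset.sum_range_succ (fun j => (T ^ j) v) r
    rw [h4, hTr, pow_zero] at h3
    exact (add_right_cancel h3).symm
  have hzero := hfpf _ hsum
  have h5 := Fintype.linearIndependent_iff.mp hli (fun _ => (1 : k)) (by simpa using hzero)
  have hrpos : 0 < r := hr.pos
  exact one_ne_zero (h5 ⟨0, hrpos⟩)

/-- The commutant of `ρ(N)` as a subspace of `End W`. -/
def commN (ρ : Representation k Γ W) (N : Subgroup Γ) : Submodule k (W →ₗ[k] W) where
  carrier := {f | ∀ n ∈ N, f * ρ n = ρ n * f}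
  add_mem' := by
    intro f g hf hg n hn
    rw [add_mul, mul_add, hf n hn, hg n hn]
  zero_mem' := by
    intro n _
    rw [zero_mul, mul_zero]
  smul_mem' := by
    intro a f hf n hn
    rw [smul_mul_assoc, mul_smul_comm, hf n hn]

theorem mem_commN {ρ : Representation k Γ W} {N : Subgroup Γ} {f : W →ₗ[k] W} :
    f ∈ commN ρ N ↔ ∀ n ∈ N, f * ρ n = ρ n * f := Iff.rfl

theorem inv_commN (ρ : Representation k Γ W) (N : Subgroup Γ) [N.Normal] :
    Inv (Representation.linHom ρ ρ) (commN ρ N) := by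
  intro g f hf n hn
  rw [Representation.linHom_apply]
  have hn' : g⁻¹ * n * g ∈ N := by
    have := ‹N.Normal›.conj_mem n hn g⁻¹
    simpa using this
  have h1 := hf _ hn'
  -- `(ρ g f ρ g⁻¹) ρ n = ρ g f ρ (g⁻¹ n g) ρ g⁻¹`
  show (ρ g * (f * ρ g⁻¹)) * ρ n = ρ n * (ρ g * (f * ρ g⁻¹))
  have e1 : ρ g⁻¹ * ρ n = ρ (g⁻¹ * n * g) * ρ g⁻¹ := by
    rw [← map_mul, ← map_mul]
    congr 1
    group
  have e2 : ρ n * ρ g = ρ g * ρ (g⁻¹ * n * g) := by
    rw [← map_mul, ← map_mul]
    congr 1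
    group
  calc (ρ g * (f * ρ g⁻¹)) * ρ n = ρ g * (f * (ρ g⁻¹ * ρ n)) := by simp only [mul_assoc]
    _ = ρ g * ((f * ρ (g⁻¹ * n * g)) * ρ g⁻¹) := by rw [e1]; simp only [mul_assoc]
    _ = ρ g * ((ρ (g⁻¹ * n * g) * f) * ρ g⁻¹) := by rw [h1]
    _ = (ρ g * ρ (g⁻¹ * n * g)) * (f * ρ g⁻¹) := by simp only [mul_assoc]
    _ = ρ n * (ρ g * (f * ρ g⁻¹)) := by rw [← e2, mul_assoc]

/-- Operators commuting with `ρ(N)` are scalars. -/
theorem scalar_of_commN [IsAlgClosed k] [FiniteDimensional k W] [Finite Γ]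
    (hk : (Nat.card Γ : k) ≠ 0) (ρ : Representation k Γ W)
    (N : Subgroup Γ) [N.Normal] (x : Γ) {r : ℕ} (hr : r.Prime) (hxr : x ^ r = 1)
    (hgen : ∀ g : Γ, ∃ j : ℕ, ∃ n ∈ N, g = x ^ j * n)
    (hirr : IrrOn ρ ⊤) (hfpf : ∀ w, ρ x w = w → w = 0)
    (f : Module.End k W) (hf : ∀ n ∈ N, f * ρ n = ρ n * f) :
    ∃ c : k, f = c • (1 : Module.End k W) := by
  classical
  set Ad := Representation.linHom ρ ρ with hAd
  set E' := commN ρ N with hE'
  have hinv : Inv Ad E' := inv_commN ρ N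
  set Ad' := sub Ad E' hinv with hAd'
  set A := Subgroup.zpowers x with hA
  have hcomm : ∀ a b : A, Commute (Ad' (a : Γ)) (Ad' (b : Γ)) := by
    intro a b
    have hab : (a : Γ) * b = b * a := by
      obtain ⟨i, hi⟩ := Subgroup.mem_zpowers_iff.mp a.2
      obtain ⟨j, hj⟩ := Subgroup.mem_zpowers_iff.mp b.2
      rw [← hi, ← hj, ← zpow_add, ← zpow_add, add_comm]
    show Ad' (a : Γ) * Ad' (b : Γ) = Ad' (b : Γ) * Ad' (a : Γ)
    rw [← map_mul, ← map_mul, hab]
  have htop := iSup_wt_eq_top Ad' A hk hcomm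
  -- every weight vector is fixed by `Ad x`
  let F : Submodule k E' := LinearMap.eqLocus (Ad' x) LinearMap.id
  have hxA : x ∈ A := Subgroup.mem_zpowers x
  have hle : ∀ χ : A → k, wt Ad' A χ ≤ F := by
    intro χ c hc
    rw [mem_wt] at hc
    have h1 := hc ⟨x, hxA⟩
    show Ad' x c = LinearMap.id c
    rw [LinearMap.id_apply]
    by_cases hc0 : c = 0
    · rw [hc0, map_zero]
    · have h2 : (Ad' x c : W →ₗ[k] W) = χ ⟨x, hxA⟩ • (c : W →ₗ[k] W) := by
        have := congrArg (Subtype.val : E' → (W →ₗ[k] W)) h1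
        simpa using this
      have h3 : (Ad' x c : W →ₗ[k] W) = ρ x * ((c : W →ₗ[k] W) * ρ x⁻¹) := rfl
      have h4 : ρ x * (c : W →ₗ[k] W) = χ ⟨x, hxA⟩ • ((c : W →ₗ[k] W) * ρ x) := by
        have e : ρ x * (c : W →ₗ[k] W) = (ρ x * ((c : W →ₗ[k] W) * ρ x⁻¹)) * ρ x := by
          rw [mul_assoc, mul_assoc, ← map_mul, inv_mul_cancel, map_one, mul_one]
        rw [e, ← h3, h2, smul_mul_assoc]
      have hc0' : (c : W →ₗ[k] W) ≠ 0 := fun h => hc0 (Subtype.ext h)
      have h5 := twisted_eq_one ρ N x hr hxr hgen hirr hfpf (c : W →ₗ[k] W) hc0' c.2 _ h4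
      rw [h5, one_smul] at h1
      exact h1
  have hF : F = ⊤ := by
    rw [eq_top_iff, ← htop]
    exact iSup_le hle
  -- hence `f` commutes with `ρ x`
  have hfx : ρ x * f = f * ρ x := by
    have h1 : (⟨f, hf⟩ : E') ∈ F := by rw [hF]; trivial
    have h2 : Ad' x ⟨f, hf⟩ = ⟨f, hf⟩ := h1
    have h3 : ρ x * (f * ρ x⁻¹) = f := congrArg (Subtype.val : E' → (W →ₗ[k] W)) h2
    calc ρ x * f = (ρ x * (f * ρ x⁻¹)) * ρ x := by
          rw [mul_assoc, mul_assoc, ← map_mul, inv_mul_cancel, map_one, mul_one]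
      _ = f * ρ x := by rw [h3]
  have hfxj : ∀ j : ℕ, ρ (x ^ j) * f = f * ρ (x ^ j) := by
    intro j
    induction j with
    | zero => simp
    | succ j ih =>
      rw [pow_succ, map_mul, mul_assoc, hfx, ← mul_assoc, ih, mul_assoc]
  apply schur_on hirr f
  intro g _
  obtain ⟨j, n, hn, rfl⟩ := hgen g
  rw [map_mul, ← mul_assoc, ← hfxj j, mul_assoc, hf n hn, mul_assoc]

/-- **Clifford-type lemma**: irreducibility passes to the normal subgroup `N` of prime index
when the generator `x` of the quotient acts without fixed vectors. -/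
theorem irrOn_of_fpf [IsAlgClosed k] [FiniteDimensional k W] [Finite Γ]
    (hk : (Nat.card Γ : k) ≠ 0) (ρ : Representation k Γ W)
    (N : Subgroup Γ) [N.Normal] (x : Γ) {r : ℕ} (hr : r.Prime) (hxr : x ^ r = 1)
    (hgen : ∀ g : Γ, ∃ j : ℕ, ∃ n ∈ N, g = x ^ j * n)
    (hirr : IrrOn ρ ⊤) (hfpf : ∀ w, ρ x w = w → w = 0) : IrrOn ρ N := by
  classical
  refine ⟨hirr.1, fun U hU => ?_⟩
  obtain ⟨U', hU', hc⟩ := exists_compl_on hk ρ N U hU
  set π := U.projection U' hc with hπ
  have hπN : ∀ n ∈ N, π * ρ n = ρ n * π := by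
    intro n hn
    apply LinearMap.ext
    intro w
    rw [Module.End.mul_apply, Module.End.mul_apply]
    have hw := Submodule.projection_add_projection_eq_self hc w
    have h1 : ρ n w = ρ n (π w) + ρ n (U'.projection U hc.symm w) := by
      rw [← map_add, hπ, hw]
    have h2 : ρ n (π w) ∈ U := hU n hn _ (Submodule.projection_apply_mem hc w)
    have h3 : ρ n (U'.projection U hc.symm w) ∈ U' :=
      hU' n hn _ (Submodule.projection_apply_mem hc.symm w)
    rw [h1, map_add, hπ, Submodule.projection_apply_of_mem_left hc h2,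
      Submodule.projection_apply_of_mem_right hc h3, add_zero]
  obtain ⟨a, ha⟩ := scalar_of_commN hk ρ N x hr hxr hgen hirr hfpf π hπN
  by_cases ha0 : a = 0
  · left
    rw [eq_bot_iff]
    intro u hu
    have h1 : π u = u := Submodule.projection_apply_of_mem_left hc hu
    rw [ha, ha0, zero_smul, LinearMap.zero_apply] at h1
    rw [Submodule.mem_bot]
    exact h1.symm
  · right
    rw [eq_top_iff]
    intro w _
    have h1 : π w ∈ U := Submodule.projection_apply_mem hc w
    rw [ha, LinearMap.smul_apply, Module.End.one_apply] at h1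
    have := U.smul_mem a⁻¹ h1
    rwa [smul_smul, inv_mul_cancel₀ ha0, one_smul] at this

end Cfsg.Agent.Lib.H19.ModRep
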