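import Mathlib

/-!
# Counting lemmas for commutants (helper19)

* `commT T` : the commutant of an operator.
* `sq_finrank_le` : if `T` is diagonal in a basis with eigenvalues in a finite set `S`, then
  `(dim W)² ≤ |S| · dim (commT T)`.
* `finrank_fixed_le` : a "monomial" operator (permuting a basis up to scalars via `σ`) has fixed
  space of dimension at most the number of `σ`-orbits.
* `card_orbits_mul` : orbit count for a permutation of prime order, free outside one point.
-/

set_option autoImplicit false

namespace Cfsg.Agent.Lib.H19.ModRep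

open Module

variable {k : Type*} [Field k] {W : Type*} [AddCommGroup W] [Module k W]

/-- the commutant of an operator -/
def commT (T : Module.End k W) : Submodule k (Module.End k W) where
  carrier := {f | f * T = T * f}
  add_mem' := by
    intro f g hf hg
    show (f + g) * T = T * (f + g)
    rw [add_mul, mul_add, hf, hg]
  zero_mem' := by
    show (0 : Module.End k W) * T = T * 0
    rw [zero_mul, mul_zero]
  smul_mem' := by
    intro a f hf
    show (a • f) * T = T * (a • f)
    rw [smul_mul_assoc, mul_smul_comm, hf]

theorem mem_commT {T f : Module.End k W} : f ∈ commT T ↔ f * T = T * f := Iff.rfl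

section diag

variable {ι : Type*} [Fintype ι] [DecidableEq ι] (b : Basis ι k W) (T : Module.End k W)
  (t : ι → k)

theorem coord_apply_diag (hT : ∀ i, T (b i) = t i • b i) (j : ι) (w : W) :
    b.coord j (T w) = t j * b.coord j w := by
  have h : (b.coord j) ∘ₗ T = t j • b.coord j := by
    apply b.ext
    intro l
    rw [LinearMap.comp_apply, hT, map_smul, LinearMap.smul_apply, Basis.coord_apply,
      Basis.repr_self, smul_eq_mul, smul_eq_mul]
    by_cases hlj : l = j
    · rw [hlj]
    · rw [Finsupp.single_eq_of_ne (Ne.symm hlj), mul_zero, mul_zero]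
  have := congrArg (fun F : W →ₗ[k] k => F w) h
  simpa using this

theorem card_pairs_le [FiniteDimensional k W] (hT : ∀ i, T (b i) = t i • b i) :
    Nat.card {p : ι × ι // t p.1 = t p.2} ≤ finrank k (commT T) := by
  classical
  rw [Nat.card_eq_fintype_card]
  let F : {p : ι × ι // t p.1 = t p.2} → Module.End k W :=
    fun p => (b.coord p.1.2).smulRight (b p.1.1)
  have hF : ∀ p, F p ∈ commT T := by
    intro p
    rw [mem_commT]
    apply LinearMap.ext
    intro w
    simp only [F, Module.End.mul_apply, LinearMap.smulRight_apply]
    rw [coord_apply_diag b T t hT, map_smul, hT, p.2, smul_smul, mul_comm]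
  have hli : LinearIndependent k F := by
    rw [Fintype.linearIndependent_iff]
    intro a ha p₀
    have h1 := congrArg (fun f : Module.End k W => b.coord p₀.1.1 (f (b p₀.1.2))) ha
    simp only [LinearMap.sum_apply, LinearMap.smul_apply, F, LinearMap.smulRight_apply, map_sum,
      map_smul, LinearMap.zero_apply, map_zero, Basis.coord_apply, Basis.repr_self,
      smul_eq_mul] at h1
    rw [Finset.sum_eq_single p₀] at h1
    · simpa using h1
    · intro p _ hp
      by_cases h2 : p₀.1.2 = p.1.2
      · have h3 : p.1.1 ≠ p₀.1.1 := by
          intro h3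
          apply hp
          apply Subtype.ext
          exact Prod.ext h3 h2.symm
        rw [Finsupp.single_eq_of_ne (Ne.symm h3), mul_zero, mul_zero]
      · rw [Finsupp.single_eq_of_ne (Ne.symm h2), zero_mul, mul_zero]
    · intro h
      exact absurd (Finset.mem_univ _) h
  have hli' : LinearIndependent k (fun p => (⟨F p, hF p⟩ : commT T)) := by
    apply LinearIndependent.of_comp (commT T).subtype
    exact hli
  exact hli'.fintype_card_le_finrank

theorem sq_card_le (S : Finset k) (hS : ∀ i, t i ∈ S) :
    (Fintype.card ι) ^ 2 ≤ S.card * Nat.card {p : ι × ι // t p.1 = t p.2} := by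
  classical
  rw [Nat.card_eq_fintype_card]
  let a : k → ℕ := fun ν => (Finset.univ.filter (fun i => t i = ν)).card
  have h1 : Fintype.card ι = ∑ ν ∈ S, a ν := by
    rw [← Finset.card_univ]
    apply Finset.card_eq_sum_card_fiberwise
    intro i _
    exact hS i
  have h2 : Fintype.card {p : ι × ι // t p.1 = t p.2} = ∑ ν ∈ S, (a ν) ^ 2 := by
    rw [Fintype.card_subtype]
    rw [Finset.card_eq_sum_card_fiberwise (f := fun p : ι × ι => t p.1) (t := S)
      (fun p _ => hS p.1)]
    apply Finset.sum_congr rfl
    intro ν _
    rw [sq, ← Finset.card_product]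
    congr 1
    ext p
    simp only [Finset.mem_filter, Finset.mem_univ, true_and, Finset.mem_product]
    constructor
    · rintro ⟨h3, h4⟩
      exact ⟨h4, by rw [← h3, h4]⟩
    · rintro ⟨h3, h4⟩
      exact ⟨by rw [h3, h4], h3⟩
  rw [h1, h2]
  exact sq_sum_le_card_mul_sum_sq

/-- If `T` is diagonal with eigenvalues in `S`, then `(dim W)² ≤ |S| · dim (commT T)`. -/
theorem sq_finrank_le [FiniteDimensional k W] (hT : ∀ i, T (b i) = t i • b i)
    (S : Finset k) (hS : ∀ i, t i ∈ S) :
    (finrank k W) ^ 2 ≤ S.card * finrank k (commT T) := by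
  rw [Module.finrank_eq_card_basis b]
  exact (sq_card_le t S hS).trans (Nat.mul_le_mul_left _ (card_pairs_le b T t hT))

end diag

section monomial

variable {M : Type*} [AddCommGroup M] [Module k M] {I : Type*} [Fintype I] [DecidableEq I]

/-- A monomial operator has fixed space of dimension at most the number of orbits. -/
theorem finrank_fixed_le (e : Basis I k M) (τ : M →ₗ[k] M) (σ : Equiv.Perm I) (c : I → k)
    (hτ : ∀ i, τ (e i) = c i • e (σ i)) :
    finrank k (LinearMap.eqLocus τ LinearMap.id) ≤
      Nat.card (MulAction.orbitRel.Quotient (Subgroup.zpowers σ) I) := by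
  classical
  have : Module.Finite k M := Module.Finite.of_basis e
  -- the coefficient relation
  have hrel : ∀ (f : M) (i : I), e.coord (σ i) (τ f) = c i * e.coord i f := by
    intro f i
    have h : (e.coord (σ i)) ∘ₗ τ = c i • e.coord i := by
      apply e.ext
      intro l
      rw [LinearMap.comp_apply, hτ, map_smul, LinearMap.smul_apply, Basis.coord_apply,
        Basis.repr_self, smul_eq_mul, smul_eq_mul, Basis.coord_apply, Basis.repr_self]
      by_cases hli : l = i
      · rw [hli, Finsupp.single_eq_same, Finsupp.single_eq_same]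
      · have : σ l ≠ σ i := fun h => hli (σ.injective h)
        rw [Finsupp.single_eq_of_ne (Ne.symm this), Finsupp.single_eq_of_ne (Ne.symm hli),
          mul_zero, mul_zero]
    have := congrArg (fun F : M →ₗ[k] k => F f) h
    simpa using this
  let Ω := MulAction.orbitRel.Quotient (Subgroup.zpowers σ) I
  have : Finite Ω := Quotient.finite _
  have : Fintype Ω := Fintype.ofFinite Ω
  let Φ : LinearMap.eqLocus τ LinearMap.id →ₗ[k] (Ω → k) :=
    { toFun := fun f o => e.coord (Quotient.out o) (f : M)
      map_add' := by
        intro f g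
        funext o
        simp
      map_smul' := by
        intro a f
        funext o
        simp }
  have hΦ : Function.Injective Φ := by
    rw [← LinearMap.ker_eq_bot, eq_bot_iff]
    intro f hf
    rw [LinearMap.mem_ker] at hf
    rw [Submodule.mem_bot]
    apply Subtype.ext
    have hfix : τ (f : M) = f := f.2
    -- vanishing propagates along `σ`
    have hstep : ∀ i, e.coord i (f : M) = 0 → e.coord (σ i) (f : M) = 0 := by
      intro i hi
      have := hrel (f : M) i
      rw [hfix, hi, mul_zero] at this
      exact this
    have hpow : ∀ (j : ℕ) (i : I), e.coord i (f : M) = 0 → e.coord ((σ ^ j) i) (f : M) = 0 := by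
      intro j
      induction j with
      | zero => intro i hi; simpa using hi
      | succ j ih =>
        intro i hi
        rw [pow_succ', Equiv.Perm.mul_apply]
        exact hstep _ (ih i hi)
    have hall : ∀ i, e.coord i (f : M) = 0 := by
      intro i
      set o : Ω := Quotient.mk'' i with ho
      have h1 : e.coord (Quotient.out o) (f : M) = 0 := congrFun hf o
      have h2 : Quotient.mk'' (Quotient.out o) = (Quotient.mk'' i : Ω) := by
        rw [ho]
        exact Quotient.out_eq' _
      have h3 : (MulAction.orbitRel (Subgroup.zpowers σ) I).r i (Quotient.out o) :=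
        Quotient.exact' h2.symm
      rw [MulAction.orbitRel_apply, MulAction.mem_orbit_iff] at h3
      obtain ⟨g, hg⟩ := h3
      obtain ⟨j, hj⟩ := mem_powers_iff_mem_zpowers.mpr g.2
      have hj' : σ ^ j = (g : Equiv.Perm I) := hj
      have h4 : (σ ^ j) (Quotient.out o) = i := by
        rw [hj']
        exact hg
      rw [← h4]
      exact hpow j _ h1
    apply e.ext_elem
    intro i
    have := hall i
    rw [Basis.coord_apply] at this
    rw [this]
    simp
  have := LinearMap.finrank_le_finrank_of_injective hΦ
  rw [Module.finrank_fintype_fun_eq_card] at this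
  rw [Nat.card_eq_fintype_card]
  exact this

end monomial


/-- orbit count for a permutation of prime order acting freely off one point -/
theorem card_orbits_mul {I : Type*} [Fintype I] [DecidableEq I] (σ : Equiv.Perm I) {r : ℕ}
    (hr : r.Prime) (hσr : σ ^ r = 1) (hσ1 : σ ≠ 1) (i₀ : I) (hfix : σ i₀ = i₀)
    (hfree : ∀ i, σ i = i → i = i₀) :
    Nat.card (MulAction.orbitRel.Quotient (Subgroup.zpowers σ) I) * r = Nat.card I + (r - 1) := by
  classical
  have : Fact r.Prime := ⟨hr⟩
  set X := Subgroup.zpowers σ with hX
  have hcardX : Nat.card X = r := by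
    rw [Nat.card_zpowers]
    exact orderOf_eq_prime hσr hσ1
  have : Fintype X := Fintype.ofFinite X
  have : Fintype (Quotient (MulAction.orbitRel X I)) := Fintype.ofFinite _
  have hB := MulAction.sum_card_fixedBy_eq_card_orbits_mul_card_group X I
  have hfix_all : ∀ g : X, g • i₀ = i₀ := by
    intro g
    obtain ⟨j, hj⟩ := Subgroup.mem_zpowers_iff.mp g.2
    have h1 : σ ∈ MulAction.stabilizer (Equiv.Perm I) i₀ := hfix
    have h2 : σ ^ j ∈ MulAction.stabilizer (Equiv.Perm I) i₀ := Subgroup.zpow_mem _ h1 j
    rw [hj] at h2
    exact h2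
  have hfree_all : ∀ g : X, g ≠ 1 → ∀ i, g • i = i → i = i₀ := by
    intro g hg i hi
    apply hfree
    have h1 : Subgroup.zpowers g = ⊤ := zpowers_eq_top_of_prime_card hcardX hg
    have h2 : (⟨σ, Subgroup.mem_zpowers σ⟩ : X) ∈ Subgroup.zpowers g := by rw [h1]; trivial
    have h3 : g ∈ MulAction.stabilizer X i := hi
    have h4 : Subgroup.zpowers g ≤ MulAction.stabilizer X i := by
      rw [Subgroup.zpowers_le]
      exact h3
    exact h4 h2
  have h1 : ∀ g : X, g ≠ 1 → Fintype.card (MulAction.fixedBy I g) = 1 := by
    intro g hg
    rw [Fintype.card_eq_one_iff]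
    refine ⟨⟨i₀, hfix_all g⟩, ?_⟩
    rintro ⟨i, hi⟩
    apply Subtype.ext
    exact hfree_all g hg i hi
  have h2 : Fintype.card (MulAction.fixedBy I (1 : X)) = Fintype.card I := by
    apply Fintype.card_of_subtype
    intro i
    simp
  rw [← Finset.add_sum_erase Finset.univ _ (Finset.mem_univ (1 : X)), h2] at hB
  rw [Finset.sum_congr rfl (fun g hg => h1 g (Finset.ne_of_mem_erase hg))] at hB
  rw [Finset.sum_const, Finset.card_erase_of_mem (Finset.mem_univ _), Finset.card_univ,
    smul_eq_mul, mul_one] at hB
  rw [Nat.card_eq_fintype_card, Nat.card_eq_fintype_card, ← hcardX, Nat.card_eq_fintype_card]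
  exact hB.symm

end Cfsg.Agent.Lib.H19.ModRep
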