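import Mathlib
import Cfsg.Agent.Lib.H19.ModRepCliff
import Cfsg.Agent.Lib.H19.ModRepBurn
import Cfsg.Agent.Lib.H19.ModRepCount

/-!
# A prime-order automorphism of an extraspecial-type group with a fixed-point-free module
(helper19)

`extra_core` : let `Γ = ⟨x⟩ Q`, `x ^ r = 1` with `r` prime, `Q` normal, `Z ≤ Q` central in `Γ`
with `[Q,Q] ≤ Z`, `x` acting freely on `Q/Z`, and let `ρ` be an irreducible representation of `Γ`
over an algebraically closed field of characteristic prime to `|Γ|` such that the only elements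
`u ∈ Q` with `ρ u` commuting with `ρ(Q)` are those of `Z` and such that `ρ x` has no nonzero fixed
vector. Then `|Q : Z| = (r - 1)²`.
-/

set_option autoImplicit false

namespace Cfsg.Agent.Lib.H19.ModRep

open Module

universe uk

variable {k : Type*} [Field k] {Γ : Type*} [Group Γ] {W : Type*} [AddCommGroup W] [Module k W]

theorem numeric_core {d m n r : ℕ} (hr : r.Prime) (hdm : d * d = m) (hm : 2 ≤ m)
    (hn : n * r = m + (r - 1)) (hle : d ^ 2 ≤ (r - 1) * n) : d + 1 = r := by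
  obtain ⟨s, rfl⟩ : ∃ s, r = s + 1 := ⟨r - 1, by have := hr.two_le; omega⟩
  have hs : 1 ≤ s := by have := hr.two_le; omega
  simp only [Nat.add_sub_cancel] at hn hle
  subst hdm
  have hd2 : 2 ≤ d := by
    by_contra h
    push Not at h
    interval_cases d <;> omega
  have h1 : d ^ 2 * (s + 1) ≤ s * (d * d + s) := by
    calc d ^ 2 * (s + 1) ≤ (s * n) * (s + 1) := Nat.mul_le_mul_right _ hle
      _ = s * (n * (s + 1)) := by ring
      _ = s * (d * d + s) := by rw [hn]
  have h2 : d ≤ s := by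
    by_contra h
    push Not at h
    nlinarith
  have h3 : (s + 1) ∣ (d - 1) * (d + 1) := by
    have e : (d - 1) * (d + 1) + (s + 1) = d * d + s := by
      obtain ⟨e, rfl⟩ : ∃ e, d = e + 1 := ⟨d - 1, by omega⟩
      simp only [Nat.add_sub_cancel]
      ring
    have h4 : (s + 1) ∣ (d - 1) * (d + 1) + (s + 1) := by
      rw [e, ← hn]
      exact Dvd.intro_left n rfl
    exact (Nat.dvd_add_left (dvd_refl _)).mp h4
  rcases (Nat.Prime.dvd_mul hr).mp h3 with h5 | h5
  · exfalso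
    have := Nat.le_of_dvd (by omega) h5
    omega
  · have := Nat.le_of_dvd (by omega) h5
    omega

/-- a basis of eigenvectors for a semisimple operator -/
theorem exists_eigenbasis {k : Type uk} [Field k] {W : Type*} [AddCommGroup W] [Module k W]
    [IsAlgClosed k] [FiniteDimensional k W] (T : Module.End k W)
    (hT : T.IsSemisimple) :
    ∃ (I : Type uk) (_ : Fintype I) (_ : DecidableEq I) (v : Basis I k W) (μ : I → k),
      ∀ i, T (v i) = μ i • v i := by
  classical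
  let eigenDecomp := DirectSum.isInternal_submodule_of_iSupIndep_of_iSup_eq_top
    T.eigenspaces_iSupIndep hT.iSup_eigenspace_eq_top
  let I := (ν : k) × Fin (finrank k (T.eigenspace ν))
  let v : Basis I k W := eigenDecomp.collectedBasis fun μ ↦ finBasis k (T.eigenspace μ)
  have : Fintype I := FiniteDimensional.fintypeBasisIndex v
  exact ⟨I, this, inferInstance, v, Sigma.fst, fun i =>
    End.mem_eigenspace_iff.mp (eigenDecomp.collectedBasis_mem _ i)⟩

/-- central elements acting as scalars commute with everything -/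
theorem scalar_comm {T : Module.End k W} {c : k} (h : T = c • (1 : Module.End k W))
    (f : Module.End k W) : T * f = f * T := by
  rw [h, smul_mul_assoc, one_mul, mul_smul_comm, mul_one]

theorem extra_core [IsAlgClosed k] [FiniteDimensional k W] [Finite Γ]
    (hk : (Nat.card Γ : k) ≠ 0) (ρ : Representation k Γ W) (Q : Subgroup Γ) [Q.Normal]
    (Z : Subgroup Γ) (hZQ : Z ≤ Q) (x : Γ) {r : ℕ} (hr : r.Prime) (hxr : x ^ r = 1)
    (hgen : ∀ g : Γ, ∃ j : ℕ, ∃ n ∈ Q, g = x ^ j * n)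
    (hZc : ∀ z ∈ Z, ∀ g : Γ, z * g = g * z)
    (hQZ : ∀ u ∈ Q, ∀ v ∈ Q, u * v * u⁻¹ * v⁻¹ ∈ Z)
    (hfree : ∀ u ∈ Q, x * u * x⁻¹ * u⁻¹ ∈ Z → u ∈ Z)
    (hnd : ∀ u ∈ Q, (∀ v ∈ Q, ρ v * ρ u = ρ u * ρ v) → u ∈ Z)
    (hne : ∃ u ∈ Q, u ∉ Z)
    (hirr : IrrOn ρ ⊤) (hfpf : ∀ w, ρ x w = w → w = 0) :
    Nat.card Q = (r - 1) ^ 2 * Nat.card Z := by
  classical
  have hnt := hirr.1
  -- Step A: `Z` acts by scalars
  have hZs : ∀ z ∈ Z, ∃ c : k, ρ z = c • (1 : Module.End k W) := by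
    intro z hz
    apply schur_on hirr (ρ z)
    intro g _
    rw [← map_mul, ← map_mul, hZc z hz g]
  have hZcomm : ∀ z ∈ Z, ∀ f : Module.End k W, ρ z * f = f * ρ z := by
    intro z hz f
    obtain ⟨c, hc⟩ := hZs z hz
    exact scalar_comm hc f
  -- Step B, C
  have hirrQ : IrrOn ρ Q := irrOn_of_fpf hk ρ Q x hr hxr hgen hirr hfpf
  have hspan := span_range_eq_top ρ Q hirrQ
  have hone_ne : (1 : Module.End k W) ≠ 0 := by
    obtain ⟨w, hw⟩ := exists_ne (0 : W)
    intro h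
    apply hw
    have := congrArg (fun f : Module.End k W => f w) h
    simpa using this
  have hρne : ∀ g : Γ, ρ g ≠ 0 := by
    intro g h
    apply hone_ne
    rw [← map_one ρ, ← inv_mul_cancel g, map_mul, h, mul_zero]
  choose! Λ hΛ using hZs
  have hΛ0 : ∀ z ∈ Z, Λ z ≠ 0 := by
    intro z hz h
    apply hρne z
    rw [hΛ z hz, h, zero_smul]
  -- Step D: the quotient and a transversal
  set Z' : Subgroup ↥Q := Z.subgroupOf Q with hZ'
  have hconjZ : ∀ (g : Γ) (z : Γ), z ∈ Z → g * z * g⁻¹ = z := by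
    intro g z hz
    rw [← hZc z hz g, mul_inv_cancel_right]
  haveI hZ'n : Z'.Normal := by
    constructor
    intro z hz g
    have h1 : (z : Γ) ∈ Z := Subgroup.mem_subgroupOf.mp hz
    have h2 : g * z * g⁻¹ = z := by
      apply Subtype.ext
      simp only [Subgroup.coe_mul, InvMemClass.coe_inv]
      exact hconjZ _ _ h1
    rw [h2]
    exact hz
  let Qb := ↥Q ⧸ Z'
  haveI : Fintype Qb := Fintype.ofFinite _
  let s : Qb → ↥Q := Quotient.out
  have hs : ∀ ū : Qb, (QuotientGroup.mk (s ū) : Qb) = ū := fun ū => Quotient.out_eq' ū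
  have hdecomp : ∀ u : ↥Q, ∃ z ∈ Z, (u : Γ) = (s (QuotientGroup.mk u : Qb) : Γ) * z := by
    intro u
    obtain ⟨h, hh⟩ := QuotientGroup.mk_out_eq_mul Z' u
    refine ⟨((h : ↥Q) : Γ)⁻¹, Z.inv_mem (Subgroup.mem_subgroupOf.mp h.2), ?_⟩
    have h1 : s (QuotientGroup.mk u : Qb) = u * h := hh
    rw [h1]
    simp
  let e₀ : Qb → Module.End k W := fun ū => ρ (s ū : Γ)
  have hspan' : ⊤ ≤ Submodule.span k (Set.range e₀) := by
    rw [← hspan, Submodule.span_le]
    rintro _ ⟨u, rfl⟩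
    obtain ⟨z, hz, huz⟩ := hdecomp u
    show ρ (u : Γ) ∈ _
    rw [huz, map_mul, hΛ z hz, mul_smul_comm, mul_one]
    exact Submodule.smul_mem _ _ (Submodule.subset_span ⟨_, rfl⟩)
  -- independence through weights of the adjoint action of `Q`
  set Ad := Representation.linHom ρ ρ with hAd
  have hAdZ : ∀ z ∈ Z, Ad z = 1 := by
    intro z hz
    apply LinearMap.ext
    intro f
    rw [hAd, Representation.linHom_apply]
    show ρ z * (f * ρ z⁻¹) = f
    rw [← mul_assoc, hZcomm z hz f, mul_assoc, ← map_mul, mul_inv_cancel, map_one, mul_one]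
  have hcommAd : ∀ a b : Q, Commute (Ad (a : Γ)) (Ad (b : Γ)) := by
    intro a b
    show Ad a * Ad b = Ad b * Ad a
    have h1 : (a : Γ) * b = ((a : Γ) * b * (a : Γ)⁻¹ * (b : Γ)⁻¹) * (b * a) := by group
    rw [← map_mul, ← map_mul, h1, map_mul, hAdZ _ (hQZ a a.2 b b.2), one_mul]
  let χ : Qb → (Q → k) := fun ū v => Λ ((v : Γ) * (s ū : Γ) * (v : Γ)⁻¹ * (s ū : Γ)⁻¹)
  have hmem' : ∀ (ū : Qb) (v : Q), ρ v * ρ (s ū : Γ) = χ ū v • (ρ (s ū : Γ) * ρ v) := by
    intro ū v
    have hz := hQZ v v.2 (s ū) (s ū).2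
    have h1 : (v : Γ) * (s ū : Γ) =
        ((v : Γ) * (s ū : Γ) * (v : Γ)⁻¹ * (s ū : Γ)⁻¹) * ((s ū : Γ) * v) := by group
    rw [← map_mul, h1, map_mul, hΛ _ hz, smul_mul_assoc, one_mul, map_mul]
  have hmem : ∀ ū, e₀ ū ∈ wt Ad Q (χ ū) := by
    intro ū
    rw [mem_wt]
    intro v
    rw [hAd, Representation.linHom_apply]
    show ρ v * (ρ (s ū : Γ) * ρ (v : Γ)⁻¹) = χ ū v • ρ (s ū : Γ)
    rw [← mul_assoc, hmem' ū v, smul_mul_assoc, mul_assoc, ← map_mul, mul_inv_cancel, map_one,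
      mul_one]
  have hχinj : Function.Injective χ := by
    intro ū ū' hχ
    have hy : ((s ū' : ↥Q) : Γ)⁻¹ * (s ū : Γ) ∈ Z := by
      apply hnd _ (Q.mul_mem (Q.inv_mem (s ū').2) (s ū).2)
      intro v hv
      set a := χ ū ⟨v, hv⟩ with ha
      have ha0 : a ≠ 0 := hΛ0 _ (hQZ v hv (s ū) (s ū).2)
      have h1 : ρ v * ρ (s ū : Γ) = a • (ρ (s ū : Γ) * ρ v) := hmem' ū ⟨v, hv⟩
      have h2 : ρ v * ρ (s ū' : Γ) = a • (ρ (s ū' : Γ) * ρ v) := by
        rw [ha, hχ]
        exact hmem' ū' ⟨v, hv⟩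
      have h3 : ρ (s ū' : Γ)⁻¹ * ρ v = a • (ρ v * ρ (s ū' : Γ)⁻¹) := by
        have e0 : ρ (s ū' : Γ)⁻¹ * ρ (s ū' : Γ) = 1 := by
          rw [← map_mul, inv_mul_cancel, map_one]
        have e0' : ρ (s ū' : Γ) * ρ (s ū' : Γ)⁻¹ = 1 := by
          rw [← map_mul, mul_inv_cancel, map_one]
        calc ρ (s ū' : Γ)⁻¹ * ρ v
            = ρ (s ū' : Γ)⁻¹ * (ρ v * ρ (s ū' : Γ)) * ρ (s ū' : Γ)⁻¹ := by
              rw [mul_assoc, mul_assoc, e0', mul_one]
          _ = ρ (s ū' : Γ)⁻¹ * (a • (ρ (s ū' : Γ) * ρ v)) * ρ (s ū' : Γ)⁻¹ := by rw [h2]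
          _ = a • (ρ v * ρ (s ū' : Γ)⁻¹) := by
              rw [mul_smul_comm, smul_mul_assoc, ← mul_assoc, e0, one_mul]
      apply smul_right_injective _ ha0
      show a • (ρ v * ρ ((s ū' : Γ)⁻¹ * (s ū : Γ))) = a • (ρ ((s ū' : Γ)⁻¹ * (s ū : Γ)) * ρ v)
      rw [map_mul, ← mul_assoc, ← smul_mul_assoc, ← h3, mul_assoc, h1, mul_smul_comm, mul_assoc]
    have h1 : (QuotientGroup.mk (s ū') : Qb) = QuotientGroup.mk (s ū) := by
      rw [QuotientGroup.eq]
      exact Subgroup.mem_subgroupOf.mpr (by simpa using hy)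
    rw [← hs ū, ← hs ū', h1]
  have he₀ne : ∀ ū, e₀ ū ≠ 0 := fun ū => hρne _
  have hli : LinearIndependent k e₀ :=
    ((iSupIndep_wt Ad Q hk hcommAd).comp hχinj).linearIndependent _ hmem he₀ne
  -- Step E: a basis of `End W`
  let e : Basis Qb k (Module.End k W) := Basis.mk hli hspan'
  have he : ∀ ū, e ū = ρ (s ū : Γ) := fun ū => by rw [Basis.mk_apply]
  have hdd : finrank k W * finrank k W = Fintype.card Qb := by
    rw [← Module.finrank_linearMap k k W W, Module.finrank_eq_card_basis e]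
  -- Step F: the permutation induced by `x`
  have hfixZ' : ∀ (g : Γ) (z : ↥Q), z ∈ Z' → (MulAut.conjNormal g : MulAut ↥Q) z = z := by
    intro g z hz
    apply Subtype.ext
    rw [MulAut.conjNormal_apply]
    exact hconjZ g _ (Subgroup.mem_subgroupOf.mp hz)
  have hφZ : ∀ g : Γ, Z'.map ((MulAut.conjNormal g : ↥Q ≃* ↥Q).toMonoidHom) = Z' := by
    intro g
    ext z
    constructor
    · rintro ⟨z₀, hz₀, rfl⟩
      have := hfixZ' g z₀ hz₀
      show (MulAut.conjNormal g : MulAut ↥Q) z₀ ∈ Z'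
      rw [this]
      exact hz₀
    · intro hz
      exact ⟨z, hz, hfixZ' g z hz⟩
  let Sg : Γ → Equiv.Perm Qb := fun g =>
    (QuotientGroup.congr Z' Z' (MulAut.conjNormal g : ↥Q ≃* ↥Q) (hφZ g)).toEquiv
  have hSg_mk : ∀ (g : Γ) (u : ↥Q), Sg g (QuotientGroup.mk u) =
      QuotientGroup.mk ((MulAut.conjNormal g : MulAut ↥Q) u) := fun g u => rfl
  have hSg_mul : ∀ g h : Γ, Sg (g * h) = Sg g * Sg h := by
    intro g h
    ext ū
    induction ū using QuotientGroup.induction_on with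
    | H u =>
      rw [Equiv.Perm.mul_apply, hSg_mk, hSg_mk, hSg_mk, map_mul]
      rfl
  have hSg_one : Sg 1 = 1 := by
    ext ū
    induction ū using QuotientGroup.induction_on with
    | H u =>
      rw [hSg_mk, map_one]
      rfl
  have hSg_pow : ∀ j : ℕ, Sg (x ^ j) = (Sg x) ^ j := by
    intro j
    induction j with
    | zero => rw [pow_zero, pow_zero, hSg_one]
    | succ j ih => rw [pow_succ, pow_succ, hSg_mul, ih]
  set σ := Sg x with hσ
  have hσr : σ ^ r = 1 := by rw [hσ, ← hSg_pow, hxr, hSg_one]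
  have hσ_one : σ (1 : Qb) = 1 := by
    have : (1 : Qb) = QuotientGroup.mk (1 : ↥Q) := rfl
    rw [this, hσ, hSg_mk, map_one]
  have hσfree : ∀ ū : Qb, σ ū = ū → ū = 1 := by
    intro ū
    induction ū using QuotientGroup.induction_on with
    | H u =>
      intro h
      rw [hσ, hSg_mk, eq_comm, QuotientGroup.eq] at h
      have h1 : ((u⁻¹ * (MulAut.conjNormal x : MulAut ↥Q) u : ↥Q) : Γ) ∈ Z :=
        Subgroup.mem_subgroupOf.mp h
      rw [Subgroup.coe_mul, MulAut.conjNormal_apply, InvMemClass.coe_inv] at h1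
      have h2 : x * (u : Γ) * x⁻¹ * (u : Γ)⁻¹ ∈ Z := by
        have h3 := hconjZ (u : Γ) _ h1
        have h4 : (u : Γ) * ((u : Γ)⁻¹ * (x * (u : Γ) * x⁻¹)) * (u : Γ)⁻¹ =
            x * (u : Γ) * x⁻¹ * (u : Γ)⁻¹ := by group
        rw [← h4, h3]
        exact h1
      have h5 := hfree u u.2 h2
      rw [QuotientGroup.eq_one_iff]
      exact Subgroup.mem_subgroupOf.mpr h5
  have hσ1 : σ ≠ 1 := by
    obtain ⟨u, hu, huZ⟩ := hne
    intro h
    apply huZ
    have h1 : σ (QuotientGroup.mk (⟨u, hu⟩ : ↥Q)) = QuotientGroup.mk (⟨u, hu⟩ : ↥Q) := by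
      rw [h]
      rfl
    have h2 := hσfree _ h1
    rw [QuotientGroup.eq_one_iff] at h2
    exact Subgroup.mem_subgroupOf.mp h2
  -- the monomial action
  have hτ : ∀ ū : Qb, ∃ a : k, Ad x (e ū) = a • e (σ ū) := by
    intro ū
    obtain ⟨z, hz, huz⟩ := hdecomp ((MulAut.conjNormal x : MulAut ↥Q) (s ū))
    have h1 : (QuotientGroup.mk ((MulAut.conjNormal x : MulAut ↥Q) (s ū)) : Qb) = σ ū := by
      rw [hσ, ← hSg_mk, hs]
    rw [h1, MulAut.conjNormal_apply] at huz
    refine ⟨Λ z, ?_⟩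
    rw [he, he, hAd, Representation.linHom_apply]
    show ρ x * (ρ (s ū : Γ) * ρ x⁻¹) = Λ z • ρ (s (σ ū) : Γ)
    rw [← map_mul, ← map_mul, ← mul_assoc, huz, map_mul, hΛ z hz, mul_smul_comm, mul_one]
  choose c hc using hτ
  have hfixle := finrank_fixed_le e (Ad x) σ c hc
  have horb := card_orbits_mul σ hr hσr hσ1 1 hσ_one hσfree
  -- Step G: the fixed space is the commutant
  have hEq : LinearMap.eqLocus (Ad x) LinearMap.id = commT (ρ x) := by
    ext f
    rw [LinearMap.mem_eqLocus, mem_commT, LinearMap.id_apply, hAd, Representation.linHom_apply]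
    show ρ x * (f * ρ x⁻¹) = f ↔ f * ρ x = ρ x * f
    constructor
    · intro h
      calc f * ρ x = (ρ x * (f * ρ x⁻¹)) * ρ x := by rw [h]
        _ = ρ x * f := by
          rw [mul_assoc, mul_assoc, ← map_mul, inv_mul_cancel, map_one, mul_one]
    · intro h
      rw [← mul_assoc, ← h, mul_assoc, ← map_mul, mul_inv_cancel, map_one, mul_one]
  rw [hEq] at hfixle
  -- Step J: an eigenbasis for `ρ x`
  obtain ⟨I, hI, hIdec, b, t, hbt⟩ := exists_eigenbasis (ρ x) (isSemisimple_apply hk ρ x)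
  have htr : ∀ i, t i ^ r = 1 := by
    intro i
    have h1 : (ρ x ^ r) (b i) = t i ^ r • b i := by
      have : ∀ j : ℕ, (ρ x ^ j) (b i) = t i ^ j • b i := by
        intro j
        induction j with
        | zero => simp
        | succ j ih =>
          rw [pow_succ', Module.End.mul_apply, ih, map_smul, hbt, smul_smul, pow_succ]
      exact this r
    rw [← map_pow, hxr, map_one, Module.End.one_apply] at h1
    have h2 : (1 - t i ^ r) • b i = 0 := by rw [sub_smul, one_smul, ← h1, sub_self]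
    rcases smul_eq_zero.mp h2 with h3 | h3
    · exact (sub_eq_zero.mp h3).symm
    · exact absurd h3 (b.ne_zero i)
  have ht1 : ∀ i, t i ≠ 1 := by
    intro i h
    apply b.ne_zero i
    apply hfpf
    rw [hbt, h, one_smul]
  let S : Finset k := (Polynomial.nthRootsFinset r (1 : k)).erase 1
  have hS : ∀ i, t i ∈ S := by
    intro i
    rw [Finset.mem_erase, Polynomial.mem_nthRootsFinset hr.pos]
    exact ⟨ht1 i, htr i⟩
  have hScard : S.card ≤ r - 1 := by
    have h1 : (1 : k) ∈ Polynomial.nthRootsFinset r (1 : k) := by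
      rw [Polynomial.mem_nthRootsFinset hr.pos]
      exact one_pow r
    rw [Finset.card_erase_of_mem h1]
    apply Nat.sub_le_sub_right
    rw [Polynomial.nthRootsFinset_def]
    exact (Multiset.toFinset_card_le _).trans (Polynomial.card_nthRoots r (1 : k))
  have hsq := sq_finrank_le b (ρ x) t hbt S hS
  -- Step I: numerics
  set d := finrank k W with hd
  set nΩ := Nat.card (MulAction.orbitRel.Quotient (Subgroup.zpowers σ) Qb) with hnΩ
  have hm2 : 2 ≤ Fintype.card Qb := by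
    obtain ⟨u, hu, huZ⟩ := hne
    have : (QuotientGroup.mk (⟨u, hu⟩ : ↥Q) : Qb) ≠ 1 := by
      intro h
      rw [QuotientGroup.eq_one_iff] at h
      exact huZ (Subgroup.mem_subgroupOf.mp h)
    have hnt2 : Nontrivial Qb := ⟨⟨_, _, this⟩⟩
    exact Fintype.one_lt_card
  have hle : d ^ 2 ≤ (r - 1) * nΩ :=
    hsq.trans ((Nat.mul_le_mul_right _ hScard).trans (Nat.mul_le_mul_left _ hfixle))
  rw [Nat.card_eq_fintype_card (α := Qb)] at horb
  have hdr := numeric_core hr hdd hm2 horb hle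
  have hcard : Nat.card Q = Fintype.card Qb * Nat.card Z := by
    rw [Subgroup.card_eq_card_quotient_mul_card_subgroup Z', Nat.card_eq_fintype_card]
    congr 1
    exact Nat.card_congr (Subgroup.subgroupOfEquivOfLe hZQ).toEquiv
  rw [hcard, ← hdd, ← hdr, Nat.add_sub_cancel, sq]

end Cfsg.Agent.Lib.H19.ModRep
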