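import Mathlib
import Cfsg.Agent.Lib.H19.ModRepBridge
import Cfsg.Agent.Lib.H19.ModRepExtra

/-!
# Bridging lemmas for `extra_core` (helper19)

* `fpf_bc` : fixed-point-freeness survives base change.
* `exists_eigen_ne_one` : a semisimple operator different from `1` has an eigenvalue `≠ 1`.
* `inv_eigenspace_of_central` : eigenspaces of central elements are invariant.
* `card_sup_dvd` : `|XQ|` divides `|X||Q|` when `X` normalizes `Q`.
-/

set_option autoImplicit false

namespace Cfsg.Agent.Lib.H19.ModRep

open Module TensorProduct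

section bc

variable {F : Type*} [Field F] (K : Type*) [Field K] [Algebra F K] {Γ : Type*} [Group Γ]
  {V : Type*} [AddCommGroup V] [Module F V]

/-- fixed-point-freeness survives base change -/
theorem fpf_bc [Finite Γ] (hK : (Nat.card Γ : K) ≠ 0) (ρ : Representation F Γ V) (x : Γ)
    (hfix : ∀ v : V, ρ x v = v → v = 0) : ∀ w : K ⊗[F] V, bc K ρ x w = w → w = 0 := by
  classical
  set m := Nat.card Γ with hm
  have hxm : x ^ m = 1 := pow_card_eq_one'
  let P : Module.End F V := ∑ j ∈ Finset.range m, ρ (x ^ j)
  have hPfix : ∀ v, ρ x (P v) = P v := by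
    intro v
    simp only [P, LinearMap.sum_apply, map_sum]
    have h1 : ∀ j, ρ x (ρ (x ^ j) v) = ρ (x ^ (j + 1)) v := by
      intro j
      rw [pow_succ', map_mul, Module.End.mul_apply]
    simp only [h1]
    have h2 := Finset.sum_range_succ' (fun j => ρ (x ^ j) v) m
    have h3 := Finset.sum_range_succ (fun j => ρ (x ^ j) v) m
    rw [h3, hxm, pow_zero] at h2
    exact (add_right_cancel h2).symm
  have hP0 : P = 0 := LinearMap.ext fun v => hfix _ (hPfix v)
  have hPK : ∀ w : K ⊗[F] V, P.baseChange K w = ∑ j ∈ Finset.range m, bc K ρ (x ^ j) w := by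
    intro w
    have h1 : P.baseChange K = ∑ j ∈ Finset.range m, (ρ (x ^ j)).baseChange K :=
      map_sum (Module.End.baseChangeHom F K V) _ _
    rw [h1, LinearMap.sum_apply]
    rfl
  intro w hw
  have hpow : ∀ j : ℕ, bc K ρ (x ^ j) w = w := by
    intro j
    induction j with
    | zero => rw [pow_zero, map_one, Module.End.one_apply]
    | succ j ih => rw [pow_succ, map_mul, Module.End.mul_apply, hw, ih]
  have h1 := hPK w
  rw [hP0, LinearMap.baseChange_zero, LinearMap.zero_apply] at h1
  simp only [hpow] at h1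
  rw [Finset.sum_const, Finset.card_range, ← Nat.cast_smul_eq_nsmul K] at h1
  rcases smul_eq_zero.mp h1.symm with h2 | h2
  · exact absurd h2 hK
  · exact h2

end bc

variable {k : Type*} [Field k] {Γ : Type*} [Group Γ] {W : Type*} [AddCommGroup W] [Module k W]

/-- a semisimple operator different from `1` has an eigenvalue different from `1` -/
theorem exists_eigen_ne_one [IsAlgClosed k] [FiniteDimensional k W] (T : Module.End k W)
    (hT : T.IsSemisimple) (hT1 : T ≠ 1) : ∃ μ : k, μ ≠ 1 ∧ End.eigenspace T μ ≠ ⊥ := by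
  by_contra hcon
  push Not at hcon
  apply hT1
  have h1 : (⊤ : Submodule k W) ≤ End.eigenspace T 1 := by
    rw [← hT.iSup_eigenspace_eq_top]
    apply iSup_le
    intro μ
    by_cases hμ : μ = 1
    · rw [hμ]
    · rw [hcon μ hμ]
      exact bot_le
  apply LinearMap.ext
  intro w
  have := h1 (Submodule.mem_top : w ∈ ⊤)
  rw [End.mem_eigenspace_iff, one_smul] at this
  rw [this, Module.End.one_apply]

/-- eigenspaces of central elements are invariant -/
theorem inv_eigenspace_of_central (ρ : Representation k Γ W) (z : Γ)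
    (hz : ∀ g : Γ, z * g = g * z) (μ : k) : Inv ρ (End.eigenspace (ρ z) μ) := by
  intro g u hu
  rw [End.mem_eigenspace_iff] at hu ⊢
  rw [← Module.End.mul_apply, ← map_mul, hz g, map_mul, Module.End.mul_apply, hu, map_smul]

/-- the order of a join `H K` with `H ≤ N(K)` divides `|H| |K|`. -/
theorem card_sup_dvd {G : Type*} [Group G] [Finite G] (H K : Subgroup G)
    (hLE : H ≤ Subgroup.normalizer (K : Set G)) :
    Nat.card (H ⊔ K : Subgroup G) ∣ Nat.card H * Nat.card K := by
  have hn1 := Subgroup.normal_subgroupOf_of_le_normalizer hLE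
  have hn2 := Subgroup.normal_subgroupOf_sup_of_le_normalizer hLE
  have h0 : K.relIndex (H ⊔ K) = K.relIndex H :=
    Nat.card_congr (QuotientGroup.quotientInfEquivProdNormalizerQuotient H K hLE).toEquiv.symm
  have h1 : Nat.card K * K.relIndex (H ⊔ K) = Nat.card (H ⊔ K : Subgroup G) := by
    have := Subgroup.relIndex_mul_relIndex ⊥ K (H ⊔ K) bot_le le_sup_right
    rwa [Subgroup.relIndex_bot_left, Subgroup.relIndex_bot_left] at this
  rw [← h1, h0, mul_comm]
  exact Nat.mul_dvd_mul_right (Subgroup.relIndex_dvd_card K H) _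

end Cfsg.Agent.Lib.H19.ModRep
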