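import Mathlib
import Cfsg.Agent.Lib.H19.ModRepAbel
import Cfsg.Agent.Lib.H19.ModRepFrob
import Cfsg.Agent.Lib.H19.ModRepExtraBridge

/-!
# Prime-order elements acting on `q`-groups with a fixed-point-free faithful module (helper19)

`prime_action_core` : `ρ` a faithful representation of the finite group `Γ` over an algebraically
closed field of characteristic prime to `|Γ|`, `x ^ r = 1` with `r` prime, `Q` a `q`-subgroup
(`q ≠ r` prime) normalized but not centralized by `x`. If `ρ x` has no nonzero fixed vectors then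
`q = 2`, `r` is a Fermat prime and `Q` is nonabelian.
-/

set_option autoImplicit false

namespace Cfsg.Agent.Lib.H19.ModRep

open Module
open scoped commutatorElement

variable {k : Type*} [Field k] {Γ : Type*} [Group Γ] {W : Type*} [AddCommGroup W] [Module k W]

/-- arithmetic: `q^a = (r-1)² q^b` with `b < a` forces `q = 2` and `r` Fermat -/
theorem arith2 {q r a b : ℕ} (hq : q.Prime) (hr : r.Prime) (h : q ^ a = (r - 1) ^ 2 * q ^ b)
    (hab : b < a) : q = 2 ∧ ∃ n : ℕ, r = 2 ^ n + 1 := by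
  obtain ⟨c, rfl⟩ : ∃ c, a = b + c := ⟨a - b, by omega⟩
  have hc : 0 < c := by omega
  have h1 : q ^ c = (r - 1) ^ 2 := by
    have h2 : q ^ b * q ^ c = q ^ b * (r - 1) ^ 2 := by rw [← pow_add, h, mul_comm]
    exact Nat.eq_of_mul_eq_mul_left (pow_pos hq.pos b) h2
  have h3 : (r - 1) ∣ q ^ c := by
    rw [h1, sq]
    exact Dvd.intro _ rfl
  obtain ⟨n, -, hn⟩ := (Nat.dvd_prime_pow hq).mp h3
  have hr2 := hr.two_le
  have hrn : r = q ^ n + 1 := by omega
  have hn0 : n ≠ 0 := by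
    intro h0
    rw [hn, h0, pow_zero, one_pow] at h1
    have : 1 < q ^ c := Nat.one_lt_pow hc.ne' hq.one_lt
    omega
  have hq2 : q = 2 := by
    rcases hq.eq_two_or_odd with h' | h'
    · exact h'
    · exfalso
      have hodd : Odd q := Nat.odd_iff.mpr h'
      have hodd' : Odd (q ^ n) := hodd.pow
      have heven : Even r := by
        rw [hrn]
        exact hodd'.add_one
      have hr2' : r = 2 := (Nat.Prime.even_iff hr).mp heven
      have : q ^ n = 1 := by omega
      have h2 : 1 < q ^ n := Nat.one_lt_pow hn0 hq.one_lt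
      omega
  exact ⟨hq2, n, by rw [hrn, hq2]⟩

/-- an element of `q`-power order whose `r`-th power is trivial is trivial -/
theorem eq_one_of_pow_of_pgroup {q r : ℕ} (hq : q.Prime) (hr : r.Prime) (hqr : q ≠ r)
    {Q : Subgroup Γ} (hQ : IsPGroup q Q) {z : Γ} (hz : z ∈ Q) (hzr : z ^ r = 1) : z = 1 := by
  obtain ⟨m, hm⟩ := hQ ⟨z, hz⟩
  have hm' : z ^ (q ^ m) = 1 := by
    have := congrArg (Subtype.val : Q → Γ) hm
    simpa using this
  have hcop : Nat.Coprime (q ^ m) r := Nat.Coprime.pow_left m ((Nat.coprime_primes hq hr).mpr hqr)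
  have h7 : orderOf z ∣ Nat.gcd (q ^ m) r :=
    Nat.dvd_gcd (orderOf_dvd_of_pow_eq_one hm') (orderOf_dvd_of_pow_eq_one hzr)
  rw [hcop] at h7
  exact orderOf_eq_one_iff.mp (Nat.dvd_one.mp h7)

/-- if `x u x⁻¹ u⁻¹ = z` commutes with `x`, `x ^ r = 1`, `z` lies in the `q`-group `Q`,
then `x` commutes with `u` -/
theorem commute_of_comm_central {q r : ℕ} (hq : q.Prime) (hr : r.Prime) (hqr : q ≠ r)
    {Q : Subgroup Γ} (hQ : IsPGroup q Q) {x u : Γ} (hxr : x ^ r = 1)
    (hz : x * u * x⁻¹ * u⁻¹ ∈ Q) (hzx : (x * u * x⁻¹ * u⁻¹) * x = x * (x * u * x⁻¹ * u⁻¹)) :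
    x * u = u * x := by
  set z := x * u * x⁻¹ * u⁻¹ with hzdef
  have h1 : x * u * x⁻¹ = z * u := by rw [hzdef]; group
  have h2 : ∀ j : ℕ, x ^ j * u * (x ^ j)⁻¹ = z ^ j * u := by
    intro j
    induction j with
    | zero => simp
    | succ j ih =>
      have hzx' : Commute z x := hzx
      have h3 : x * z ^ j = z ^ j * x := ((hzx'.pow_left j).eq).symm
      calc x ^ (j + 1) * u * (x ^ (j + 1))⁻¹
          = x * (x ^ j * u * (x ^ j)⁻¹) * x⁻¹ := by rw [pow_succ']; group
        _ = x * (z ^ j * u) * x⁻¹ := by rw [ih]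
        _ = (x * z ^ j) * u * x⁻¹ := by group
        _ = (z ^ j * x) * u * x⁻¹ := by rw [h3]
        _ = z ^ j * (x * u * x⁻¹) := by group
        _ = z ^ (j + 1) * u := by rw [h1, ← mul_assoc, ← pow_succ]
  have h3 := h2 r
  rw [hxr, inv_one, mul_one, one_mul] at h3
  have h4 : z ^ r = 1 := by
    have : z ^ r * u = 1 * u := by rw [← h3, one_mul]
    exact mul_right_cancel this
  have h5 : z = 1 := eq_one_of_pow_of_pgroup hq hr hqr hQ hz h4
  have : x * u * x⁻¹ = u := by rw [h1, h5, one_mul]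
  calc x * u = (x * u * x⁻¹) * x := by group
    _ = u * x := by rw [this]

/-- The minimal case. -/
theorem minimal_case [IsAlgClosed k] [FiniteDimensional k W] [Finite Γ]
    (hk : (Nat.card Γ : k) ≠ 0) (ρ : Representation k Γ W) (hfaith : ∀ g : Γ, ρ g = 1 → g = 1)
    (Q : Subgroup Γ) [hQn : Q.Normal] {q : ℕ} (hq : q.Prime) (hQq : IsPGroup q Q)
    (x : Γ) {r : ℕ} (hr : r.Prime) (hqr : q ≠ r) (hxr : x ^ r = 1)
    (hgen : ∀ g : Γ, ∃ j : ℕ, ∃ n ∈ Q, g = x ^ j * n)
    (hxQ : ∃ u ∈ Q, x * u ≠ u * x)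
    (hmin : ∀ P : Subgroup Γ, P < Q → (∀ u ∈ P, x * u * x⁻¹ ∈ P) → ∀ u ∈ P, x * u = u * x)
    (hfpf : ∀ w, ρ x w = w → w = 0) :
    q = 2 ∧ (∃ n : ℕ, r = 2 ^ n + 1) ∧ ∃ u ∈ Q, ∃ v ∈ Q, u * v ≠ v * u := by
  classical
  haveI : Fact q.Prime := ⟨hq⟩
  have hxQinv : ∀ u ∈ Q, x * u * x⁻¹ ∈ Q := fun u hu => hQn.conj_mem u hu x
  by_cases hab : ∀ u ∈ Q, ∀ v ∈ Q, u * v = v * u
  · -- abelian case: contradiction
    exfalso
    obtain ⟨u, hu, hxu⟩ := hxQ
    have hcomm : ∀ a b : Q, Commute (ρ (a : Γ)) (ρ (b : Γ)) := by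
      intro a b
      show ρ a * ρ b = ρ b * ρ a
      rw [← map_mul, ← map_mul, hab a a.2 b b.2]
    have h1 := abelian_fix hk ρ Q hcomm x hr hxr hxQinv hfpf u hu
    have h2 : ρ (x * u * x⁻¹ * u⁻¹) = 1 := by
      rw [map_mul, h1, ← map_mul, mul_inv_cancel, map_one]
    have h3 := hfaith _ h2
    apply hxu
    calc x * u = (x * u * x⁻¹ * u⁻¹) * (u * x) := by group
      _ = u * x := by rw [h3, one_mul]
  · push Not at hab
    obtain ⟨u₀, hu₀, v₀, hv₀, huv₀⟩ := hab
    refine (fun h : q = 2 ∧ ∃ n : ℕ, r = 2 ^ n + 1 => ⟨h.1, h.2, u₀, hu₀, v₀, hv₀, huv₀⟩) ?_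
    -- the centralizer of `x` in `Q`
    set D : Subgroup Γ := Q ⊓ Subgroup.centralizer {x} with hD
    have hDmem : ∀ u, u ∈ D ↔ u ∈ Q ∧ u * x = x * u := by
      intro u
      rw [hD, Subgroup.mem_inf, Subgroup.mem_centralizer_singleton_iff]
    have hDQ : D ≤ Q := inf_le_left
    -- proper invariant subgroups lie in `D`
    have hminD : ∀ P : Subgroup Γ, P < Q → (∀ u ∈ P, x * u * x⁻¹ ∈ P) → P ≤ D := by
      intro P hP hPx u hu
      rw [hDmem]
      exact ⟨hP.le hu, (hmin P hP hPx u hu).symm⟩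
    -- conjugation by `x` as an automorphism
    let cx : Γ →* Γ := (MulAut.conj x).toMonoidHom
    have hcx : ∀ g, cx g = x * g * x⁻¹ := fun g => rfl
    have hmapQ : Q.map cx = Q := by
      apply le_antisymm
      · rintro _ ⟨u, hu, rfl⟩
        exact hxQinv u hu
      · intro u hu
        refine ⟨x⁻¹ * u * x, ?_, ?_⟩
        · have := hQn.conj_mem u hu x⁻¹
          simpa using this
        · rw [hcx]; group
    -- the derived subgroup
    have hQ'lt : ⁅Q, Q⁆ < Q := by
      haveI : Nontrivial Q := ⟨⟨⟨u₀, hu₀⟩, ⟨v₀, hv₀⟩, fun h => huv₀ (by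
        have := congrArg (Subtype.val : Q → Γ) h
        simp only at this
        rw [this])⟩⟩
      haveI : Group.IsNilpotent Q := hQq.isNilpotent
      have h1 : commutator Q < ⊤ := Group.IsSolvable.commutator_lt_top_of_nontrivial Q
      rw [← Subgroup.map_subtype_commutator]
      have h2 : (commutator Q).map Q.subtype < (⊤ : Subgroup Q).map Q.subtype :=
        (Subgroup.map_lt_map_iff_of_injective Q.subtype_injective).mpr h1
      rwa [← MonoidHom.range_eq_map, Subgroup.range_subtype] at h2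
    have hQ'x : ∀ u ∈ ⁅Q, Q⁆, x * u * x⁻¹ ∈ ⁅Q, Q⁆ := by
      intro u hu
      have h1 : cx u ∈ (⁅Q, Q⁆).map cx := ⟨u, hu, rfl⟩
      rw [Subgroup.map_commutator, hmapQ] at h1
      exact h1
    have hQ'D : ⁅Q, Q⁆ ≤ D := hminD _ hQ'lt hQ'x
    -- `[Q, ⟨x⟩] = Q`
    set X := Subgroup.zpowers x with hX
    have hmapX : X.map cx = X := by
      apply le_antisymm
      · rintro _ ⟨y, hy, rfl⟩
        obtain ⟨i, rfl⟩ := Subgroup.mem_zpowers_iff.mp hy
        rw [hcx]
        have : x * x ^ i * x⁻¹ = x ^ i := by group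
        rw [this]
        exact Subgroup.zpow_mem_zpowers x i
      · intro y hy
        obtain ⟨i, rfl⟩ := Subgroup.mem_zpowers_iff.mp hy
        refine ⟨x ^ i, Subgroup.zpow_mem_zpowers x i, ?_⟩
        rw [hcx]; group
    have hPle : ⁅Q, X⁆ ≤ Q := Subgroup.commutator_le_left Q X
    have hPx : ∀ u ∈ ⁅Q, X⁆, x * u * x⁻¹ ∈ ⁅Q, X⁆ := by
      intro u hu
      have h1 : cx u ∈ (⁅Q, X⁆).map cx := ⟨u, hu, rfl⟩
      rw [Subgroup.map_commutator, hmapQ, hmapX] at h1
      exact h1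
    have hPeq : ⁅Q, X⁆ = Q := by
      by_contra hne
      have hlt : ⁅Q, X⁆ < Q := lt_of_le_of_ne hPle hne
      have hcen := hmin _ hlt hPx
      obtain ⟨u, hu, hxu⟩ := hxQ
      apply hxu
      have hz : x * u * x⁻¹ * u⁻¹ ∈ ⁅Q, X⁆ := by
        have h1 : ⁅x, u⁆ ∈ ⁅X, Q⁆ :=
          Subgroup.commutator_mem_commutator (Subgroup.mem_zpowers x) hu
        rw [Subgroup.commutator_comm] at h1
        exact h1
      exact commute_of_comm_central hq hr hqr hQq hxr (hPle hz) (hcen _ hz).symm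
    -- `D` is central in `Q`
    have hDX : ⁅D, X⁆ = ⊥ := by
      rw [Subgroup.commutator_eq_bot_iff_le_centralizer]
      intro d hd y hy
      obtain ⟨i, rfl⟩ := Subgroup.mem_zpowers_iff.mp (SetLike.mem_coe.mp hy)
      have h1 : Commute d x := ((hDmem d).mp hd).2
      exact ((h1.zpow_right i).eq).symm
    have hQDX : ⁅⁅Q, D⁆, X⁆ = ⊥ := by
      rw [eq_bot_iff, ← hDX]
      exact Subgroup.commutator_mono ((Subgroup.commutator_mono le_rfl hDQ).trans hQ'D) le_rfl
    have hQD : ⁅Q, D⁆ = ⊥ := by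
      have h1 : ⁅⁅D, X⁆, Q⁆ = ⊥ := by
        rw [hDX, eq_bot_iff, Subgroup.commutator_le]
        intro a ha b _
        rw [Subgroup.mem_bot] at ha
        rw [ha, commutatorElement_one_left]
        exact Subgroup.one_mem _
      have h2 := Subgroup.commutator_commutator_eq_bot_of_rotate hQDX h1
      rw [Subgroup.commutator_comm X Q, hPeq] at h2
      exact h2
    have hDQc : ∀ d ∈ D, ∀ u ∈ Q, d * u = u * d := by
      intro d hd u hu
      have h1 : ⁅u, d⁆ ∈ ⁅Q, D⁆ := Subgroup.commutator_mem_commutator hu hd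
      rw [hQD, Subgroup.mem_bot, commutatorElement_def] at h1
      calc d * u = (u * d * u⁻¹ * d⁻¹)⁻¹ * (u * d) := by group
        _ = u * d := by rw [h1, inv_one, one_mul]
    have hDc : ∀ z ∈ D, ∀ g : Γ, z * g = g * z := by
      intro z hz g
      obtain ⟨j, n, hn, rfl⟩ := hgen g
      have h1 : Commute z x := ((hDmem z).mp hz).2
      have h2 : z * x ^ j = x ^ j * z := (h1.pow_right j).eq
      rw [← mul_assoc, h2, mul_assoc, hDQc z hz n hn, mul_assoc]
    -- a nontrivial element of the derived subgroup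
    obtain ⟨c, hcQ', hc1⟩ : ∃ c ∈ ⁅Q, Q⁆, c ≠ 1 := by
      refine ⟨⁅u₀, v₀⁆, Subgroup.commutator_mem_commutator hu₀ hv₀, ?_⟩
      intro h
      apply huv₀
      rw [commutatorElement_def] at h
      calc u₀ * v₀ = (u₀ * v₀ * u₀⁻¹ * v₀⁻¹) * (v₀ * u₀) := by group
        _ = v₀ * u₀ := by rw [h, one_mul]
    have hcD : c ∈ D := hQ'D hcQ'
    have hρc : ρ c ≠ 1 := fun h => hc1 (hfaith c h)
    obtain ⟨μ, hμ1, hμ0⟩ := exists_eigen_ne_one (ρ c) (isSemisimple_apply hk ρ c) hρc
    have hUinv := inv_eigenspace_of_central ρ c (hDc c hcD) μ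
    obtain ⟨W₁, hW₁inv, hW₁le, hirr⟩ := exists_irr_le ρ _ hUinv hμ0
    set ρ₁ := sub ρ W₁ hW₁inv with hρ₁
    have hnt₁ := hirr.1
    have hρ₁c : ρ₁ c ≠ 1 := by
      intro h
      obtain ⟨w, hw⟩ := exists_ne (0 : W₁)
      have h1 : ρ₁ c w = μ • w := by
        apply Subtype.ext
        rw [hρ₁, Cfsg.Agent.Lib.H19.ModRep.sub_apply]
        exact Module.End.mem_eigenspace_iff.mp (hW₁le w.2)
      rw [h, Module.End.one_apply] at h1
      have h3 : (1 - μ) • w = 0 := by
        have := _root_.sub_smul (1 : k) μ w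
        rw [this, one_smul, ← h1, sub_self]
      rcases smul_eq_zero.mp h3 with h4 | h4
      · exact hμ1 (sub_eq_zero.mp h4).symm
      · exact hw h4
    -- the nondegeneracy
    have hY : cen ρ₁ Q ≤ D := by
      by_cases hYQ : cen ρ₁ Q = Q
      · exfalso
        -- `ρ₁(Q)` is commutative, so `ρ₁` kills the derived subgroup
        apply hρ₁c
        have hle : ⁅Q, Q⁆ ≤ (ρ₁ : Γ →* Module.End k W₁).ker := by
          rw [Subgroup.commutator_le]
          intro a ha b hb
          rw [MonoidHom.mem_ker, commutatorElement_def]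
          have ha' : a ∈ cen ρ₁ Q := by rw [hYQ]; exact ha
          have h1 := ha'.2 b hb
          rw [map_mul, map_mul, map_mul, h1, mul_assoc (ρ₁ b), ← map_mul, mul_inv_cancel, map_one,
            mul_one, ← map_mul, mul_inv_cancel, map_one]
        exact MonoidHom.mem_ker.mp (hle hcQ')
      · apply hminD _ (lt_of_le_of_ne (cen_le ρ₁ Q) hYQ)
        intro u hu
        exact cen_conj ρ₁ Q hu x
    obtain ⟨u₁, hu₁, hxu₁⟩ := hxQ
    have hcore := extra_core (k := k) (Γ := Γ) (W := ↥W₁) hk ρ₁ Q D hDQ x hr hxr hgen hDc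
      (fun u hu v hv => hQ'D (Subgroup.commutator_mem_commutator hu hv))
      (fun u hu hz => by
        rw [hDmem]
        refine ⟨hu, ?_⟩
        have hzx : (x * u * x⁻¹ * u⁻¹) * x = x * (x * u * x⁻¹ * u⁻¹) := ((hDmem _).mp hz).2
        exact (commute_of_comm_central hq hr hqr hQq hxr (hDQ hz) hzx).symm)
      (fun u hu h => hY ⟨hu, fun n hn => (h n hn).symm⟩)
      ⟨u₁, hu₁, fun h => hxu₁ ((hDmem _).mp h).2.symm⟩ hirr
      (fun w hw => Subtype.ext (hfpf _ (congrArg (Subtype.val : W₁ → W) hw)))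
    -- arithmetic
    obtain ⟨a, ha⟩ := IsPGroup.iff_card.mp hQq
    obtain ⟨b, hb⟩ := IsPGroup.iff_card.mp (hQq.to_le hDQ)
    rw [ha, hb] at hcore
    have hab' : b < a := by
      have h1 : Nat.card D < Nat.card Q := by
        by_contra hge
        push Not at hge
        have h := Subgroup.eq_of_le_of_card_ge hDQ hge
        apply hxu₁
        have : u₁ ∈ D := by rw [h]; exact hu₁
        exact ((hDmem _).mp this).2.symm
      rw [ha, hb] at h1
      exact (Nat.pow_lt_pow_iff_right hq.one_lt).mp h1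
    exact arith2 hq hr hcore hab'

theorem inv_conj_mem_of_pow {A : Subgroup Γ} {x : Γ} {r : ℕ} (hr : 0 < r) (hxr : x ^ r = 1)
    (hxA : ∀ a ∈ A, x * a * x⁻¹ ∈ A) : ∀ a ∈ A, x⁻¹ * a * x ∈ A := by
  have hxjA : ∀ (j : ℕ), ∀ a ∈ A, x ^ j * a * (x ^ j)⁻¹ ∈ A := by
    intro j
    induction j with
    | zero => intro a ha; simpa using ha
    | succ j ih =>
      intro a ha
      have h1 := hxA _ (ih a ha)
      have e : x ^ (j + 1) * a * (x ^ (j + 1))⁻¹ = x * (x ^ j * a * (x ^ j)⁻¹) * x⁻¹ := by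
        rw [pow_succ']
        group
      rw [e]
      exact h1
  have hxinv : x⁻¹ = x ^ (r - 1) := by
    have h1 : x ^ (r - 1) * x = 1 := by
      rw [← pow_succ, Nat.sub_add_cancel hr, hxr]
    exact inv_eq_of_mul_eq_one_left h1
  intro a ha
  have := hxjA (r - 1) a ha
  rw [← hxinv, inv_inv] at this
  exact this

theorem card_lt_of_lt' [Finite Γ] {H K : Subgroup Γ} (h : H < K) : Nat.card H < Nat.card K := by
  by_contra hge
  push Not at hge
  exact h.ne (Subgroup.eq_of_le_of_card_ge h.le hge)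

/-- **Main theorem** on prime order elements acting on `q`-groups. -/
theorem prime_action_core [IsAlgClosed k] [FiniteDimensional k W] [Finite Γ]
    (hk : (Nat.card Γ : k) ≠ 0) (ρ : Representation k Γ W) (hfaith : ∀ g : Γ, ρ g = 1 → g = 1)
    {q r : ℕ} (hq : q.Prime) (hr : r.Prime) (hqr : q ≠ r) (x : Γ) (hxr : x ^ r = 1)
    (hfpf : ∀ w, ρ x w = w → w = 0) :
    ∀ (n : ℕ) (Q : Subgroup Γ), Nat.card Q = n → IsPGroup q Q → (∀ u ∈ Q, x * u * x⁻¹ ∈ Q) →
      (∃ u ∈ Q, x * u ≠ u * x) →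
      q = 2 ∧ (∃ n : ℕ, r = 2 ^ n + 1) ∧ ∃ u ∈ Q, ∃ v ∈ Q, u * v ≠ v * u := by
  classical
  intro n
  induction n using Nat.strong_induction_on with
  | _ n ih =>
  intro Q hn hQq hxQ hnc
  by_cases hmin : ∀ P : Subgroup Γ, P < Q → (∀ u ∈ P, x * u * x⁻¹ ∈ P) → ∀ u ∈ P, x * u = u * x
  · -- the minimal case: restrict to `K = ⟨x⟩ Q`
    set X := Subgroup.zpowers x with hX
    set K : Subgroup Γ := X ⊔ Q with hK
    have hXK : X ≤ K := le_sup_left
    have hQK : Q ≤ K := le_sup_right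
    have hxQ' := inv_conj_mem_of_pow hr.pos hxr hxQ
    have hXQ : X ≤ Subgroup.normalizer (Q : Set Γ) := by
      rw [hX, Subgroup.zpowers_le, Subgroup.mem_normalizer_iff]
      intro h
      constructor
      · exact hxQ h
      · intro hh
        have := hxQ' _ hh
        have e : x⁻¹ * (x * h * x⁻¹) * x = h := by group
        rwa [e] at this
    set Qk : Subgroup K := Q.subgroupOf K with hQk
    haveI hQkn : Qk.Normal := Subgroup.normal_subgroupOf_sup_of_le_normalizer hXQ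
    let xk : K := ⟨x, hXK (Subgroup.mem_zpowers x)⟩
    have hxkr : xk ^ r = 1 := Subtype.ext (by simpa using hxr)
    have hgen : ∀ g : K, ∃ j : ℕ, ∃ n ∈ Qk, g = xk ^ j * n := by
      intro g
      have htop : (X.subgroupOf K) ⊔ Qk = ⊤ := by
        rw [hQk, ← Subgroup.subgroupOf_sup hXK hQK]
        exact Subgroup.subgroupOf_self K
      have hg' : g ∈ (X.subgroupOf K) ⊔ Qk := by rw [htop]; trivial
      obtain ⟨y, hy, n, hn, hyn⟩ := Subgroup.mem_sup_of_normal_right.mp hg'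
      have hyX : (y : Γ) ∈ X := Subgroup.mem_subgroupOf.mp hy
      obtain ⟨i, hi⟩ := mem_powers_iff_mem_zpowers.mpr hyX
      refine ⟨i, n, hn, ?_⟩
      rw [← hyn]
      congr 1
      apply Subtype.ext
      have hi' : x ^ i = (y : Γ) := hi
      simpa using hi'.symm
    let σ : Representation k K W := ρ.comp K.subtype
    have hkK : (Nat.card K : k) ≠ 0 := by
      intro h0
      apply hk
      obtain ⟨c, hc⟩ := Subgroup.card_subgroup_dvd_card K
      rw [hc, Nat.cast_mul, h0, zero_mul]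
    have hres := minimal_case (k := k) (Γ := ↥K) (W := W) hkK σ
      (fun g hg => Subtype.ext (hfaith _ hg)) Qk hq
      (hQq.comap_subtype) xk hr hqr hxkr hgen
      (by
        obtain ⟨u, hu, hxu⟩ := hnc
        refine ⟨⟨u, hQK hu⟩, Subgroup.mem_subgroupOf.mpr hu, fun h => hxu ?_⟩
        have := congrArg (Subtype.val : K → Γ) h
        simpa [xk] using this)
      (by
        intro P hP hPx u hu
        have hPQ : P.map K.subtype < Q := by
          constructor
          · rintro _ ⟨v, hv, rfl⟩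
            exact Subgroup.mem_subgroupOf.mp (hP.le hv)
          · intro hle
            apply hP.not_ge
            intro v hv
            have hvQ : (v : Γ) ∈ Q := Subgroup.mem_subgroupOf.mp hv
            obtain ⟨v', hv', hvv⟩ := hle hvQ
            have : v' = v := Subtype.ext hvv
            rw [← this]
            exact hv'
        have hPx' : ∀ u ∈ P.map K.subtype, x * u * x⁻¹ ∈ P.map K.subtype := by
          rintro _ ⟨v, hv, rfl⟩
          exact ⟨xk * v * xk⁻¹, hPx v hv, by simp [xk]⟩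
        have h1 := hmin _ hPQ hPx' (u : Γ) ⟨u, hu, rfl⟩
        apply Subtype.ext
        simpa [xk] using h1)
      (fun w hw => hfpf w hw)
    obtain ⟨h2, hF, u, hu, v, hv, huv⟩ := hres
    refine ⟨h2, hF, (u : Γ), Subgroup.mem_subgroupOf.mp hu, (v : Γ), Subgroup.mem_subgroupOf.mp hv,
      fun h => huv (Subtype.ext (by simpa using h))⟩
  · push Not at hmin
    obtain ⟨P, hP, hPx, u, hu, hxu⟩ := hmin
    have hlt : Nat.card P < n := hn ▸ card_lt_of_lt' hP
    obtain ⟨h2, hF, a, ha, b, hb, hab⟩ :=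
      ih _ hlt P rfl (hQq.to_le hP.le) hPx ⟨u, hu, hxu⟩
    exact ⟨h2, hF, a, hP.le ha, b, hP.le hb, hab⟩

end Cfsg.Agent.Lib.H19.ModRep
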