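import Mathlib
import Cfsg.Agent.Lib.H19.ModRepPrime

/-!
# `prime_action_core` without faithfulness (helper19)

`prime_action_core'` : the same statement for an arbitrary representation, the hypothesis "`x`
does not centralize `Q`" being replaced by "`ρ x` does not commute with `ρ(Q)`".
-/

set_option autoImplicit false

namespace Cfsg.Agent.Lib.H19.ModRep

open Module

variable {k : Type*} [Field k] {Γ : Type*} [Group Γ] {W : Type*} [AddCommGroup W] [Module k W]

theorem prime_action_core' [IsAlgClosed k] [FiniteDimensional k W] [Finite Γ]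
    (hk : (Nat.card Γ : k) ≠ 0) (ρ : Representation k Γ W)
    {q r : ℕ} (hq : q.Prime) (hr : r.Prime) (hqr : q ≠ r) (x : Γ) (hxr : x ^ r = 1)
    (hfpf : ∀ w, ρ x w = w → w = 0) (Q : Subgroup Γ) (hQq : IsPGroup q Q)
    (hxQ : ∀ u ∈ Q, x * u * x⁻¹ ∈ Q) (hnc : ∃ u ∈ Q, ρ x * ρ u ≠ ρ u * ρ x) :
    q = 2 ∧ ∃ n : ℕ, r = 2 ^ n + 1 := by
  classical
  set N : Subgroup Γ := MonoidHom.ker (ρ : Γ →* Module.End k W) with hN
  haveI hNn : N.Normal := MonoidHom.normal_ker _
  let ρb : Representation k (Γ ⧸ N) W :=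
    QuotientGroup.lift N (ρ : Γ →* Module.End k W) le_rfl
  have hρb : ∀ g : Γ, ρb (QuotientGroup.mk g) = ρ g := fun g => rfl
  have hkb : (Nat.card (Γ ⧸ N) : k) ≠ 0 := by
    intro h0
    apply hk
    obtain ⟨c, hc⟩ := Subgroup.card_quotient_dvd_card N
    rw [hc, Nat.cast_mul, h0, zero_mul]
  have hfaith : ∀ g : Γ ⧸ N, ρb g = 1 → g = 1 := by
    intro g hg
    have h1 : g ∈ (QuotientGroup.lift N (ρ : Γ →* Module.End k W) le_rfl).ker :=
      MonoidHom.mem_ker.mpr hg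
    rw [QuotientGroup.ker_lift, QuotientGroup.map_mk'_self, Subgroup.mem_bot] at h1
    exact h1
  let xb : Γ ⧸ N := QuotientGroup.mk x
  have hxbr : xb ^ r = 1 := by
    show (QuotientGroup.mk x : Γ ⧸ N) ^ r = 1
    rw [← QuotientGroup.mk_pow, hxr]
    rfl
  let Qb : Subgroup (Γ ⧸ N) := Q.map (QuotientGroup.mk' N)
  have hQb : IsPGroup q Qb := hQq.map _
  have hres := prime_action_core (k := k) (Γ := Γ ⧸ N) (W := W) hkb ρb hfaith hq hr hqr xb hxbr
    (fun w hw => hfpf w hw) _ Qb rfl hQb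
    (by
      rintro _ ⟨u, hu, rfl⟩
      exact ⟨x * u * x⁻¹, hxQ u hu, rfl⟩)
    (by
      obtain ⟨u, hu, hxu⟩ := hnc
      refine ⟨QuotientGroup.mk u, ⟨u, hu, rfl⟩, fun h => hxu ?_⟩
      have := congrArg ρb h
      rw [map_mul, map_mul] at this
      exact this)
  exact ⟨hres.1, hres.2.1⟩

end Cfsg.Agent.Lib.H19.ModRep
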