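import Mathlib
import Cfsg.Agent.Lib.H20.BGT7
import Cfsg.Agent.Lib.H8.BG12c
import Cfsg.Agent.Lib.H8.Nilpotent
import Cfsg.Agent.Lib.H19.HallPi
import Cfsg.Agent.Lib.H1.CoprimeAction
import Cfsg.Agent.Lib.H1.CoprimeSylow
import Cfsg.Agent.Lib.H1.Complement
import Cfsg.Agent.S1414

/-! # Bender–Glauberman §13 toolkit, part 1 (helper19): general lemmas

Coprime generation by invariant Sylow subgroups, complements of `M_σ` containing a given
`σ(M)'`-subgroup, nilpotency of `β(M)'`-subgroups of `M_σ`. -/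

set_option autoImplicit false
set_option linter.style.haveILetI false
set_option linter.unusedSectionVars false
set_option linter.unusedVariables false

open Cfsg

namespace Cfsg.Agent.Lib.H19.BG13

open Cfsg.Agent.Lib.H16.BG
open Cfsg.Agent.Lib.H7.BG7
open Cfsg.Agent.Lib.H7.BG10
open Cfsg.Agent.Lib.H20.BGT
open Cfsg.Agent.Lib.H20.BGS
open Cfsg.Agent.Lib.H19 (IsPiCard)
open Cfsg.Agent.Lib.H1 (CoprimeAction)

universe u
variable {G : Type u} [Group G] [Finite G]

local notation:max "cj(" g ", " X ")" => Subgroup.map (MulEquiv.toMonoidHom (MulAut.conj g)) X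

/-- **Coprime generation**: if `P` acts coprimely on `D` and centralizes every `P`-invariant
subgroup of prime power order of `D`, then `P` centralizes `D`. -/
theorem le_centralizer_of_forall_invariant {P D : Subgroup G} (h : CoprimeAction P D)
    (hQ : ∀ q : ℕ, q.Prime → ∀ Q : Subgroup G, Q ≤ D → IsPGroup q Q →
      P ≤ Subgroup.normalizer (Q : Set G) → Q ≤ Subgroup.centralizer (P : Set G)) :
    D ≤ Subgroup.centralizer (P : Set G) := by
  set C : Subgroup G := D ⊓ Subgroup.centralizer (P : Set G) with hC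
  have hCD : C ≤ D := inf_le_left
  have hdvd : Nat.card D ∣ Nat.card C := by
    rw [← Nat.factorization_le_iff_dvd Nat.card_pos.ne' Nat.card_pos.ne']
    intro q
    by_cases hq : q.Prime
    · haveI : Fact q.Prime := ⟨hq⟩
      obtain ⟨Q, hQs, hQn⟩ := Cfsg.Agent.Lib.H1.coprime_exists_invariant_sylow h q
      have hQC : Q ≤ C := le_inf hQs.le (hQ q hq Q hQs.le hQs.isPGroup hQn)
      have h1 : q ^ (Nat.card D).factorization q ∣ Nat.card C := by
        rw [← hQs.card_eq]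
        exact Subgroup.card_dvd_of_le hQC
      exact (hq.pow_dvd_iff_le_factorization Nat.card_pos.ne').1 h1
    · simp [Nat.factorization_eq_zero_of_not_prime _ hq]
  have hle : Nat.card D ≤ Nat.card C := Nat.le_of_dvd Nat.card_pos hdvd
  have : C = D := Subgroup.eq_of_le_of_card_ge hCD hle
  rw [← this]
  exact inf_le_right

/-- A `σ(M)'`-subgroup of `M` lies in a complement of `M_σ` in `M`. -/
theorem exists_compl_ge (hG : IsMinSimpleOddOrder G) {M : Subgroup G} (hM : IsCoatom M)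
    {X : Subgroup G} (hXM : X ≤ M)
    (hX : ∀ q : ℕ, q.Prime → q ∣ Nat.card X → q ∉ sigma M) :
    ∃ E : Subgroup G, IsComplIn E (sigmaCore M) M ∧ X ≤ E := by
  have hU := uniq3 hG
  haveI : Group.IsSolvable ↥M := solvable_of_coatom hG hM
  obtain ⟨hKM, hK1, hK2⟩ := (sigma_core_hall hG hU hM).1
  have hXπ : IsPiCard (sigma M)ᶜ (Nat.card X) := fun q hq hd => hX q hq hd
  obtain ⟨E, hE, hXE⟩ := Cfsg.Agent.Lib.H19.exists_isPiHallOf_ge hXM hXπ
  refine ⟨E, ?_, hXE⟩
  have hcard : Nat.card M = (sigmaCore M).relIndex M * Nat.card (sigmaCore M) := by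
    rw [mul_comm]; exact (SylIn.card_mul_relIndex hKM).symm
  have hm : IsPiCard (sigma M) (Nat.card (sigmaCore M)) := hK1
  have hn : IsPiCard (sigma M)ᶜ ((sigmaCore M).relIndex M) := fun q hq hd hqσ => hK2 q hq hqσ hd
  have hm' : IsPiCard (sigma M)ᶜᶜ (Nat.card (sigmaCore M)) := by rw [compl_compl]; exact hm
  obtain ⟨hEM, hEc⟩ := (Cfsg.Agent.Lib.H19.isPiHallOf_iff_card hcard hn hm').1 hE
  have hcop : (Nat.card E).Coprime (Nat.card (sigmaCore M)) := by
    rw [hEc]; exact (Cfsg.Agent.Lib.H19.coprime_of_isPiCard hm hn).symm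
  have hinf : E ⊓ sigmaCore M = ⊥ := (Subgroup.disjoint_of_coprime_natCard hcop).eq_bot
  have hnorm : E ≤ Subgroup.normalizer ((sigmaCore M : Subgroup G) : Set G) :=
    hEM.trans (le_normalizer_sigmaCore M)
  have hsup : sigmaCore M ⊔ E = M := by
    apply Subgroup.eq_of_le_of_card_ge (sup_le hKM hEM)
    have h1 : Nat.card E * Nat.card (sigmaCore M) ∣ Nat.card (sigmaCore M ⊔ E : Subgroup G) :=
      Nat.Coprime.mul_dvd_of_dvd_of_dvd hcop (Subgroup.card_dvd_of_le le_sup_right)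
        (Subgroup.card_dvd_of_le le_sup_left)
    rw [hcard, ← hEc]
    exact Nat.le_of_dvd Nat.card_pos h1
  refine ⟨hEM, hKM, hinf, ?_⟩
  intro m hm
  have hm' : m⁻¹ ∈ sigmaCore M ⊔ E := by rw [hsup]; exact M.inv_mem hm
  obtain ⟨k, hk, e, he, hke⟩ := Cfsg.Agent.Lib.H1.mem_sup_of_le_normalizer hnorm hm'
  refine ⟨e⁻¹, E.inv_mem he, k⁻¹, (sigmaCore M).inv_mem hk, ?_⟩
  have : m = (m⁻¹)⁻¹ := (inv_inv m).symm
  rw [this, hke]; group

/-- A `β(M)'`-subgroup of `M_σ` is nilpotent (from S1414). -/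
theorem isNilpotent_of_beta' (hG : IsMinSimpleOddOrder G) {M : Subgroup G} (hM : IsCoatom M)
    {U : Subgroup G} (hUσ : U ≤ sigmaCore M)
    (hβ : ∀ q : ℕ, q.Prime → q ∣ Nat.card U → q ∉ beta M) : Group.IsNilpotent ↥U := by
  obtain ⟨-, -, -, ⟨H, hH, hHnil⟩, -⟩ := Cfsg.Agent.S1414.result hG M hM
  haveI : Group.IsSolvable ↥(sigmaCore M) :=
    solvable_of_le_ne_top hG hM.1 (sigmaCore_le M)
  have hUπ : IsPiCard {q | q.Prime ∧ q ∉ beta M} (Nat.card ↥U) := fun q hq hd => ⟨hq, hβ q hq hd⟩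
  obtain ⟨H', hH', hUH'⟩ := Cfsg.Agent.Lib.H19.exists_isPiHallOf_ge hUσ hUπ
  obtain ⟨g, hg, hgH⟩ := Cfsg.Agent.Lib.H19.isPiHallOf_exists_conj hH hH'
  haveI := hHnil
  haveI : Group.IsNilpotent ↥H' := by
    rw [← hgH]
    exact Group.nilpotent_of_mulEquiv (Subgroup.equivSMul (MulAut.conj g) H)
  exact Group.nilpotent_of_mulEquiv
    (MonoidHom.ofInjective (Subgroup.inclusion_injective hUH')).symm

end Cfsg.Agent.Lib.H19.BG13
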