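import Mathlib
import Cfsg.Agent.Lib.H19.BG13a

/-! # Bender–Glauberman §13 toolkit, part 2 (helper19): Lemma 13.1(a), the case `p ∈ σ(H)` -/

set_option autoImplicit false
set_option linter.style.haveILetI false
set_option linter.unusedSectionVars false
set_option linter.unusedVariables false

open Cfsg

namespace Cfsg.Agent.Lib.H19.BG13

open Cfsg.Agent.Lib.H16.BG
open Cfsg.Agent.Lib.H7.BG7
open Cfsg.Agent.Lib.H7.BG10
open Cfsg.Agent.Lib.H20.BGT
open Cfsg.Agent.Lib.H20.BGS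
open Cfsg.Agent.Lib.H19 (IsPiCard)
open Cfsg.Agent.Lib.H1 (CoprimeAction)

universe u
variable {G : Type u} [Group G] [Finite G]

local notation:max "cj(" g ", " X ")" => Subgroup.map (MulEquiv.toMonoidHom (MulAut.conj g)) X

/-- A `π`-subgroup of `M` lies in `O_π(M)` when the latter is a Hall subgroup. -/
theorem le_piCoreOf_of_hall {π : Set ℕ} {M : Subgroup G} (hHall : IsPiHallOf π (piCoreOf π M) M)
    {Y : Subgroup G} (hYM : Y ≤ M) (hY : IsPiCard π (Nat.card Y)) : Y ≤ piCoreOf π M := by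
  obtain ⟨-, -, hH⟩ := hHall
  have hrel : (piCoreOf π M).relIndex M = (piCore π ↥M).index := by
    unfold piCoreOf Subgroup.relIndex
    rw [Subgroup.subgroupOf, Subgroup.comap_map_eq_self_of_injective M.subtype_injective]
  have hc : Nat.card (Y.subgroupOf M) = Nat.card Y :=
    Nat.card_congr (Subgroup.subgroupOfEquivOfLe hYM).toEquiv
  have h1 : Y.subgroupOf M ≤ piCore π ↥M :=
    le_piCore_of_hall π (fun p hp hpσ => by rw [← hrel]; exact hH p hp hpσ)
      (by rw [hc]; exact hY)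
  have h2 := Subgroup.map_mono (f := M.subtype) h1
  rwa [Subgroup.map_subgroupOf_eq_of_le hYM] at h2

theorem isPiCard_orderOf {π : Set ℕ} {K : Subgroup G} (hK : IsPiCard π (Nat.card K)) {x : G}
    (hx : x ∈ K) : IsPiCard π (orderOf x) :=
  Cfsg.Agent.Lib.H19.isPiCard_of_dvd (Subgroup.orderOf_dvd_natCard K hx) hK

/-- if `c` commutes with `x`, has order coprime to that of `x`, and `c * x` is conjugate to `x`,
then `c = 1`. -/
theorem eq_one_of_conj_eq_mul {c x d : G} (hcx : c * x = x * c)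
    (hcop : (orderOf c).Coprime (orderOf x)) (h : d * x * d⁻¹ = c * x) : c = 1 := by
  have h1 : orderOf (d * x * d⁻¹) = orderOf x := by
    rw [← MulAut.conj_apply]
    exact MulEquiv.orderOf_eq (MulAut.conj d) x
  have h2 : orderOf (c * x) = orderOf c * orderOf x :=
    (show Commute c x from hcx).orderOf_mul_eq_mul_orderOf_of_coprime hcop
  rw [h, h2] at h1
  have hx0 : 0 < orderOf x := orderOf_pos x
  have h3 : orderOf c = 1 := by
    have : orderOf c * orderOf x = 1 * orderOf x := by rw [h1, one_mul]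
    exact Nat.eq_of_mul_eq_mul_right hx0 this
  exact orderOf_eq_one_iff.1 h3

/-- **BG Lemma 13.1(a), case `p ∈ σ(H)`**: if `H` is not conjugate to `M`, `p ∈ σ(H) \ σ(M)`, then
every `p`-subgroup of `M ∩ H` centralizes `M_σ ∩ H`. -/
theorem centralizes_of_mem_sigma (hG : IsMinSimpleOddOrder G) {M H : Subgroup G}
    (hM : IsCoatom M) (hH : IsCoatom H) (hnc : ∀ g : G, H ≠ cj(g, M)) {p : ℕ} [hp : Fact p.Prime]
    (hpM : p ∉ sigma M) (hpH : p ∈ sigma H) {P : Subgroup G} (hP : IsPGroup p P) (hPM : P ≤ M)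
    (hPH : P ≤ H) : sigmaCore M ⊓ H ≤ Subgroup.centralizer (P : Set G) := by
  have hU := uniq3 hG
  intro d hd
  obtain ⟨hdσ, hdH⟩ := Subgroup.mem_inf.1 hd
  rw [Subgroup.mem_centralizer_iff]
  intro x hx
  have hxP : x ∈ P := hx
  have hPσ : P ≤ sigmaCore H :=
    le_sigmaCore_of_isPiCard hG hH hPH (isPiCard_of_isPGroup hp.out hpH hP)
  have hxσ : x ∈ sigmaCore H := hPσ hxP
  have hxM : x ∈ M := hPM hxP
  set c : G := d * x * d⁻¹ * x⁻¹ with hc
  -- `c` lies in both sigma cores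
  have hcH : c ∈ sigmaCore H := by
    have h1 : d * x * d⁻¹ ∈ sigmaCore H :=
      ((Subgroup.mem_normalizer_iff.1 (le_normalizer_sigmaCore H hdH)) x).1 hxσ
    exact (sigmaCore H).mul_mem h1 ((sigmaCore H).inv_mem hxσ)
  have hcM : c ∈ sigmaCore M := by
    have h1 : x * d⁻¹ * x⁻¹ ∈ sigmaCore M :=
      ((Subgroup.mem_normalizer_iff.1 (le_normalizer_sigmaCore M hxM)) d⁻¹).1
        ((sigmaCore M).inv_mem hdσ)
    have : c = d * (x * d⁻¹ * x⁻¹) := by rw [hc]; group
    rw [this]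
    exact (sigmaCore M).mul_mem hdσ h1
  have hcπ : IsPiCard (sigma M) (orderOf c) := isPiCard_orderOf (sigmaCore_isPiCard M) hcM
  have hxp : ∃ k : ℕ, orderOf x = p ^ k := by
    obtain ⟨k, hk⟩ := hP ⟨x, hxP⟩
    have h1 : x ^ p ^ k = 1 := by
      have := congrArg Subtype.val hk
      simpa using this
    obtain ⟨j, -, hj⟩ := (Nat.dvd_prime_pow hp.out).1 (orderOf_dvd_of_pow_eq_one h1)
    exact ⟨j, hj⟩
  have hcop : (orderOf c).Coprime (orderOf x) := by
    obtain ⟨k, hk⟩ := hxp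
    rw [hk]
    apply Nat.Coprime.pow_right
    rw [Nat.coprime_comm, Nat.Prime.coprime_iff_not_dvd hp.out]
    intro hd
    exact hpM (hcπ p hp.out hd)
  have hdx : d * x * d⁻¹ = c * x := by rw [hc]; group
  suffices hcx : c * x = x * c by
    have h1 : c = 1 := eq_one_of_conj_eq_mul hcx hcop hdx
    rw [h1, one_mul] at hdx
    calc x * d = (d * x * d⁻¹) * d := by rw [hdx]
      _ = d * x := by group
  -- disjointness of `σ(M)` and `β(H)`
  have hσβ : ∀ q : ℕ, q ∈ sigma M → q ∉ beta H := fun q hq hqβ =>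
    not_mem_alpha_of_mem_sigma hG hM hH hnc hq hqβ.1
  by_cases hpβ : p ∈ beta H
  · -- `x ∈ H_β`, hence `c ∈ H_β ∩ M_σ = 1`
    obtain ⟨hβHall, -, -, -, -⟩ := Cfsg.Agent.S1414.result hG H hH
    have hPβ : P ≤ piCoreOf (beta H) H :=
      le_piCoreOf_of_hall hβHall hPH (isPiCard_of_isPGroup hp.out hpβ hP)
    have hxβ : x ∈ piCoreOf (beta H) H := hPβ hxP
    have hcβ : c ∈ piCoreOf (beta H) H := by
      have h1 : d * x * d⁻¹ ∈ piCoreOf (beta H) H :=
        ((Subgroup.mem_normalizer_iff.1 (le_normalizer_piCoreOf (beta H) H hdH)) x).1 hxβ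
      exact (piCoreOf (beta H) H).mul_mem h1 ((piCoreOf (beta H) H).inv_mem hxβ)
    have hcπ' : IsPiCard (beta H) (orderOf c) := isPiCard_orderOf hβHall.2.1 hcβ
    have hc1 : orderOf c = 1 := by
      by_contra hne
      obtain ⟨q, hq, hqd⟩ := Nat.exists_prime_and_dvd hne
      exact hσβ q (hcπ q hq hqd) (hcπ' q hq hqd)
    rw [orderOf_eq_one_iff.1 hc1, one_mul, mul_one]
  · -- `(M_σ ∩ H_σ) P` is a `β(H)'`-subgroup of `H_σ`, hence nilpotent
    set I : Subgroup G := sigmaCore M ⊓ sigmaCore H with hI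
    have hPI : P ≤ Subgroup.normalizer (I : Set G) := by
      intro y hy
      have h1 := le_normalizer_sigmaCore M (hPM hy)
      have h2 := le_normalizer_sigmaCore H (hPH hy)
      rw [Subgroup.mem_normalizer_iff] at h1 h2 ⊢
      intro z
      rw [hI, Subgroup.mem_inf, Subgroup.mem_inf, ← h1 z, ← h2 z]
    have hUσ : P ⊔ I ≤ sigmaCore H := sup_le hPσ inf_le_right
    have hUβ : ∀ q : ℕ, q.Prime → q ∣ Nat.card (P ⊔ I : Subgroup G) → q ∉ beta H := by
      intro q hq hqd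
      have h1 := hqd.trans (Cfsg.Agent.Lib.H19.card_sup_dvd_mul_of_le_normalizer hPI)
      rcases (Nat.Prime.dvd_mul hq).1 h1 with h2 | h2
      · have : q = p := by
          obtain ⟨k, hk⟩ := IsPGroup.iff_card.1 hP
          rw [hk] at h2
          exact (Nat.prime_dvd_prime_iff_eq hq hp.out).1 (hq.dvd_of_dvd_pow h2)
        rw [this]; exact hpβ
      · have h3 : q ∈ sigma M :=
          Cfsg.Agent.Lib.H19.isPiCard_of_dvd (Subgroup.card_dvd_of_le (inf_le_left : I ≤ sigmaCore M))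
            (sigmaCore_isPiCard M) q hq h2
        exact hσβ q h3
    have hnil : Group.IsNilpotent ↥(P ⊔ I : Subgroup G) := isNilpotent_of_beta' hG hH hUσ hUβ
    exact Cfsg.Agent.Lib.H8.mul_comm_of_coprime_of_mem_nilpotent (P ⊔ I) hnil
      ((le_sup_right : I ≤ P ⊔ I) (Subgroup.mem_inf.2 ⟨hcM, hcH⟩))
      ((le_sup_left : P ≤ P ⊔ I) hxP) hcop

end Cfsg.Agent.Lib.H19.BG13
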