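import Mathlib
import Cfsg.Agent.Lib.H19.BG13b
import Cfsg.Agent.S1415

/-! # Bender–Glauberman §13 toolkit, part 3 (helper19): hypotheses bundle; Lemma 13.1(a), the case
`p ∈ τ₃(H)` -/

set_option autoImplicit false
set_option linter.style.haveILetI false
set_option linter.unusedSectionVars false
set_option linter.unusedVariables false

open Cfsg

namespace Cfsg.Agent.Lib.H19.BG13

open Cfsg.Agent.Lib.H16.BG
open Cfsg.Agent.Lib.H7.BG7
open Cfsg.Agent.Lib.H7.BG10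
open Cfsg.Agent.Lib.H20.BGT
open Cfsg.Agent.Lib.H20.BGS
open Cfsg.Agent.Lib.H8.BG12
open Cfsg.Agent.Lib.H19 (IsPiCard)
open Cfsg.Agent.Lib.H1 (CoprimeAction)

universe u
variable {G : Type u} [Group G] [Finite G]

local notation:max "cj(" g ", " X ")" => Subgroup.map (MulEquiv.toMonoidHom (MulAut.conj g)) X

/-- S1418 (BG Corollary 12.6) as a hypothesis. -/
def H1418 (G : Type u) [Group G] : Prop :=
  ∀ (M : Subgroup G) (hM : IsCoatom M) (E : Subgroup G) (hE : Cfsg.IsComplIn E (Cfsg.sigmaCore M) M)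
    (p : ℕ) [Fact p.Prime] (hp : p ∈ Cfsg.tau2 M) (A : Subgroup G)
    (hA : (A ≤ E ∧ Cfsg.IsElementaryAbelian p A ∧ Nat.card A = p ^ 2)),
    (E ≤ Subgroup.normalizer (A : Set G) ∧ ∀ X : Subgroup G, X ≤ E → Nat.card X = p → X ≤ A) ∧
      (Subgroup.centralizer (A : Set G) ≤ M ⊓ Subgroup.normalizer (A : Set G) ∧
        M ⊓ Subgroup.normalizer (A : Set G) = E ∧ ¬ Subgroup.normalizer (A : Set G) ≤ M) ∧
      ∀ X : Subgroup G, X ≤ A → Nat.card X = p →
        Cfsg.sigmaCore M ⊓ Subgroup.centralizer (X : Set G) ≠ ⊥ →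
        (Subgroup.centralizer (X : Set G) ≤ M ∧
          ∀ L : Subgroup G, IsCoatom L → Subgroup.centralizer (X : Set G) ≤ L → L = M)

/-- S1420 (BG Corollary 12.10) as a hypothesis. -/
def H1420 (G : Type u) [Group G] : Prop :=
  ∀ (M : Subgroup G) (hM : IsCoatom M) (E : Subgroup G) (hE : Cfsg.IsComplIn E (Cfsg.sigmaCore M) M),
    (∀ N : Subgroup G, N ≤ M → Group.IsNilpotent N →
        (∀ p : ℕ, p.Prime → p ∣ Nat.card N → p ∉ Cfsg.sigma M) → IsMulCommutative N) ∧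
      IsMulCommutative ↥⁅E, E⁆ ∧
      (∀ (p : ℕ) (P : Subgroup G), p ∈ Cfsg.sigma M → IsPGroup p P → P ≤ M → ¬ IsCyclic P →
        Subgroup.normalizer (P : Set G) ≤ M) ∧
      ∀ x ∈ M, x ≠ 1 → (∀ p : ℕ, p.Prime → p ∣ orderOf x → p ∈ Cfsg.tau2 M) → x ∈ Cfsg.sigmaHat M →
        Subgroup.centralizer ({x} : Set G) ≤ M ∧
          ∀ L : Subgroup G, IsCoatom L → Subgroup.centralizer ({x} : Set G) ≤ L → L = M

/-- The statements of BG §12 used in §13, as one hypothesis. -/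
structure Hyp13 (G : Type u) [Group G] : Prop where
  h16 : H1416a G
  h17 : H1417 G
  h18 : H1418 G
  h19 : HypNonab G
  h20 : H1420 G

theorem Hyp13.hypCent {G : Type u} [Group G] (h : Hyp13 G) : HypCent G :=
  fun M hM p _ A hAM hA hAc => h.h16 M hM p A hAM hA hAc

theorem Hyp13.hypTau2 {G : Type u} [Group G] (h : Hyp13 G) : HypTau2 G := by
  intro M hM p _ hp A hAM hA hAc
  obtain ⟨-, h2, -, -, h5, -⟩ := h.h17 M hM p hp A ⟨hAM, hA, hAc⟩
  exact ⟨fun P => ⟨(h2 P).1, fun hAP => ((h2 P).2 hAP).1⟩, h5⟩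

theorem Hyp13.hypNorm {G : Type u} [Group G] (h : Hyp13 G) : HypNorm G := by
  intro M hM E hE p _ hp A hAE hA hAc
  obtain ⟨⟨h1, -⟩, ⟨-, -, h2⟩, -⟩ := h.h18 M hM E hE p hp A ⟨hAE, hA, hAc⟩
  exact ⟨h1, h2⟩

theorem hypBeta (hG : IsMinSimpleOddOrder G) : HypBeta G :=
  fun M hM => (Cfsg.Agent.S1414.result hG M hM).2.2.2.1

/-- every `τ₂(M)`-subgroup of a complement `E` is abelian (helper8's 12.10(b)). -/
theorem tau2_abelian (hG : IsMinSimpleOddOrder G) (h : Hyp13 G) {M : Subgroup G} (hM : IsCoatom M)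
    {E : Subgroup G} (hE : IsComplIn E (sigmaCore M) M) {E₂ : Subgroup G} (hE₂ : E₂ ≤ E)
    (hπ : ∀ q : ℕ, q.Prime → q ∣ Nat.card ↥E₂ → q ∈ tau2 M) : IsMulCommutative ↥E₂ :=
  tau2_subgroup_abelian hG (uniq3 hG) h.hypCent h.hypTau2 h.hypNorm h.h19 (hypBeta hG) hM hE hE₂ hπ

/-! ### general small lemmas -/

theorem isPGroup_coprime_card {p q : ℕ} [hp : Fact p.Prime] [hq : Fact q.Prime] (hpq : p ≠ q)
    {P Q : Subgroup G} (hP : IsPGroup p P) (hQ : IsPGroup q Q) :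
    (Nat.card P).Coprime (Nat.card Q) := by
  obtain ⟨k, hk⟩ := IsPGroup.iff_card.1 hP
  obtain ⟨l, hl⟩ := IsPGroup.iff_card.1 hQ
  rw [hk, hl]
  exact Nat.coprime_pow_primes k l hp.out hq.out hpq

theorem coprimeAction_of_isPGroup {p q : ℕ} [hp : Fact p.Prime] [hq : Fact q.Prime] (hpq : p ≠ q)
    {P Q : Subgroup G} (hP : IsPGroup p P) (hQ : IsPGroup q Q)
    (hPQ : P ≤ Subgroup.normalizer (Q : Set G)) : CoprimeAction P Q where
  normalizes := hPQ
  coprime := isPGroup_coprime_card hpq hP hQ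
  solvable := by
    haveI : Group.IsNilpotent ↥P := hP.isNilpotent
    exact Or.inl inferInstance

/-- coprime orders of elements of a `p`-group and a `q`-group. -/
theorem orderOf_coprime_of_isPGroup {p q : ℕ} [hp : Fact p.Prime] [hq : Fact q.Prime] (hpq : p ≠ q)
    {P Q : Subgroup G} (hP : IsPGroup p P) (hQ : IsPGroup q Q) {x y : G} (hx : x ∈ Q) (hy : y ∈ P) :
    (orderOf x).Coprime (orderOf y) :=
  Nat.Coprime.coprime_dvd_left (Subgroup.orderOf_dvd_natCard Q hx)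
    (Nat.Coprime.coprime_dvd_right (Subgroup.orderOf_dvd_natCard P hy)
      (isPGroup_coprime_card hpq hP hQ).symm)

/-- If `P` acts coprimely on `Q` and `[Q, P]`, `P` lie in a common abelian subgroup, then `P`
centralizes `Q`. -/
theorem le_centralizer_of_comm_le_abelian {P Q B : Subgroup G} (h : CoprimeAction P Q)
    (hB : IsMulCommutative ↥B) (hPB : P ≤ B) (hQP : ⁅Q, P⁆ ≤ B) :
    Q ≤ Subgroup.centralizer (P : Set G) := by
  apply le_centralizer_of_commutator_eq_bot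
  rw [← Cfsg.Agent.Lib.H1.coprime_commutator_commutator h, Subgroup.commutator_eq_bot_iff_le_centralizer]
  intro x hx
  rw [Subgroup.mem_centralizer_iff]
  intro y hy
  exact comm_of_mem hB (hPB hy) (hQP hx)

/-! ### `τ₃(H)`-subgroups lie in `H'` -/

/-- data: a complement `E` containing `X`, and a Hall `τ₃`-subgroup of `E` containing `P`. -/
theorem exists_compl_tau3 (hG : IsMinSimpleOddOrder G) {H : Subgroup G} (hH : IsCoatom H) {p : ℕ}
    [hp : Fact p.Prime] (hpH : p ∈ tau3 H) {P X : Subgroup G} (hP : IsPGroup p P) (hPX : P ≤ X)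
    (hXH : X ≤ H) (hX : ∀ q : ℕ, q.Prime → q ∣ Nat.card X → q ∉ sigma H) :
    ∃ E : Subgroup G, IsComplIn E (sigmaCore H) H ∧ X ≤ E ∧ P ≤ ⁅E, E⁆ := by
  obtain ⟨E, hE, hXE⟩ := exists_compl_ge hG hH hXH hX
  refine ⟨E, hE, hXE, ?_⟩
  haveI : Group.IsSolvable ↥E := solvable_of_le_ne_top hG hH.1 hE.1
  obtain ⟨E₃, hE₃, hPE₃⟩ := Cfsg.Agent.Lib.H19.exists_isPiHallOf_ge (hPX.trans hXE)
    (isPiCard_of_isPGroup hp.out hpH hP)
  exact hPE₃.trans ((Cfsg.Agent.S1415.result hG H hH E hE).2.2 E₃ hE₃).2.1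

theorem tau3_le_commutator (hG : IsMinSimpleOddOrder G) {H : Subgroup G} (hH : IsCoatom H) {p : ℕ}
    [hp : Fact p.Prime] (hpH : p ∈ tau3 H) {P : Subgroup G} (hP : IsPGroup p P) (hPH : P ≤ H) :
    P ≤ ⁅H, H⁆ := by
  have hX : ∀ q : ℕ, q.Prime → q ∣ Nat.card P → q ∉ sigma H := by
    intro q hq hd
    rw [prime_eq_of_dvd_card_pGroup hP hq hd]
    exact hpH.2.1
  obtain ⟨E, hE, -, hPE⟩ := exists_compl_tau3 hG hH hpH hP le_rfl hPH hX
  exact hPE.trans (Subgroup.commutator_mono hE.1 hE.1)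

/-- **T3**: subgroups of `H'` of coprime prime power orders commute modulo `H_α`; hence a
`p`-subgroup of `H'` centralizes every `q`-subgroup of `H'` it normalizes, `q ∉ α(H)`. -/
theorem le_centralizer_of_le_commutator (hG : IsMinSimpleOddOrder G) {H : Subgroup G}
    (hH : IsCoatom H) {p q : ℕ} [hp : Fact p.Prime] [hq : Fact q.Prime] (hpq : p ≠ q)
    (hqα : q ∉ alpha H) {P Q : Subgroup G} (hP : IsPGroup p P) (hQ : IsPGroup q Q)
    (hPH : P ≤ H) (hQH : Q ≤ H) (hPc : P ≤ ⁅H, H⁆) (hQc : Q ≤ ⁅H, H⁆)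
    (hPQ : P ≤ Subgroup.normalizer (Q : Set G)) : Q ≤ Subgroup.centralizer (P : Set G) := by
  obtain ⟨hαHall, -, -, -, hnil⟩ := alpha_core_hall hG (uniq3 hG) hH
  intro x hx
  rw [Subgroup.mem_centralizer_iff]
  intro y hy
  have hyP : y ∈ P := hy
  set K := piCore (alpha H) ↥H with hK
  set φ := QuotientGroup.mk' K with hφ
  set x' : ↥H := ⟨x, hQH hx⟩ with hx'
  set y' : ↥H := ⟨y, hPH hyP⟩ with hy'
  have hx'c : x' ∈ commutator ↥H := mem_commutator_subtype (hQc hx) (hQH hx)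
  have hy'c : y' ∈ commutator ↥H := mem_commutator_subtype (hPc hyP) (hPH hyP)
  have hox : orderOf (φ x') ∣ orderOf x := by
    have := orderOf_map_dvd φ x'
    rwa [Subgroup.orderOf_mk] at this
  have hoy : orderOf (φ y') ∣ orderOf y := by
    have := orderOf_map_dvd φ y'
    rwa [Subgroup.orderOf_mk] at this
  have hcop : (orderOf (φ x')).Coprime (orderOf (φ y')) :=
    Nat.Coprime.coprime_dvd_left hox
      (Nat.Coprime.coprime_dvd_right hoy (orderOf_coprime_of_isPGroup hpq hP hQ hx hyP))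
  have hcomm : φ x' * φ y' = φ y' * φ x' :=
    Cfsg.Agent.Lib.H8.mul_comm_of_coprime_of_mem_nilpotent _ hnil
      (Subgroup.mem_map_of_mem φ hx'c) (Subgroup.mem_map_of_mem φ hy'c) hcop
  have hcK : x' * y' * x'⁻¹ * y'⁻¹ ∈ K := by
    rw [← QuotientGroup.eq_one_iff, ← QuotientGroup.mk'_apply, ← hφ]
    rw [map_mul, map_mul, map_mul, map_inv, map_inv, hcomm]
    group
  set c : G := x * y * x⁻¹ * y⁻¹ with hc
  have hcα : c ∈ alphaCore H := ⟨x' * y' * x'⁻¹ * y'⁻¹, hcK, by simp [hc, hx', hy']⟩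
  have hcQ : c ∈ Q := by
    have h1 : y * x⁻¹ * y⁻¹ ∈ Q :=
      ((Subgroup.mem_normalizer_iff.1 (hPQ hyP)) x⁻¹).1 (Q.inv_mem hx)
    have : c = x * (y * x⁻¹ * y⁻¹) := by rw [hc]; group
    rw [this]; exact Q.mul_mem hx h1
  have hc1 : c = 1 := by
    by_contra hne
    have hne' : orderOf c ≠ 1 := fun h => hne (orderOf_eq_one_iff.1 h)
    obtain ⟨r, hr, hrd⟩ := Nat.exists_prime_and_dvd hne'
    have h1 : r ∈ alpha H := hαHall.2.1 r hr (hrd.trans (Subgroup.orderOf_dvd_natCard _ hcα))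
    have h2 : r = q :=
      prime_eq_of_dvd_card_pGroup hQ hr (hrd.trans (Subgroup.orderOf_dvd_natCard _ hcQ))
    exact hqα (h2 ▸ h1)
  calc y * x = (x * y * x⁻¹ * y⁻¹)⁻¹ * (x * y) := by group
    _ = x * y := by rw [← hc, hc1, inv_one, one_mul]

/-- **BG Lemma 13.1(a), case `p ∈ τ₃(H)`**. -/
theorem centralizes_of_mem_tau3 (hG : IsMinSimpleOddOrder G) (h20 : H1420 G) {M H : Subgroup G}
    (hM : IsCoatom M) (hH : IsCoatom H) (hnc : ∀ g : G, H ≠ cj(g, M)) {p : ℕ} [hp : Fact p.Prime]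
    (hpM : p ∉ sigma M) (hpH : p ∈ tau3 H) {P : Subgroup G} (hP : IsPGroup p P) (hPM : P ≤ M)
    (hPH : P ≤ H) : sigmaCore M ⊓ H ≤ Subgroup.centralizer (P : Set G) := by
  have hU := uniq3 hG
  set D : Subgroup G := sigmaCore M ⊓ H with hD
  have hDσ : IsPiCard (sigma M) (Nat.card D) :=
    Cfsg.Agent.Lib.H19.isPiCard_of_dvd (Subgroup.card_dvd_of_le inf_le_left) (sigmaCore_isPiCard M)
  have hPD : P ≤ Subgroup.normalizer (D : Set G) := by
    intro y hy
    have h1 := le_normalizer_sigmaCore M (hPM hy)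
    have h2 : y ∈ Subgroup.normalizer (H : Set G) := Subgroup.le_normalizer (hPH hy)
    rw [Subgroup.mem_normalizer_iff] at h1 h2 ⊢
    intro z
    rw [hD, Subgroup.mem_inf, Subgroup.mem_inf, ← h1 z, ← h2 z]
  have hact : CoprimeAction P D :=
    { normalizes := hPD
      coprime := by
        obtain ⟨k, hk⟩ := IsPGroup.iff_card.1 hP
        rw [hk]
        apply Nat.Coprime.pow_left
        rw [Nat.Prime.coprime_iff_not_dvd hp.out]
        exact fun hd => hpM (hDσ p hp.out hd)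
      solvable := Or.inr (solvable_of_le_ne_top hG hM.1 (inf_le_left.trans (sigmaCore_le M))) }
  apply le_centralizer_of_forall_invariant hact
  intro q hq Q hQD hQq hPQ
  haveI : Fact q.Prime := ⟨hq⟩
  by_cases hQ1 : Q = ⊥
  · rw [hQ1]; exact bot_le
  have hqM : q ∈ sigma M :=
    sigmaCore_isPiCard M q hq (dvd_card_of_ne_bot hQq (hQD.trans inf_le_left) hQ1)
  have hpq : p ≠ q := fun h => hpM (h ▸ hqM)
  have hQH : Q ≤ H := hQD.trans inf_le_right
  by_cases hqH : q ∈ sigma H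
  · have hQσ : Q ≤ sigmaCore H :=
      le_sigmaCore_of_isPiCard hG hH hQH (isPiCard_of_isPGroup hq hqH hQq)
    exact le_centralizer_of_le_commutator hG hH hpq
      (not_mem_alpha_of_mem_sigma hG hM hH hnc hqM) hP hQq hPH hQH
      (tau3_le_commutator hG hH hpH hP hPH) (hQσ.trans (sigmaCore_le_commutator hG hU hH)) hPQ
  · have hX : ∀ r : ℕ, r.Prime → r ∣ Nat.card (P ⊔ Q : Subgroup G) → r ∉ sigma H := by
      intro r hr hrd
      have h1 := hrd.trans (Cfsg.Agent.Lib.H19.card_sup_dvd_mul_of_le_normalizer hPQ)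
      rcases (Nat.Prime.dvd_mul hr).1 h1 with h2 | h2
      · rw [prime_eq_of_dvd_card_pGroup hP hr h2]; exact hpH.2.1
      · rw [prime_eq_of_dvd_card_pGroup hQq hr h2]; exact hqH
    obtain ⟨E, hE, hXE, hPE⟩ :=
      exists_compl_tau3 hG hH hpH hP le_sup_left (sup_le hPH hQH) hX
    have hQE : Q ≤ E := le_sup_right.trans hXE
    have hPE' : P ≤ E := le_sup_left.trans hXE
    exact le_centralizer_of_comm_le_abelian (coprimeAction_of_isPGroup hpq hP hQq hPQ)
      (h20 H hH E hE).2.1 hPE (Subgroup.commutator_mono hQE hPE')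

end Cfsg.Agent.Lib.H19.BG13
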