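import Mathlib
import Cfsg.Agent.Lib.H19.BG13c

/-! # Bender–Glauberman §13 toolkit, part 4 (helper19): Lemma 13.1(a), the case `p ∈ τ₂(H)` -/

set_option autoImplicit false
set_option linter.style.haveILetI false
set_option linter.unusedSectionVars false
set_option linter.unusedVariables false

open Cfsg

namespace Cfsg.Agent.Lib.H19.BG13

open Cfsg.Agent.Lib.H16.BG
open Cfsg.Agent.Lib.H7.BG7
open Cfsg.Agent.Lib.H7.BG10
open Cfsg.Agent.Lib.H20.BGS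
open Cfsg.Agent.Lib.H19 (IsPiCard)
open Cfsg.Agent.Lib.H1 (CoprimeAction)

universe u
variable {G : Type u} [Group G] [Finite G]

local notation:max "cj(" g ", " X ")" => Subgroup.map (MulEquiv.toMonoidHom (MulAut.conj g)) X

/-- `p ∈ σ(M)` from a Sylow `p`-subgroup of `M` whose normalizer lies in `M`. -/
theorem mem_sigma_of_sylIn {M S : Subgroup G} {p : ℕ} [hp : Fact p.Prime] (hS : SylIn p S M)
    (hS1 : S ≠ ⊥) (hN : Subgroup.normalizer (S : Set G) ≤ M) : p ∈ sigma M := by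
  obtain ⟨P, hP⟩ := hS.exists_sylow
  refine ⟨hp.out, dvd_card_of_ne_bot hS.isPGroup hS.le hS1, P, ?_⟩
  rw [hP]; exact hN

/-- the coprime action of a `σ(M)'`-`p`-subgroup of `M ∩ H` on `M_σ ∩ H`. -/
theorem coprimeAction_sigma_inf (hG : IsMinSimpleOddOrder G) {M H : Subgroup G} (hM : IsCoatom M)
    {p : ℕ} [hp : Fact p.Prime] (hpM : p ∉ sigma M) {P : Subgroup G} (hP : IsPGroup p P)
    (hPM : P ≤ M) (hPH : P ≤ H) : CoprimeAction P (sigmaCore M ⊓ H) := by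
  have hDσ : IsPiCard (sigma M) (Nat.card (sigmaCore M ⊓ H : Subgroup G)) :=
    Cfsg.Agent.Lib.H19.isPiCard_of_dvd (Subgroup.card_dvd_of_le inf_le_left) (sigmaCore_isPiCard M)
  refine ⟨?_, ?_, Or.inr (solvable_of_le_ne_top hG hM.1 (inf_le_left.trans (sigmaCore_le M)))⟩
  · intro y hy
    have h1 := le_normalizer_sigmaCore M (hPM hy)
    have h2 : y ∈ Subgroup.normalizer (H : Set G) := Subgroup.le_normalizer (hPH hy)
    rw [Subgroup.mem_normalizer_iff] at h1 h2 ⊢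
    intro z
    rw [Subgroup.mem_inf, Subgroup.mem_inf, ← h1 z, ← h2 z]
  · obtain ⟨k, hk⟩ := IsPGroup.iff_card.1 hP
    rw [hk]
    apply Nat.Coprime.pow_left
    rw [Nat.Prime.coprime_iff_not_dvd hp.out]
    exact fun hd => hpM (hDσ p hp.out hd)

/-- primes dividing `|P ⊔ Q|` for a `p`-group `P` normalizing a `q`-group `Q`. -/
theorem prime_dvd_card_sup {p q : ℕ} [Fact p.Prime] [Fact q.Prime] {P Q : Subgroup G}
    (hP : IsPGroup p P) (hQ : IsPGroup q Q) (hPQ : P ≤ Subgroup.normalizer (Q : Set G)) {r : ℕ}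
    (hr : r.Prime) (hrd : r ∣ Nat.card (P ⊔ Q : Subgroup G)) : r = p ∨ r = q := by
  have h1 := hrd.trans (Cfsg.Agent.Lib.H19.card_sup_dvd_mul_of_le_normalizer hPQ)
  rcases (Nat.Prime.dvd_mul hr).1 h1 with h2 | h2
  · exact Or.inl (Cfsg.Agent.Lib.H8.BG12.prime_eq_of_dvd_card_pGroup hP hr h2)
  · exact Or.inr (Cfsg.Agent.Lib.H8.BG12.prime_eq_of_dvd_card_pGroup hQ hr h2)

theorem le_centralizer_of_abelian_sup {P Q : Subgroup G}
    (h : IsMulCommutative ↥(P ⊔ Q : Subgroup G)) : Q ≤ Subgroup.centralizer (P : Set G) := by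
  intro x hx
  rw [Subgroup.mem_centralizer_iff]
  intro y hy
  exact Cfsg.Agent.Lib.H8.BG12.comm_of_mem h ((le_sup_left : P ≤ P ⊔ Q) hy)
    ((le_sup_right : Q ≤ P ⊔ Q) hx)

theorem le_centralizer_of_nilpotent_sup {p q : ℕ} [Fact p.Prime] [Fact q.Prime] (hpq : p ≠ q)
    {P Q : Subgroup G} (hP : IsPGroup p P) (hQ : IsPGroup q Q)
    (h : Group.IsNilpotent ↥(P ⊔ Q : Subgroup G)) : Q ≤ Subgroup.centralizer (P : Set G) := by
  intro x hx
  rw [Subgroup.mem_centralizer_iff]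
  intro y hy
  exact (Cfsg.Agent.Lib.H8.mul_comm_of_coprime_of_mem_nilpotent (P ⊔ Q) h
    ((le_sup_right : Q ≤ P ⊔ Q) hx) ((le_sup_left : P ≤ P ⊔ Q) hy)
    (orderOf_coprime_of_isPGroup hpq hP hQ hx hy)).symm

/-- a `τ₂(L)`-`{p,q}`-subgroup `P ⊔ Q` of `L` with `p, q ∉ σ(L)` is abelian. -/
theorem le_centralizer_of_tau2_tau2 (hG : IsMinSimpleOddOrder G) (h : Hyp13 G) {L : Subgroup G}
    (hL : IsCoatom L) {p q : ℕ} [Fact p.Prime] [Fact q.Prime] (hpL : p ∈ tau2 L) (hqL : q ∈ tau2 L)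
    {P Q : Subgroup G} (hP : IsPGroup p P) (hQ : IsPGroup q Q) (hPL : P ≤ L) (hQL : Q ≤ L)
    (hPQ : P ≤ Subgroup.normalizer (Q : Set G)) : Q ≤ Subgroup.centralizer (P : Set G) := by
  have hX : ∀ r : ℕ, r.Prime → r ∣ Nat.card (P ⊔ Q : Subgroup G) → r ∉ sigma L := by
    intro r hr hrd
    rcases prime_dvd_card_sup hP hQ hPQ hr hrd with rfl | rfl
    · exact hpL.2.1
    · exact hqL.2.1
  obtain ⟨E, hE, hXE⟩ := exists_compl_ge hG hL (sup_le hPL hQL) hX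
  apply le_centralizer_of_abelian_sup
  apply tau2_abelian hG h hL hE hXE
  intro r hr hrd
  rcases prime_dvd_card_sup hP hQ hPQ hr hrd with rfl | rfl
  · exact hpL
  · exact hqL

/-- **BG Lemma 13.1(a), case `p ∈ τ₂(H)`**. -/
theorem centralizes_of_mem_tau2 (hG : IsMinSimpleOddOrder G) (h : Hyp13 G) {M H : Subgroup G}
    (hM : IsCoatom M) (hH : IsCoatom H) (hnc : ∀ g : G, H ≠ cj(g, M)) {p : ℕ} [hp : Fact p.Prime]
    (hpM : p ∉ sigma M) (hpH : p ∈ tau2 H) {P : Subgroup G} (hP : IsPGroup p P) (hPM : P ≤ M)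
    (hPH : P ≤ H) : sigmaCore M ⊓ H ≤ Subgroup.centralizer (P : Set G) := by
  have hU := Cfsg.Agent.Lib.H20.BGT.uniq3 hG
  have hHM : H ≠ M := by
    intro e
    apply hnc 1
    rw [Cfsg.Agent.Lib.H10.map_conj_one]
    exact e
  obtain ⟨A₀, hA₀H, hA₀e, hA₀c⟩ := Cfsg.Agent.Lib.H8.BG12.exists_elemAb_sq hp.out hpH.2.2.2
  have hnilH : Group.IsNilpotent (sigmaCore H) := (h.h17 H hH p hpH A₀ ⟨hA₀H, hA₀e, hA₀c⟩).1
  apply le_centralizer_of_forall_invariant (coprimeAction_sigma_inf hG hM hpM hP hPM hPH)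
  intro q hq Q hQD hQq hPQ
  haveI : Fact q.Prime := ⟨hq⟩
  by_cases hQ1 : Q = ⊥
  · rw [hQ1]; exact bot_le
  have hqM : q ∈ sigma M :=
    sigmaCore_isPiCard M q hq (dvd_card_of_ne_bot hQq (hQD.trans inf_le_left) hQ1)
  have hpq : p ≠ q := fun e => hpM (e ▸ hqM)
  have hQH : Q ≤ H := hQD.trans inf_le_right
  have hQM : Q ≤ M := (hQD.trans inf_le_left).trans (sigmaCore_le M)
  have hqH : q ∉ sigma H :=
    Cfsg.Agent.Lib.H20.BGT.not_mem_sigma_of_mem_sigma hG hM hH hnc hnilH hqM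
  have hq2H : PRankLE q 2 ↥H := by
    by_contra hr
    exact hqH (alpha_subset_sigma hG hU hH ⟨hq, hr⟩)
  by_cases hq1H : PRankLE q 1 ↥H
  swap
  · exact le_centralizer_of_tau2_tau2 hG h hH hpH ⟨hq, hqH, hq2H, hq1H⟩ hP hQq hPH hQH hPQ
  have hact := coprimeAction_of_isPGroup hpq hP hQq hPQ
  by_cases hqd : q ∣ Nat.card ↥⁅H, H⁆
  swap
  · apply le_centralizer_of_commutator_eq_bot
    by_contra hne
    have h1 : ⁅Q, P⁆ ≤ Q := hact.commutator_le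
    have h2 : ⁅Q, P⁆ ≤ ⁅H, H⁆ := Subgroup.commutator_mono hQH hPH
    exact hqd (dvd_card_of_ne_bot (hQq.to_le h1) h2 hne)
  have hqτ : q ∈ tau3 H := ⟨hq, hqH, hqd, hq1H⟩
  by_contra hcon
  have hX : ∀ r : ℕ, r.Prime → r ∣ Nat.card (P ⊔ Q : Subgroup G) → r ∉ sigma H := by
    intro r hr hrd
    rcases prime_dvd_card_sup hP hQq hPQ hr hrd with rfl | rfl
    · exact hpH.2.1
    · exact hqH
  obtain ⟨E, hE, hXE⟩ := exists_compl_ge hG hH (sup_le hPH hQH) hX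
  have hPE : P ≤ E := le_sup_left.trans hXE
  have hQE : Q ≤ E := le_sup_right.trans hXE
  haveI : Group.IsSolvable ↥E := solvable_of_le_ne_top hG hH.1 hE.1
  obtain ⟨E₃, hE₃, hQE₃⟩ := Cfsg.Agent.Lib.H19.exists_isPiHallOf_ge hQE
    (isPiCard_of_isPGroup hq hqτ hQq)
  obtain ⟨hE₃c, -, hE₃n⟩ := (Cfsg.Agent.S1415.result hG H hH E hE).2.2 E₃ hE₃
  have hEQ : E ≤ Subgroup.normalizer (Q : Set G) :=
    hE₃n.trans (Cfsg.Agent.Lib.H20.BGT.normalizer_le_normalizer_of_le_cyclic hE₃c hQE₃)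
  have hσH := (sigma_core_hall hG hU hH).1
  obtain ⟨T, A, hTE, hTH, hAT, hAe, hAc, -, -⟩ :=
    Cfsg.Agent.Lib.H8.BG12.tau2_sylow_data h.hypTau2 hH hσH hE hpH
  have hAE : A ≤ E := hAT.trans hTE.le
  have hEA : E ≤ Subgroup.normalizer (A : Set G) :=
    ((h.h18 H hH E hE p hpH A ⟨hAE, hAe, hAc⟩).1).1
  have hAp : IsPGroup p A := isPGroup_of_elemAb hAe
  obtain ⟨L, hL, hNL⟩ := exists_coatom_ge (normalizer_ne_top_of_isPGroup hG hQq hQ1)
  have hEL : E ≤ L := hEQ.trans hNL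
  have hAL : A ≤ L := hAE.trans hEL
  have hPL : P ≤ L := hPE.trans hEL
  have hQL : Q ≤ L := hQE.trans hEL
  have hq2 : q ≠ 2 := Cfsg.Agent.Lib.H20.BGT.prime_ne_two' hG hQq hQ1
  have hLH : L ≠ H := by
    intro e
    obtain ⟨Tq, hTq, hQTq⟩ := SylIn.exists_ge hQq hQH
    have hTqc : IsCyclic ↥Tq :=
      Cfsg.Agent.Lib.H8.BG12.isCyclic_of_isPGroup_of_rank_one hq2 hTq.isPGroup
        (pRankLE_of_le hTq.le hq1H)
    have h1 : Subgroup.normalizer (Tq : Set G) ≤ H := by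
      rw [← e]
      exact (Cfsg.Agent.Lib.H20.BGT.normalizer_le_normalizer_of_le_cyclic hTqc hQTq).trans hNL
    exact hqH (mem_sigma_of_sylIn hTq (_root_.ne_bot_of_le_ne_bot hQ1 hQTq) h1)
  have hLM : L ≠ M := by
    intro e
    have hAM : A ≤ M := e ▸ hAL
    have hpτM : p ∈ tau2 M := Cfsg.Agent.Lib.H20.BGT.mem_tau2_of_elemAb_sq hG hM hpM hAM hAe hAc
    have h1 := (h.h17 M hM p hpτM A ⟨hAM, hAe, hAc⟩).2.2.2.2.1 H hH hHM (hAE.trans hE.1)
    exact hQ1 (le_bot_iff.1 (h1 ▸ hQD))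
  obtain ⟨S, hS, hQS⟩ := SylIn.exists_ge hQq (le_inf hQM hQL)
  obtain ⟨hncL, hNS, hSL⟩ := Cfsg.Agent.Lib.H20.BGT.sigma_subgroup_embedding hG h.h16 hM hqM hQq
    hQ1 hQM hL hLM hNL hS hQS
  have hP1 : P ≠ ⊥ := by
    intro e
    apply hcon
    rw [e]
    intro x _
    rw [Subgroup.mem_centralizer_iff]
    intro y hy
    have : y = 1 := hy
    rw [this, one_mul, mul_one]
  by_cases hqL : q ∈ sigma L
  · by_cases hpL : p ∈ sigma L
    · have hPσ : P ≤ sigmaCore L := Cfsg.Agent.Lib.H20.BGT.le_sigmaCore_of_isPiCard hG hL hPL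
        (isPiCard_of_isPGroup hp.out hpL hP)
      have hQσ : Q ≤ sigmaCore L := Cfsg.Agent.Lib.H20.BGT.le_sigmaCore_of_isPiCard hG hL hQL
        (isPiCard_of_isPGroup hq hqL hQq)
      have hpβ : p ∉ beta L := fun hβ =>
        (rank_two_not_ideal hG hU hH hpH.2.2.1 hpH.2.2.2).1 hβ.2
      have hqβ : q ∉ beta L := fun hβ =>
        Cfsg.Agent.Lib.H20.BGT.not_mem_alpha_of_mem_sigma hG hM hL hncL hqM hβ.1
      have hnil : Group.IsNilpotent ↥(P ⊔ Q : Subgroup G) :=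
        isNilpotent_of_beta' hG hL (sup_le hPσ hQσ) (fun r hr hrd => by
          rcases prime_dvd_card_sup hP hQq hPQ hr hrd with rfl | rfl
          · exact hpβ
          · exact hqβ)
      exact hcon (le_centralizer_of_nilpotent_sup hpq hP hQq hnil)
    · have hpτL : p ∈ tau2 L := Cfsg.Agent.Lib.H20.BGT.mem_tau2_of_elemAb_sq hG hL hpL hAL hAe hAc
      have hnilL := (h.h17 L hL p hpτL A ⟨hAL, hAe, hAc⟩).1
      exact Cfsg.Agent.Lib.H20.BGT.not_mem_sigma_of_mem_sigma hG hM hL hncL hnilL hqM hqL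
  · have hSnc : ¬ IsCyclic ↥S := by
      intro hc
      have h1 : Subgroup.normalizer (S : Set G) ≤ L :=
        (Cfsg.Agent.Lib.H20.BGT.normalizer_le_normalizer_of_le_cyclic hc hQS).trans hNL
      exact hqL (mem_sigma_of_sylIn hSL (_root_.ne_bot_of_le_ne_bot hQ1 hQS) h1)
    obtain ⟨Aq, hAqS, hAqe, hAqc⟩ :=
      Cfsg.Agent.Lib.H20.BGT.exists_elemAb_sq_of_not_cyclic hq2 hS.isPGroup hSnc
    have hAqL : Aq ≤ L := hAqS.trans hSL.le
    have hAqM : Aq ≤ M := hAqS.trans (hS.le.trans inf_le_left)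
    have hqτL : q ∈ tau2 L := Cfsg.Agent.Lib.H20.BGT.mem_tau2_of_elemAb_sq hG hL hqL hAqL hAqe hAqc
    have hbot : sigmaCore L ⊓ M = ⊥ :=
      (h.h17 L hL q hqτL Aq ⟨hAqL, hAqe, hAqc⟩).2.2.2.2.1 M hM hLM.symm hAqM
    have hpL : p ∉ sigma L := by
      intro hpL
      have hPσ : P ≤ sigmaCore L := Cfsg.Agent.Lib.H20.BGT.le_sigmaCore_of_isPiCard hG hL hPL
        (isPiCard_of_isPGroup hp.out hpL hP)
      exact hP1 (le_bot_iff.1 (hbot ▸ le_inf hPσ hPM))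
    have hpτL : p ∈ tau2 L := Cfsg.Agent.Lib.H20.BGT.mem_tau2_of_elemAb_sq hG hL hpL hAL hAe hAc
    exact hcon (le_centralizer_of_tau2_tau2 hG h hL hpτL hqτL hP hQq hPL hQL hPQ)

end Cfsg.Agent.Lib.H19.BG13
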