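import Mathlib
import Cfsg.Agent.Lib.H19.BG13d

/-! # Bender–Glauberman §13 toolkit, part 5 (helper19): Lemma 13.1(a), Corollary 13.2(a),
Corollary 13.3(a) (= S1427 modulo `Hyp13`) -/

set_option autoImplicit false
set_option linter.style.haveILetI false
set_option linter.unusedSectionVars false
set_option linter.unusedVariables false

open Cfsg

namespace Cfsg.Agent.Lib.H19.BG13

open Cfsg.Agent.Lib.H16.BG
open Cfsg.Agent.Lib.H7.BG7
open Cfsg.Agent.Lib.H7.BG10
open Cfsg.Agent.Lib.H20.BGS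
open Cfsg.Agent.Lib.H19 (IsPiCard)
open Cfsg.Agent.Lib.H1 (CoprimeAction)

universe u
variable {G : Type u} [Group G] [Finite G]

local notation:max "cj(" g ", " X ")" => Subgroup.map (MulEquiv.toMonoidHom (MulAut.conj g)) X

/-- **BG Lemma 13.1(a)** (without the hypothesis `[M_σ ∩ H, M ∩ H] ≠ 1`): if `H` is not conjugate
to `M`, `p ∉ σ(M)` and `p ∈ σ(H) ∪ τ₂(H) ∪ τ₃(H)`, then every `p`-subgroup of `M ∩ H`
centralizes `M_σ ∩ H`. -/
theorem centralizes_of_not_tau1 (hG : IsMinSimpleOddOrder G) (h : Hyp13 G) {M H : Subgroup G}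
    (hM : IsCoatom M) (hH : IsCoatom H) (hnc : ∀ g : G, H ≠ cj(g, M)) {p : ℕ} [hp : Fact p.Prime]
    (hpM : p ∉ sigma M) (hpH : p ∈ sigma H ∨ p ∈ tau2 H ∨ p ∈ tau3 H) {P : Subgroup G}
    (hP : IsPGroup p P) (hPM : P ≤ M) (hPH : P ≤ H) :
    sigmaCore M ⊓ H ≤ Subgroup.centralizer (P : Set G) := by
  rcases hpH with h1 | h1 | h1
  · exact centralizes_of_mem_sigma hG hM hH hnc hpM h1 hP hPM hPH
  · exact centralizes_of_mem_tau2 hG h hM hH hnc hpM h1 hP hPM hPH
  · exact centralizes_of_mem_tau3 hG h.h20 hM hH hnc hpM h1 hP hPM hPH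

/-- `σ` is invariant under conjugation (one direction). -/
theorem mem_sigma_map_conj (hG : IsMinSimpleOddOrder G) {M : Subgroup G} {p : ℕ} (hp : p ∈ sigma M)
    (g : G) : p ∈ sigma cj(g, M) := by
  haveI : Fact p.Prime := ⟨hp.1⟩
  obtain ⟨S, hS⟩ := SylIn.exists_sylIn p M
  obtain ⟨hNS, -⟩ := Cfsg.Agent.Lib.H20.BGT.normalizer_le_of_sylIn_sigma hp hS
  have hS1 : S ≠ ⊥ := hS.ne_bot hp.2.1
  refine mem_sigma_of_sylIn (hS.map_conj g) ?_ ?_
  · intro e
    apply hS1
    rwa [Subgroup.map_eq_bot_iff_of_injective _ (MulAut.conj g).injective] at e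
  · rw [Cfsg.Agent.Lib.H10.normalizer_map_conj]
    exact Subgroup.map_mono hNS

/-- a subgroup conjugate into a cyclic subgroup is cyclic. -/
theorem isCyclic_of_map_conj_le {T S : Subgroup G} (hS : IsCyclic ↥S) {k : G}
    (hle : cj(k, T) ≤ S) : IsCyclic ↥T := by
  have hinj : Function.Injective ((MulAut.conj k).toMonoidHom : G →* G) := (MulAut.conj k).injective
  let f : ↥T →* ↥S := (Subgroup.inclusion hle).comp
    (T.equivMapOfInjective _ hinj).toMonoidHom
  have hf : Function.Injective f := by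
    intro a b hab
    have h1 := Subgroup.inclusion_injective hle hab
    exact (T.equivMapOfInjective _ hinj).injective h1
  exact isCyclic_of_injective f hf

/-- The type of `p` in a maximal subgroup `H` containing `N_G(X)`, `X ≠ 1` a `p`-subgroup of `M`,
when the Sylow `p`-subgroups of `M` are cyclic and `p ∉ σ(M)`. -/
theorem type_of_normalizer_ge (hG : IsMinSimpleOddOrder G) {M : Subgroup G} (hM : IsCoatom M)
    {p : ℕ} [hp : Fact p.Prime] (hpM : p ∉ sigma M) {S : Subgroup G} (hS : SylIn p S M)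
    (hSc : IsCyclic ↥S) {X : Subgroup G} (hXp : IsPGroup p X) (hX1 : X ≠ ⊥) (hXM : X ≤ M)
    {H : Subgroup G} (hH : IsCoatom H) (hNX : Subgroup.normalizer (X : Set G) ≤ H) :
    (∀ g : G, H ≠ cj(g, M)) ∧ (p ∈ sigma H ∨ p ∈ tau2 H) := by
  have hXH : X ≤ H := Subgroup.le_normalizer.trans hNX
  obtain ⟨T, hT, hXT⟩ := SylIn.exists_ge hXp hXH
  have hT1 : T ≠ ⊥ := _root_.ne_bot_of_le_ne_bot hX1 hXT
  have hp2 : p ≠ 2 := Cfsg.Agent.Lib.H20.BGT.prime_ne_two' hG hXp hX1
  by_cases hTc : IsCyclic ↥T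
  · have h1 : Subgroup.normalizer (T : Set G) ≤ H :=
      (Cfsg.Agent.Lib.H20.BGT.normalizer_le_normalizer_of_le_cyclic hTc hXT).trans hNX
    have hpH : p ∈ sigma H := mem_sigma_of_sylIn hT hT1 h1
    refine ⟨fun g e => hpM ?_, Or.inl hpH⟩
    have h2 := mem_sigma_map_conj hG hpH g⁻¹
    rwa [e, Cfsg.Agent.Lib.H10.map_conj_map_conj, inv_mul_cancel,
      Cfsg.Agent.Lib.H10.map_conj_one] at h2
  · constructor
    · intro g e
      apply hTc
      have h1 : cj(g⁻¹, T) ≤ M := by
        have := Subgroup.map_mono (f := (MulAut.conj g⁻¹).toMonoidHom) hT.le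
        rwa [e, Cfsg.Agent.Lib.H10.map_conj_map_conj, inv_mul_cancel,
          Cfsg.Agent.Lib.H10.map_conj_one] at this
      obtain ⟨m, -, hm⟩ := hS.exists_conj_le (hT.isPGroup.map _) h1
      rw [Cfsg.Agent.Lib.H10.map_conj_map_conj] at hm
      exact isCyclic_of_map_conj_le hSc hm
    · by_cases hpH : p ∈ sigma H
      · exact Or.inl hpH
      · obtain ⟨A, hAT, hAe, hAc⟩ :=
          Cfsg.Agent.Lib.H20.BGT.exists_elemAb_sq_of_not_cyclic hp2 hT.isPGroup hTc
        exact Or.inr (Cfsg.Agent.Lib.H20.BGT.mem_tau2_of_elemAb_sq hG hH hpH (hAT.trans hT.le)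
          hAe hAc)

/-- **BG Corollary 13.2(a)**: let `p ∉ σ(M)` with cyclic Sylow `p`-subgroups in `M`
(`p ∈ τ₁(M) ∪ τ₃(M)`), `X ≠ 1` a `p`-subgroup of `M` and `H` a maximal subgroup containing
`N_G(X)`. Then every `p`-subgroup of `M ∩ H` centralizes `M_σ ∩ H`. -/
theorem centralizes_of_normalizer_le (hG : IsMinSimpleOddOrder G) (h : Hyp13 G) {M : Subgroup G}
    (hM : IsCoatom M) {p : ℕ} [hp : Fact p.Prime] (hpM : p ∉ sigma M) {S : Subgroup G}
    (hS : SylIn p S M) (hSc : IsCyclic ↥S) {X : Subgroup G} (hXp : IsPGroup p X) (hX1 : X ≠ ⊥)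
    (hXM : X ≤ M) {H : Subgroup G} (hH : IsCoatom H)
    (hNX : Subgroup.normalizer (X : Set G) ≤ H) {P : Subgroup G} (hP : IsPGroup p P) (hPM : P ≤ M)
    (hPH : P ≤ H) : sigmaCore M ⊓ H ≤ Subgroup.centralizer (P : Set G) := by
  obtain ⟨hnc, hpH⟩ := type_of_normalizer_ge hG hM hpM hS hSc hXp hX1 hXM hH hNX
  apply centralizes_of_not_tau1 hG h hM hH hnc hpM _ hP hPM hPH
  rcases hpH with h1 | h1
  · exact Or.inl h1
  · exact Or.inr (Or.inl h1)

/-- **BG Corollary 13.3(a)** (S1427 modulo `Hyp13`): prime action of the cyclic Sylow subgroups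
of `E` on `M_σ`. -/
theorem cyclic_sylow_prime_action (hG : IsMinSimpleOddOrder G) (h : Hyp13 G)
    (M : Subgroup G) (hM : IsCoatom M) (E : Subgroup G) (hE : Cfsg.IsComplIn E (Cfsg.sigmaCore M) M)
    (p : ℕ) [hp : Fact p.Prime] (S : Sylow p E) (hS1 : (S : Subgroup E) ≠ ⊥)
    (hSc : IsCyclic (S : Subgroup E)) :
    ∀ x ∈ (S : Subgroup E).map E.subtype, x ≠ 1 →
        Cfsg.sigmaCore M ⊓ Subgroup.centralizer ({x} : Set G) =
          Cfsg.sigmaCore M ⊓
            Subgroup.centralizer (((S : Subgroup E).map E.subtype : Subgroup G) : Set G) := by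
  have hU := Cfsg.Agent.Lib.H20.BGT.uniq3 hG
  have hσ := (sigma_core_hall hG hU hM).1
  set S' : Subgroup G := (S : Subgroup E).map E.subtype with hS'
  have hS'E : SylIn p S' E := SylIn.of_sylow S
  have hS'1 : S' ≠ ⊥ := by
    intro e
    apply hS1
    rwa [hS', Subgroup.map_eq_bot_iff_of_injective _ E.subtype_injective] at e
  have hpE : p ∣ Nat.card ↥E := dvd_card_of_ne_bot hS'E.isPGroup hS'E.le hS'1
  have hpM : p ∉ sigma M := Cfsg.Agent.Lib.H8.BG12.compl_not_sigma hσ hE hp.out hpE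
  have hS'M : SylIn p S' M := Cfsg.Agent.Lib.H8.BG12.sylIn_of_compl hσ hE hpM hS'E
  have hS'c : IsCyclic ↥S' :=
    isCyclic_of_surjective ((S : Subgroup E).equivMapOfInjective _ E.subtype_injective).toMonoidHom
      ((S : Subgroup E).equivMapOfInjective _ E.subtype_injective).surjective
  intro x hx hx1
  apply le_antisymm
  · refine le_inf inf_le_left ?_
    set X : Subgroup G := Subgroup.zpowers x with hX
    have hXS : X ≤ S' := by rw [hX, Subgroup.zpowers_le]; exact hx
    have hXp : IsPGroup p X := hS'M.isPGroup.to_le hXS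
    have hX1 : X ≠ ⊥ := by
      intro e
      apply hx1
      have : x ∈ X := Subgroup.mem_zpowers x
      rw [e] at this
      exact this
    obtain ⟨H, hH, hNH⟩ := exists_coatom_ge (normalizer_ne_top_of_isPGroup hG hXp hX1)
    have hcomm : ∀ a ∈ S', ∀ b ∈ S', a * b = b * a := by
      obtain ⟨g, hg⟩ := hS'c.exists_generator
      intro a ha b hb
      obtain ⟨i, hi⟩ := Subgroup.mem_zpowers_iff.1 (hg ⟨a, ha⟩)
      obtain ⟨j, hj⟩ := Subgroup.mem_zpowers_iff.1 (hg ⟨b, hb⟩)
      have hi' : (g : G) ^ i = a := by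
        have := congrArg Subtype.val hi
        simpa using this
      have hj' : (g : G) ^ j = b := by
        have := congrArg Subtype.val hj
        simpa using this
      rw [← hi', ← hj', ← zpow_add, ← zpow_add, add_comm]
    have hCx : Subgroup.centralizer ({x} : Set G) ≤ Subgroup.normalizer (X : Set G) := by
      intro y hy
      have hyx : y * x = x * y := by
        have := (Subgroup.mem_centralizer_iff.1 hy) x (Set.mem_singleton x)
        exact this.symm
      refine Subgroup.centralizer_le_normalizer _ ?_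
      rw [Subgroup.mem_centralizer_iff]
      intro z hz
      obtain ⟨i, rfl⟩ := Subgroup.mem_zpowers_iff.1 hz
      exact ((show Commute y x from hyx).zpow_right i).eq.symm
    have hS'H : S' ≤ H := by
      refine le_trans ?_ (hCx.trans hNH)
      intro a ha
      rw [Subgroup.mem_centralizer_iff]
      intro z hz
      rw [Set.mem_singleton_iff] at hz
      rw [hz]
      exact hcomm x hx a ha
    have hkey := centralizes_of_normalizer_le hG h hM hpM hS'M hS'c hXp hX1 (hXS.trans hS'M.le)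
      hH hNH hS'M.isPGroup hS'M.le hS'H
    exact (inf_le_inf_left _ (hCx.trans hNH)).trans hkey
  · refine le_inf inf_le_left (inf_le_right.trans (Subgroup.centralizer_le ?_))
    intro y hy
    rw [Set.mem_singleton_iff] at hy
    rw [hy]
    exact hx

end Cfsg.Agent.Lib.H19.BG13
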