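import Mathlib

/-!
helper19: the three subgroups lemma modulo a normal subgroup, iterated commutators `[K, G, …, G]`,
P. Hall's lemma `[K, γ_{j+1}(G)] ≤ [K, G; j+1]`, and the action of a `p`-group on a normal section.
-/

set_option autoImplicit false

namespace Cfsg.Agent.Lib.H19

variable {G : Type*} [Group G]

/-- Three subgroups lemma modulo a normal subgroup `N`. -/
theorem three_subgroups_normal (N : Subgroup G) [N.Normal] {H₁ H₂ H₃ : Subgroup G}
    (h1 : ⁅⁅H₂, H₃⁆, H₁⁆ ≤ N) (h2 : ⁅⁅H₃, H₁⁆, H₂⁆ ≤ N) : ⁅⁅H₁, H₂⁆, H₃⁆ ≤ N := by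
  have key : ∀ A B C : Subgroup G, ⁅⁅A, B⁆, C⁆ ≤ N ↔
      ⁅⁅A.map (QuotientGroup.mk' N), B.map (QuotientGroup.mk' N)⁆,
        C.map (QuotientGroup.mk' N)⁆ = ⊥ := by
    intro A B C
    rw [← Subgroup.map_commutator, ← Subgroup.map_commutator, Subgroup.map_eq_bot_iff,
      QuotientGroup.ker_mk']
  rw [key] at h1 h2 ⊢
  exact Subgroup.commutator_commutator_eq_bot_of_rotate h1 h2

/-- `[A B, T] ≤ N` if `[A, T] ≤ N` and `[B, T] ≤ N`, for `N` normal. -/
theorem commutator_sup_le_of_le (N : Subgroup G) [N.Normal] {A B T : Subgroup G}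
    (hA : ⁅A, T⁆ ≤ N) (hB : ⁅B, T⁆ ≤ N) : ⁅A ⊔ B, T⁆ ≤ N := by
  have key : ∀ X : Subgroup G, ⁅X, T⁆ ≤ N ↔
      X.map (QuotientGroup.mk' N) ≤
        Subgroup.centralizer ((T.map (QuotientGroup.mk' N) : Subgroup (G ⧸ N)) : Set (G ⧸ N)) := by
    intro X
    rw [← Subgroup.commutator_eq_bot_iff_le_centralizer, ← Subgroup.map_commutator,
      Subgroup.map_eq_bot_iff, QuotientGroup.ker_mk']
  rw [key] at hA hB ⊢
  rw [Subgroup.map_sup]
  exact sup_le hA hB

/-- iterated commutator `[K, G, …, G]` with `j` copies of `G` -/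
def iterComm (K : Subgroup G) : ℕ → Subgroup G
  | 0 => K
  | j + 1 => ⁅iterComm K j, ⊤⁆

@[simp] theorem iterComm_zero (K : Subgroup G) : iterComm K 0 = K := rfl
theorem iterComm_succ (K : Subgroup G) (j : ℕ) : iterComm K (j + 1) = ⁅iterComm K j, ⊤⁆ := rfl

theorem iterComm_succ' (K : Subgroup G) (j : ℕ) :
    iterComm K (j + 1) = iterComm ⁅K, ⊤⁆ j := by
  induction j with
  | zero => rfl
  | succ j ih => rw [iterComm_succ, ih, iterComm_succ]

theorem iterComm_mono {K L : Subgroup G} (h : K ≤ L) (j : ℕ) : iterComm K j ≤ iterComm L j := by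
  induction j with
  | zero => exact h
  | succ j ih => exact Subgroup.commutator_mono ih le_rfl

instance iterComm_normal (K : Subgroup G) [K.Normal] (j : ℕ) : (iterComm K j).Normal := by
  induction j with
  | zero => exact (inferInstance : K.Normal)
  | succ j ih => rw [iterComm_succ]; infer_instance

theorem iterComm_le (K : Subgroup G) [K.Normal] (j : ℕ) : iterComm K j ≤ K := by
  induction j with
  | zero => exact le_rfl
  | succ j ih =>
    rw [iterComm_succ]
    exact (Subgroup.commutator_mono ih le_rfl).trans (Subgroup.commutator_le_left K ⊤)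

theorem iterComm_top_eq (j : ℕ) :
    iterComm (⊤ : Subgroup G) j = (⊤ : Subgroup G).lowerCentralSeries j := by
  induction j with
  | zero => rfl
  | succ j ih => rw [iterComm_succ, ih, Subgroup.lowerCentralSeries_succ]

theorem iterComm_le_lowerCentralSeries (K : Subgroup G) (j : ℕ) :
    iterComm K j ≤ (⊤ : Subgroup G).lowerCentralSeries j := by
  rw [← iterComm_top_eq]; exact iterComm_mono le_top j

/-- P. Hall: `[K, γ_{j+1}(G)] ≤ [K, G; j+1]` for `K` normal. -/
theorem commutator_lowerCentralSeries_le (j : ℕ) :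
    ∀ (K : Subgroup G) [K.Normal], ⁅K, (⊤ : Subgroup G).lowerCentralSeries j⁆ ≤ iterComm K (j + 1) := by
  induction j with
  | zero => intro K _; exact le_rfl
  | succ j ih =>
    intro K _
    rw [Subgroup.lowerCentralSeries_succ, Subgroup.commutator_comm]
    -- `[[γ_j, G], K] ≤ D_{j+2}` by three subgroups
    apply three_subgroups_normal (iterComm K (j + 2))
    · -- [[G, K], γ_j] ≤ D_{j+2}
      have h1 : ⁅(⊤ : Subgroup G), K⁆ = ⁅K, ⊤⁆ := Subgroup.commutator_comm _ _
      rw [h1]
      have := ih ⁅K, ⊤⁆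
      rwa [← iterComm_succ'] at this
    · -- [[K, γ_j], G] ≤ D_{j+2}
      rw [iterComm_succ K (j + 1)]
      exact Subgroup.commutator_mono (ih K) le_rfl

/-- In a nilpotent group: if `[K, G] M = K` for normal `M ≤ K`, then `K = M`. -/
theorem eq_of_commutator_sup_eq [Group.IsNilpotent G] (K M : Subgroup G) [K.Normal] [M.Normal]
    (hMK : M ≤ K) (h : ⁅K, ⊤⁆ ⊔ M = K) : K = M := by
  have key : ∀ j, K ≤ iterComm K j ⊔ M := by
    intro j
    induction j with
    | zero => exact le_sup_left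
    | succ j ih =>
      rw [iterComm_succ]
      calc K = ⁅K, ⊤⁆ ⊔ M := h.symm
        _ ≤ ⁅iterComm K j ⊔ M, ⊤⁆ ⊔ M := sup_le_sup_right (Subgroup.commutator_mono ih le_rfl) M
        _ ≤ (⁅iterComm K j, ⊤⁆ ⊔ ⁅M, ⊤⁆) ⊔ M := by
            apply sup_le_sup_right
            exact commutator_sup_le_of_le (⁅iterComm K j, ⊤⁆ ⊔ ⁅M, ⊤⁆) le_sup_left le_sup_right
        _ ≤ ⁅iterComm K j, ⊤⁆ ⊔ M :=
            sup_le (sup_le le_sup_left ((Subgroup.commutator_le_left M ⊤).trans le_sup_right))
              le_sup_right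
  obtain ⟨c, hc⟩ := (nilpotent_iff_lowerCentralSeries (G := G)).mp inferInstance
  have h1 : iterComm K c = ⊥ := by
    rw [eq_bot_iff, ← hc]; exact iterComm_le_lowerCentralSeries K c
  have h2 := key c
  rw [h1, bot_sup_eq] at h2
  exact le_antisymm h2 hMK

/-- A finite `p`-group acts nilpotently on a normal section of order `p ^ m`: `[K, G; m] ≤ M`. -/
theorem iterComm_le_of_relIndex_le [Finite G] {p : ℕ} [Fact p.Prime] (hG : IsPGroup p G) (m : ℕ) :
    ∀ (K M : Subgroup G) [K.Normal] [M.Normal], M ≤ K → M.relIndex K ≤ p ^ m →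
      iterComm K m ≤ M := by
  have hp := (Fact.out : p.Prime)
  have hnil : Group.IsNilpotent G := hG.isNilpotent
  induction m with
  | zero =>
    intro K M _ _ _ h
    rw [pow_zero] at h
    have hpos : 0 < M.relIndex K := Nat.pos_of_ne_zero Subgroup.index_ne_zero_of_finite
    have : M.relIndex K = 1 := by omega
    exact Subgroup.relIndex_eq_one.mp this
  | succ m ih =>
    intro K M _ _ hMK h
    by_cases hKM : K = M
    · rw [← hKM]; exact iterComm_le K _
    set K' : Subgroup G := ⁅K, ⊤⁆ ⊔ M with hK'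
    have hK'le : K' ≤ K := sup_le (Subgroup.commutator_le_left K ⊤) hMK
    have hK'ne : K' ≠ K := fun h' => hKM (eq_of_commutator_sup_eq K M hMK h')
    have hMK' : M ≤ K' := le_sup_right
    have hmul := Subgroup.relIndex_mul_relIndex M K' K hMK' hK'le
    have h1 : K'.relIndex K ≠ 1 := by
      intro h'
      exact hK'ne (le_antisymm hK'le (Subgroup.relIndex_eq_one.mp h'))
    have h2 : p ≤ K'.relIndex K := by
      obtain ⟨a, ha⟩ := IsPGroup.iff_card.mp hG
      have hdvd : K'.relIndex K ∣ p ^ a := by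
        rw [← ha]
        exact (Subgroup.relIndex_dvd_card K' K).trans (Subgroup.card_subgroup_dvd_card K)
      obtain ⟨b, _, hb⟩ := (Nat.dvd_prime_pow hp).mp hdvd
      rw [hb]
      rcases Nat.eq_zero_or_pos b with rfl | hbpos
      · rw [hb, pow_zero] at h1; exact absurd rfl h1
      · calc p = p ^ 1 := (pow_one p).symm
          _ ≤ p ^ b := Nat.pow_le_pow_right hp.pos hbpos
    have h3 : M.relIndex K' ≤ p ^ m := by
      have : M.relIndex K' * p ≤ p ^ m * p := by
        calc M.relIndex K' * p ≤ M.relIndex K' * K'.relIndex K := Nat.mul_le_mul_left _ h2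
          _ = M.relIndex K := hmul
          _ ≤ p ^ (m + 1) := h
          _ = p ^ m * p := pow_succ p m
      exact Nat.le_of_mul_le_mul_right this hp.pos
    have h4 := ih K' M hMK' h3
    rw [iterComm_succ']
    exact (iterComm_mono le_sup_left m).trans h4

end Cfsg.Agent.Lib.H19
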