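import Mathlib
import Cfsg.Agent.Lib.H19.BG13e

/-! # BG §13, part f (helper19): prime types, the "two maximal subgroups" trick for ideal primes,
nilpotency of `β'`-subgroups of `M'` -/

set_option autoImplicit false
set_option linter.unusedSectionVars false
set_option linter.unusedVariables false
set_option linter.style.haveILetI false

open Cfsg

namespace Cfsg.Agent.Lib.H19.BG13

open Cfsg.Agent.Lib.H16.BG
open Cfsg.Agent.Lib.H7.BG7
open Cfsg.Agent.Lib.H7.BG10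
open Cfsg.Agent.Lib.H20.BGS
open Cfsg.Agent.Lib.H19 (IsPiCard)
open Cfsg.Agent.Lib.H1 (CoprimeAction)

universe u
variable {G : Type u} [Group G] [Finite G]

local notation:max "cj(" g ", " X ")" => Subgroup.map (MulEquiv.toMonoidHom (MulAut.conj g)) X

/-- every prime divisor of `|H|` lies in `σ(H)`, `τ₁(H)`, `τ₂(H)` or `τ₃(H)`. -/
theorem prime_type (hG : IsMinSimpleOddOrder G) {H : Subgroup G} (hH : IsCoatom H) {q : ℕ}
    (hq : q.Prime) (hd : q ∣ Nat.card H) :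
    q ∈ sigma H ∨ q ∈ tau1 H ∨ q ∈ tau2 H ∨ q ∈ tau3 H := by
  have hU := Cfsg.Agent.Lib.H20.BGT.uniq3 hG
  by_cases hσ : q ∈ sigma H
  · exact Or.inl hσ
  have h2 : PRankLE q 2 ↥H := by
    by_contra h
    exact hσ (alpha_subset_sigma hG hU hH ⟨hq, h⟩)
  by_cases h1 : PRankLE q 1 ↥H
  · by_cases hc : q ∣ Nat.card ↥⁅H, H⁆
    · exact Or.inr (Or.inr (Or.inr ⟨hq, hσ, hc, h1⟩))
    · exact Or.inr (Or.inl ⟨hq, hσ, hd, hc, h1⟩)
  · exact Or.inr (Or.inr (Or.inl ⟨hq, hσ, h2, h1⟩))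

/-- A `β(M)'`-subgroup of `M'` is nilpotent (from S1414). -/
theorem isNilpotent_of_beta'_commutator (hG : IsMinSimpleOddOrder G) {M : Subgroup G}
    (hM : IsCoatom M) {U : Subgroup G} (hUc : U ≤ ⁅M, M⁆)
    (hβ : ∀ q : ℕ, q.Prime → q ∣ Nat.card U → q ∉ beta M) : Group.IsNilpotent ↥U := by
  obtain ⟨-, -, ⟨H, hH, hHnil⟩, -, -⟩ := Cfsg.Agent.S1414.result hG M hM
  have hcM : ⁅M, M⁆ ≤ M := Subgroup.commutator_le_self M
  haveI : Group.IsSolvable ↥(⁅M, M⁆ : Subgroup G) :=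
    solvable_of_le_ne_top hG hM.1 hcM
  have hUπ : IsPiCard {q | q.Prime ∧ q ∉ beta M} (Nat.card ↥U) := fun q hq hd => ⟨hq, hβ q hq hd⟩
  obtain ⟨H', hH', hUH'⟩ := Cfsg.Agent.Lib.H19.exists_isPiHallOf_ge hUc hUπ
  obtain ⟨g, hg, hgH⟩ := Cfsg.Agent.Lib.H19.isPiHallOf_exists_conj hH hH'
  haveI := hHnil
  haveI : Group.IsNilpotent ↥H' := by
    rw [← hgH]
    exact Group.nilpotent_of_mulEquiv (Subgroup.equivSMul (MulAut.conj g) H)
  exact Group.nilpotent_of_mulEquiv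
    (MonoidHom.ofInjective (Subgroup.inclusion_injective hUH')).symm

/-- Two subgroups of `H'` of coprime orders, one normalizing the other, with all prime divisors
outside `β(H)`, commute. -/
theorem le_centralizer_of_beta' (hG : IsMinSimpleOddOrder G) {H : Subgroup G} (hH : IsCoatom H)
    {X Y : Subgroup G} (hX : X ≤ ⁅H, H⁆) (hY : Y ≤ ⁅H, H⁆)
    (hXY : X ≤ Subgroup.normalizer (Y : Set G)) (hcop : (Nat.card X).Coprime (Nat.card Y))
    (hβX : ∀ q : ℕ, q.Prime → q ∣ Nat.card X → q ∉ beta H)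
    (hβY : ∀ q : ℕ, q.Prime → q ∣ Nat.card Y → q ∉ beta H) :
    Y ≤ Subgroup.centralizer (X : Set G) := by
  have hUβ : ∀ q : ℕ, q.Prime → q ∣ Nat.card (X ⊔ Y : Subgroup G) → q ∉ beta H := by
    intro q hq hqd
    have h1 := hqd.trans (Cfsg.Agent.Lib.H19.card_sup_dvd_mul_of_le_normalizer hXY)
    rcases (Nat.Prime.dvd_mul hq).1 h1 with h2 | h2
    · exact hβX q hq h2
    · exact hβY q hq h2
  have hnil : Group.IsNilpotent ↥(X ⊔ Y : Subgroup G) :=
    isNilpotent_of_beta'_commutator hG hH (sup_le hX hY) hUβ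
  intro y hy
  rw [Subgroup.mem_centralizer_iff]
  intro x hx
  have hco : (orderOf y).Coprime (orderOf x) := by
    have h1 : orderOf y ∣ Nat.card Y := by
      have := orderOf_dvd_natCard (⟨y, hy⟩ : Y)
      rwa [Subgroup.orderOf_mk] at this
    have h2 : orderOf x ∣ Nat.card X := by
      have := orderOf_dvd_natCard (⟨x, hx⟩ : X)
      rwa [Subgroup.orderOf_mk] at this
    exact Nat.Coprime.coprime_dvd_left h1 (Nat.Coprime.coprime_dvd_right h2 hcop.symm)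
  exact (Cfsg.Agent.Lib.H8.mul_comm_of_coprime_of_mem_nilpotent (X ⊔ Y) hnil
    ((le_sup_right : Y ≤ X ⊔ Y) hy) ((le_sup_left : X ≤ X ⊔ Y) hx) hco).symm

/-- **The two-maximal-subgroups trick**: if `p` is an ideal prime of `G`, a `p`-subgroup contained
in two distinct maximal subgroups is cyclic. -/
theorem isCyclic_of_le_of_le_of_ideal (hG : IsMinSimpleOddOrder G) {p : ℕ} [hp : Fact p.Prime]
    (hid : IsIdealPrime p G) {K H L : Subgroup G} (hH : IsCoatom H) (hL : IsCoatom L)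
    (hne : H ≠ L) (hK : IsPGroup p K) (hKH : K ≤ H) (hKL : K ≤ L) : IsCyclic ↥K := by
  by_contra hnc
  have hpp := hp.out
  have hK1 : K ≠ ⊥ := by
    rintro rfl
    exact hnc inferInstance
  have hp2 : p ≠ 2 := Cfsg.Agent.Lib.H20.BGT.prime_ne_two' hG hK hK1
  obtain ⟨A, hAK, hAe, hAc⟩ :=
    Cfsg.Agent.Lib.H20.BGT.exists_elemAb_sq_of_not_cyclic hp2 hK hnc
  have hAp : IsPGroup p A := hK.to_le hAK
  obtain ⟨P, hAP⟩ := hAp.exists_le_sylow
  obtain ⟨B, hBP, hBe, hAB⟩ := hid.2.2 P A hAP hAe hAc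
  have hBC : B ≤ Subgroup.centralizer (A : Set G) := by
    intro b hb
    rw [Subgroup.mem_centralizer_iff]
    intro a ha
    have := hBe.1.is_comm.comm ⟨a, hAB.le ha⟩ ⟨b, hb⟩
    exact congrArg Subtype.val this
  have hBcard : p ^ 2 < Nat.card B := by
    rw [← hAc]
    refine lt_of_le_of_ne (Subgroup.card_le_of_le hAB.le) ?_
    intro heq
    exact hAB.ne (Subgroup.eq_of_le_of_card_ge hAB.le heq.ge)
  have hr3 : ¬ PRankLE p 2 ↥(Subgroup.centralizer (A : Set G)) :=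
    not_pRankLE_of_elemAb hBC hBe hBcard
  have hAt : A ≠ ⊤ := by
    rintro rfl
    exact hH.1 (top_le_iff.1 (hAK.trans hKH))
  have hA1' : ¬ RankLE 1 ↥A := by
    intro h
    refine not_pRankLE_of_elemAb le_rfl hAe ?_ (h p hpp)
    rw [hAc, pow_one]
    nlinarith [hpp.one_lt]
  have hAU : InUniqueMaximal A :=
    Cfsg.Agent.S1403.result hG A hAt hA1' (Or.inr (fun h => hr3 (h p hpp)))
  rw [inUniqueMaximal_iff] at hAU
  obtain ⟨M, -, -, huniq⟩ := hAU
  exact hne ((huniq H hH (hAK.trans hKH)).trans (huniq L hL (hAK.trans hKL)).symm)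

/-- if `r ∉ σ(H)` and the Sylow `r`-subgroups of `H` are cyclic, then `N_G(R) ≰ H` for every
nontrivial `r`-subgroup `R` of `H`. -/
theorem not_normalizer_le_of_cyclic (hG : IsMinSimpleOddOrder G) {H : Subgroup G} (hH : IsCoatom H)
    {r : ℕ} [hr : Fact r.Prime] (hrH : r ∉ sigma H) (h1 : PRankLE r 1 ↥H) {R : Subgroup G}
    (hR : IsPGroup r R) (hR1 : R ≠ ⊥) (hRH : R ≤ H) :
    ¬ Subgroup.normalizer (R : Set G) ≤ H := by
  intro hN
  obtain ⟨T, hT⟩ := SylIn.exists_sylIn r H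
  have hTc : IsCyclic ↥T := by
    have hr2 : r ≠ 2 := Cfsg.Agent.Lib.H20.BGT.prime_ne_two' hG hR hR1
    by_contra hnc
    obtain ⟨A, hAT, hAe, hAc⟩ :=
      Cfsg.Agent.Lib.H20.BGT.exists_elemAb_sq_of_not_cyclic hr2 hT.isPGroup hnc
    refine not_pRankLE_of_elemAb (hAT.trans hT.le) hAe ?_ h1
    rw [hAc, pow_one]
    nlinarith [hr.out.one_lt]
  obtain ⟨hnc, -⟩ := type_of_normalizer_ge hG hH hrH hT hTc hR hR1 hRH hH hN
  apply hnc 1
  rw [Cfsg.Agent.Lib.H10.map_conj_one]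

end Cfsg.Agent.Lib.H19.BG13
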