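import Mathlib
import Cfsg.Agent.Lib.H19.BG13f

/-! # BG §13, part g (helper19): Step A — a Frobenius group `QR` inside `H` centralizing a subgroup
`P` of order `p ∈ σ(H)` has `Q` centralizing every `QR`-invariant `p`-subgroup containing `P` -/

set_option autoImplicit false
set_option linter.unusedSectionVars false
set_option linter.unusedVariables false
set_option linter.style.haveILetI false

open Cfsg

namespace Cfsg.Agent.Lib.H19.BG13

open Cfsg.Agent.Lib.H16.BG
open Cfsg.Agent.Lib.H7.BG7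
open Cfsg.Agent.Lib.H7.BG10
open Cfsg.Agent.Lib.H20.BGS
open Cfsg.Agent.Lib.H19 (IsPiCard)
open Cfsg.Agent.Lib.H1 (CoprimeAction)

universe u
variable {G : Type u} [Group G] [Finite G]

local notation:max "cj(" g ", " X ")" => Subgroup.map (MulEquiv.toMonoidHom (MulAut.conj g)) X

/-- Lemma X' (pure group theory) as a hypothesis on `G`: a Frobenius group `QR` (`R` of prime
order acting fixed-point-freely on the abelian `p'`-group `Q`) acting on a `p`-group `S`, `p` odd,
with `C_S(R)` cyclic and its subgroup `P` of order `p` centralized by `Q`, has `Q` centralizing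
`S`. -/
def HypX (G : Type u) [Group G] : Prop :=
  ∀ (p : ℕ) [Fact p.Prime], p ≠ 2 → ∀ (S Q R P : Subgroup G), IsPGroup p S →
    Q ≤ Subgroup.normalizer (S : Set G) → R ≤ Subgroup.normalizer (S : Set G) →
    R ≤ Subgroup.normalizer (Q : Set G) → IsMulCommutative Q → (Nat.card Q).Coprime p →
    (Nat.card R).Prime → Nat.card R ≠ p → Q ⊓ Subgroup.centralizer (R : Set G) = ⊥ →
    P ≤ S → Nat.card P = p → P ≤ Subgroup.centralizer (R : Set G) →
    P ≤ Subgroup.centralizer (Q : Set G) → IsCyclic ↥(S ⊓ Subgroup.centralizer (R : Set G)) →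
    Q ≤ Subgroup.centralizer (S : Set G)

/-- **Step A**: `p ∈ σ(H)`, `S` a `p`-subgroup of `H` containing `P` of order `p`; `R ≤ G` of
prime order `≠ p` with `N_G(R) ≰ H`; `Q ≤ H'` an abelian group all of whose prime divisors are
outside `β(H) ∪ {p}`; `R` acts fixed-point-freely on `Q`; `Q`, `R` normalize `S` and centralize
`P`. Then `Q` centralizes `S`. -/
theorem le_centralizer_of_frob (hG : IsMinSimpleOddOrder G) (hX : HypX G) {H : Subgroup G}
    (hH : IsCoatom H) {p : ℕ} [hp : Fact p.Prime] (hpH : p ∈ sigma H) {S : Subgroup G}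
    (hS : IsPGroup p S) (hSH : S ≤ H) {P : Subgroup G} (hPS : P ≤ S) (hPc : Nat.card P = p)
    {R : Subgroup G} (hRr : (Nat.card R).Prime) (hRp : Nat.card R ≠ p)
    (hNR : ¬ Subgroup.normalizer (R : Set G) ≤ H) {Q : Subgroup G} (hQH : Q ≤ ⁅H, H⁆)
    (hQc : IsMulCommutative Q) (hQβ : ∀ q : ℕ, q.Prime → q ∣ Nat.card Q → q ∉ beta H)
    (hQp : (Nat.card Q).Coprime p) (hQS : Q ≤ Subgroup.normalizer (S : Set G))
    (hRS : R ≤ Subgroup.normalizer (S : Set G)) (hRQ : R ≤ Subgroup.normalizer (Q : Set G))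
    (hfpf : Q ⊓ Subgroup.centralizer (R : Set G) = ⊥)
    (hPR : P ≤ Subgroup.centralizer (R : Set G)) (hPQ : P ≤ Subgroup.centralizer (Q : Set G)) :
    Q ≤ Subgroup.centralizer (S : Set G) := by
  have hU := Cfsg.Agent.Lib.H20.BGT.uniq3 hG
  have hpp := hp.out
  have hP1 : P ≠ ⊥ := by
    rintro rfl
    rw [Subgroup.card_bot] at hPc
    exact hpp.one_lt.ne hPc
  have hS1 : S ≠ ⊥ := _root_.ne_bot_of_le_ne_bot hP1 hPS
  have hp2 : p ≠ 2 := Cfsg.Agent.Lib.H20.BGT.prime_ne_two' hG hS hS1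
  by_cases hpβ : p ∈ beta H
  · -- the two-maximal-subgroups trick
    have hR1 : R ≠ ⊥ := by
      rintro rfl
      rw [Subgroup.card_bot] at hRr
      exact Nat.not_prime_one hRr
    have hRt : R ≠ ⊤ := by
      rintro rfl
      have h1 : Nat.card (⊤ : Subgroup G) = Nat.card G := Subgroup.card_top
      have h2 : p ∣ Nat.card G := by
        rw [← hPc]
        exact Subgroup.card_subgroup_dvd_card P
      rw [← h1] at h2
      exact hRp ((Nat.prime_dvd_prime_iff_eq hpp hRr).1 h2).symm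
    obtain ⟨L, hL, hNL⟩ := exists_coatom_ge (normalizer_ne_top hG hR1 hRt)
    have hne : H ≠ L := by
      rintro rfl
      exact hNR hNL
    have hK : IsPGroup p ↥(S ⊓ Subgroup.centralizer (R : Set G) : Subgroup G) :=
      hS.to_le inf_le_left
    have hKH : S ⊓ Subgroup.centralizer (R : Set G) ≤ H := inf_le_left.trans hSH
    have hKL : S ⊓ Subgroup.centralizer (R : Set G) ≤ L :=
      inf_le_right.trans ((Subgroup.centralizer_le_normalizer _).trans hNL)
    have hcyc := isCyclic_of_le_of_le_of_ideal hG hpβ.2 hH hL hne hK hKH hKL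
    exact hX p hp2 S Q R P hS hQS hRS hRQ hQc hQp hRr hRp hfpf hPS hPc hPR hPQ hcyc
  · -- nilpotency of `β(H)'`-subgroups of `H'`
    have hSσ : S ≤ sigmaCore H :=
      Cfsg.Agent.Lib.H20.BGT.le_sigmaCore_of_isPiCard hG hH hSH (isPiCard_of_isPGroup hpp hpH hS)
    have hSc : S ≤ ⁅H, H⁆ := hSσ.trans (sigmaCore_le_commutator hG hU hH)
    have hcop : (Nat.card Q).Coprime (Nat.card S) := by
      obtain ⟨k, hk⟩ := IsPGroup.iff_card.1 hS
      rw [hk]
      exact Nat.Coprime.pow_right k hQp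
    have hβS : ∀ q : ℕ, q.Prime → q ∣ Nat.card S → q ∉ beta H := by
      intro q hq hqd
      obtain ⟨k, hk⟩ := IsPGroup.iff_card.1 hS
      rw [hk] at hqd
      have : q = p := (Nat.prime_dvd_prime_iff_eq hq hpp).1 (hq.dvd_of_dvd_pow hqd)
      rw [this]; exact hpβ
    have h1 := le_centralizer_of_beta' hG hH hQH hSc hQS hcop hQβ hβS
    exact le_centralizer_comm h1

end Cfsg.Agent.Lib.H19.BG13
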