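import Mathlib
import Cfsg.Agent.Lib.H19.BG13g
import Cfsg.Agent.Lib.H16.BGu
import Cfsg.Agent.Lib.H7.BG14a
import Cfsg.Agent.S1422

/-! # BG §13, part h (helper19): general lemmas for the ideal-prime case of BG 13.3(c)

* coprime action on an abelian group: `[K, A] ∩ C(A) = 1`;
* `τ₁(M)`-subgroups of `M` are abelian;
* prime action of cyclic Sylow subgroups (subgroup form of S1427);
* which Sylow subgroups of `N_G(Q̂)` can act nontrivially on `Q̂`. -/

set_option autoImplicit false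
set_option linter.unusedSectionVars false
set_option linter.unusedVariables false
set_option linter.style.haveILetI false

open Cfsg

namespace Cfsg.Agent.Lib.H19.BG13

open Cfsg.Agent.Lib.H16.BG
open Cfsg.Agent.Lib.H7.BG7
open Cfsg.Agent.Lib.H7.BG10
open Cfsg.Agent.Lib.H20.BGS
open Cfsg.Agent.Lib.H19 (IsPiCard)
open Cfsg.Agent.Lib.H1 (CoprimeAction)
open scoped Pointwise commutatorElement

universe u
variable {G : Type u} [Group G] [Finite G]

local notation:max "cj(" g ", " X ")" => Subgroup.map (MulEquiv.toMonoidHom (MulAut.conj g)) X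

/-! ### coprime action on an abelian group -/

/-- conjugation by an element of `A` as an endomorphism of the `A`-invariant subgroup `K`. -/
noncomputable def conjEnd {A K : Subgroup G} (h : A ≤ Subgroup.normalizer (K : Set G)) (a : A) :
    ↥K →* ↥K where
  toFun k := ⟨(a : G) * k * (a : G)⁻¹, (Subgroup.mem_normalizer_iff.1 (h a.2) k).1 k.2⟩
  map_one' := by ext; simp
  map_mul' x y := by ext; simp

open scoped IsMulCommutative in
/-- for a coprime action of `A` on an abelian group `K`, `[K, A] ∩ C(A) = 1`. -/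
theorem commutator_inf_centralizer_eq_bot {A K : Subgroup G} (h : CoprimeAction A K)
    (hK : IsMulCommutative K) : ⁅K, A⁆ ⊓ Subgroup.centralizer (A : Set G) = ⊥ := by
  classical
  haveI : Fintype ↥A := Fintype.ofFinite _
  let ν : ↥K →* ↥K := ∏ a : A, conjEnd h.normalizes a
  have hν : ∀ k : K, ν k = ∏ a : A, conjEnd h.normalizes a k := by
    intro k
    exact MonoidHom.finsetProd_apply _ _ k
  -- `ν` is constant on `A`-orbits
  have hinv : ∀ (b : A) (k : K), ν (conjEnd h.normalizes b k) = ν k := by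
    intro b k
    rw [hν, hν]
    apply Fintype.prod_equiv (Equiv.mulRight b)
    intro a
    apply Subtype.ext
    simp [conjEnd, mul_assoc]
  -- `ν` kills `[K, A]`
  have hker : ⁅K, A⁆ ≤ (ν.ker).map K.subtype := by
    rw [Subgroup.commutator_le]
    intro k hk a ha
    refine ⟨⟨k, hk⟩ * (conjEnd h.normalizes ⟨a, ha⟩ ⟨k, hk⟩)⁻¹, ?_, ?_⟩
    · rw [SetLike.mem_coe, MonoidHom.mem_ker, map_mul, map_inv, hinv, mul_inv_cancel]
    · simp [conjEnd, commutatorElement_def, mul_assoc]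
  rw [eq_bot_iff]
  rintro x ⟨hx1, hx2⟩
  rw [Subgroup.mem_bot]
  obtain ⟨y, hy, rfl⟩ := hker hx1
  have hy1 : ν y = 1 := hy
  have hy2 : ν y = y ^ Nat.card A := by
    rw [hν]
    have : ∀ a : A, conjEnd h.normalizes a y = y := by
      intro a
      apply Subtype.ext
      have := (Subgroup.mem_centralizer_iff.1 hx2) (a : G) a.2
      simp only [conjEnd, MonoidHom.coe_mk, OneHom.coe_mk, Subgroup.coe_subtype] at this ⊢
      rw [this, mul_inv_cancel_right]
    rw [Finset.prod_congr rfl (fun a _ => this a), Finset.prod_const, Finset.card_univ,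
      Nat.card_eq_fintype_card]
  have h1 : y ^ Nat.card A = 1 := by rw [← hy2, hy1]
  have h2 : y ^ Nat.card K = 1 := pow_card_eq_one'
  have h3 : orderOf y ∣ Nat.gcd (Nat.card A) (Nat.card K) :=
    Nat.dvd_gcd (orderOf_dvd_of_pow_eq_one h1) (orderOf_dvd_of_pow_eq_one h2)
  rw [h.coprime.gcd_eq_one, Nat.dvd_one] at h3
  have : y = 1 := orderOf_eq_one_iff.mp h3
  rw [this]; rfl

/-! ### `τ₁(M)`-subgroups of `M` -/

/-- a `τ₁(M)`-subgroup meets `M'` trivially. -/
theorem inf_commutator_eq_bot_of_tau1 {M V : Subgroup G}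
    (hV : ∀ s : ℕ, s.Prime → s ∣ Nat.card V → s ∈ tau1 M) : V ⊓ ⁅M, M⁆ = ⊥ := by
  rw [← Subgroup.card_eq_one]
  by_contra hne
  obtain ⟨s, hs, hsd⟩ := Nat.exists_prime_and_dvd hne
  have h1 : s ∣ Nat.card V := hsd.trans (Subgroup.card_dvd_of_le inf_le_left)
  have h2 : s ∣ Nat.card ↥⁅M, M⁆ := hsd.trans (Subgroup.card_dvd_of_le inf_le_right)
  exact (hV s hs h1).2.2.2.1 h2

/-- a `τ₁(M)`-subgroup of `M` is abelian. -/
theorem mul_comm_of_tau1 {M V : Subgroup G} (hVM : V ≤ M)
    (hV : ∀ s : ℕ, s.Prime → s ∣ Nat.card V → s ∈ tau1 M) {a b : G} (ha : a ∈ V) (hb : b ∈ V) :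
    a * b = b * a := by
  have h0 := inf_commutator_eq_bot_of_tau1 hV
  have h1 : ⁅a, b⁆ ∈ V ⊓ ⁅M, M⁆ :=
    ⟨V.mul_mem (V.mul_mem (V.mul_mem ha hb) (V.inv_mem ha)) (V.inv_mem hb),
      Subgroup.commutator_mem_commutator (hVM ha) (hVM hb)⟩
  rw [h0, Subgroup.mem_bot, commutatorElement_eq_one_iff_mul_comm] at h1
  exact h1

theorem le_centralizer_of_tau1 {M V : Subgroup G} (hVM : V ≤ M)
    (hV : ∀ s : ℕ, s.Prime → s ∣ Nat.card V → s ∈ tau1 M) {X Y : Subgroup G} (hX : X ≤ V)
    (hY : Y ≤ V) : X ≤ Subgroup.centralizer (Y : Set G) := by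
  intro x hx
  rw [Subgroup.mem_centralizer_iff]
  intro y hy
  exact mul_comm_of_tau1 hVM hV (hY hy) (hX hx)

/-- in an abelian-like situation (`V ≤ C(V)`), every subgroup of `V` is normalized by `V`. -/
theorem le_normalizer_of_le_centralizer {V X : Subgroup G}
    (h : V ≤ Subgroup.centralizer (X : Set G)) : V ≤ Subgroup.normalizer (X : Set G) :=
  h.trans (Subgroup.centralizer_le_normalizer _)

/-- if `V ≤ N(X)` then `V ≤ N(C(X))`. -/
theorem le_normalizer_centralizer {V X : Subgroup G}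
    (h : V ≤ Subgroup.normalizer (X : Set G)) :
    V ≤ Subgroup.normalizer ((Subgroup.centralizer (X : Set G) : Subgroup G) : Set G) := by
  intro v hv
  have key : ∀ w : G, w ∈ Subgroup.normalizer (X : Set G) → ∀ c : G,
      c ∈ Subgroup.centralizer (X : Set G) → w * c * w⁻¹ ∈ Subgroup.centralizer (X : Set G) := by
    intro w hw c hc
    rw [Subgroup.mem_centralizer_iff]
    intro x hx
    have h1 : w⁻¹ * x * w ∈ X := by
      have := (Subgroup.mem_normalizer_iff.1 (Subgroup.inv_mem _ hw) x).1 hx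
      simpa using this
    have h2 := (Subgroup.mem_centralizer_iff.1 hc) _ h1
    calc x * (w * c * w⁻¹) = w * ((w⁻¹ * x * w) * c) * w⁻¹ := by group
      _ = w * (c * (w⁻¹ * x * w)) * w⁻¹ := by rw [h2]
      _ = w * c * w⁻¹ * x := by group
  rw [Subgroup.mem_normalizer_iff]
  intro c
  constructor
  · exact key v (h hv) c
  · intro hc
    have := key v⁻¹ (Subgroup.inv_mem _ (h hv)) _ hc
    simpa [mul_assoc] using this

/-- in a subgroup `V` with `V ≤ C(V)` (abelian), a `π`-subgroup lies in every Hall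
`π`-subgroup. -/
theorem le_hall_of_comm {π : Set ℕ} {V W X : Subgroup G}
    (hcomm : ∀ a ∈ V, ∀ b ∈ V, a * b = b * a) (hW : IsPiHallOf π W V) (hXV : X ≤ V)
    (hX : IsPiCard π (Nat.card X)) : X ≤ W := by
  haveI : Group.IsSolvable ↥V :=
    Group.isSolvable_of_comm (fun a b => Subtype.ext (hcomm a a.2 b b.2))
  obtain ⟨W', hW', hXW'⟩ := Cfsg.Agent.Lib.H19.exists_isPiHallOf_ge hXV hX
  obtain ⟨g, hg, hgW⟩ := Cfsg.Agent.Lib.H19.isPiHallOf_exists_conj hW hW'
  have : MulAut.conj g • W = W := by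
    ext x
    rw [Subgroup.mem_pointwise_smul_iff_inv_smul_mem]
    simp only [MulAut.smul_def, MulAut.conj_inv_apply]
    constructor
    · intro hx
      have hx' : g⁻¹ * x * g ∈ V := hW.1 hx
      have hxV : x ∈ V := by
        have := V.mul_mem (V.mul_mem hg hx') (V.inv_mem hg)
        simpa [mul_assoc] using this
      have : g⁻¹ * x * g = x := by
        rw [mul_assoc, hcomm x hxV g hg, ← mul_assoc, inv_mul_cancel, one_mul]
      rwa [this] at hx
    · intro hx
      have hxV : x ∈ V := hW.1 hx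
      have : g⁻¹ * x * g = x := by
        rw [mul_assoc, hcomm x hxV g hg, ← mul_assoc, inv_mul_cancel, one_mul]
      rwa [this]
  rw [this] at hgW
  rw [hgW]
  exact hXW'


/-! ### prime action of cyclic subgroups (subgroup form of S1427) -/

/-- if `s ∉ σ(M)`, the Sylow `s`-subgroups of `M` are cyclic, `Y ≤ M` is an `s`-subgroup and
`1 ≠ x ∈ Y`, then `C_{M_σ}(x) ≤ C(Y)`. -/
theorem sigmaCore_inf_centralizer_le_of_rank_one (hG : IsMinSimpleOddOrder G) (h : Hyp13 G)
    {M : Subgroup G} (hM : IsCoatom M) {s : ℕ} [hs : Fact s.Prime] (hsM : s ∉ sigma M)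
    (hr : PRankLE s 1 ↥M) {Y : Subgroup G} (hY : IsPGroup s Y) (hYM : Y ≤ M) {x : G} (hx : x ∈ Y)
    (hx1 : x ≠ 1) :
    sigmaCore M ⊓ Subgroup.centralizer ({x} : Set G) ≤ Subgroup.centralizer (Y : Set G) := by
  obtain ⟨S', hS'M, hYS'⟩ := SylIn.exists_ge hY hYM
  have hS'c : IsCyclic ↥S' :=
    Cfsg.Agent.Lib.H7.BG14.isCyclic_of_pRankLE_one hG hS'M.le hS'M.isPGroup hr
  have hxS : x ∈ S' := hYS' hx
  set X : Subgroup G := Subgroup.zpowers x with hX
  have hXS : X ≤ S' := by rw [hX, Subgroup.zpowers_le]; exact hxS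
  have hXp : IsPGroup s X := hS'M.isPGroup.to_le hXS
  have hX1 : X ≠ ⊥ := by
    intro e
    apply hx1
    have : x ∈ X := Subgroup.mem_zpowers x
    rw [e] at this
    exact this
  obtain ⟨H, hH, hNH⟩ := exists_coatom_ge (normalizer_ne_top_of_isPGroup hG hXp hX1)
  have hcomm : ∀ a ∈ S', ∀ b ∈ S', a * b = b * a := by
    obtain ⟨g, hg⟩ := hS'c.exists_generator
    intro a ha b hb
    obtain ⟨i, hi⟩ := Subgroup.mem_zpowers_iff.1 (hg ⟨a, ha⟩)
    obtain ⟨j, hj⟩ := Subgroup.mem_zpowers_iff.1 (hg ⟨b, hb⟩)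
    have hi' : (g : G) ^ i = a := by
      have := congrArg Subtype.val hi
      simpa using this
    have hj' : (g : G) ^ j = b := by
      have := congrArg Subtype.val hj
      simpa using this
    rw [← hi', ← hj', ← zpow_add, ← zpow_add, add_comm]
  have hCx : Subgroup.centralizer ({x} : Set G) ≤ Subgroup.normalizer (X : Set G) := by
    intro y hy
    have hyx : y * x = x * y := by
      have := (Subgroup.mem_centralizer_iff.1 hy) x (Set.mem_singleton x)
      exact this.symm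
    refine Subgroup.centralizer_le_normalizer _ ?_
    rw [Subgroup.mem_centralizer_iff]
    intro z hz
    obtain ⟨i, rfl⟩ := Subgroup.mem_zpowers_iff.1 hz
    exact ((show Commute y x from hyx).zpow_right i).eq.symm
  have hS'H : S' ≤ H := by
    refine le_trans ?_ (hCx.trans hNH)
    intro a ha
    rw [Subgroup.mem_centralizer_iff]
    intro z hz
    rw [Set.mem_singleton_iff] at hz
    rw [hz]
    exact hcomm x hxS a ha
  have hkey := centralizes_of_normalizer_le hG h hM hsM hS'M hS'c hXp hX1 (hXS.trans hS'M.le)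
    hH hNH hS'M.isPGroup hS'M.le hS'H
  exact ((inf_le_inf_left _ (hCx.trans hNH)).trans hkey).trans
    (Subgroup.centralizer_le (by exact_mod_cast hYS'))

/-! ### which primes can act nontrivially on `Q̂ ≤ M_σ ∩ H_σ` -/

/-- non-conjugacy is symmetric. -/
theorem not_conj_symm {M H : Subgroup G} (hnc : ∀ g : G, H ≠ cj(g, M)) :
    ∀ g : G, M ≠ cj(g, H) := by
  intro g e
  apply hnc g⁻¹
  rw [e, Cfsg.Agent.Lib.H10.map_conj_map_conj, inv_mul_cancel, Cfsg.Agent.Lib.H10.map_conj_one]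

/-- Let `M`, `H` be non-conjugate maximal subgroups, `q ∈ σ(M) ∩ σ(H)`, `Q̂ ≤ M ∩ H` a
`q`-subgroup and `Y ≤ M ∩ H` an `s`-subgroup normalizing `Q̂`, `s ≠ q`. If `s ∉ τ₁(M)` or
`s ∉ τ₁(H)` then `Y` centralizes `Q̂`. -/
theorem centralizes_of_not_tau1_tau1 (hG : IsMinSimpleOddOrder G) (h : Hyp13 G)
    {M H : Subgroup G} (hM : IsCoatom M) (hH : IsCoatom H) (hnc : ∀ g : G, H ≠ cj(g, M))
    {q : ℕ} [hq : Fact q.Prime] (hqM : q ∈ sigma M) (hqH : q ∈ sigma H) {Q : Subgroup G}
    (hQ : IsPGroup q Q) (hQM : Q ≤ M) (hQH : Q ≤ H) {s : ℕ} [hs : Fact s.Prime] (hsq : s ≠ q)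
    {Y : Subgroup G} (hY : IsPGroup s Y) (hYM : Y ≤ M) (hYH : Y ≤ H)
    (hYQ : Y ≤ Subgroup.normalizer (Q : Set G)) (hs1 : s ∉ tau1 M ∨ s ∉ tau1 H) :
    Q ≤ Subgroup.centralizer (Y : Set G) := by
  have hU := Cfsg.Agent.Lib.H20.BGT.uniq3 hG
  by_cases hY1 : Y = ⊥
  · rw [hY1]
    intro x _
    rw [Subgroup.mem_centralizer_iff]
    intro y hy
    rw [Subgroup.coe_bot, Set.mem_singleton_iff] at hy
    rw [hy, one_mul, mul_one]
  have hnc' := not_conj_symm hnc
  have hsdM : s ∣ Nat.card M := dvd_card_of_ne_bot hY hYM hY1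
  have hsdH : s ∣ Nat.card H := dvd_card_of_ne_bot hY hYH hY1
  have hQσM : Q ≤ sigmaCore M :=
    Cfsg.Agent.Lib.H20.BGT.le_sigmaCore_of_isPiCard hG hM hQM (isPiCard_of_isPGroup hq.out hqM hQ)
  have hQσH : Q ≤ sigmaCore H :=
    Cfsg.Agent.Lib.H20.BGT.le_sigmaCore_of_isPiCard hG hH hQH (isPiCard_of_isPGroup hq.out hqH hQ)
  -- case A: `s ∉ σ(M)`, `s ∉ τ₁(H)`
  have caseA : s ∉ sigma M → s ∉ tau1 H → Q ≤ Subgroup.centralizer (Y : Set G) := by
    intro h1 h2
    have h3 : s ∈ sigma H ∨ s ∈ tau2 H ∨ s ∈ tau3 H := by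
      rcases prime_type hG hH hs.out hsdH with h4 | h4 | h4 | h4
      · exact Or.inl h4
      · exact absurd h4 h2
      · exact Or.inr (Or.inl h4)
      · exact Or.inr (Or.inr h4)
    exact (le_inf hQσM hQH).trans (centralizes_of_not_tau1 hG h hM hH hnc h1 h3 hY hYM hYH)
  have caseB : s ∉ sigma H → s ∉ tau1 M → Q ≤ Subgroup.centralizer (Y : Set G) := by
    intro h1 h2
    have h3 : s ∈ sigma M ∨ s ∈ tau2 M ∨ s ∈ tau3 M := by
      rcases prime_type hG hM hs.out hsdM with h4 | h4 | h4 | h4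
      · exact Or.inl h4
      · exact absurd h4 h2
      · exact Or.inr (Or.inl h4)
      · exact Or.inr (Or.inr h4)
    exact (le_inf hQσH hQM).trans (centralizes_of_not_tau1 hG h hH hM hnc' h1 h3 hY hYH hYM)
  by_cases hsM : s ∈ sigma M
  · by_cases hsH : s ∈ sigma H
    · -- both in `σ`: nilpotency of `β(M)'`-subgroups of `M'`
      have hsβ : s ∉ beta M := fun hb =>
        Cfsg.Agent.Lib.H20.BGT.not_mem_alpha_of_mem_sigma hG hH hM hnc' hsH hb.1
      have hqβ : q ∉ beta M := fun hb =>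
        Cfsg.Agent.Lib.H20.BGT.not_mem_alpha_of_mem_sigma hG hH hM hnc' hqH hb.1
      have hYσ : Y ≤ sigmaCore M :=
        Cfsg.Agent.Lib.H20.BGT.le_sigmaCore_of_isPiCard hG hM hYM
          (isPiCard_of_isPGroup hs.out hsM hY)
      have hσc := sigmaCore_le_commutator hG hU hM
      have hcop : (Nat.card Y).Coprime (Nat.card Q) := isPGroup_coprime_card hsq hY hQ
      refine le_centralizer_of_beta' hG hM (hYσ.trans hσc) (hQσM.trans hσc) hYQ hcop ?_ ?_
      · intro t ht htd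
        obtain ⟨k, hk⟩ := IsPGroup.iff_card.1 hY
        rw [hk] at htd
        have : t = s := (Nat.prime_dvd_prime_iff_eq ht hs.out).1 (ht.dvd_of_dvd_pow htd)
        rw [this]; exact hsβ
      · intro t ht htd
        obtain ⟨k, hk⟩ := IsPGroup.iff_card.1 hQ
        rw [hk] at htd
        have : t = q := (Nat.prime_dvd_prime_iff_eq ht hq.out).1 (ht.dvd_of_dvd_pow htd)
        rw [this]; exact hqβ
    · exact caseB hsH (fun h4 => h4.2.1 hsM)
  · by_cases hsH : s ∈ sigma H
    · exact caseA hsM (fun h4 => h4.2.1 hsH)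
    · rcases hs1 with h4 | h4
      · exact caseB hsH h4
      · exact caseA hsM h4


end Cfsg.Agent.Lib.H19.BG13
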