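import Mathlib
import Cfsg.Agent.Lib.H19.BG13h
import Cfsg.Agent.Lib.H16.BGHyp
import Cfsg.Agent.S1411
import Cfsg.Agent.Lib.H20.BGV2

/-! # BG §13, part i (helper19): the endgame of the ideal-prime case of BG 13.3(c)

`Q̂` a Sylow `q`-subgroup of `G` with `N_G(Q̂) ≤ M ∩ H`, `p ∈ τ₁(M) ∩ β(H)`, `P` of order `p`
centralizing `Q̂`: contradiction. -/

set_option autoImplicit false
set_option linter.unusedSectionVars false
set_option linter.unusedVariables false
set_option linter.style.haveILetI false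

open Cfsg

namespace Cfsg.Agent.Lib.H19.BG13

open Cfsg.Agent.Lib.H16.BG
open Cfsg.Agent.Lib.H7.BG7
open Cfsg.Agent.Lib.H7.BG10
open Cfsg.Agent.Lib.H20.BGS
open Cfsg.Agent.Lib.H19 (IsPiCard)
open Cfsg.Agent.Lib.H1 (CoprimeAction)
open scoped Pointwise commutatorElement

universe u
variable {G : Type u} [Group G] [Finite G]

local notation:max "cj(" g ", " X ")" => Subgroup.map (MulEquiv.toMonoidHom (MulAut.conj g)) X

/-- a normal Sylow subgroup of a solvable subgroup has a complement. -/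
theorem exists_isComplIn_of_sylIn {q : ℕ} [hq : Fact q.Prime] {Q N : Subgroup G}
    [Group.IsSolvable ↥N] (hQ : SylIn q Q N) (hN : N ≤ Subgroup.normalizer (Q : Set G)) :
    ∃ W : Subgroup G, IsComplIn Q W N ∧ (Nat.card W).Coprime (Nat.card Q) := by
  have hqq := hq.out
  have hcard : Nat.card N = Q.relIndex N * Nat.card Q := by
    rw [mul_comm]; exact (SylIn.card_mul_relIndex hQ.le).symm
  have hm : IsPiCard ({q}ᶜ : Set ℕ) (Q.relIndex N) := by
    intro s hs hsd hsq
    rw [Set.mem_singleton_iff] at hsq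
    subst hsq
    exact hQ.2.2 hsd
  have hn : IsPiCard ({q}ᶜᶜ : Set ℕ) (Nat.card Q) := by
    intro s hs hsd
    rw [compl_compl, Set.mem_singleton_iff]
    obtain ⟨k, hk⟩ := IsPGroup.iff_card.1 hQ.isPGroup
    rw [hk] at hsd
    exact (Nat.prime_dvd_prime_iff_eq hs hqq).1 (hs.dvd_of_dvd_pow hsd)
  obtain ⟨W, hW⟩ := Cfsg.Agent.Lib.H19.exists_isPiHallOf N ({q}ᶜ : Set ℕ)
  obtain ⟨hWN, hWc⟩ := (Cfsg.Agent.Lib.H19.isPiHallOf_iff_card hcard hm hn).1 hW
  have hcop : (Nat.card W).Coprime (Nat.card Q) := by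
    rw [hWc]; exact Cfsg.Agent.Lib.H19.coprime_of_isPiCard hm hn
  have hinf : Q ⊓ W = ⊥ := (Subgroup.disjoint_of_coprime_natCard hcop.symm).eq_bot
  have hsup : Q ⊔ W = N := by
    apply Subgroup.eq_of_le_of_card_ge (sup_le hQ.le hWN)
    have h1 : Nat.card W * Nat.card Q ∣ Nat.card (Q ⊔ W : Subgroup G) :=
      Nat.Coprime.mul_dvd_of_dvd_of_dvd hcop (Subgroup.card_dvd_of_le le_sup_right)
        (Subgroup.card_dvd_of_le le_sup_left)
    rw [hcard, ← hWc]
    exact Nat.le_of_dvd Nat.card_pos h1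
  refine ⟨W, ⟨hQ.le, hWN, hinf, ?_⟩, hcop⟩
  intro m hm'
  have hm'' : m ∈ Q ⊔ W := by rw [hsup]; exact hm'
  exact Cfsg.Agent.Lib.H1.mem_sup_of_le_normalizer (hWN.trans hN) hm''

/-- `V ≤ N(A)` and `V ≤ N(B)` give `V ≤ N(A ⊓ B)`. -/
theorem le_normalizer_inf' {V A B : Subgroup G} (hA : V ≤ Subgroup.normalizer (A : Set G))
    (hB : V ≤ Subgroup.normalizer (B : Set G)) :
    V ≤ Subgroup.normalizer ((A ⊓ B : Subgroup G) : Set G) := by
  intro v hv
  rw [Subgroup.mem_normalizer_iff]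
  intro x
  have h1 := Subgroup.mem_normalizer_iff.1 (hA hv) x
  have h2 := Subgroup.mem_normalizer_iff.1 (hB hv) x
  simp only [Subgroup.mem_inf]
  rw [h1, h2]

/-- **Endgame**: `M`, `H` non-conjugate maximal subgroups, `p ∈ τ₁(M) ∩ β(H)`, `P ≤ M ∩ H` of
order `p`, `q ∈ σ(M) ∩ σ(H)`, `Q̂ ≠ 1` a Sylow `q`-subgroup of `G` centralized by `P` with
`N_G(Q̂) ≤ M ∩ H`: impossible. -/
theorem false_of_sylow_normalizer_le (hG : IsMinSimpleOddOrder G) (hX : HypX G)
    {M H : Subgroup G} (hM : IsCoatom M) (hH : IsCoatom H) (hnc : ∀ g : G, H ≠ cj(g, M))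
    {p : ℕ} [hp : Fact p.Prime] (hpM : p ∈ tau1 M) (hpH : p ∈ beta H) {P : Subgroup G}
    (hPc : Nat.card P = p) {q : ℕ} [hq : Fact q.Prime] (hqM : q ∈ sigma M) (hqH : q ∈ sigma H)
    {Q : Subgroup G} (hQ : SylIn q Q ⊤) (hQ1 : Q ≠ ⊥)
    (hNM : Subgroup.normalizer (Q : Set G) ≤ M) (hNH : Subgroup.normalizer (Q : Set G) ≤ H)
    (hPQ : P ≤ Subgroup.centralizer (Q : Set G)) : False := by
  have h13 := Cfsg.Agent.Lib.H16.BGHyp.hyp13 hG
  have hU := Cfsg.Agent.Lib.H20.BGT.uniq3 hG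
  have hpp := hp.out
  have hqq := hq.out
  set N : Subgroup G := Subgroup.normalizer (Q : Set G) with hNdef
  have hQN : Q ≤ N := Subgroup.le_normalizer
  have hQM : Q ≤ M := hQN.trans hNM
  have hQH : Q ≤ H := hQN.trans hNH
  have hQp : IsPGroup q Q := hQ.isPGroup
  have hMH : M ≠ H := by
    intro e
    apply hnc 1
    rw [Cfsg.Agent.Lib.H10.map_conj_one]
    exact e.symm
  -- `Q̂` is abelian
  have hQc : IsMulCommutative ↥Q := by
    by_contra hna
    have h1 := Cfsg.Agent.S1422.result hG q Q hQp hna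
    rw [inUniqueMaximal_iff] at h1
    obtain ⟨L, -, -, huniq⟩ := h1
    exact hMH ((huniq M hM hQM).trans (huniq H hH hQH).symm)
  have hQcomm : ∀ a ∈ Q, ∀ b ∈ Q, a * b = b * a := by
    intro a ha b hb
    have := hQc.is_comm.comm ⟨a, ha⟩ ⟨b, hb⟩
    exact congrArg Subtype.val this
  have hQCQ : Q ≤ Subgroup.centralizer (Q : Set G) := by
    intro a ha
    rw [Subgroup.mem_centralizer_iff]
    intro b hb
    exact hQcomm b hb a ha
  have hpσM : p ∉ sigma M := hpM.2.1
  have hpq : p ≠ q := fun e => hpσM (e ▸ hqM)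
  have hpσH : p ∈ sigma H := alpha_subset_sigma hG hU hH hpH.1
  have hqαH : q ∉ alpha H :=
    Cfsg.Agent.Lib.H20.BGT.not_mem_alpha_of_mem_sigma hG hM hH hnc hqM
  have hqβH : q ∉ beta H := fun hb => hqαH hb.1
  haveI : Group.IsSolvable ↥N := solvable_of_le_ne_top hG hM.1 hNM
  have hCN : Subgroup.centralizer (Q : Set G) ≤ N := Subgroup.centralizer_le_normalizer _
  have hPN : P ≤ N := hPQ.trans hCN
  have hPM : P ≤ M := hPN.trans hNM
  have hPH : P ≤ H := hPN.trans hNH
  have hPp : IsPGroup p P := IsPGroup.of_card (n := 1) (by rw [hPc, pow_one])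
  -- the Hall `τ₁(M)`-subgroup `V` of `N` containing `P`
  have hPπ : IsPiCard (tau1 M) (Nat.card P) := by
    intro s hs hsd
    rw [hPc] at hsd
    rw [(Nat.prime_dvd_prime_iff_eq hs hpp).1 hsd]
    exact hpM
  obtain ⟨V, hV, hPV⟩ := Cfsg.Agent.Lib.H19.exists_isPiHallOf_ge hPN hPπ
  have hVN : V ≤ N := hV.1
  have hVM : V ≤ M := hVN.trans hNM
  have hVH : V ≤ H := hVN.trans hNH
  have hVτ : ∀ s : ℕ, s.Prime → s ∣ Nat.card V → s ∈ tau1 M := hV.2.1
  have hVcomm : ∀ a ∈ V, ∀ b ∈ V, a * b = b * a :=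
    fun a ha b hb => mul_comm_of_tau1 hVM hVτ ha hb
  -- `N = C(Q̂) V`
  have hsup : Subgroup.centralizer (Q : Set G) ⊔ V = N := by
    apply eq_of_forall_sylIn_le (sup_le hCN hVN)
    intro s hs
    haveI := hs
    by_cases hsτ : s ∈ tau1 M
    · obtain ⟨Y, hY⟩ := SylIn.exists_sylIn s V
      exact ⟨Y, Cfsg.Agent.Lib.H20.BGV.sylIn_of_hall hV hsτ hY, hY.le.trans le_sup_right⟩
    · obtain ⟨Y, hY⟩ := SylIn.exists_sylIn s N
      refine ⟨Y, hY, le_trans ?_ le_sup_left⟩
      by_cases hsq : s = q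
      · subst hsq
        have h1 : IsPGroup s (Q ⊔ Y : Subgroup G) :=
          IsPGroup.to_sup_of_normal_left' hQp hY.isPGroup hY.le
        have h2 : Q = Q ⊔ Y := hQ.eq_of_le le_sup_left le_top h1
        have h3 : Y ≤ Q := by rw [h2]; exact le_sup_right
        exact h3.trans hQCQ
      · have := centralizes_of_not_tau1_tau1 hG h13 hM hH hnc hqM hqH hQp hQM hQH hsq
          hY.isPGroup (hY.le.trans hNM) (hY.le.trans hNH) hY.le (Or.inl hsτ)
        exact le_centralizer_comm this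
  -- `C_{Q̂}(V) = 1`
  have hQV : Q ⊓ Subgroup.centralizer (V : Set G) = ⊥ := by
    obtain ⟨Pq, hPq⟩ := hQ.exists_sylow_top
    obtain ⟨W, hW, hWcop⟩ := exists_isComplIn_of_sylIn (hQ.mono hQN le_top) le_rfl
    have hW' : IsComplIn (Pq : Subgroup G) W
        (Subgroup.normalizer ((Pq : Subgroup G) : Set G)) := by
      rw [hPq]; exact hW
    have h1 := (Cfsg.Agent.S1411.result hG q Pq W hW').1
    rw [hPq] at h1
    have hact : CoprimeAction W Q := ⟨hW.2.1, hWcop, Or.inr (by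
      haveI : Group.IsSolvable ↥M := solvable_of_coatom hG hM
      exact solvable_of_le_ne_top hG hM.1 hQM)⟩
    have h2 := commutator_inf_centralizer_eq_bot hact hQc
    rw [← h1] at h2
    rw [eq_bot_iff, ← h2]
    rintro x ⟨hxQ, hxV⟩
    refine ⟨hxQ, ?_⟩
    -- `x` centralizes `C(Q̂) ⊔ V = N ≥ W`
    have hle : Subgroup.centralizer (Q : Set G) ⊔ V ≤ Subgroup.centralizer ({x} : Set G) := by
      apply sup_le
      · intro c hc
        rw [Subgroup.mem_centralizer_iff]
        intro y hy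
        rw [Set.mem_singleton_iff] at hy
        rw [hy]
        exact ((Subgroup.mem_centralizer_iff.1 hc) x hxQ)
      · intro v hv
        rw [Subgroup.mem_centralizer_iff]
        intro y hy
        rw [Set.mem_singleton_iff] at hy
        rw [hy]
        exact ((Subgroup.mem_centralizer_iff.1 hxV) v hv).symm
    rw [hsup] at hle
    refine Subgroup.mem_centralizer_iff.2 ?_
    intro w hw
    have := (Subgroup.mem_centralizer_iff.1 (hle (hW.2.1 hw))) x (Set.mem_singleton x)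
    exact this.symm
  -- the Hall `β(H)'`-subgroup of `V`
  haveI : Group.IsSolvable ↥V := solvable_of_le_ne_top hG hM.1 hVM
  obtain ⟨VH, hVHh⟩ := Cfsg.Agent.Lib.H19.exists_isPiHallOf V ((beta H)ᶜ : Set ℕ)
  have hVHV : VH ≤ V := hVHh.1
  -- the acting group `A₀ = Q̂ V_H` and the invariant Sylow `p`-subgroup `S` of `H_β`
  set K : Subgroup G := piCoreOf (beta H) H with hKdef
  obtain ⟨hKhall, -, -, -, -⟩ := Cfsg.Agent.S1414.result hG H hH
  have hKH : K ≤ H := hKhall.1
  have hVHQ : VH ≤ Subgroup.normalizer (Q : Set G) := hVHV.trans hVN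
  have hA0H : VH ⊔ Q ≤ H := sup_le (hVHV.trans hVH) hQH
  have hA0card : IsPiCard ((beta H)ᶜ : Set ℕ) (Nat.card (VH ⊔ Q : Subgroup G)) := by
    intro t ht htd
    have h1 := htd.trans (Cfsg.Agent.Lib.H19.card_sup_dvd_mul_of_le_normalizer hVHQ)
    rcases (Nat.Prime.dvd_mul ht).1 h1 with h2 | h2
    · exact hVHh.2.1 t ht h2
    · obtain ⟨k, hk⟩ := IsPGroup.iff_card.1 hQp
      rw [hk] at h2
      rw [(Nat.prime_dvd_prime_iff_eq ht hqq).1 (ht.dvd_of_dvd_pow h2)]
      exact hqβH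
  have hact : CoprimeAction (VH ⊔ Q) K := by
    refine ⟨hA0H.trans (le_normalizer_piCoreOf _ _), ?_, Or.inr ?_⟩
    · have hKc : IsPiCard ((beta H)ᶜᶜ : Set ℕ) (Nat.card K) := by
        rw [compl_compl]; exact hKhall.2.1
      exact Cfsg.Agent.Lib.H19.coprime_of_isPiCard hA0card hKc
    · exact solvable_of_le_ne_top hG hH.1 hKH
  have hPK : P ≤ K := by
    apply le_piCoreOf_of_hall hKhall hPH
    intro s hs hsd
    rw [hPc] at hsd
    rw [(Nat.prime_dvd_prime_iff_eq hs hpp).1 hsd]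
    exact hpH
  have hVCP : V ≤ Subgroup.centralizer (P : Set G) := le_centralizer_of_tau1 hVM hVτ le_rfl hPV
  have hA0P : VH ⊔ Q ≤ Subgroup.normalizer (P : Set G) :=
    (sup_le (hVHV.trans hVCP) (le_centralizer_comm hPQ)).trans
      (Subgroup.centralizer_le_normalizer _)
  obtain ⟨S, hS, hPS, hA0S⟩ :=
    Cfsg.Agent.Lib.H1.coprime_invariant_psubgroup_le_sylow hact hPK hPp hA0P
  have hSK : SylIn p S K := sylIn_of_isSylowOf hS
  have hSH' : SylIn p S H := Cfsg.Agent.Lib.H20.BGV.sylIn_of_hall hKhall hpH hSK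
  have hSp : IsPGroup p S := hSK.isPGroup
  have hSH : S ≤ H := hSH'.le
  -- it suffices to show `Q̂ ≤ C(S)`
  suffices hmain : Q ≤ Subgroup.centralizer (S : Set G) by
    have hSM : S ≤ M := ((le_centralizer_comm hmain).trans hCN).trans hNM
    have h1 : PRankLE p 1 ↥S := pRankLE_of_le hSM hpM.2.2.2.2
    have h2 : PRankLE p 2 ↥S := fun A hA hAe =>
      (h1 A hA hAe).trans (Nat.pow_le_pow_right hpp.pos (by norm_num))
    exact hpH.1.2 (pRankLE_of_sylIn hSH' h2)
  by_contra hmain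
  -- a minimal `V`-invariant subgroup of `Q̂` not centralizing `S`
  obtain ⟨B, hBQ', hBmin⟩ := exists_minimal_le_of_wellFoundedLT
    (fun B : Subgroup G => B ≤ Q ∧ V ≤ Subgroup.normalizer (B : Set G) ∧
      ¬ B ≤ Subgroup.centralizer (S : Set G)) Q ⟨le_rfl, hVN, hmain⟩
  obtain ⟨⟨hBQ, hVB, hBS⟩, hBle⟩ := hBmin
  have hBp : IsPGroup q B := hQp.to_le hBQ
  -- every subgroup of prime order of `V` centralizes `B`
  have hkey : ∀ R' : Subgroup G, R' ≤ V → (Nat.card R').Prime →
      B ≤ Subgroup.centralizer (R' : Set G) := by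
    intro R' hR'V hR'r
    set s := Nat.card R' with hsdef
    haveI : Fact s.Prime := ⟨hR'r⟩
    have hR'p : IsPGroup s R' := IsPGroup.of_card (n := 1) (by rw [pow_one])
    have hR'1 : R' ≠ ⊥ := by
      intro e
      rw [hsdef, e, Subgroup.card_bot] at hR'r
      exact Nat.not_prime_one hR'r
    have hsτ : s ∈ tau1 M := hVτ s hR'r (Subgroup.card_dvd_of_le hR'V)
    have hsq : s ≠ q := fun e => hsτ.2.1 (e ▸ hqM)
    have hR'M : R' ≤ M := hR'V.trans hVM
    have hR'H : R' ≤ H := hR'V.trans hVH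
    have hR'Q : R' ≤ Subgroup.normalizer (Q : Set G) := hR'V.trans hVN
    have hR'B : R' ≤ Subgroup.normalizer (B : Set G) := hR'V.trans hVB
    have hactB : CoprimeAction R' B :=
      ⟨hR'B, isPGroup_coprime_card hsq hR'p hBp, Or.inl (by
        exact solvable_of_le_ne_top hG hM.1 hR'M)⟩
    have hactQ : CoprimeAction R' Q :=
      ⟨hR'Q, isPGroup_coprime_card hsq hR'p hQp, Or.inl (by
        exact solvable_of_le_ne_top hG hM.1 hR'M)⟩
    have hsplit := Cfsg.Agent.Lib.H1.coprime_commutator_sup_centralizer hactB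
    -- `[B, R'] ≤ C(S)`
    have hcommS : ⁅B, R'⁆ ≤ Subgroup.centralizer (S : Set G) := by
      refine (Subgroup.commutator_mono hBQ le_rfl).trans ?_
      by_cases hQR : ⁅Q, R'⁆ = ⊥
      · rw [hQR]; exact bot_le
      -- `s ∈ τ₁(H)`
      have hsH : s ∈ tau1 H := by
        by_contra hsH
        apply hQR
        have := centralizes_of_not_tau1_tau1 hG h13 hM hH hnc hqM hqH hQp hQM hQH hsq
          hR'p hR'M hR'H hR'Q (Or.inr hsH)
        exact commutator_eq_bot_of_le_centralizer this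
      have hsp : s ≠ p := fun e => hsH.2.1 (e ▸ hpσH)
      have hNR : ¬ Subgroup.normalizer (R' : Set G) ≤ H :=
        not_normalizer_le_of_cyclic hG hH hsH.2.1 hsH.2.2.2.2 hR'p hR'1 hR'H
      have hQ2Q : ⁅Q, R'⁆ ≤ Q := hactQ.commutator_le
      have hQ2c : IsMulCommutative ↥(⁅Q, R'⁆ : Subgroup G) :=
        ⟨⟨fun a b => Subtype.ext (hQcomm a (hQ2Q a.2) b (hQ2Q b.2))⟩⟩
      have hQ2p : IsPGroup q ↥(⁅Q, R'⁆ : Subgroup G) := hQp.to_le hQ2Q
      have hR'VH : R' ≤ VH := by
        apply le_hall_of_comm hVcomm hVHh hR'V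
        intro t ht htd
        rw [(Nat.prime_dvd_prime_iff_eq ht hR'r).1 htd]
        intro hb
        exact hsH.2.1 (alpha_subset_sigma hG hU hH hb.1)
      refine le_centralizer_of_frob hG hX hH hpσH hSp hSH hPS hPc hR'r hsp hNR
        (Subgroup.commutator_mono hQH hR'H) hQ2c ?_ ?_ ?_ ?_ ?_ ?_ ?_ ?_
      · intro t ht htd
        obtain ⟨k, hk⟩ := IsPGroup.iff_card.1 hQ2p
        rw [hk] at htd
        rw [(Nat.prime_dvd_prime_iff_eq ht hqq).1 (ht.dvd_of_dvd_pow htd)]
        exact hqβH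
      · obtain ⟨k, hk⟩ := IsPGroup.iff_card.1 hQ2p
        rw [hk]
        exact Nat.Coprime.pow_left k ((Nat.coprime_primes hqq hpp).2 (Ne.symm hpq))
      · exact (hQ2Q.trans le_sup_right).trans hA0S
      · exact (hR'VH.trans le_sup_left).trans hA0S
      · exact (Subgroup.le_normalizer_iff_commutator_le_left).mpr
          (by rw [Cfsg.Agent.Lib.H1.coprime_commutator_commutator hactQ])
      · exact commutator_inf_centralizer_eq_bot hactQ hQc
      · exact le_centralizer_of_tau1 hVM hVτ hPV hR'V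
      · exact hPQ.trans (Subgroup.centralizer_le (by exact_mod_cast hQ2Q))
    -- minimality
    have hB'V : V ≤ Subgroup.normalizer
        ((B ⊓ Subgroup.centralizer (R' : Set G) : Subgroup G) : Set G) := by
      apply le_normalizer_inf' hVB
      apply le_normalizer_centralizer
      exact le_normalizer_of_le_centralizer (le_centralizer_of_tau1 hVM hVτ le_rfl hR'V)
    have hB'S : ¬ B ⊓ Subgroup.centralizer (R' : Set G) ≤ Subgroup.centralizer (S : Set G) := by
      intro hle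
      apply hBS
      rw [← hsplit]
      exact sup_le hcommS hle
    have := hBle ⟨inf_le_left.trans hBQ, hB'V, hB'S⟩ inf_le_left
    exact this.trans inf_le_right
  -- hence `V` centralizes `B`
  have hVB' : V ⊓ Subgroup.centralizer (B : Set G) = V := by
    apply eq_of_forall_sylIn_le inf_le_left
    intro s hs
    haveI := hs
    obtain ⟨Y, hY⟩ := SylIn.exists_sylIn s V
    refine ⟨Y, hY, le_inf hY.le ?_⟩
    by_cases hY1 : Y = ⊥
    · rw [hY1]; exact bot_le
    have hsd : s ∣ Nat.card Y := by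
      obtain ⟨k, hk⟩ := IsPGroup.iff_card.1 hY.isPGroup
      have hk0 : k ≠ 0 := by
        rintro rfl
        rw [pow_zero] at hk
        exact hY1 (Subgroup.eq_bot_of_card_eq Y hk)
      rw [hk]
      exact dvd_pow_self s hk0
    have hsτ : s ∈ tau1 M := hVτ s hs.out (hsd.trans (Subgroup.card_dvd_of_le hY.le))
    obtain ⟨y, hy⟩ := exists_prime_orderOf_dvd_card' (G := ↥Y) s hsd
    have hy1 : (y : G) ≠ 1 := by
      intro e
      have : y = 1 := Subtype.ext e
      rw [this, orderOf_one] at hy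
      exact hs.out.one_lt.ne hy
    have hyo : orderOf (y : G) = s := by rw [Subgroup.orderOf_coe]; exact hy
    have hR'c : Nat.card (Subgroup.zpowers (y : G)) = s := by
      rw [Nat.card_zpowers, hyo]
    have hR'V : Subgroup.zpowers (y : G) ≤ V := by
      rw [Subgroup.zpowers_le]; exact hY.le y.2
    have h1 := hkey (Subgroup.zpowers (y : G)) hR'V (by rw [hR'c]; exact hs.out)
    have h2 : B ≤ sigmaCore M ⊓ Subgroup.centralizer ({(y : G)} : Set G) := by
      refine le_inf ?_ ?_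
      · exact Cfsg.Agent.Lib.H20.BGT.le_sigmaCore_of_isPiCard hG hM (hBQ.trans hQM)
          (isPiCard_of_isPGroup hqq hqM hBp)
      · refine h1.trans (Subgroup.centralizer_le ?_)
        intro z hz
        rw [Set.mem_singleton_iff] at hz
        rw [hz]
        exact Subgroup.mem_zpowers _
    have h3 := sigmaCore_inf_centralizer_le_of_rank_one hG h13 hM hsτ.2.1 hsτ.2.2.2.2
      hY.isPGroup (hY.le.trans hVM) y.2 hy1
    exact le_centralizer_comm (h2.trans h3)
  have hBV : B ≤ Subgroup.centralizer (V : Set G) := by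
    apply le_centralizer_comm
    rw [← hVB']
    exact inf_le_right
  have hB1 : B = ⊥ := by
    rw [eq_bot_iff, ← hQV]
    exact le_inf hBQ hBV
  apply hBS
  rw [hB1]
  exact bot_le


end Cfsg.Agent.Lib.H19.BG13
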