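import Mathlib
import Cfsg.Agent.Lib.H19.BG13i
import Cfsg.Agent.S1406
import Cfsg.Agent.S1408

/-! # BG §13, part j (helper19): BG 13.3(c) when `p` is an ideal prime of `G` -/

set_option autoImplicit false
set_option linter.unusedSectionVars false
set_option linter.unusedVariables false
set_option linter.style.haveILetI false

open Cfsg

namespace Cfsg.Agent.Lib.H19.BG13

open Cfsg.Agent.Lib.H16.BG
open Cfsg.Agent.Lib.H7.BG7
open Cfsg.Agent.Lib.H7.BG10
open Cfsg.Agent.Lib.H20.BGS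
open Cfsg.Agent.Lib.H19 (IsPiCard)
open Cfsg.Agent.Lib.H1 (CoprimeAction)
open scoped Pointwise commutatorElement

universe u
variable {G : Type u} [Group G] [Finite G]

local notation:max "cj(" g ", " X ")" => Subgroup.map (MulEquiv.toMonoidHom (MulAut.conj g)) X

/-- **BG Lemma 13.1(b)** as a hypothesis on `G`: if `H` is not conjugate to `M`, `p ∉ σ(M)`,
`M ∩ H` contains a subgroup of order `p` and `[M_σ ∩ H, M ∩ H] ≠ 1`, then `p ∉ τ₂(H)`. -/
def HypA2 (G : Type u) [Group G] : Prop :=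
  ∀ (M H : Subgroup G), IsCoatom M → IsCoatom H → (∀ g : G, H ≠ cj(g, M)) →
    ∀ (p : ℕ) [Fact p.Prime], p ∉ sigma M → ∀ (P₀ : Subgroup G), Nat.card P₀ = p → P₀ ≤ M →
    P₀ ≤ H → ⁅sigmaCore M ⊓ H, M ⊓ H⁆ ≠ ⊥ → p ∉ tau2 H

/-- **BG 13.3(c) for an ideal prime `p`** (modulo Lemma X' only: `p ∈ τ₂(H)` is excluded by
S1408, an ideal prime is never in `τ₂`). -/
theorem prime_action_of_ideal_core (hG : IsMinSimpleOddOrder G) (hX : HypX G)
    (M : Subgroup G) (hM : IsCoatom M) (E : Subgroup G) (hE : IsComplIn E (sigmaCore M) M)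
    (p : ℕ) (hp : p ∈ tau1 M) (hid : IsIdealPrime p G) (P : Subgroup G) (hPE : P ≤ E)
    (hP : Nat.card P = p) (R : Subgroup G)
    (hRE : R ≤ E ⊓ Subgroup.centralizer (P : Set G)) (hR : (Nat.card R).Prime) :
    sigmaCore M ⊓ Subgroup.centralizer (P : Set G) ≤
      sigmaCore M ⊓ Subgroup.centralizer (R : Set G) := by
  have h13 := Cfsg.Agent.Lib.H16.BGHyp.hyp13 hG
  have h16 := Cfsg.Agent.Lib.H16.BGHyp.h1416a hG
  have hU := Cfsg.Agent.Lib.H20.BGT.uniq3 hG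
  have hσ := (sigma_core_hall hG hU hM).1
  haveI hpF : Fact p.Prime := ⟨hp.1⟩
  have hpp := hp.1
  refine le_inf inf_le_left ?_
  by_contra hD
  set D : Subgroup G := sigmaCore M ⊓ Subgroup.centralizer (P : Set G) with hDdef
  have hEM : E ≤ M := hE.1
  have hPM : P ≤ M := hPE.trans hEM
  have hRM : R ≤ M := (hRE.trans inf_le_left).trans hEM
  have hRCP : R ≤ Subgroup.centralizer (P : Set G) := hRE.trans inf_le_right
  have hpσM : p ∉ sigma M := hp.2.1
  have hPp : IsPGroup p P := IsPGroup.of_card (n := 1) (by rw [hP, pow_one])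
  have hP1 : P ≠ ⊥ := by
    rintro rfl
    rw [Subgroup.card_bot] at hP
    exact hpp.one_lt.ne hP
  -- the maximal subgroup `H ≥ N_G(P)`
  obtain ⟨H, hH, hNH⟩ := exists_coatom_ge (normalizer_ne_top_of_isPGroup hG hPp hP1)
  obtain ⟨T, hT, hPT⟩ := SylIn.exists_ge hPp hPM
  have hTc : IsCyclic ↥T :=
    Cfsg.Agent.Lib.H7.BG14.isCyclic_of_pRankLE_one hG hT.le hT.isPGroup hp.2.2.2.2
  obtain ⟨hnc, hpH⟩ := type_of_normalizer_ge hG hM hpσM hT hTc hPp hP1 hPM hH hNH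
  have hCPH : Subgroup.centralizer (P : Set G) ≤ H :=
    (Subgroup.centralizer_le_normalizer _).trans hNH
  have hDH : D ≤ H := inf_le_right.trans hCPH
  have hDσ : D ≤ sigmaCore M := inf_le_left
  have hRH : R ≤ H := hRCP.trans hCPH
  have hPH : P ≤ H := Subgroup.le_normalizer.trans hNH
  have hMH : H ≠ M := by
    intro e
    apply hnc 1
    rw [Cfsg.Agent.Lib.H10.map_conj_one]
    exact e
  have hcomm : ⁅sigmaCore M ⊓ H, M ⊓ H⁆ ≠ ⊥ := by
    intro e
    apply hD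
    have h1 : ⁅D, R⁆ = ⊥ := by
      rw [eq_bot_iff, ← e]
      exact Subgroup.commutator_mono (le_inf hDσ hDH) (le_inf hRM hRH)
    exact le_centralizer_of_commutator_eq_bot h1
  have hpσH : p ∈ sigma H := by
    rcases hpH with h | h
    · exact h
    · exact absurd hid (Cfsg.Agent.S1408.result hG H hH p h.2.1 h.2.2.1 h.2.2.2).1
  -- `p ∈ β(H)`
  have hpαH : p ∈ alpha H := by
    refine ⟨hpp, fun h2 => ?_⟩
    obtain ⟨T', hT'⟩ := SylIn.exists_sylIn p H
    obtain ⟨-, hT'top⟩ := Cfsg.Agent.Lib.H20.BGT.normalizer_le_of_sylIn_sigma hpσH hT'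
    have h3 : PRankLE p 2 ↥T' := pRankLE_of_le hT'.le h2
    have h4 : PRankLE p 2 ↥(⊤ : Subgroup G) := pRankLE_of_sylIn hT'top h3
    exact hid.2.1 (pRankLE_of_injective (Subgroup.topEquiv (G := G)).symm.toMonoidHom
      (Subgroup.topEquiv (G := G)).symm.injective h4)
  have hpβH : p ∈ beta H := ⟨hpαH, hid⟩
  -- the action of `R` on `D`
  set r := Nat.card R with hrdef
  haveI hrF : Fact r.Prime := ⟨hR⟩
  have hRp : IsPGroup r R := IsPGroup.of_card (n := 1) (by rw [pow_one])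
  have hR1 : R ≠ ⊥ := by
    intro e
    rw [hrdef, e, Subgroup.card_bot] at hR
    exact Nat.not_prime_one hR
  have hrE : r ∣ Nat.card E := Subgroup.card_dvd_of_le (hRE.trans inf_le_left)
  have hrσ : r ∉ sigma M := Cfsg.Agent.Lib.H8.BG12.compl_not_sigma hσ hE hR hrE
  have hRD : R ≤ Subgroup.normalizer (D : Set G) := by
    apply le_normalizer_inf' (hRM.trans (Cfsg.Agent.Lib.H20.BGS.le_normalizer_sigmaCore M))
    apply le_normalizer_centralizer
    exact hRCP.trans (Subgroup.centralizer_le_normalizer _)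
  have hcopD : (Nat.card R).Coprime (Nat.card D) := by
    rw [Nat.Prime.coprime_iff_not_dvd hR]
    intro hd
    exact hrσ (hσ.2.1 r hR (hd.trans (Subgroup.card_dvd_of_le hDσ)))
  have hRsolv : Group.IsSolvable ↥R := solvable_of_le_ne_top hG hM.1 hRM
  have hactD : CoprimeAction R D := ⟨hRD, hcopD, Or.inl hRsolv⟩
  -- an `R`-invariant Sylow `q`-subgroup of `D` not centralized by `R`
  have hex : ∃ q : ℕ, ∃ _ : Fact q.Prime, ∃ Q : Subgroup G,
      Cfsg.Agent.Lib.H1.IsSylowOf q D Q ∧ R ≤ Subgroup.normalizer (Q : Set G) ∧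
        ¬ Q ≤ Subgroup.centralizer (R : Set G) := by
    by_contra hall
    push Not at hall
    apply hD
    apply le_centralizer_of_forall_invariant hactD
    intro q hq Q hQD hQp hRQ
    haveI : Fact q.Prime := ⟨hq⟩
    obtain ⟨Q', hQ', hQQ', hRQ'⟩ :=
      Cfsg.Agent.Lib.H1.coprime_invariant_psubgroup_le_sylow hactD hQD hQp hRQ
    exact hQQ'.trans (hall q ⟨hq⟩ Q' hQ' hRQ')
  obtain ⟨q, hqF, Q, hQS, hRQ, hQR⟩ := hex
  have hqq := hqF.out
  have hQsylD : SylIn q Q D := sylIn_of_isSylowOf hQS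
  have hQD : Q ≤ D := hQS.le
  have hQp : IsPGroup q Q := hQS.isPGroup
  have hQσ : Q ≤ sigmaCore M := hQD.trans hDσ
  have hQM : Q ≤ M := hQσ.trans (Cfsg.Agent.Lib.H20.BGS.sigmaCore_le M)
  have hQH : Q ≤ H := hQD.trans hDH
  have hQ1 : Q ≠ ⊥ := by
    rintro rfl
    exact hQR bot_le
  have hqM : q ∈ sigma M := hσ.2.1 q hqq (dvd_card_of_ne_bot hQp hQσ hQ1)
  have hPQ : P ≤ Subgroup.centralizer (Q : Set G) :=
    le_centralizer_comm (hQD.trans inf_le_right)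
  -- `Q̂` is a Sylow `q`-subgroup of `M ∩ H`
  have hQsyl : SylIn q Q (M ⊓ H) := by
    obtain ⟨S', hS', hQS'⟩ := SylIn.exists_ge hQp (le_inf hQM hQH)
    have hS'σ : S' ≤ sigmaCore M :=
      Cfsg.Agent.Lib.H20.BGT.le_sigmaCore_of_isPiCard hG hM (hS'.le.trans inf_le_left)
        (isPiCard_of_isPGroup hqq hqM hS'.isPGroup)
    have h1 := centralizes_of_normalizer_le hG h13 hM hpσM hT hTc hPp hP1 hPM hH hNH hPp hPM hPH
    have hS'D : S' ≤ D := le_inf hS'σ ((le_inf hS'σ (hS'.le.trans inf_le_right)).trans h1)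
    have := hQsylD.eq_of_le hQS' hS'D hS'.isPGroup
    rw [this]; exact hS'
  -- `Q₂ = [Q̂, R]`
  have hactQ : CoprimeAction R Q := hactD.mono hQD hRQ
  set Q₂ : Subgroup G := ⁅Q, R⁆ with hQ₂def
  have hQ₂1 : Q₂ ≠ ⊥ := fun e => hQR (le_centralizer_of_commutator_eq_bot e)
  have hQ₂Q : Q₂ ≤ Q := hactQ.commutator_le
  have hQ₂p : IsPGroup q Q₂ := hQp.to_le hQ₂Q
  have hQ₂H : Q₂ ≤ H := hQ₂Q.trans hQH
  have hQ₂M : Q₂ ≤ M := hQ₂Q.trans hQM
  -- `Q̂` is abelian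
  have hQc : IsMulCommutative ↥Q := by
    by_contra hna
    have h1 := Cfsg.Agent.S1422.result hG q Q hQp hna
    rw [inUniqueMaximal_iff] at h1
    obtain ⟨L, -, -, huniq⟩ := h1
    exact hMH ((huniq H hH hQH).trans (huniq M hM hQM).symm)
  have hQcomm : ∀ a ∈ Q, ∀ b ∈ Q, a * b = b * a := by
    intro a ha b hb
    have := hQc.is_comm.comm ⟨a, ha⟩ ⟨b, hb⟩
    exact congrArg Subtype.val this
  have hQ₂c : IsMulCommutative ↥Q₂ :=
    ⟨⟨fun a b => Subtype.ext (hQcomm a (hQ₂Q a.2) b (hQ₂Q b.2))⟩⟩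
  -- `r ∈ τ₁(H)`
  have hrH : r ∈ tau1 H := by
    by_contra hrH
    have hr3 : r ∈ sigma H ∨ r ∈ tau2 H ∨ r ∈ tau3 H := by
      rcases prime_type hG hH hR (dvd_card_of_ne_bot hRp hRH hR1) with h4 | h4 | h4 | h4
      · exact Or.inl h4
      · exact absurd h4 hrH
      · exact Or.inr (Or.inl h4)
      · exact Or.inr (Or.inr h4)
    have := centralizes_of_not_tau1 hG h13 hM hH hnc hrσ hr3 hRp hRM hRH
    exact hQR ((le_inf hQσ hQH).trans this)
  have hrp : r ≠ p := fun e => hrH.2.1 (e ▸ hpσH)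
  have hNR : ¬ Subgroup.normalizer (R : Set G) ≤ H :=
    not_normalizer_le_of_cyclic hG hH hrH.2.1 hrH.2.2.2.2 hRp hR1 hRH
  have hqαH : q ∉ alpha H :=
    Cfsg.Agent.Lib.H20.BGT.not_mem_alpha_of_mem_sigma hG hM hH hnc hqM
  have hqβH : q ∉ beta H := fun hb => hqαH hb.1
  have hrβH : r ∉ beta H := fun hb => hrH.2.1 (alpha_subset_sigma hG hU hH hb.1)
  have hpq : p ≠ q := fun e => hpσM (e ▸ hqM)
  -- the `Q₂R`-invariant Sylow `p`-subgroup `S` of `H_β` containing `P`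
  set K : Subgroup G := piCoreOf (beta H) H with hKdef
  obtain ⟨hKhall, -, -, -, -⟩ := Cfsg.Agent.S1414.result hG H hH
  have hKH : K ≤ H := hKhall.1
  have hRQ₂ : R ≤ Subgroup.normalizer (Q₂ : Set G) :=
    (Subgroup.le_normalizer_iff_commutator_le_left).mpr
      (by rw [hQ₂def, Cfsg.Agent.Lib.H1.coprime_commutator_commutator hactQ])
  have hA0H : R ⊔ Q₂ ≤ H := sup_le hRH hQ₂H
  have hA0card : IsPiCard ((beta H)ᶜ : Set ℕ) (Nat.card (R ⊔ Q₂ : Subgroup G)) := by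
    intro t ht htd
    have h1 := htd.trans (Cfsg.Agent.Lib.H19.card_sup_dvd_mul_of_le_normalizer hRQ₂)
    rcases (Nat.Prime.dvd_mul ht).1 h1 with h2 | h2
    · rw [(Nat.prime_dvd_prime_iff_eq ht hR).1 h2]
      exact hrβH
    · obtain ⟨k, hk⟩ := IsPGroup.iff_card.1 hQ₂p
      rw [hk] at h2
      rw [(Nat.prime_dvd_prime_iff_eq ht hqq).1 (ht.dvd_of_dvd_pow h2)]
      exact hqβH
  have hact : CoprimeAction (R ⊔ Q₂) K := by
    refine ⟨hA0H.trans (le_normalizer_piCoreOf _ _), ?_, Or.inr ?_⟩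
    · have hKc : IsPiCard ((beta H)ᶜᶜ : Set ℕ) (Nat.card K) := by
        rw [compl_compl]; exact hKhall.2.1
      exact Cfsg.Agent.Lib.H19.coprime_of_isPiCard hA0card hKc
    · exact solvable_of_le_ne_top hG hH.1 hKH
  have hPK : P ≤ K := by
    apply le_piCoreOf_of_hall hKhall hPH
    intro s hs hsd
    rw [hP] at hsd
    rw [(Nat.prime_dvd_prime_iff_eq hs hpp).1 hsd]
    exact hpβH
  have hPQ₂ : P ≤ Subgroup.centralizer (Q₂ : Set G) :=
    hPQ.trans (Subgroup.centralizer_le (by exact_mod_cast hQ₂Q))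
  have hPR : P ≤ Subgroup.centralizer (R : Set G) := le_centralizer_comm hRCP
  have hA0P : R ⊔ Q₂ ≤ Subgroup.normalizer (P : Set G) :=
    (sup_le hRCP (le_centralizer_comm hPQ₂)).trans (Subgroup.centralizer_le_normalizer _)
  obtain ⟨S, hS, hPS, hA0S⟩ :=
    Cfsg.Agent.Lib.H1.coprime_invariant_psubgroup_le_sylow hact hPK hPp hA0P
  have hSK : SylIn p S K := sylIn_of_isSylowOf hS
  have hSH' : SylIn p S H := Cfsg.Agent.Lib.H20.BGV.sylIn_of_hall hKhall hpβH hSK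
  have hSp : IsPGroup p S := hSK.isPGroup
  have hSH : S ≤ H := hSH'.le
  -- Step A
  have hQ₂S : Q₂ ≤ Subgroup.centralizer (S : Set G) := by
    refine le_centralizer_of_frob hG hX hH hpσH hSp hSH hPS hP hR hrp hNR
      (Subgroup.commutator_mono hQH hRH) hQ₂c ?_ ?_ (le_sup_right.trans hA0S)
      (le_sup_left.trans hA0S) hRQ₂ (commutator_inf_centralizer_eq_bot hactQ hQc) hPR hPQ₂
    · intro t ht htd
      obtain ⟨k, hk⟩ := IsPGroup.iff_card.1 hQ₂p
      rw [hk] at htd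
      rw [(Nat.prime_dvd_prime_iff_eq ht hqq).1 (ht.dvd_of_dvd_pow htd)]
      exact hqβH
    · obtain ⟨k, hk⟩ := IsPGroup.iff_card.1 hQ₂p
      rw [hk]
      exact Nat.Coprime.pow_left k ((Nat.coprime_primes hqq hpp).2 (Ne.symm hpq))
  -- S1406: `N_G(Q₂) ≤ H`
  have hNQ₂H : Subgroup.normalizer (Q₂ : Set G) ≤ H := by
    have hSα : S ≤ alphaCore H := by
      have h1 := (alpha_core_hall hG hU hH).1
      have h2 : alphaCore H = piCoreOf (alpha H) H := rfl
      rw [h2] at h1 ⊢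
      apply le_piCoreOf_of_hall h1 hSH
      intro t ht htd
      obtain ⟨k, hk⟩ := IsPGroup.iff_card.1 hSp
      rw [hk] at htd
      rw [(Nat.prime_dvd_prime_iff_eq ht hpp).1 (ht.dvd_of_dvd_pow htd)]
      exact hpαH
    have hrk : ¬ RankLE 1 ↥(alphaCore H ⊓ Subgroup.centralizer (Q₂ : Set G) : Subgroup G) := by
      intro h1
      have h2 : PRankLE p 1 ↥S :=
        pRankLE_of_le (le_inf hSα (le_centralizer_comm hQ₂S)) (h1 p hpp)
      have h3 : PRankLE p 2 ↥S := fun A hA hAe =>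
        (h2 A hA hAe).trans (Nat.pow_le_pow_right hpp.pos (by norm_num))
      exact hpαH.2 (pRankLE_of_sylIn hSH' h3)
    have h1 := Cfsg.Agent.S1406.result hG H hH Q₂ hQ₂H (by
      intro t ht htd
      obtain ⟨k, hk⟩ := IsPGroup.iff_card.1 hQ₂p
      rw [hk] at htd
      rw [(Nat.prime_dvd_prime_iff_eq ht hqq).1 (ht.dvd_of_dvd_pow htd)]
      exact hqαH) hrk
    rw [inUniqueMaximal_iff] at h1
    obtain ⟨L, hL, hLle, huniq⟩ := h1
    obtain ⟨L', hL', hNL'⟩ :=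
      exists_coatom_ge (normalizer_ne_top_of_isPGroup hG hQ₂p hQ₂1)
    have e1 : L' = L := huniq L' hL'
      (inf_le_right.trans ((Subgroup.centralizer_le_normalizer _).trans hNL'))
    have e2 : H = L := huniq H hH inf_le_left
    rw [e2, ← e1]
    exact hNL'
  -- S1424: `Q̂` is Sylow in `H` and `N_G(Q̂) ≤ M`
  obtain ⟨-, hNQM, hQsylH⟩ := Cfsg.Agent.Lib.H20.BGT.sigma_subgroup_embedding hG h16 hM hqM hQ₂p
    hQ₂1 hQ₂M hH hMH hNQ₂H hQsyl hQ₂Q
  -- the type of `q` in `H`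
  rcases prime_type hG hH hqq (dvd_card_of_ne_bot hQp hQH hQ1) with h | h | h | h
  · -- `q ∈ σ(H)`: the endgame
    obtain ⟨hNQH, hQtop⟩ := Cfsg.Agent.Lib.H20.BGT.normalizer_le_of_sylIn_sigma h hQsylH
    exact false_of_sylow_normalizer_le hG hX hM hH hnc hp hpβH hP hqM h hQtop hQ1 hNQM hNQH hPQ
  · -- `q ∈ τ₁(H)`: impossible since `Q₂ ≤ H'`
    exact h.2.2.2.1 (dvd_card_of_ne_bot hQ₂p (Subgroup.commutator_mono hQH hRH) hQ₂1)
  · -- `q ∈ τ₂(H)`
    have h1 : ¬ PRankLE q 1 ↥Q := fun h2 => h.2.2.2 (pRankLE_of_sylIn hQsylH h2)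
    obtain ⟨A, hAQ, hAe, hAc⟩ := Cfsg.Agent.Lib.H8.BG12.exists_elemAb_sq hqq h1
    have h2 := (h13.hypTau2 H hH q h A (hAQ.trans hQH) hAe hAc).2 M hM hMH.symm
      (hAQ.trans hQM)
    have hPσH : P ≤ sigmaCore H :=
      Cfsg.Agent.Lib.H20.BGT.le_sigmaCore_of_isPiCard hG hH hPH
        (isPiCard_of_isPGroup hpp hpσH hPp)
    apply hP1
    rw [eq_bot_iff, ← h2]
    exact le_inf hPσH hPM
  · -- `q ∈ τ₃(H)`
    exact not_normalizer_le_of_cyclic hG hH h.2.1 h.2.2.2 hQ₂p hQ₂1 hQ₂H hNQ₂H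

/-- compatibility version (the hypothesis `HypA2` is not needed). -/
theorem prime_action_of_ideal (hG : IsMinSimpleOddOrder G) (hX : HypX G) (hA2 : HypA2 G)
    (M : Subgroup G) (hM : IsCoatom M) (E : Subgroup G) (hE : IsComplIn E (sigmaCore M) M)
    (p : ℕ) (hp : p ∈ tau1 M) (hid : IsIdealPrime p G) (P : Subgroup G) (hPE : P ≤ E)
    (hP : Nat.card P = p) (R : Subgroup G)
    (hRE : R ≤ E ⊓ Subgroup.centralizer (P : Set G)) (hR : (Nat.card R).Prime) :
    sigmaCore M ⊓ Subgroup.centralizer (P : Set G) ≤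
      sigmaCore M ⊓ Subgroup.centralizer (R : Set G) :=
  prime_action_of_ideal_core hG hX M hM E hE p hp hid P hPE hP R hRE hR

end Cfsg.Agent.Lib.H19.BG13
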