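import Mathlib
import Cfsg.Agent.Lib.H19.BG13j
import Cfsg.Agent.Lib.H10.FrobCyc3

/-! # BG §13, part k (helper19): Lemma X' discharged (helper10), BG 13.3(c) for ideal primes
modulo BG 13.1(b) only -/

set_option autoImplicit false
set_option linter.unusedSectionVars false
set_option linter.unusedVariables false

open Cfsg

namespace Cfsg.Agent.Lib.H19.BG13

universe u
variable {G : Type u} [Group G] [Finite G]

/-- Lemma X' holds (helper10's `le_centralizer_of_frobenius_of_cyclic_fixed`). -/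
theorem hypX : HypX G := by
  intro p _ hp2 S Q R P hS hQS hRS hRQ hQc hQp hRr hRp hfpf hPS hPc hPR hPQ hcyc
  exact Cfsg.Agent.Lib.H10.FrobCyc.le_centralizer_of_frobenius_of_cyclic_fixed hp2 hS hQS hRS hRQ
    hQc hQp hRr hRp hfpf hPS hPc hPR hPQ hcyc

/-- **BG 13.3(c) for an ideal prime `p`**, modulo BG 13.1(b) only. -/
theorem prime_action_of_ideal' (hG : IsMinSimpleOddOrder G) (hA2 : HypA2 G)
    (M : Subgroup G) (hM : IsCoatom M) (E : Subgroup G) (hE : IsComplIn E (sigmaCore M) M)
    (p : ℕ) (hp : p ∈ tau1 M) (hid : IsIdealPrime p G) (P : Subgroup G) (hPE : P ≤ E)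
    (hP : Nat.card P = p) (R : Subgroup G)
    (hRE : R ≤ E ⊓ Subgroup.centralizer (P : Set G)) (hR : (Nat.card R).Prime) :
    sigmaCore M ⊓ Subgroup.centralizer (P : Set G) ≤
      sigmaCore M ⊓ Subgroup.centralizer (R : Set G) :=
  prime_action_of_ideal hG hypX hA2 M hM E hE p hp hid P hPE hP R hRE hR

/-- **BG 13.3(c) for an ideal prime `p`**, unconditional. -/
theorem prime_action_of_ideal_uncond (hG : IsMinSimpleOddOrder G)
    (M : Subgroup G) (hM : IsCoatom M) (E : Subgroup G) (hE : IsComplIn E (sigmaCore M) M)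
    (p : ℕ) (hp : p ∈ tau1 M) (hid : IsIdealPrime p G) (P : Subgroup G) (hPE : P ≤ E)
    (hP : Nat.card P = p) (R : Subgroup G)
    (hRE : R ≤ E ⊓ Subgroup.centralizer (P : Set G)) (hR : (Nat.card R).Prime) :
    sigmaCore M ⊓ Subgroup.centralizer (P : Set G) ≤
      sigmaCore M ⊓ Subgroup.centralizer (R : Set G) :=
  prime_action_of_ideal_core hG hypX M hM E hE p hp hid P hPE hP R hRE hR

end Cfsg.Agent.Lib.H19.BG13
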