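import Mathlib
import Cfsg.Agent.Lib.H1.M11U.Defs
import Cfsg.Agent.Lib.H1.M11U.LP
import Cfsg.Agent.Lib.H15.M11MU
import Cfsg.Agent.Lib.H19.M11CLOSElp

/-!
S0420 piece CLOSE (helper19): `exists_clique` with ONLY `Q_trans` (QREG) left as a hypothesis
(LP core = helper1, MU = helper15, API = helper1, SUB = helper9 plugged in).
-/

set_option autoImplicit false
open scoped Pointwise

universe u

namespace Cfsg.Agent.Lib.H19.M11U

open Cfsg.Agent.Lib.H1.M11U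

variable {G : Type u} [Group G] [Finite G]

/-- `exists_clique` from `Q_trans` (stated for all adjacent pairs). -/
theorem exists_clique_of_Q_trans (h : Hyp G)
    (hQt : ∀ {P P' : Sylow 3 G}, Adj P P' → ∀ {u u' : G}, u ∈ (P : Subgroup G) → u ≠ 1 →
      u' ∈ (P : Subgroup G) → u' ≠ 1 → ∃ q ∈ Nrm P ⊓ Nrm P', q * u * q⁻¹ = u') :
    ∃ C : Set (Sylow 3 G), C.ncard = 10 ∧ (∀ x ∈ C, ∀ y ∈ C, x ≠ y → Adj x y) ∧
      ∀ x ∈ C, ∀ u ∈ (x : Subgroup G), ∀ y ∈ C, u • y ∈ C :=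
  exists_clique_of_local_prop h (fun {P P'} hadj =>
    local_prop_core h hadj (fun {u u'} hu hu1 hu' hu'1 => hQt hadj hu hu1 hu' hu'1)
      (Cfsg.Agent.Lib.H15.M11U.mu_const h))

end Cfsg.Agent.Lib.H19.M11U
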