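import Mathlib
import Cfsg.Agent.Lib.H1.M11U.Defs
import Cfsg.Agent.Lib.H20.M11QREG
import Cfsg.Agent.Lib.H19.M11CLOSEqt

/-!
S0420 piece CLOSE = `exists_clique` in the EXACT signature of `tools/blueprints/S0420_sigs.lean`
(helper19; on QREG = helper20, LP core = helper1, MU = helper15, API = helper1, SUB = helper9).
-/

set_option autoImplicit false
open scoped Pointwise

universe u

namespace Cfsg.Agent.Lib.H19.M11U

open Cfsg.Agent.Lib.H1.M11U

variable {G : Type u} [Group G] [Finite G]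

theorem exists_clique (h : Hyp G) :
    ∃ C : Set (Sylow 3 G), C.ncard = 10 ∧ (∀ x ∈ C, ∀ y ∈ C, x ≠ y → Adj x y) ∧
      ∀ x ∈ C, ∀ u ∈ (x : Subgroup G), ∀ y ∈ C, u • y ∈ C :=
  exists_clique_of_Q_trans h (fun {_ _} hadj {_ _} hu hu1 hu' hu'1 =>
    Cfsg.Agent.Lib.H20.M11U.Q_trans h hadj hu hu1 hu' hu'1)

end Cfsg.Agent.Lib.H19.M11U
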