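import Mathlib
import Cfsg.Prelude.Def_OddOrderLocal
import Cfsg.Agent.Lib.H19.MetaBasic
import Cfsg.Agent.Lib.H15.CL

/-!
helper19: subgroups of finite metacyclic `p`-groups, `p` odd: every non-abelian subgroup `L`
satisfies `|L : L'| = |G : G'|`; abelian subgroups have order at most `|G : G'|`.
-/

set_option autoImplicit false

namespace Cfsg.Agent.Lib.H19.MC

open Cfsg.Agent.Lib.H15
open scoped commutatorElement

universe u

/-- subgroups of metacyclic groups are metacyclic -/
theorem isMetacyclic_subgroup {G : Type u} [Group G] (h : Cfsg.IsMetacyclic G) (L : Subgroup G) :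
    Cfsg.IsMetacyclic ↥L := by
  obtain ⟨N, hNn, hNc, hQ⟩ := h
  refine ⟨N.subgroupOf L, inferInstance, ?_, ?_⟩
  · -- cyclic
    let f : ↥(N.subgroupOf L) →* ↥N :=
      { toFun := fun x => ⟨((x : ↥L) : G), x.2⟩
        map_one' := rfl
        map_mul' := fun _ _ => rfl }
    have hf : Function.Injective f := by
      intro x y hxy
      apply Subtype.ext
      apply Subtype.ext
      exact congrArg (fun z : ↥N => (z : G)) hxy
    exact isCyclic_of_injective f hf
  · -- cyclic quotient
    let g : ↥L →* G ⧸ N := (QuotientGroup.mk' N).comp L.subtype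
    have hker : g.ker = N.subgroupOf L := by
      ext x
      rw [MonoidHom.mem_ker, Subgroup.mem_subgroupOf]
      show (QuotientGroup.mk' N) (x : G) = 1 ↔ _
      rw [QuotientGroup.mk'_apply, QuotientGroup.eq_one_iff]
    have hcyc : IsCyclic g.range := inferInstance
    have e1 : ↥L ⧸ g.ker ≃* g.range := QuotientGroup.quotientKerEquivRange g
    have e2 : ↥L ⧸ g.ker ≃* ↥L ⧸ N.subgroupOf L := QuotientGroup.quotientMulEquivOfEq hker
    exact isCyclic_of_surjective (e2.symm.trans e1).symm (e2.symm.trans e1).symm.surjective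

/-- isomorphic groups have derived subgroups of the same order -/
theorem card_commutator_congr {H K : Type*} [Group H] [Group K] (e : H ≃* K) :
    Nat.card (commutator H) = Nat.card (commutator K) := by
  have h1 : (commutator H).map e.toMonoidHom = commutator K := by
    rw [commutator_def, commutator_def, Subgroup.map_commutator]
    have : (⊤ : Subgroup H).map e.toMonoidHom = ⊤ := by
      rw [← MonoidHom.range_eq_map]
      exact MonoidHom.range_eq_top.mpr e.surjective
    rw [this]
  rw [← h1]
  exact (Subgroup.card_map_of_injective e.injective).symm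

/-- the derived subgroup of a subgroup, viewed inside the ambient group -/
theorem card_commutator_subgroup {G : Type*} [Group G] (L : Subgroup G) :
    Nat.card (commutator ↥L) = Nat.card ↥⁅L, L⁆ := by
  rw [← Subgroup.map_subtype_commutator]
  exact (Subgroup.card_map_of_injective L.subtype_injective).symm

theorem isMulCommutative_congr {H K : Type*} [Group H] [Group K] (e : H ≃* K)
    (h : IsMulCommutative H) : IsMulCommutative K := by
  refine ⟨⟨fun x y => ?_⟩⟩
  have := h.is_comm.comm (e.symm x) (e.symm y)
  have h2 := congrArg e this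
  simpa using h2

section

variable {G : Type u} [Group G] [Finite G] {p : ℕ} [Fact p.Prime]

/-- a group with coordinates `a^j b^i` in which `a` and `b` commute is commutative -/
theorem comm_of_coords_comm {a b : G} (hgen : ∀ g : G, ∃ j i : ℕ, g = a ^ j * b ^ i)
    (hab : a * b = b * a) : IsMulCommutative G := by
  refine ⟨⟨fun g h => ?_⟩⟩
  obtain ⟨j, i, rfl⟩ := hgen g
  obtain ⟨l, k, rfl⟩ := hgen h
  have hc : Commute a b := hab
  have h1 : Commute (a ^ j * b ^ i) (a ^ l * b ^ k) := by
    apply Commute.mul_left
    · exact Commute.mul_right (Commute.pow_pow (Commute.refl a) j l) (hc.pow_pow j k)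
    · exact Commute.mul_right (hc.symm.pow_pow i l) (Commute.pow_pow (Commute.refl b) i k)
  exact h1.eq

/-- in a non-abelian metacyclic `p`-group the centre lies in every subgroup of index `p` -/
theorem center_le_of_index_eq (hG : IsPGroup p G) (N : Subgroup G) [N.Normal] (hNc : IsCyclic N)
    (hQ : IsCyclic (G ⧸ N)) (hna : ¬ IsMulCommutative G) (M : Subgroup G) [M.Normal]
    (hM : M.index = p) : Subgroup.center G ≤ M := by
  have hp := (Fact.out : p.Prime)
  obtain ⟨a, b, haN, hN, hgen⟩ := exists_coords N hNc hQ
  intro z hz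
  obtain ⟨j, i, rfl⟩ := hgen z
  have hcop : ∀ (x : G) (k : ℕ), ¬ p ∣ k → ∃ s : ℕ, (x ^ k) ^ s = x := by
    intro x k hk
    apply exists_pow_eq_self_of_coprime
    obtain ⟨e, he⟩ := hG x
    have h1 : orderOf x ∣ p ^ e := orderOf_dvd_of_pow_eq_one he
    exact Nat.Coprime.coprime_dvd_right h1
      (Nat.Coprime.pow_right e ((Nat.Prime.coprime_iff_not_dvd hp).mpr hk).symm)
  have hzc := Subgroup.mem_center_iff.mp hz
  have hpi : p ∣ i := by
    by_contra hpi
    obtain ⟨s, hs⟩ := hcop b i hpi
    apply hna
    apply comm_of_coords_comm hgen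
    -- b^i commutes with a
    have h1 : Commute (b ^ i) a := by
      have e1 : b ^ i = (a ^ j)⁻¹ * (a ^ j * b ^ i) := by group
      rw [e1]
      apply Commute.mul_left
      · exact (Commute.pow_left (Commute.refl a) j).inv_left
      · exact (hzc a).symm
    have h2 : Commute b a := by
      rw [← hs]; exact h1.pow_left s
    exact h2.symm.eq
  have hpj : p ∣ j := by
    by_contra hpj
    obtain ⟨s, hs⟩ := hcop a j hpj
    apply hna
    apply comm_of_coords_comm hgen
    have h1 : Commute (a ^ j) b := by
      have e1 : a ^ j = (a ^ j * b ^ i) * (b ^ i)⁻¹ := by group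
      rw [e1]
      apply Commute.mul_left
      · exact (hzc b).symm
      · exact (Commute.pow_left (Commute.refl b) i).inv_left
    have h2 : Commute a b := by
      rw [← hs]; exact h1.pow_left s
    exact h2.eq
  obtain ⟨j', rfl⟩ := hpj
  obtain ⟨i', rfl⟩ := hpi
  have h1 : a ^ (p * j') ∈ M := by
    rw [mul_comm, pow_mul]
    have := Subgroup.pow_index_mem M (a ^ j')
    rwa [hM] at this
  have h2 : b ^ (p * i') ∈ M := by
    rw [mul_comm, pow_mul]
    have := Subgroup.pow_index_mem M (b ^ i')
    rwa [hM] at this
  exact mul_mem h1 h2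

/-- a subgroup of index `p` in a finite `p`-group is normal -/
theorem normal_of_index_eq (hG : IsPGroup p G) (M : Subgroup G) (hM : M.index = p) : M.Normal := by
  have hp := (Fact.out : p.Prime)
  apply Subgroup.normal_of_index_eq_minFac_card
  rw [hM]
  obtain ⟨k, hk⟩ := IsPGroup.iff_card.mp hG
  rw [hk]
  have hk0 : k ≠ 0 := by
    rintro rfl
    rw [pow_zero] at hk
    have h1 : M.index ∣ Nat.card G := Subgroup.index_dvd_card M
    rw [hk, hM] at h1
    exact hp.one_lt.ne' (Nat.dvd_one.mp h1)
  exact (hp.pow_minFac hk0).symm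

/-- (F2) a maximal subgroup `M` of a non-abelian metacyclic `p`-group, `p` odd, has `|M'| = |G'|/p` -/
theorem card_commutator_of_index_eq (hp2 : p ≠ 2) (hG : IsPGroup p G) (hmc : Cfsg.IsMetacyclic G)
    (hna : ¬ IsMulCommutative G) (M : Subgroup G) (hM : M.index = p) :
    p * Nat.card (commutator ↥M) = Nat.card (commutator G) := by
  have hp := (Fact.out : p.Prime)
  have hmcM := isMetacyclic_subgroup hmc M
  obtain ⟨N, hNn, hNc, hQ⟩ := hmc
  have hGN := commutator_le_of_isCyclic_quotient' N hQ
  have hMn : M.Normal := normal_of_index_eq hG M hM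
  have hZM : Subgroup.center G ≤ M := center_le_of_index_eq hG N hNc hQ hna M hM
  have hdual := card_mul_card_centralizer hp2 hG N hNc hGN hZM
  have hcardG : Nat.card M * p = Nat.card G := by rw [← hM]; exact Subgroup.card_mul_index M
  -- `C(M) ≤ M`
  have hCM : Subgroup.centralizer (M : Set G) ≤ M := by
    intro c hc
    by_contra hcM
    -- then `c` is central
    have htop : M ⊔ Subgroup.zpowers c = ⊤ := by
      have h2 := Subgroup.relIndex_mul_index (le_sup_left : M ≤ M ⊔ Subgroup.zpowers c)
      rw [hM] at h2
      have h3 : M.relIndex (M ⊔ Subgroup.zpowers c) ≠ 1 := by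
        intro h
        rw [Subgroup.relIndex_eq_one] at h
        exact hcM (h (Subgroup.mem_sup_right (Subgroup.mem_zpowers c)))
      have h4 : M.relIndex (M ⊔ Subgroup.zpowers c) ∣ p := Dvd.intro _ h2
      rcases (Nat.dvd_prime hp).mp h4 with h5 | h5
      · exact absurd h5 h3
      · rw [h5] at h2
        have h6 : (M ⊔ Subgroup.zpowers c).index = 1 := by
          have : p * (M ⊔ Subgroup.zpowers c).index = p * 1 := by rw [h2, mul_one]
          exact Nat.eq_of_mul_eq_mul_left hp.pos this
        exact Subgroup.index_eq_one.mp h6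
    have hcZ : c ∈ Subgroup.center G := by
      rw [Subgroup.mem_center_iff]
      intro g
      have hg : g ∈ M ⊔ Subgroup.zpowers c := htop ▸ Subgroup.mem_top g
      obtain ⟨m, hm, k, hk, rfl⟩ := Subgroup.mem_sup_of_normal_left.mp hg
      obtain ⟨t, rfl⟩ := Subgroup.mem_zpowers_iff.mp hk
      rw [Subgroup.mem_centralizer_iff] at hc
      have e1 : m * c = c * m := hc m hm
      have e2 : c ^ t * c = c * c ^ t := by
        rw [← zpow_add_one, ← zpow_one_add, add_comm]
      calc m * c ^ t * c = m * (c ^ t * c) := by group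
        _ = m * (c * c ^ t) := by rw [e2]
        _ = (m * c) * c ^ t := by group
        _ = c * m * c ^ t := by rw [e1]
        _ = c * (m * c ^ t) := by group
    exact hcM (hZM hcZ)
  -- `|Z(M)| = |C(M)| = p |Z(G)|`
  have hZMcard : Nat.card (Subgroup.center ↥M) = Nat.card (Subgroup.centralizer (M : Set G)) := by
    rw [card_center_eq, inf_eq_right.mpr hCM]
  have hIM : IsPGroup p ↥M := hG.to_subgroup M
  obtain ⟨NM, hNMn, hNMc, hQM⟩ := hmcM
  have h1 := index_center_eq NM hNMc hQM hp2 hIM
  have h2 := index_center_eq N hNc hQ hp2 hG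
  have h3 := Subgroup.card_mul_index (Subgroup.center ↥M)
  have h4 := Subgroup.card_mul_index (Subgroup.center G)
  rw [h1, hZMcard] at h3
  rw [h2] at h4
  set m := Nat.card ↥M
  set g := Nat.card G
  set z := Nat.card (Subgroup.center G)
  set cM := Nat.card (Subgroup.centralizer (M : Set G))
  set dM := Nat.card (commutator ↥M)
  set dG := Nat.card (commutator G)
  -- hdual : m * cM = g * z ; hcardG : m * p = g ; h3 : cM * dM^2 = m ; h4 : z * dG^2 = g
  have hm : 0 < m := Nat.card_pos
  have hz : 0 < z := Nat.card_pos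
  have hcM : cM = p * z := by
    have : m * cM = m * (p * z) := by rw [hdual, ← hcardG]; ring
    exact Nat.eq_of_mul_eq_mul_left hm this
  have h5 : (p * dM) ^ 2 = dG ^ 2 := by
    have : z * (p * dM) ^ 2 * p = z * dG ^ 2 * p := by
      rw [h4, ← hcardG, ← h3, hcM]; ring
    have h6 : z * (p * dM) ^ 2 = z * dG ^ 2 := Nat.eq_of_mul_eq_mul_right hp.pos this
    exact Nat.eq_of_mul_eq_mul_left hz h6
  exact Nat.pow_left_injective (by norm_num : 2 ≠ 0) h5

end

/-- (IND) every non-abelian subgroup `L` of a metacyclic `p`-group, `p` odd, has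
`|L : L'| = |G : G'|`, in the form `|L| |G'| = |G| |L'|`. -/
theorem card_mul_card_commutator {p : ℕ} [Fact p.Prime] (hp2 : p ≠ 2) :
    ∀ (n : ℕ) (G : Type u) [Group G] [Finite G], Nat.card G = n → IsPGroup p G →
      Cfsg.IsMetacyclic G → ∀ L : Subgroup G, ¬ IsMulCommutative ↥L →
        Nat.card L * Nat.card (commutator G) = Nat.card G * Nat.card (commutator ↥L) := by
  have hp := (Fact.out : p.Prime)
  intro n
  induction n using Nat.strong_induction_on with
  | _ n ih =>
    intro G _ _ hn hG hmc L hL
    by_cases htop : L = ⊤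
    · subst htop
      rw [Subgroup.card_top, card_commutator_congr (Subgroup.topEquiv : ↥(⊤ : Subgroup G) ≃* G), mul_comm]
    -- a subgroup of index p containing L
    obtain ⟨k, hk⟩ := IsPGroup.iff_card.mp hG
    obtain ⟨l, hl⟩ := IsPGroup.iff_card.mp (hG.to_subgroup L)
    have hlk : l < k := by
      have h1 : Nat.card L < Nat.card G := by
        by_contra hge
        push Not at hge
        apply htop
        have := Cfsg.Agent.Lib.H15.eq_of_le_of_card_le (le_top : L ≤ ⊤) (by rw [Subgroup.card_top]; exact hge)
        exact this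
      rw [hl, hk] at h1
      exact (Nat.pow_lt_pow_iff_right hp.one_lt).mp h1
    have hdvd : p ^ (k - 1) ∣ Nat.card G := by rw [hk]; exact pow_dvd_pow p (by omega)
    obtain ⟨M, hMcard, hLM⟩ := Sylow.exists_subgroup_card_pow_prime_le p hdvd L hl (by omega)
    have hMidx : M.index = p := by
      have h1 := Subgroup.card_mul_index M
      rw [hMcard, hk] at h1
      have h2 : p ^ k = p ^ (k - 1) * p := by
        rw [← pow_succ]; congr 1; omega
      rw [h2] at h1
      exact Nat.eq_of_mul_eq_mul_left (pow_pos hp.pos _) h1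
    -- `M` and `G` are non-abelian
    have hMna : ¬ IsMulCommutative ↥M := by
      intro hM
      apply hL
      refine ⟨⟨fun x y => ?_⟩⟩
      have := hM.is_comm.comm ⟨x, hLM x.2⟩ ⟨y, hLM y.2⟩
      apply Subtype.ext
      exact congrArg (fun z : ↥M => (z : G)) this
    have hGna : ¬ IsMulCommutative G := by
      intro hGc
      apply hMna
      refine ⟨⟨fun x y => ?_⟩⟩
      apply Subtype.ext
      exact hGc.is_comm.comm (x : G) (y : G)
    have hF2 := card_commutator_of_index_eq hp2 hG hmc hGna M hMidx
    -- induction hypothesis for `M`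
    have hMlt : Nat.card ↥M < n := by
      rw [← hn, hMcard, hk]
      exact Nat.pow_lt_pow_right hp.one_lt (by omega)
    have e : ↥(L.subgroupOf M) ≃* ↥L := Subgroup.subgroupOfEquivOfLe hLM
    have hLM' : ¬ IsMulCommutative ↥(L.subgroupOf M) := fun h => hL (isMulCommutative_congr e h)
    have hih := ih (Nat.card ↥M) hMlt ↥M rfl (hG.to_subgroup M) (isMetacyclic_subgroup hmc M)
      (L.subgroupOf M) hLM'
    rw [Nat.card_congr e.toEquiv, card_commutator_congr e] at hih
    have hcardG : Nat.card ↥M * p = Nat.card G := by rw [← hMidx]; exact Subgroup.card_mul_index M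
    rw [← hF2, ← hcardG]
    calc Nat.card ↥L * (p * Nat.card (commutator ↥M))
        = p * (Nat.card ↥L * Nat.card (commutator ↥M)) := by ring
      _ = p * (Nat.card ↥M * Nat.card (commutator ↥L)) := by rw [hih]
      _ = Nat.card ↥M * p * Nat.card (commutator ↥L) := by ring

section

variable {G : Type u} [Group G] [Finite G] {p : ℕ} [Fact p.Prime] (hp2 : p ≠ 2)
  (hG : IsPGroup p G) (hmc : Cfsg.IsMetacyclic G)

include hp2 hG hmc

/-- (D1) `|G| |Z(G)| = |G : G'|²` -/
theorem card_mul_card_center_eq :
    Nat.card G * Nat.card (Subgroup.center G) = (commutator G).index ^ 2 := by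
  obtain ⟨N, hNn, hNc, hQ⟩ := hmc
  have h1 := index_center_eq N hNc hQ hp2 hG
  have h2 := Subgroup.card_mul_index (Subgroup.center G)
  have h3 := Subgroup.card_mul_index (commutator G)
  rw [h1] at h2
  set g := Nat.card G
  set z := Nat.card (Subgroup.center G)
  set c := Nat.card (commutator G)
  set i := (commutator G).index
  have hc : 0 < c := Nat.card_pos
  have : c ^ 2 * (g * z) = c ^ 2 * i ^ 2 := by
    calc c ^ 2 * (g * z) = (z * c ^ 2) * g := by ring
      _ = g * g := by rw [h2]
      _ = (c * i) * (c * i) := by rw [h3]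
      _ = c ^ 2 * i ^ 2 := by ring
  exact Nat.eq_of_mul_eq_mul_left (pow_pos hc 2) this

/-- (D2) abelian subgroups have order at most `|G : G'|` -/
theorem card_le_of_comm (L : Subgroup G) (hL : IsMulCommutative ↥L) :
    Nat.card L ≤ (commutator G).index := by
  have hD1 := card_mul_card_center_eq hp2 hG hmc
  obtain ⟨N, hNn, hNc, hQ⟩ := hmc
  have hGN := commutator_le_of_isCyclic_quotient' N hQ
  set K := L ⊔ Subgroup.center G with hK
  have hZK : Subgroup.center G ≤ K := le_sup_right
  have hdual := card_mul_card_centralizer hp2 hG N hNc hGN hZK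
  -- K ≤ C(K)
  have hLC : L ≤ Subgroup.centralizer (L : Set G) := by
    intro x hx
    rw [Subgroup.mem_centralizer_iff]
    intro y hy
    exact congrArg Subtype.val (hL.is_comm.comm ⟨y, hy⟩ ⟨x, hx⟩)
  have hKC : K ≤ Subgroup.centralizer (K : Set G) := by
    rw [hK, centralizer_sup, centralizer_center_eq, inf_top_eq]
    exact sup_le hLC (Subgroup.center_le_centralizer _)
  have h1 : Nat.card K * Nat.card K ≤ (commutator G).index ^ 2 := by
    rw [← hD1, ← hdual]
    exact Nat.mul_le_mul_left _ (card_le_card_of_le hKC)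
  have h2 : Nat.card L ≤ Nat.card K := card_le_card_of_le le_sup_left
  have h3 : Nat.card K ≤ (commutator G).index := by
    rw [← sq] at h1
    exact (Nat.pow_le_pow_iff_left (by norm_num : 2 ≠ 0)).mp h1
  exact h2.trans h3

/-- (D3) a non-abelian subgroup has `|L| = |G : G'| |L'|` -/
theorem card_eq_of_not_comm (L : Subgroup G) (hL : ¬ IsMulCommutative ↥L) :
    Nat.card L = (commutator G).index * Nat.card (commutator ↥L) := by
  have h1 := card_mul_card_commutator hp2 (Nat.card G) G rfl hG hmc L hL
  have h3 := Subgroup.card_mul_index (commutator G)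
  rw [← h3] at h1
  have hc : 0 < Nat.card (commutator G) := Nat.card_pos
  have : Nat.card (commutator G) * Nat.card L =
      Nat.card (commutator G) * ((commutator G).index * Nat.card (commutator ↥L)) := by
    rw [mul_comm, h1]; ring
  exact Nat.eq_of_mul_eq_mul_left hc this

omit [Finite G] [Fact p.Prime] hp2 hG hmc in
theorem one_lt_card_commutator_of_not_comm [Finite G] (L : Subgroup G) (hL : ¬ IsMulCommutative ↥L) :
    1 < Nat.card (commutator ↥L) := by
  rw [Subgroup.one_lt_card_iff_ne_bot]
  intro h
  apply hL
  refine ⟨⟨fun x y => ?_⟩⟩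
  have : ⁅x, y⁆ ∈ commutator ↥L := by
    rw [commutator_def]
    exact Subgroup.commutator_mem_commutator (Subgroup.mem_top x) (Subgroup.mem_top y)
  rw [h, Subgroup.mem_bot, commutatorElement_eq_one_iff_mul_comm] at this
  exact this

/-- (D4) a subgroup is abelian iff its order is at most `|G : G'|` -/
theorem comm_iff_card_le (L : Subgroup G) :
    IsMulCommutative ↥L ↔ Nat.card ↥L ≤ (commutator G).index := by
  constructor
  · exact card_le_of_comm hp2 hG hmc L
  · intro h
    by_contra hL
    have h1 := card_eq_of_not_comm hp2 hG hmc L hL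
    have h2 := one_lt_card_commutator_of_not_comm L hL
    have hi : 0 < (commutator G).index := Nat.pos_of_ne_zero Subgroup.index_ne_zero_of_finite
    have : (commutator G).index * 2 ≤ (commutator G).index * Nat.card (commutator ↥L) :=
      Nat.mul_le_mul_left _ h2
    omega

/-- (D5) maximal abelian subgroups are those of order `|G : G'|` -/
theorem maximal_comm_iff_card_eq (L : Subgroup G) :
    Maximal (fun K : Subgroup G => IsMulCommutative ↥K) L ↔ Nat.card ↥L = (commutator G).index := by
  constructor
  · rintro ⟨hL, hmax⟩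
    have hD1 := card_mul_card_center_eq hp2 hG hmc
    obtain ⟨N, hNn, hNc, hQ⟩ := hmc
    have hGN := commutator_le_of_isCyclic_quotient' N hQ
    -- `C(L) = L`
    have hLC : L ≤ Subgroup.centralizer (L : Set G) := by
      intro x hx
      rw [Subgroup.mem_centralizer_iff]
      intro y hy
      exact congrArg Subtype.val (hL.is_comm.comm ⟨y, hy⟩ ⟨x, hx⟩)
    have hCL : Subgroup.centralizer (L : Set G) ≤ L := by
      intro c hc
      have hcomm : IsMulCommutative ↥(L ⊔ Subgroup.zpowers c) := by
        rw [← Subgroup.le_centralizer_iff_isMulCommutative, centralizer_sup]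
        apply sup_le
        · apply le_inf hLC
          rw [← Subgroup.le_centralizer_iff]
          rw [Subgroup.zpowers_le]
          exact hc
        · rw [Subgroup.zpowers_le]
          refine Subgroup.mem_inf.mpr ⟨hc, ?_⟩
          rw [Subgroup.mem_centralizer_iff]
          intro y hy
          obtain ⟨t, rfl⟩ := Subgroup.mem_zpowers_iff.mp hy
          rw [← zpow_add_one, ← zpow_one_add, add_comm]
      have := hmax hcomm le_sup_left
      exact this (Subgroup.mem_sup_right (Subgroup.mem_zpowers c))
    have hC : Subgroup.centralizer (L : Set G) = L := le_antisymm hCL hLC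
    have hZL : Subgroup.center G ≤ L := by
      rw [← hC]; exact Subgroup.center_le_centralizer _
    have hdual := card_mul_card_centralizer hp2 hG N hNc hGN hZL
    rw [hC, hD1, ← sq] at hdual
    exact Nat.pow_left_injective (by norm_num : 2 ≠ 0) hdual
  · intro h
    refine ⟨(comm_iff_card_le hp2 hG hmc L).mpr (le_of_eq h), ?_⟩
    intro K hK hLK
    have h1 := card_le_of_comm hp2 hG hmc K hK
    rw [← h] at h1
    exact le_of_eq (eq_of_le_of_card_le hLK h1).symm

end

end Cfsg.Agent.Lib.H19.MC
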