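import Mathlib
import Cfsg.Agent.Lib.H19.MetaSub

/-!
helper19: power structure of finite metacyclic `p`-groups, `p` odd: `p`-adic valuation of geometric
sums, coordinates `Coords` (`N = ⟨a⟩`, `G = ⟨a⟩⟨b⟩`, `b y b⁻¹ = y^r`), the power formula
`(a^j b^i)^e = a^(j (1 + ρ + … + ρ^(e-1))) b^(ie)` with `ρ = r^i`.
-/

set_option autoImplicit false

namespace Cfsg.Agent.Lib.H19.MC

theorem geomSum_one (e : ℕ) : geomSum 1 e = e := by
  unfold geomSum; simp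

theorem geomSum_mul_add (ρ e : ℕ) : geomSum (ρ + 1) e * ρ + 1 = (ρ + 1) ^ e := by
  unfold geomSum; exact geom_sum_mul_add ρ e

theorem geomSum_pos (ρ : ℕ) {e : ℕ} (he : e ≠ 0) : 0 < geomSum ρ e := by
  obtain ⟨k, rfl⟩ := Nat.exists_eq_succ_of_ne_zero he
  unfold geomSum
  rw [Finset.sum_range_succ']
  simp

theorem padicValNat_geomSum {p : ℕ} [Fact p.Prime] (hp2 : p ≠ 2) {ρ : ℕ} (hρ : ρ % p = 1)
    {e : ℕ} (he : e ≠ 0) : padicValNat p (geomSum ρ e) = padicValNat p e := by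
  have hp := (Fact.out : p.Prime)
  rcases Nat.lt_or_ge ρ 2 with h | h
  · have : ρ = 1 := by
      rcases Nat.eq_zero_or_pos ρ with h0 | h0
      · subst h0; simp at hρ
      · omega
    subst this
    rw [geomSum_one]
  · obtain ⟨σ, rfl⟩ : ∃ σ, ρ = σ + 1 := ⟨ρ - 1, by omega⟩
    have hσ : σ ≠ 0 := by omega
    have h1 := geomSum_mul_add σ e
    have hodd : Odd p := hp.odd_of_ne_two hp2
    have hdvd : p ∣ σ + 1 - 1 := by
      rw [Nat.add_sub_cancel]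
      have := Nat.div_add_mod (σ + 1) p
      rw [hρ] at this
      exact ⟨(σ + 1) / p, by omega⟩
    have hnd : ¬ p ∣ σ + 1 := by
      intro hd
      have := Nat.mod_eq_zero_of_dvd hd
      omega
    have h2 := padicValNat.pow_sub_pow hodd (by omega : 1 < σ + 1) hdvd hnd he
    rw [one_pow, ← h1, Nat.add_sub_cancel, Nat.add_sub_cancel,
      padicValNat.mul (geomSum_pos _ he).ne' hσ] at h2
    omega

/-- `1 + ρ + … + ρ^(p^k - 1) = p^k u` with `p ∤ u` -/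
theorem geomSum_prime_pow {p : ℕ} [Fact p.Prime] (hp2 : p ≠ 2) {ρ : ℕ} (hρ : ρ % p = 1) (k : ℕ) :
    ∃ u : ℕ, geomSum ρ (p ^ k) = p ^ k * u ∧ ¬ p ∣ u := by
  have hp := (Fact.out : p.Prime)
  have hpk : p ^ k ≠ 0 := (pow_pos hp.pos k).ne'
  have h1 := padicValNat_geomSum hp2 hρ hpk
  rw [padicValNat.prime_pow] at h1
  have hS : geomSum ρ (p ^ k) ≠ 0 := (geomSum_pos ρ hpk).ne'
  have h2 : p ^ k ∣ geomSum ρ (p ^ k) := (padicValNat_dvd_iff_le hS).mpr (le_of_eq h1.symm)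
  obtain ⟨u, hu⟩ := h2
  refine ⟨u, hu, ?_⟩
  intro hd
  obtain ⟨w, rfl⟩ := hd
  have h3 : p ^ (k + 1) ∣ geomSum ρ (p ^ k) := ⟨w, by rw [hu, pow_succ]; ring⟩
  have := (padicValNat_dvd_iff_le hS).mp h3
  omega

theorem pow_mod_prime_eq_one {p ρ : ℕ} (hp : 1 < p) (hρ : ρ % p = 1) (i : ℕ) : ρ ^ i % p = 1 := by
  rw [Nat.pow_mod, hρ, one_pow, Nat.mod_eq_of_lt hp]

variable {G : Type*} [Group G]

/-- coordinates of a metacyclic `p`-group: `N = ⟨a⟩`, `G = ⟨a⟩⟨b⟩`, `b y b⁻¹ = y^r` on `N`,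
`r ≡ 1 (mod p)` -/
structure Coords (p : ℕ) (N : Subgroup G) (a b : G) (r : ℕ) : Prop where
  haN : a ∈ N
  hN : ∀ y ∈ N, ∃ t : ℕ, y = a ^ t
  hgen : ∀ g : G, ∃ j i : ℕ, g = a ^ j * b ^ i
  hr : r % p = 1
  hconj : ∀ y ∈ N, b * y * b⁻¹ = y ^ r

theorem exists_coordsR [Finite G] {p : ℕ} [Fact p.Prime] (hG : IsPGroup p G)
    (N : Subgroup G) [N.Normal] (hNc : IsCyclic N) (hQ : IsCyclic (G ⧸ N)) :
    ∃ (a b : G) (r : ℕ), Coords p N a b r := by
  obtain ⟨a, b, haN, hN, hgen⟩ := exists_coords N hNc hQ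
  obtain ⟨r, hr, hconj⟩ := exists_pow_conj hG N hNc b
  exact ⟨a, b, r, haN, hN, hgen, hr, hconj⟩

namespace Coords

variable {p : ℕ} {N : Subgroup G} {a b : G} {r : ℕ} (c : Coords p N a b r)

include c

theorem pow_mem (j : ℕ) : a ^ j ∈ N := _root_.pow_mem c.haN j

theorem conj_pow (i : ℕ) : ∀ y ∈ N, b ^ i * y * (b ^ i)⁻¹ = y ^ r ^ i := by
  induction i with
  | zero => intro y _; simp
  | succ i ih =>
    intro y hy
    have h1 : b ^ (i + 1) * y * (b ^ (i + 1))⁻¹ = b * (b ^ i * y * (b ^ i)⁻¹) * b⁻¹ := by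
      rw [pow_succ']; group
    rw [h1, ih y hy, c.hconj _ (_root_.pow_mem hy _), ← pow_mul, ← pow_succ]

/-- `b^i a^l = a^(l r^i) b^i` -/
theorem swap (i l : ℕ) : b ^ i * a ^ l = a ^ (l * r ^ i) * b ^ i := by
  have h := c.conj_pow i (a ^ l) (c.pow_mem l)
  rw [← pow_mul] at h
  rw [← h]; group

/-- the power formula -/
theorem pow_formula (j i e : ℕ) :
    (a ^ j * b ^ i) ^ e = a ^ (j * geomSum (r ^ i) e) * b ^ (i * e) := by
  have h := mul_pow_of_conj (x := b ^ i) (z := a ^ j) (ρ := r ^ i)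
    (fun t => c.conj_pow i ((a ^ j) ^ t) (_root_.pow_mem (c.pow_mem j) t)) e
  rw [h, ← pow_mul, ← pow_mul]

theorem mul_formula (j i l k : ℕ) :
    (a ^ j * b ^ i) * (a ^ l * b ^ k) = a ^ (j + l * r ^ i) * b ^ (i + k) := by
  calc (a ^ j * b ^ i) * (a ^ l * b ^ k) = a ^ j * (b ^ i * a ^ l) * b ^ k := by group
    _ = a ^ j * (a ^ (l * r ^ i) * b ^ i) * b ^ k := by rw [c.swap]
    _ = (a ^ j * a ^ (l * r ^ i)) * (b ^ i * b ^ k) := by group
    _ = a ^ (j + l * r ^ i) * b ^ (i + k) := by rw [← pow_add, ← pow_add]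

/-- an element commuting with `a` and `b` is central -/
theorem mem_center_of_comm {z : G} (ha : z * a = a * z) (hb : z * b = b * z) :
    z ∈ Subgroup.center G := by
  rw [Subgroup.mem_center_iff]
  intro g
  obtain ⟨j, i, rfl⟩ := c.hgen g
  have h1 : Commute z a := ha
  have h2 : Commute z b := hb
  exact ((h1.pow_right j).mul_right (h2.pow_right i)).eq.symm

theorem comm_N {x y : G} (hx : x ∈ N) (hy : y ∈ N) : x * y = y * x := by
  obtain ⟨s, rfl⟩ := c.hN x hx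
  obtain ⟨t, rfl⟩ := c.hN y hy
  rw [← pow_add, ← pow_add, add_comm]

end Coords

/-- if `x` generates `G` modulo the normal subgroup `H` then `x^e ∈ H ↔ |G : H| ∣ e` -/
theorem pow_mem_iff_index_dvd {H : Subgroup G} [H.Normal] {x : G}
    (hx : H ⊔ Subgroup.zpowers x = ⊤) (e : ℕ) : x ^ e ∈ H ↔ H.index ∣ e := by
  have hgen : ∀ q : G ⧸ H, q ∈ Subgroup.zpowers (x : G ⧸ H) := by
    intro q
    obtain ⟨g, rfl⟩ := QuotientGroup.mk_surjective q
    have hg : g ∈ H ⊔ Subgroup.zpowers x := by rw [hx]; trivial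
    obtain ⟨h, hh, y, hy, rfl⟩ := Subgroup.mem_sup_of_normal_left.mp hg
    obtain ⟨k, rfl⟩ := Subgroup.mem_zpowers_iff.mp hy
    rw [Subgroup.mem_zpowers_iff]
    refine ⟨k, ?_⟩
    rw [QuotientGroup.mk_mul, (QuotientGroup.eq_one_iff h).mpr hh, one_mul, QuotientGroup.mk_zpow]
  have h1 := orderOf_eq_card_of_forall_mem_zpowers hgen
  rw [← QuotientGroup.eq_one_iff, QuotientGroup.mk_pow, ← orderOf_dvd_iff_pow_eq_one, h1]
  rfl

end Cfsg.Agent.Lib.H19.MC
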