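import Cfsg.Agent.S3765

/-!
# S3814, tool [HH]: the coprime Hall–Higman / Shult lemma (landed S3765) in "bad element" form

`x` of prime order `r`, fixed-point-free on the elementary abelian `p`-group `V ≠ 1` ("bad"), normalising a
`q`-group `Q` (`p, q, r` distinct), `⟨x⟩Q` faithful on `V`, and (`q = 2`, `r` Fermat ⇒ `Q` abelian).
Then `x` centralises `Q`.
-/

set_option autoImplicit false

namespace Cfsg.Agent.Lib.H19.S3814HH

/-- [HH], general form -/
theorem hh {G : Type*} [Group G] [Finite G] {p q r : ℕ} (hp : p.Prime) (hq : q.Prime) (hr : r.Prime)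
    (hpq : p ≠ q) (hpr : p ≠ r) (hqr : q ≠ r) (x : G) (hx : orderOf x = r) (Q V : Subgroup G)
    (hQ : IsPGroup q Q) (hxQ : x ∈ Subgroup.normalizer (Q : Set G))
    (hV : Cfsg.IsElementaryAbelian p V) (hV1 : V ≠ ⊥)
    (hxV : x ∈ Subgroup.normalizer (V : Set G)) (hQV : Q ≤ Subgroup.normalizer (V : Set G))
    (hfaith : (Subgroup.zpowers x ⊔ Q) ⊓ Subgroup.centralizer (V : Set G) = ⊥)
    (hexc : q = 2 → (∃ n : ℕ, r = 2 ^ n + 1) → IsMulCommutative Q)
    (hbad : ∀ v ∈ V, x * v = v * x → v = 1) : ∀ y ∈ Q, x * y = y * x := by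
  classical
  by_contra hcon
  obtain ⟨y, hcon'⟩ := not_forall.1 hcon
  obtain ⟨hyQ, hxy⟩ := Classical.not_imp.1 hcon'
  set X : Subgroup G := Subgroup.zpowers x with hXdef
  have hXcard : Nat.card X = r := by rw [hXdef, Nat.card_zpowers, hx]
  have hXQ : X ≤ Subgroup.normalizer (Q : Set G) := by
    rw [hXdef, Subgroup.zpowers_le]; exact hxQ
  have hXV : X ≤ Subgroup.normalizer (V : Set G) := by
    rw [hXdef, Subgroup.zpowers_le]; exact hxV
  have hXfaith : X ⊓ Subgroup.centralizer (Q : Set G) = ⊥ := by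
    by_contra hne
    -- a nontrivial subgroup of the group `X` of prime order is `X`
    have hle : X ⊓ Subgroup.centralizer (Q : Set G) ≤ X := inf_le_left
    have hdvd : Nat.card (X ⊓ Subgroup.centralizer (Q : Set G) : Subgroup G) ∣ Nat.card X :=
      Subgroup.card_dvd_of_le hle
    rw [hXcard] at hdvd
    rcases (Nat.dvd_prime hr).1 hdvd with h1 | h1
    · exact hne (Subgroup.card_eq_one.1 h1)
    · have heq : X ⊓ Subgroup.centralizer (Q : Set G) = X := by
        apply Subgroup.eq_of_le_of_card_ge hle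
        rw [h1, hXcard]
      have hxc : x ∈ Subgroup.centralizer (Q : Set G) := by
        have : x ∈ X ⊓ Subgroup.centralizer (Q : Set G) := by
          rw [heq]; exact Subgroup.mem_zpowers x
        exact this.2
      rw [Subgroup.mem_centralizer_iff] at hxc
      exact hxy (hxc y hyQ).symm
  have key := Cfsg.Agent.S3765.result hp hq hr hpq hpr hqr X Q V hXcard hQ hXQ hXfaith hV hV1 hXV hQV
    hfaith hexc
  apply key
  rw [eq_bot_iff]
  intro v hv
  rw [Subgroup.mem_bot]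
  apply hbad v hv.1
  have h2 : v ∈ Subgroup.centralizer (X : Set G) := hv.2
  exact (Subgroup.mem_centralizer_iff.1 h2) x (Subgroup.mem_zpowers x)

/-- [HH] for odd `q`: no exception -/
theorem hh_odd {G : Type*} [Group G] [Finite G] {p q r : ℕ} (hp : p.Prime) (hq : q.Prime) (hr : r.Prime)
    (hpq : p ≠ q) (hpr : p ≠ r) (hqr : q ≠ r) (hq2 : q ≠ 2) (x : G) (hx : orderOf x = r) (Q V : Subgroup G)
    (hQ : IsPGroup q Q) (hxQ : x ∈ Subgroup.normalizer (Q : Set G))
    (hV : Cfsg.IsElementaryAbelian p V) (hV1 : V ≠ ⊥)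
    (hxV : x ∈ Subgroup.normalizer (V : Set G)) (hQV : Q ≤ Subgroup.normalizer (V : Set G))
    (hfaith : (Subgroup.zpowers x ⊔ Q) ⊓ Subgroup.centralizer (V : Set G) = ⊥)
    (hbad : ∀ v ∈ V, x * v = v * x → v = 1) : ∀ y ∈ Q, x * y = y * x :=
  hh hp hq hr hpq hpr hqr x hx Q V hQ hxQ hV hV1 hxV hQV hfaith (fun h => absurd h hq2) hbad

/-- [HH] for abelian `Q` (any `q`) -/
theorem hh_abelian {G : Type*} [Group G] [Finite G] {p q r : ℕ} (hp : p.Prime) (hq : q.Prime)
    (hr : r.Prime) (hpq : p ≠ q) (hpr : p ≠ r) (hqr : q ≠ r) (x : G) (hx : orderOf x = r)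
    (Q V : Subgroup G) (hQ : IsPGroup q Q) (hQab : ∀ a ∈ Q, ∀ b ∈ Q, a * b = b * a)
    (hxQ : x ∈ Subgroup.normalizer (Q : Set G))
    (hV : Cfsg.IsElementaryAbelian p V) (hV1 : V ≠ ⊥)
    (hxV : x ∈ Subgroup.normalizer (V : Set G)) (hQV : Q ≤ Subgroup.normalizer (V : Set G))
    (hfaith : (Subgroup.zpowers x ⊔ Q) ⊓ Subgroup.centralizer (V : Set G) = ⊥)
    (hbad : ∀ v ∈ V, x * v = v * x → v = 1) : ∀ y ∈ Q, x * y = y * x :=
  hh hp hq hr hpq hpr hqr x hx Q V hQ hxQ hV hV1 hxV hQV hfaith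
    (fun _ _ => ⟨⟨fun a b => Subtype.ext (hQab a a.2 b b.2)⟩⟩) hbad

end Cfsg.Agent.Lib.H19.S3814HH
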