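import Cfsg.Agent.Lib.H15.S3814C2Defs
import Cfsg.Agent.Lib.H19.S3814HH
import Cfsg.Agent.Lib.H7.DihedralLemma2

/-!
# S3814, Case 2', piece (8) E2

If `c` is odd and `K` has no normal subgroup of prime order `≠ c`, then no element of prime order `≠ c`
of `K` is bad: `F(K)` is a `c`-group, a bad `w` centralises it (HH = S3765), and `C_K(F(K)) ≤ F(K)`.
-/

set_option autoImplicit false

namespace Cfsg.Agent.Lib.H19.S3814C2E2

open Cfsg.Agent.H7.S3814Defs Cfsg.Agent.H15.S3814C2

universe u

/-- (L) a nontrivial normal `t`-subgroup of `K` gives a normal subgroup of order `t`, if every normal abelian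
subgroup of `K` is cyclic -/
theorem normalPrime_of_normal_pgroup {G : Type u} [Group G] [Finite G] (K : Subgroup G)
    (hcyc : ∀ M : Subgroup G, M ≤ K → K ≤ Subgroup.normalizer (M : Set G) →
      (∀ x ∈ M, ∀ y ∈ M, x * y = y * x) → IsCyclic M)
    (t : ℕ) (ht : t.Prime) (T : Subgroup G) (hTK : T ≤ K)
    (hTn : K ≤ Subgroup.normalizer (T : Set G)) (hT : IsPGroup t T) (hT1 : T ≠ ⊥) :
    ∃ m' : G, NormalPrime K t m' := by
  classical
  haveI : Fact t.Prime := ⟨ht⟩
  set ZT : Subgroup G := T ⊓ Subgroup.centralizer (T : Set G) with hZT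
  have hZK : ZT ≤ K := inf_le_left.trans hTK
  have hZn : K ≤ Subgroup.normalizer (ZT : Set G) := by
    intro k hk
    have hkT := hTn hk
    have hkT' := hTn (K.inv_mem hk)
    rw [Subgroup.mem_normalizer_iff]
    -- conjugation by `k` and by `k⁻¹` preserves `ZT`
    have hfwd : ∀ g : G, g ∈ Subgroup.normalizer (T : Set G) → g⁻¹ ∈ Subgroup.normalizer (T : Set G) →
        ∀ z ∈ ZT, g * z * g⁻¹ ∈ ZT := by
      intro g hg hg' z hz
      refine ⟨(Subgroup.mem_normalizer_iff.1 hg z).1 hz.1, Subgroup.mem_centralizer_iff.2 ?_⟩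
      intro x hx
      have hx' : g⁻¹ * x * g ∈ T := by
        have := (Subgroup.mem_normalizer_iff.1 hg' x).1 hx
        simpa using this
      have hc := (Subgroup.mem_centralizer_iff.1 hz.2) _ hx'
      calc x * (g * z * g⁻¹) = g * ((g⁻¹ * x * g) * z) * g⁻¹ := by group
        _ = g * (z * (g⁻¹ * x * g)) * g⁻¹ := by rw [hc]
        _ = g * z * g⁻¹ * x := by group
    intro z
    constructor
    · exact hfwd k hkT (by simpa using hkT') z
    · intro hz
      have := hfwd k⁻¹ hkT' (by simpa using hkT) _ hz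
      have e : k⁻¹ * (k * z * k⁻¹) * k⁻¹⁻¹ = z := by group
      rwa [e] at this
  have hZab : ∀ x ∈ ZT, ∀ y ∈ ZT, x * y = y * x := by
    intro x hx y hy
    exact ((Subgroup.mem_centralizer_iff.1 hx.2) y hy.1).symm
  haveI hZc : IsCyclic ZT := hcyc ZT hZK hZn hZab
  -- `ZT ≠ ⊥`
  haveI : Nontrivial T := (Subgroup.nontrivial_iff_ne_bot T).2 hT1
  have hcen : Nontrivial (Subgroup.center T) := hT.center_nontrivial
  obtain ⟨z, hz1⟩ := exists_ne (1 : Subgroup.center T)
  have hzZT : ((z : T) : G) ∈ ZT := by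
    refine ⟨(z : T).2, Subgroup.mem_centralizer_iff.2 ?_⟩
    intro x hx
    have := (Subgroup.mem_center_iff.1 z.2) ⟨x, hx⟩
    exact congrArg Subtype.val this
  have hZT1 : ZT ≠ ⊥ := by
    intro hbot
    rw [hbot, Subgroup.mem_bot] at hzZT
    apply hz1
    apply Subtype.ext
    apply Subtype.ext
    simpa using hzZT
  have hZp : IsPGroup t ZT := hT.to_le inf_le_left
  -- an element of order `t` in `ZT`
  have hdvd : t ∣ Nat.card ZT := by
    obtain ⟨n, hn⟩ := (IsPGroup.iff_card).1 hZp
    rw [hn]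
    have hn0 : n ≠ 0 := by
      rintro rfl
      rw [pow_zero] at hn
      exact hZT1 (Subgroup.card_eq_one.1 hn)
    exact dvd_pow_self t hn0
  obtain ⟨x, hx⟩ := exists_prime_orderOf_dvd_card' (G := ZT) t hdvd
  refine ⟨(x : G), ht, hZK x.2, by rw [Subgroup.orderOf_coe, hx], ?_⟩
  intro k hk
  -- `y = k⁻¹ x k ∈ ZT`, `y ^ t = 1`
  have hyZ : k⁻¹ * (x : G) * k ∈ ZT := by
    have := (Subgroup.mem_normalizer_iff.1 (hZn (K.inv_mem hk)) (x : G)).1 x.2
    simpa using this
  set y : ZT := ⟨k⁻¹ * (x : G) * k, hyZ⟩ with hy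
  have hxt : x ^ t = 1 := by rw [← hx]; exact pow_orderOf_eq_one x
  have hyt : y ^ t = 1 := by
    apply Subtype.ext
    have h1 : ((x : G)) ^ t = 1 := by
      have := congrArg Subtype.val hxt
      simpa using this
    have : (k⁻¹ * (x : G) * k) ^ t = k⁻¹ * (x : G) ^ t * k := by
      have := conj_pow (a := k⁻¹) (b := (x : G)) (i := t)
      simpa using this
    simp only [Subgroup.coe_pow, Subgroup.coe_one, hy]
    rw [this, h1]; group
  -- counting in the cyclic group `ZT`
  haveI : Fintype ZT := Fintype.ofFinite ZT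
  have hle : (Finset.univ.filter (fun a : ZT => a ^ t = 1)).card ≤ t :=
    IsCyclic.card_pow_eq_one_le ht.pos
  have hsub : ((Subgroup.zpowers x : Set ZT).toFinset) ⊆ Finset.univ.filter (fun a : ZT => a ^ t = 1) := by
    intro a ha
    rw [Set.mem_toFinset] at ha
    obtain ⟨i, rfl⟩ := ha
    simp only [Finset.mem_filter, Finset.mem_univ, true_and]
    rw [← zpow_natCast, ← zpow_mul, mul_comm, zpow_mul, zpow_natCast, hxt, one_zpow]
  have hcardz : ((Subgroup.zpowers x : Set ZT).toFinset).card = t := by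
    rw [Set.toFinset_card]
    rw [← Nat.card_eq_fintype_card]
    have : Nat.card (Subgroup.zpowers x) = t := by rw [Nat.card_zpowers, hx]
    exact this
  have heq : ((Subgroup.zpowers x : Set ZT).toFinset) = Finset.univ.filter (fun a : ZT => a ^ t = 1) :=
    Finset.eq_of_subset_of_card_le hsub (by rw [hcardz]; exact hle)
  have hymem : y ∈ Subgroup.zpowers x := by
    have : y ∈ Finset.univ.filter (fun a : ZT => a ^ t = 1) := by
      simp only [Finset.mem_filter, Finset.mem_univ, true_and]; exact hyt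
    rw [← heq, Set.mem_toFinset] at this
    exact this
  obtain ⟨i, hi⟩ := hymem
  refine ⟨i, ?_⟩
  have := congrArg Subtype.val hi
  simpa [hy] using this

/-- (E2) -/
theorem e2 : E2Stmt.{u} := by
  intro G _ σ p V K ctx c m hnp hc2 hno w hwK hwprime hwc hwbad
  classical
  haveI := ctx.cex.fin
  haveI := ctx.cex.sol
  have hp : p.Prime := ctx.cex.prime p ctx.shape.hp
  have hcprime : c.Prime := hnp.1
  obtain ⟨_, hmK, hmc, _⟩ := hnp
  set r := orderOf w with hr
  -- primes of `K` differ from `p`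
  have hcp : c ≠ p := by
    have : c ∣ Nat.card K := by
      rw [← hmc]
      have := orderOf_dvd_natCard (⟨m, hmK⟩ : K)
      rwa [Subgroup.orderOf_mk] at this
    exact (ctx.facts.primes c hcprime this).2
  have hrp : r ≠ p := by
    have : r ∣ Nat.card K := by
      have := orderOf_dvd_natCard (⟨w, hwK⟩ : K)
      rwa [Subgroup.orderOf_mk] at this
    exact (ctx.facts.primes r hwprime this).2
  -- (L): no nontrivial normal `t`-subgroup for `t ≠ c`
  have hL : ∀ t : ℕ, t.Prime → t ≠ c → ∀ T : Subgroup G, T ≤ K → K ≤ Subgroup.normalizer (T : Set G) →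
      IsPGroup t T → T = ⊥ := by
    intro t ht htc T hTK hTn hT
    by_contra hT1
    obtain ⟨m', hm'⟩ := normalPrime_of_normal_pgroup K ctx.cyc t ht T hTK hTn hT hT1
    exact hno t m' htc hm'
  -- the Fitting subgroup of `K`
  set F : Subgroup K := Cfsg.fittingSubgroup K with hF
  haveI hFn : F.Normal := Cfsg.Agent.Lib.H7.fittingSubgroup_normal
  have hFnil : Group.IsNilpotent F := Cfsg.Agent.Lib.H7.fittingSubgroup_isNilpotent
  -- `F` is a `c`-group
  have hFc : IsPGroup c F := by
    have hall : ∀ {d : ℕ}, d.Prime → d ∣ Nat.card F → d = c := by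
      intro d hd hdvd
      by_contra hdc
      haveI : Fact d.Prime := ⟨hd⟩
      let P : Sylow d F := default
      have h03 : Group.IsNilpotent F ↔
          ∀ (q : ℕ) (_hq : Fact q.Prime) (Q : Sylow q F), (↑Q : Subgroup F).Normal :=
        (Group.isNilpotent_of_finite_tfae (G := F)).out 0 3
      have hPn : (P : Subgroup F).Normal := h03.1 hFnil d ⟨hd⟩ P
      haveI hPc : (P : Subgroup F).Characteristic := Sylow.characteristic_of_normal P hPn
      have hPK : ((P : Subgroup F).map F.subtype).Normal := ConjAct.normal_of_characteristic_of_normal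
      set T : Subgroup G := ((P : Subgroup F).map F.subtype).map K.subtype with hT
      have hTK : T ≤ K := by
        rintro _ ⟨x, _, rfl⟩
        exact x.2
      have hTn : K ≤ Subgroup.normalizer (T : Set G) := by
        intro k hk
        rw [Subgroup.mem_normalizer_iff]
        have hfwd : ∀ g : K, ∀ z ∈ T, (g : G) * z * (g : G)⁻¹ ∈ T := by
          rintro g _ ⟨x, hx, rfl⟩
          refine ⟨g * x * g⁻¹, hPK.conj_mem x hx g, ?_⟩
          simp
        intro z
        constructor
        · exact hfwd ⟨k, hk⟩ z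
        · intro hz
          have := hfwd ⟨k, hk⟩⁻¹ _ hz
          have e : ((⟨k, hk⟩⁻¹ : K) : G) * (k * z * k⁻¹) * ((⟨k, hk⟩⁻¹ : K) : G)⁻¹ = z := by
            simp only [InvMemClass.coe_inv]; group
          rwa [e] at this
      have hTp : IsPGroup d T := by
        have h1 : IsPGroup d ((P : Subgroup F).map F.subtype) := P.isPGroup'.map F.subtype
        exact h1.map K.subtype
      have hT1 : T ≠ ⊥ := by
        have hP1 : (P : Subgroup F) ≠ ⊥ := P.ne_bot_of_dvd_card hdvd
        intro hbot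
        apply hP1
        rw [eq_bot_iff]
        intro x hx
        have : ((x : K) : G) ∈ T := ⟨(x : K), ⟨x, hx, rfl⟩, rfl⟩
        rw [hbot, Subgroup.mem_bot] at this
        rw [Subgroup.mem_bot]
        apply Subtype.ext
        apply Subtype.ext
        simpa using this
      exact hT1 (hL d hd hdc T hTK hTn hTp)
    have hpos : Nat.card F ≠ 0 := Nat.card_pos.ne'
    have := Nat.eq_prime_pow_of_unique_prime_dvd hpos hall
    exact IsPGroup.of_card this
  -- the image of `F` in `G`
  set FG : Subgroup G := F.map K.subtype with hFG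
  have hFGK : FG ≤ K := by
    rintro _ ⟨x, _, rfl⟩
    exact x.2
  have hFGc : IsPGroup c FG := hFc.map K.subtype
  have hwFG : w ∈ Subgroup.normalizer (FG : Set G) := by
    rw [Subgroup.mem_normalizer_iff]
    have hfwd : ∀ g : K, ∀ z ∈ FG, (g : G) * z * (g : G)⁻¹ ∈ FG := by
      rintro g _ ⟨x, hx, rfl⟩
      refine ⟨g * x * g⁻¹, hFn.conj_mem x hx g, ?_⟩
      simp
    intro z
    constructor
    · exact hfwd ⟨w, hwK⟩ z
    · intro hz
      have := hfwd ⟨w, hwK⟩⁻¹ _ hz
      have e : ((⟨w, hwK⟩⁻¹ : K) : G) * (w * z * w⁻¹) * ((⟨w, hwK⟩⁻¹ : K) : G)⁻¹ = z := by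
        simp only [InvMemClass.coe_inv]; group
      rwa [e] at this
  have hVea : Cfsg.IsElementaryAbelian p V :=
    ⟨⟨⟨fun a b => Subtype.ext (ctx.shape.elem.1 a a.2 b b.2)⟩⟩, ctx.shape.elem.2⟩
  haveI := ctx.shape.normal
  have hnormV : Subgroup.normalizer (V : Set G) = ⊤ := Subgroup.normalizer_eq_top V
  have hfaith : (Subgroup.zpowers w ⊔ FG) ⊓ Subgroup.centralizer (V : Set G) = ⊥ := by
    rw [eq_bot_iff]
    intro g hg
    rw [Subgroup.mem_bot]
    have hgK : g ∈ K := (sup_le ((Subgroup.zpowers_le).2 hwK) hFGK) hg.1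
    apply ctx.shape.faithful g hgK
    intro v hv
    exact ((Subgroup.mem_centralizer_iff.1 hg.2) v hv).symm
  have hcent : ∀ y ∈ FG, w * y = y * w :=
    Cfsg.Agent.Lib.H19.S3814HH.hh_odd hp hcprime hwprime hcp.symm hrp.symm (fun h => hwc h.symm) hc2 w rfl
      FG V hFGc hwFG hVea ctx.shape.ne_bot (by rw [hnormV]; exact Subgroup.mem_top _)
      (by rw [hnormV]; exact le_top) hfaith hwbad
  -- `w ∈ C_K(F) ≤ F`
  have hwF : (⟨w, hwK⟩ : K) ∈ F := by
    apply Cfsg.Agent.Lib.H7.centralizer_fittingSubgroup_le_of_isSolvable K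
    rw [Subgroup.mem_centralizer_iff]
    intro f hf
    apply Subtype.ext
    have := hcent (f : G) ⟨f, hf, rfl⟩
    simpa using this.symm
  -- order of `w` is a power of `c`
  obtain ⟨n, hn⟩ := hFc ⟨⟨w, hwK⟩, hwF⟩
  have hwpow : w ^ c ^ n = 1 := by
    have := congrArg (fun z : F => ((z : K) : G)) hn
    simpa using this
  have hdvd : r ∣ c ^ n := orderOf_dvd_of_pow_eq_one hwpow
  have : r ∣ c := hwprime.dvd_of_dvd_pow hdvd
  rcases (Nat.dvd_prime hcprime).1 this with h1 | h1
  · exact hwprime.one_lt.ne' h1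
  · exact hwc h1

example : E2Stmt.{0} := e2

end Cfsg.Agent.Lib.H19.S3814C2E2
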