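import Mathlib
import Cfsg.Prelude.Def_OddOrderLocal
import Cfsg.Prelude.Def_CaseTheorems
import Cfsg.Prelude.Def_PLocal
import Cfsg.Agent.Lib.H19.R2Defs
import Cfsg.Agent.Lib.H22.UniqueOrderP

/-!
# S3888 piece B4 (helper19): `|gam3 Q : γ₄| ≤ p` in the minimal nonmetacyclic analysis
-/

set_option autoImplicit false

namespace Cfsg.Agent.Lib.H19.R2

open Cfsg
open scoped commutatorElement

universe u

section classThree

variable {p : ℕ} {Q : Type*} [Group Q]

/-- `gam3 Q(Q)` -/
abbrev gam3 (Q : Type*) [Group Q] : Subgroup Q := (⊤ : Subgroup Q).lowerCentralSeries 2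

/-- if `e = ⁅d, g⁆` is central then `⁅d ^ n, g⁆ = e ^ n` -/
theorem comm_pow_of_central {d g : Q} (hc : ∀ h : Q, h * ⁅d, g⁆ = ⁅d, g⁆ * h) (n : ℕ) :
    ⁅d ^ n, g⁆ = ⁅d, g⁆ ^ n := by
  induction n with
  | zero => simp
  | succ n ih =>
    have h1 : ⁅d ^ (n + 1), g⁆ = d * ⁅d ^ n, g⁆ * d⁻¹ * ⁅d, g⁆ := by
      simp only [commutatorElement_def, pow_succ']; group
    rw [h1, ih]
    have h2 : d * ⁅d, g⁆ ^ n = ⁅d, g⁆ ^ n * d :=
      ((show Commute d ⁅d, g⁆ from hc d).pow_right n).eq
    rw [h2, mul_inv_cancel_right, ← pow_succ]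

theorem gamma3_central (h3 : (⊤ : Subgroup Q).lowerCentralSeries 3 = ⊥) {t : Q} (ht : t ∈ gam3 Q) (g : Q) :
    g * t = t * g := by
  have h1 : ⁅t, g⁆ ∈ (⊤ : Subgroup Q).lowerCentralSeries 3 := by
    rw [Subgroup.lowerCentralSeries_succ]
    exact Subgroup.commutator_mem_commutator ht (Subgroup.mem_top g)
  rw [h3, Subgroup.mem_bot] at h1
  rw [commutatorElement_def] at h1
  have : t * g = g * t := by
    have h2 := congrArg (fun z => z * g * t) h1
    simp only [one_mul] at h2
    rw [← h2]; group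
  exact this.symm

theorem comm_mem_gamma3 {d : Q} (hd : d ∈ commutator Q) (g : Q) : ⁅d, g⁆ ∈ gam3 Q := by
  unfold gam3
  rw [Subgroup.lowerCentralSeries_succ, Subgroup.top_lowerCentralSeries_one]
  exact Subgroup.commutator_mem_commutator hd (Subgroup.mem_top g)

theorem gamma3_le_commutator : gam3 Q ≤ commutator Q := by
  unfold gam3
  rw [← Subgroup.top_lowerCentralSeries_one (G := Q)]
  exact Subgroup.lowerCentralSeries_antitone (S := (⊤ : Subgroup Q)) (show 1 ≤ 2 by norm_num)

/-- `gam3 Q` has exponent `p` when `γ₄ = 1` and all `p`-th powers lie in `gam3 Q` -/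
theorem gamma3_exp (h3 : (⊤ : Subgroup Q).lowerCentralSeries 3 = ⊥) (hpow : ∀ g : Q, g ^ p ∈ gam3 Q)
    {t : Q} (ht : t ∈ gam3 Q) : t ^ p = 1 := by
  unfold gam3 at ht
  rw [Subgroup.lowerCentralSeries_succ, Subgroup.top_lowerCentralSeries_one] at ht
  rw [Subgroup.commutator_def] at ht
  induction ht using Subgroup.closure_induction with
  | mem s hs =>
    obtain ⟨d, hd, g, -, rfl⟩ := hs
    have hc : ∀ h : Q, h * ⁅d, g⁆ = ⁅d, g⁆ * h := fun h =>
      gamma3_central h3 (comm_mem_gamma3 hd g) h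
    rw [← comm_pow_of_central hc p]
    have h1 : d ^ p * g = g * d ^ p := (gamma3_central h3 (hpow d) g).symm
    rw [commutatorElement_def, h1]; group
  | one => exact one_pow _
  | mul a b ha hb iha ihb =>
    have ha' : a ∈ gam3 Q := by
      unfold gam3
      rw [Subgroup.lowerCentralSeries_succ, Subgroup.top_lowerCentralSeries_one, Subgroup.commutator_def]
      exact ha
    have : Commute a b := (gamma3_central h3 ha' b).symm
    rw [this.mul_pow, iha, ihb, mul_one]
  | inv a _ iha => rw [inv_pow, iha, inv_one]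

/-- bookkeeping with central elements -/
theorem aux_calc {u c F F' cn : Q} (hF : ∀ g : Q, g * F = F * g) (hF' : ∀ g : Q, g * F' = F' * g)
    (h2 : u * cn * u⁻¹ = F * cn) : u * (cn * F') * u⁻¹ * c = cn * c * (F' * F) := by
  have hz : ∀ g : Q, g * (F' * F) = (F' * F) * g := by
    intro g
    rw [← mul_assoc, hF' g, mul_assoc, hF g, ← mul_assoc]
  calc u * (cn * F') * u⁻¹ * c = u * (F' * cn) * u⁻¹ * c := by rw [hF' cn]
    _ = (u * F') * cn * u⁻¹ * c := by group
    _ = (F' * u) * cn * u⁻¹ * c := by rw [hF' u]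
    _ = F' * (u * cn * u⁻¹) * c := by group
    _ = F' * (F * cn) * c := by rw [h2]
    _ = (F' * F) * (cn * c) := by group
    _ = cn * c * (F' * F) := (hz _).symm

/-- the class-3 identity `⁅u ^ n, v⁆ = ⁅u, v⁆ ^ n * ⁅u, ⁅u, v⁆⁆ ^ (n.choose 2)` -/
theorem comm_pow_class3 (h3 : (⊤ : Subgroup Q).lowerCentralSeries 3 = ⊥) (u v : Q) (n : ℕ) :
    ⁅u ^ n, v⁆ = ⁅u, v⁆ ^ n * ⁅u, ⁅u, v⁆⁆ ^ (n.choose 2) := by
  set c := ⁅u, v⁆ with hc
  set f := ⁅u, c⁆ with hf
  have hcQ : c ∈ commutator Q := by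
    rw [commutator_def]
    exact Subgroup.commutator_mem_commutator (Subgroup.mem_top u) (Subgroup.mem_top v)
  have hfT : f ∈ gam3 Q := by
    have : f = (⁅c, u⁆)⁻¹ := by rw [hf, commutatorElement_inv]
    rw [this]
    exact Subgroup.inv_mem _ (comm_mem_gamma3 hcQ u)
  have hfc : ∀ g : Q, g * f = f * g := gamma3_central h3 hfT
  induction n with
  | zero => simp
  | succ n ih =>
    have h1 : ⁅u ^ (n + 1), v⁆ = u * ⁅u ^ n, v⁆ * u⁻¹ * c := by
      simp only [hc, commutatorElement_def, pow_succ']; group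
    have h2 : u * c ^ n * u⁻¹ = f ^ n * c ^ n := by
      have h3' : u * c * u⁻¹ = f * c := by rw [hf, commutatorElement_def]; group
      have h4 : u * c ^ n * u⁻¹ = (u * c * u⁻¹) ^ n := by rw [conj_pow]
      rw [h4, h3']
      exact ((show Commute f c from (hfc c).symm).mul_pow n)
    have hfk : ∀ (k : ℕ) (g : Q), g * f ^ k = f ^ k * g := fun k g =>
      ((show Commute g f from hfc g).pow_right k).eq
    have e2 : (n + 1).choose 2 = n.choose 2 + n := by
      rw [Nat.choose_succ_succ' n 1, Nat.choose_one_right, add_comm]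
    rw [h1, ih, e2, pow_add f, pow_succ c]
    exact aux_calc (hfk n) (hfk _) h2

theorem prime_dvd_choose_two [hp : Fact p.Prime] (hp2 : p ≠ 2) : p ∣ p.choose 2 :=
  hp.out.dvd_choose_self (by norm_num) (lt_of_le_of_ne hp.out.two_le (Ne.symm hp2))

theorem prime_dvd_half [hp : Fact p.Prime] (hp2 : p ≠ 2) : p ∣ p * (p - 1) / 2 := by
  have h := prime_dvd_choose_two (p := p) hp2
  rwa [Nat.choose_two_right] at h

/-- key lemma in the class-3 quotient -/
theorem card_gamma3_le [hp : Fact p.Prime] [Finite Q] (hp2 : p ≠ 2) (h3 : (⊤ : Subgroup Q).lowerCentralSeries 3 = ⊥) (u v : Q)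
    (hcomm : commutator Q = Subgroup.zpowers ⁅u, v⁆ ⊔ gam3 Q) (hpow : ∀ g : Q, g ^ p ∈ gam3 Q)
    (hag : agemoOf p (Subgroup.zpowers u ⊔ commutator Q) = gam3 Q) : Nat.card ↥(gam3 Q) ≤ p := by
  set c := ⁅u, v⁆ with hc
  have hTc : ∀ t ∈ gam3 Q, ∀ g : Q, g * t = t * g := fun t ht g => gamma3_central h3 ht g
  have hTe : ∀ t ∈ gam3 Q, t ^ p = 1 := fun t ht => gamma3_exp h3 hpow ht
  -- c ^ p = 1
  have hcp : c ^ p = 1 := by
    have h1 := comm_pow_class3 h3 u v p
    have h2 : ⁅u ^ p, v⁆ = 1 := by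
      have := (hTc _ (hpow u) v).symm
      rw [commutatorElement_def, this]; group
    have hcQ : c ∈ commutator Q := by
      rw [commutator_def]
      exact Subgroup.commutator_mem_commutator (Subgroup.mem_top u) (Subgroup.mem_top v)
    have hfT : ⁅u, c⁆ ∈ gam3 Q := by
      have : ⁅u, c⁆ = (⁅c, u⁆)⁻¹ := by rw [commutatorElement_inv]
      rw [this]
      exact Subgroup.inv_mem _ (comm_mem_gamma3 hcQ u)
    obtain ⟨m, hm⟩ := prime_dvd_choose_two (p := p) hp2
    rw [h2, hm, pow_mul, hTe _ hfT, one_pow, mul_one] at h1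
    exact h1.symm
  -- every element of the derived subgroup has p-th power one
  have hdp : ∀ d ∈ commutator Q, d ^ p = 1 := by
    intro d hd
    rw [hcomm] at hd
    have hn : (gam3 Q : Subgroup Q).Normal := by unfold gam3; infer_instance
    have hd' : d ∈ ((Subgroup.zpowers c ⊔ gam3 Q : Subgroup Q) : Set Q) := hd
    rw [Subgroup.mul_normal] at hd'
    obtain ⟨a, ha, t, ht, rfl⟩ := Set.mem_mul.mp hd' 
    have hcm : Commute a t := (hTc t ht a)
    rw [hcm.mul_pow, hTe t ht, mul_one]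
    obtain ⟨j, rfl⟩ := Subgroup.mem_zpowers_iff.mp ha
    have e : (c ^ j) ^ p = (c ^ p) ^ j := by
      rw [← zpow_natCast, ← zpow_mul, mul_comm, zpow_mul, zpow_natCast]
    rw [e, hcp, one_zpow]
  -- every element of M has p-th power in ⟨u^p⟩
  have hM : ∀ m ∈ Subgroup.zpowers u ⊔ commutator Q, m ^ p ∈ Subgroup.zpowers (u ^ p) := by
    intro m hm
    have hn : (commutator Q).Normal := inferInstance
    have hm' : m ∈ ((Subgroup.zpowers u ⊔ commutator Q : Subgroup Q) : Set Q) := hm
    rw [Subgroup.mul_normal] at hm'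
    obtain ⟨a, ha, d, hd, rfl⟩ := Set.mem_mul.mp hm' 
    have hcen : ∀ g : Q, g * (d * a * d⁻¹ * a⁻¹) = (d * a * d⁻¹ * a⁻¹) * g := by
      intro g
      have : d * a * d⁻¹ * a⁻¹ = ⁅d, a⁆ := by rw [commutatorElement_def]
      rw [this]
      exact hTc _ (comm_mem_gamma3 hd a) g
    have h1 := Cfsg.Agent.Lib.H22.mul_pow_of_central hcen p
    have h2 : (d * a * d⁻¹ * a⁻¹) ^ (p * (p - 1) / 2) = 1 := by
      obtain ⟨m, hm⟩ := prime_dvd_half (p := p) hp2
      have h5 : d * a * d⁻¹ * a⁻¹ = ⁅d, a⁆ := by rw [commutatorElement_def]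
      rw [hm, pow_mul, h5, hTe _ (comm_mem_gamma3 hd a), one_pow]
    rw [h1, h2, mul_one, hdp d hd, mul_one]
    obtain ⟨i, rfl⟩ := Subgroup.mem_zpowers_iff.mp ha
    have e : (u ^ i) ^ p = (u ^ p) ^ i := by
      rw [← zpow_natCast, ← zpow_mul, mul_comm, zpow_mul, zpow_natCast]
    rw [e]
    exact Subgroup.zpow_mem _ (Subgroup.mem_zpowers _) i
  have hle : gam3 Q ≤ Subgroup.zpowers (u ^ p) := by
    rw [← hag]
    exact agemoOf_le hM
  have hup : (u ^ p) ^ p = 1 := hTe _ (hpow u)
  calc Nat.card ↥(gam3 Q) ≤ Nat.card ↥(Subgroup.zpowers (u ^ p)) := Subgroup.card_le_of_le hle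
    _ = orderOf (u ^ p) := Nat.card_zpowers _
    _ ≤ p := Nat.le_of_dvd hp.out.pos (orderOf_dvd_of_pow_eq_one hup)

end classThree

section transfer

variable {p : ℕ} [hp : Fact p.Prime] {G : Type u} [Group G] [Finite G]

omit hp [Finite G] in
theorem card_mul_relIndex' {P K : Subgroup G} (h : P ≤ K) : Nat.card P * P.relIndex K = Nat.card K := by
  have := Subgroup.relIndex_mul_relIndex ⊥ P K bot_le h
  rwa [Subgroup.relIndex_bot_left, Subgroup.relIndex_bot_left] at this

omit hp [Finite G] in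
/-- `|⟨g⟩N| = o(gN) |N|` -/
theorem card_zpowers_sup (N : Subgroup G) [N.Normal] (g : G) :
    Nat.card ↥(Subgroup.zpowers g ⊔ N) = Nat.card N * orderOf (QuotientGroup.mk' N g) := by
  have h1 : N ≤ Subgroup.zpowers g ⊔ N := le_sup_right
  have h2 := card_mul_relIndex' h1
  have h3 : N.relIndex (Subgroup.zpowers g ⊔ N) =
      Nat.card ↥((Subgroup.zpowers g ⊔ N).map (QuotientGroup.mk' N)) := by
    have := Subgroup.relIndex_ker (QuotientGroup.mk' N) (K := Subgroup.zpowers g ⊔ N)
    rwa [QuotientGroup.ker_mk'] at this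
  have h4 : (Subgroup.zpowers g ⊔ N).map (QuotientGroup.mk' N) =
      Subgroup.zpowers (QuotientGroup.mk' N g) := by
    rw [Subgroup.map_sup, MonoidHom.map_zpowers, QuotientGroup.map_mk'_self, sup_bot_eq]
  rw [h3, h4, Nat.card_zpowers] at h2
  exact h2.symm

/-- B4. -/
theorem mnm_gamma4 (hp2 : p ≠ 2) (hG : IsPGroup p G) {u v : G} (hg : Gam p G u v) :
    Nat.card ↥((⊤ : Subgroup G).lowerCentralSeries 2) ≤
      p * Nat.card ↥((⊤ : Subgroup G).lowerCentralSeries 3) := by
  set T : Subgroup G := (⊤ : Subgroup G).lowerCentralSeries 2 with hT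
  set K : Subgroup G := (⊤ : Subgroup G).lowerCentralSeries 3 with hK
  have hKn : K.Normal := inferInstance
  have hTn : T.Normal := inferInstance
  have hKT : K ≤ T := Subgroup.lowerCentralSeries_antitone (S := (⊤ : Subgroup G)) (show 2 ≤ 3 by norm_num)
  have hTG' : T ≤ commutator G := gamma3_le_commutator
  set π : G →* G ⧸ K := QuotientGroup.mk' K with hπdef
  have hπ : Function.Surjective π := QuotientGroup.mk'_surjective K
  have htop : (⊤ : Subgroup G).map π = ⊤ := by
    rw [← MonoidHom.range_eq_map, MonoidHom.range_eq_top.mpr hπ]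
  have hl : ∀ k, (⊤ : Subgroup (G ⧸ K)).lowerCentralSeries k =
      ((⊤ : Subgroup G).lowerCentralSeries k).map π := by
    intro k; rw [Subgroup.map_lowerCentralSeries, htop]
  have h3 : (⊤ : Subgroup (G ⧸ K)).lowerCentralSeries 3 = ⊥ := by
    rw [hl 3]; exact QuotientGroup.map_mk'_self K
  have hcQ : commutator (G ⧸ K) = (commutator G).map π := by
    rw [← Subgroup.top_lowerCentralSeries_one, hl 1, Subgroup.top_lowerCentralSeries_one]
  have hcommQ : commutator (G ⧸ K) = Subgroup.zpowers ⁅π u, π v⁆ ⊔ gam3 (G ⧸ K) := by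
    unfold gam3
    rw [hcQ, hg.comm, Subgroup.map_sup, MonoidHom.map_zpowers, map_commutatorElement, ← hl 2]
  have hpowQ : ∀ q : G ⧸ K, q ^ p ∈ gam3 (G ⧸ K) := by
    intro q
    obtain ⟨g, rfl⟩ := hπ q
    unfold gam3
    rw [← map_pow, hl 2]
    exact Subgroup.mem_map_of_mem π (hg.pow g)
  -- cardinalities
  have hp1 : 1 < p := hp.out.one_lt
  have hcardG : Nat.card T * p ^ 3 = Nat.card G := by
    rw [← hg.idx]; exact Subgroup.card_mul_index T
  have hoc : orderOf (QuotientGroup.mk' T ⁅u, v⁆) = p := by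
    apply orderOf_eq_prime
    · rw [← map_pow]; exact (QuotientGroup.eq_one_iff _).mpr hg.cpow
    · intro h; exact hg.cnot ((QuotientGroup.eq_one_iff _).mp h)
  have hcardG' : Nat.card ↥(commutator G) = Nat.card T * p := by
    rw [hg.comm, card_zpowers_sup T ⁅u, v⁆, hoc]
  have hG'n : (commutator G).Normal := inferInstance
  have hordle : ∀ g : G, orderOf (QuotientGroup.mk' (commutator G) g) ∣ p := by
    intro g
    apply orderOf_dvd_of_pow_eq_one
    rw [← map_pow]
    exact (QuotientGroup.eq_one_iff _).mpr (hTG' (hg.pow g))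
  have hu : orderOf (QuotientGroup.mk' (commutator G) u) = p := by
    rcases (Nat.dvd_prime hp.out).mp (hordle u) with h | h
    · exfalso
      have hu' : u ∈ commutator G := by
        rw [orderOf_eq_one_iff] at h
        exact (QuotientGroup.eq_one_iff _).mp h
      have hle : (⊤ : Subgroup G) ≤ Subgroup.zpowers v ⊔ commutator G := by
        rw [← hg.gen, Subgroup.closure_le]
        intro x hx
        rcases hx with hx | hx
        · rw [hx]; exact (le_sup_right : commutator G ≤ _) hu'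
        · rw [Set.mem_singleton_iff] at hx
          rw [hx]; exact (le_sup_left : Subgroup.zpowers v ≤ _) (Subgroup.mem_zpowers v)
      have h1 : Nat.card G ≤ Nat.card ↥(Subgroup.zpowers v ⊔ commutator G) := by
        rw [← Subgroup.card_top (G := G)]
        exact Subgroup.card_le_of_le hle
      rw [card_zpowers_sup (commutator G) v, hcardG', ← hcardG] at h1
      have h2 : orderOf (QuotientGroup.mk' (commutator G) v) ≤ p :=
        Nat.le_of_dvd hp.out.pos (hordle v)
      have hTpos : 0 < Nat.card T := Nat.card_pos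
      have h3' : Nat.card T * p ^ 3 ≤ Nat.card T * p * p :=
        le_trans h1 (Nat.mul_le_mul_left _ h2)
      have h4 : p ^ 3 ≤ p * p := by
        rw [mul_assoc] at h3'
        exact Nat.le_of_mul_le_mul_left h3' hTpos
      have : p * p < p ^ 3 := by
        have : p ^ 3 = p * p * p := by ring
        rw [this]
        exact lt_mul_of_one_lt_right (Nat.mul_pos hp.out.pos hp.out.pos) hp1
      omega
    · exact h
  set M : Subgroup G := Subgroup.zpowers u ⊔ commutator G with hM
  have hMcard : Nat.card M = Nat.card T * p * p := by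
    rw [hM, card_zpowers_sup (commutator G) u, hcardG', hu]
  have hMidx : M.index = p := by
    have h1 := Subgroup.card_mul_index M
    rw [hMcard, ← hcardG] at h1
    have hTpos : 0 < Nat.card T := Nat.card_pos
    have h2 : Nat.card T * p * p * M.index = Nat.card T * p * p * p := by rw [h1]; ring
    exact Nat.eq_of_mul_eq_mul_left (by positivity) h2
  have hagQ : agemoOf p (Subgroup.zpowers (π u) ⊔ commutator (G ⧸ K)) = gam3 (G ⧸ K) := by
    have h1 : Subgroup.zpowers (π u) ⊔ commutator (G ⧸ K) = M.map π := by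
      rw [hM, Subgroup.map_sup, MonoidHom.map_zpowers, hcQ]
    unfold gam3
    rw [h1, ← map_agemoOf, hg.ag M hMidx, ← hl 2]
  have key := card_gamma3_le hp2 h3 (π u) (π v) hcommQ hpowQ hagQ
  -- |T| = |T.map π| * |K|
  have h5 := card_mul_relIndex' hKT
  have h6 : K.relIndex T = Nat.card ↥(T.map π) := by
    have := Subgroup.relIndex_ker π (K := T)
    rwa [hπdef, QuotientGroup.ker_mk'] at this
  have h7 : T.map π = gam3 (G ⧸ K) := by unfold gam3; rw [hl 2]
  rw [h6, h7] at h5
  rw [← h5, mul_comm]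
  exact Nat.mul_le_mul_right _ key

end transfer

end Cfsg.Agent.Lib.H19.R2
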