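import Mathlib
import Cfsg.Prelude.Def_OddOrderLocal
import Cfsg.Prelude.Def_CaseTheorems
import Cfsg.Prelude.Def_PLocal
import Cfsg.Agent.Lib.H19.R2Defs
import Cfsg.Agent.Lib.H19.R2B4

/-!
# S3888 piece BETA (`mnm_main`) (helper19): assembly of the minimal nonmetacyclic analysis
-/

set_option autoImplicit false

namespace Cfsg.Agent.Lib.H19.R2

open Cfsg
open scoped commutatorElement

universe u

variable {p : ℕ} [hp : Fact p.Prime] {G : Type u} [Group G] [Finite G]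

/-- `℧₁(G')γ₃(G) ≤ G'` -/
theorem LB_le_commutator' (p : ℕ) (G : Type*) [Group G] : LB p G ≤ commutator G := by
  unfold LB
  refine sup_le (agemoOf_le fun d hd => pow_mem hd p) ?_
  exact gamma3_le_commutator

/-- BETA (assembly of A + B). -/
theorem mnm_main
    (hup : ∀ (H : Type u) [Group H] [Finite H], IsPGroup p H → (agemo p H).index ≤ p ^ 2 →
      Cfsg.IsMetacyclic H)
    (hupe : ∀ (H : Type u) [Group H] [Finite H], IsPGroup p H → Cfsg.IsMetacyclic H →
      (agemo p H).index ≤ p ^ 2)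
    (bl : ∀ (H : Type u) [Group H] [Finite H], IsPGroup p H → Cfsg.IsMetacyclic (H ⧸ LB p H) →
      Cfsg.IsMetacyclic H)
    (b1 : ∀ (H : Type u) [Group H] [Finite H], IsPGroup p H → MNM H →
      ¬ Cfsg.IsMetacyclic (H ⧸ LB p H) →
      ((agemo p (H ⧸ LB p H)).index ≤ p ^ 2 → Cfsg.IsMetacyclic (H ⧸ LB p H)) →
      (LB p H).index = p ^ 3 ∧ ∀ g : H, g ^ p ∈ LB p H)
    (b1' : ∀ (H : Type u) [Group H] [Finite H], IsPGroup p H → MNM H → (LB p H).index = p ^ 3 →
      (∀ g : H, g ^ p ∈ LB p H) →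
      (∀ M : Subgroup H, Cfsg.IsMetacyclic ↥M → (agemo p ↥M).index ≤ p ^ 2) →
      ∀ M : Subgroup H, M.index = p → agemoOf p M = LB p H)
    (b2 : ∀ (H : Type u) [Group H] [Finite H], IsPGroup p H → commutator H ≤ LB p H →
      commutator H = ⊥)
    (b3 : ∀ (H : Type u) [Group H] [Finite H], IsPGroup p H → (LB p H).index = p ^ 3 →
      (∀ g : H, g ^ p ∈ LB p H) → (∀ M : Subgroup H, M.index = p → agemoOf p M = LB p H) →
      ¬ commutator H ≤ LB p H → ∃ u v : H, Gam p H u v)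
    (b4 : ∀ (H : Type u) [Group H] [Finite H], IsPGroup p H → ∀ u v : H, Gam p H u v →
      Nat.card ↥((⊤ : Subgroup H).lowerCentralSeries 2) ≤
        p * Nat.card ↥((⊤ : Subgroup H).lowerCentralSeries 3))
    (b5 : ∀ (H : Type u) [Group H] [Finite H], IsPGroup p H → ∀ u v : H, Gam p H u v →
      Nat.card ↥((⊤ : Subgroup H).lowerCentralSeries 2) ≤
        p * Nat.card ↥((⊤ : Subgroup H).lowerCentralSeries 3) →
      (⊤ : Subgroup H).lowerCentralSeries 2 ≠ ⊥ →
      ∃ M : Subgroup H, M.index = p ∧ ⁅M, M⁆ = (⊤ : Subgroup H).lowerCentralSeries 2)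
    (b6 : ∀ (H : Type u) [Group H] [Finite H], IsPGroup p H → MNM H → ∀ u v : H, Gam p H u v →
      ∀ M : Subgroup H, M.index = p → ⁅M, M⁆ = (⊤ : Subgroup H).lowerCentralSeries 2 →
      (⊤ : Subgroup H).lowerCentralSeries 2 ≠ ⊥ → Nat.card H = p ^ 4)
    (hp2 : p ≠ 2) (hG : IsPGroup p G) (h : MNM G) :
    Nat.card G = p ^ 3 ∨
      (Nat.card G = p ^ 4 ∧ (⊤ : Subgroup G).lowerCentralSeries 2 ≠ ⊥) := by
  have hq : ¬ Cfsg.IsMetacyclic (G ⧸ LB p G) := fun hq => h.1 (bl G hG hq)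
  have hGq : IsPGroup p (G ⧸ LB p G) := hG.to_quotient (LB p G)
  obtain ⟨hidx, hpow⟩ := b1 G hG h hq (fun hi => hup (G ⧸ LB p G) hGq hi)
  have hag := b1' G hG h hidx hpow (fun M hM => hupe ↥M (hG.to_subgroup M) hM)
  by_cases hc : commutator G ≤ LB p G
  · left
    have hcb := b2 G hG hc
    have hLB : LB p G = ⊥ := by
      rw [eq_bot_iff, ← hcb]
      exact LB_le_commutator' p G
    rw [hLB, Subgroup.index_bot] at hidx
    exact hidx
  · obtain ⟨u, v, hg⟩ := b3 G hG hidx hpow hag hc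
    by_cases hl : (⊤ : Subgroup G).lowerCentralSeries 2 = ⊥
    · left
      have h1 := hg.idx
      rw [hl, Subgroup.index_bot] at h1
      exact h1
    · right
      have h4 := b4 G hG u v hg
      obtain ⟨M, hM, hM'⟩ := b5 G hG u v hg h4 hl
      exact ⟨b6 G hG h u v hg M hM hM' hl, hl⟩

end Cfsg.Agent.Lib.H19.R2
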