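import Mathlib
import Cfsg.Prelude.Def_OddOrderLocal
import Cfsg.Prelude.Def_CaseTheorems
import Cfsg.Prelude.Def_PLocal
import Cfsg.Agent.Lib.H19.R2Defs

/-!
# S3888 piece C1N (`c1_normal`) (helper19): assembly of Case 1 with `E = N⟨x⟩` normal
-/

set_option autoImplicit false

namespace Cfsg.Agent.Lib.H19.R2

open Cfsg
open scoped commutatorElement

universe u

variable {p : ℕ} [hp : Fact p.Prime] {G : Type u} [Group G] [Finite G]

/-- C1N (assembly: `E` normal). -/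
theorem c1_normal
    (split : ∀ (H : Type u) [Group H] [Finite H], IsPGroup p H → ∀ (N : Subgroup H) (x : H),
      C1 p H N x → (N ⊔ Subgroup.zpowers x).Normal → StructA N x ∨ StructB N x)
    (pa : ∀ (H : Type u) [Group H] [Finite H] (n : ℕ), Nat.card H = p ^ n → ∀ (N : Subgroup H) (x : H),
      C1 p H N x → StructA N x → T2 p n H ∧ ∀ g : H, g ^ p = 1 → g ∈ N ⊔ Subgroup.zpowers x)
    (pb0 : ∀ (H : Type u) [Group H] [Finite H] (n : ℕ), Nat.card H = p ^ n → ∀ (N : Subgroup H) (x : H),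
      C1 p H N x → ∀ y z : H, y ∈ N → y * x ≠ x * y → (∀ a ∈ N, z * a = a * z) → x⁻¹ * z * x = y * z →
      N ⊔ Subgroup.zpowers x ⊔ Subgroup.zpowers z = ⊤ →
      4 ≤ n ∧ orderOf z = p ^ (n - 2) ∧ z ^ p ^ (n - 3) ∈ N ∧ x * z ^ p = z ^ p * x ∧
      (∃ k : ℕ, ¬ p ∣ k ∧ x⁻¹ * y * x = y * z ^ (k * p ^ (n - 3))) ∧
      Subgroup.closure ({x, y, z} : Set H) = ⊤ ∧
      Nat.card ↥(Subgroup.centralizer ({x} : Set H)) = p ^ (n - 2))
    (pb1 : ∀ (H : Type u) [Group H] [Finite H] (n : ℕ), 4 ≤ n → ∀ x y z : H, x ^ p = 1 → y ^ p = 1 →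
      orderOf z = p ^ (n - 2) → y * z = z * y → x⁻¹ * z * x = y * z → ∀ k : ℕ, ¬ p ∣ k →
      x⁻¹ * y * x = y * z ^ (k * p ^ (n - 3)) → Subgroup.closure ({x, y, z} : Set H) = ⊤ → T3 p n H)
    (pb2 : ∀ (H : Type u) [Group H] [Finite H] (n : ℕ), 4 ≤ n → Nat.card H = p ^ n →
      ∀ (N : Subgroup H) (x : H), C1 p H N x → ∀ y z : H, y ∈ N → y * x ≠ x * y →
      (∀ a ∈ N, z * a = a * z) → x⁻¹ * z * x = y * z →
      N ⊔ Subgroup.zpowers x ⊔ Subgroup.zpowers z = ⊤ → orderOf z = p ^ (n - 2) →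
      z ^ p ^ (n - 3) ∈ N → x * z ^ p = z ^ p * x → ∀ k : ℕ, ¬ p ∣ k →
      x⁻¹ * y * x = y * z ^ (k * p ^ (n - 3)) →
      (∀ g : H, g ^ p = 1 → g ∈ N ⊔ Subgroup.zpowers x) ∨ (p = 3 ∧ n = 4))
    (hp2 : p ≠ 2) {n : ℕ} (hcard : Nat.card G = p ^ n) {N : Subgroup G} {x : G} (h : C1 p G N x)
    (hEn : (N ⊔ Subgroup.zpowers x).Normal) :
    (T2 p n G ∨ T3 p n G) ∧ ((∀ g : G, g ^ p = 1 → g ∈ N ⊔ Subgroup.zpowers x) ∨
      (p = 3 ∧ Nat.card ↥(Subgroup.centralizer ({x} : Set G)) = p ^ 2)) := by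
  have hG : IsPGroup p G := IsPGroup.of_card hcard
  rcases split G hG N x h hEn with hA | hB
  · obtain ⟨ht2, hom⟩ := pa G n hcard N x h hA
    exact ⟨Or.inl ht2, Or.inl hom⟩
  · obtain ⟨y, z, hy, hyx, hz, hzx, hgen⟩ := hB
    obtain ⟨h4, hzo, hzN, hxz, ⟨k, hk, hyx'⟩, hcl, hcen⟩ :=
      pb0 G n hcard N x h y z hy hyx hz hzx hgen
    have hyp : y ^ p = 1 := h.nd.exp y hy
    have hyz : y * z = z * y := (hz y hy).symm
    have ht3 : T3 p n G := pb1 G n h4 x y z h.hx hyp hzo hyz hzx k hk hyx' hcl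
    refine ⟨Or.inr ht3, ?_⟩
    rcases pb2 G n h4 hcard N x h y z hy hyx hz hzx hgen hzo hzN hxz k hk hyx' with hom | ⟨hp3, hn4⟩
    · exact Or.inl hom
    · right
      refine ⟨hp3, ?_⟩
      rw [hcen, hn4]

end Cfsg.Agent.Lib.H19.R2
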