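import Mathlib
import Cfsg.Prelude.Def_OddOrderLocal
import Cfsg.Prelude.Def_CaseTheorems
import Cfsg.Prelude.Def_PLocal
import Cfsg.Agent.Lib.H19.R2Defs
import Cfsg.Agent.Lib.H16.Metacyclic
import Cfsg.Agent.Lib.H16.GAGPRIMEIDX

/-!
# S3888 pieces K2 (`case_two`) and ALPHA (`h2_alpha`) (helper19): assemblies of Case 2
-/

set_option autoImplicit false

namespace Cfsg.Agent.Lib.H19.R2

open Cfsg
open scoped commutatorElement

universe u

variable {p : ℕ} [hp : Fact p.Prime] {G : Type u} [Group G] [Finite G]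

/-- a proper subgroup of a finite `p`-group lies in a subgroup of index `p` -/
theorem exists_index_p_of_ne_top (hG : IsPGroup p G) (H : Subgroup G) (hH : H ≠ ⊤) :
    ∃ M : Subgroup G, H ≤ M ∧ M.index = p := by
  obtain ⟨M, hM, hHM⟩ := (eq_top_or_exists_le_coatom H).resolve_left hH
  have hnil : Group.IsNilpotent G := hG.isNilpotent
  have hMn : M.Normal :=
    Subgroup.NormalizerCondition.normal_of_coatom M (Group.normalizerCondition_of_isNilpotent (G := G)) hM
  have hpr := Cfsg.Agent.Lib.H16.GAG.index_prime_of_normal_isCoatom' hM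
  refine ⟨M, hHM, ?_⟩
  obtain ⟨k, hk⟩ := hG.index M
  have hk0 : k ≠ 0 := by
    intro h0
    rw [h0, pow_zero] at hk
    rw [hk] at hpr
    exact Nat.not_prime_one hpr
  rw [hk] at hpr ⊢
  have h1 : p = p ^ k := by
    rcases hpr.eq_one_or_self_of_dvd p (dvd_pow_self p hk0) with h | h
    · exact absurd h hp.out.one_lt.ne'
    · exact h
  exact h1.symm

theorem normal_of_index_p (hG : IsPGroup p G) (M : Subgroup G) (hM : M.index = p) : M.Normal := by
  obtain ⟨n, hn⟩ := (IsPGroup.iff_card).mp hG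
  have hn0 : n ≠ 0 := by
    intro h0
    rw [h0, pow_zero] at hn
    have h1 := Subgroup.index_dvd_card M
    rw [hn, hM] at h1
    exact hp.out.one_lt.ne' (Nat.dvd_one.mp h1)
  apply Subgroup.normal_of_index_eq_minFac_card
  rw [hM, hn, hp.out.pow_minFac hn0]

/-- K2 (assembly of Case 2). -/
theorem case_two
    (hmax : ∀ (H : Type u) [Group H] [Finite H], IsPGroup p H → ∀ (N : Subgroup H), H2 p H N →
      ∀ M : Subgroup H, M.index = p → IsCyclic ↥M ∨ N ≤ M)
    (hsub : ∀ (H : Type u) [Group H] [Finite H] (N : Subgroup H), H2 p H N → ∀ M : Subgroup H, N ≤ M →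
      H2 p ↥M (N.subgroupOf M))
    (hrk : ∀ (H : Type u) [Group H] [Finite H] (N : Subgroup H), H2 p H N → Cfsg.PRankLE p 2 H)
    (hnot : ∀ (H : Type u) [Group H] [Finite H] (N : Subgroup H), H2 p H N → ∀ n : ℕ,
      Nat.card H = p ^ n → ¬ T2 p n H ∧ ¬ T3 p n H)
    (beta : ∀ (H : Type u) [Group H] [Finite H], IsPGroup p H → MNM H →
      Nat.card H = p ^ 3 ∨ (Nat.card H = p ^ 4 ∧ (⊤ : Subgroup H).lowerCentralSeries 2 ≠ ⊥))
    (kbeta : ∀ (H : Type u) [Group H] [Finite H], IsPGroup p H → ∀ (N : Subgroup H), H2 p H N → ∀ n : ℕ,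
      Nat.card H = p ^ n → MNM H →
      (Nat.card H = p ^ 3 ∨ (Nat.card H = p ^ 4 ∧ (⊤ : Subgroup H).lowerCentralSeries 2 ≠ ⊥)) →
      MC p n H)
    (alpha : ∀ (H : Type u) [Group H] [Finite H] (n : ℕ), IH.{u} p n → ∀ (N : Subgroup H), H2 p H N →
      Nat.card H = p ^ n → ∀ M : Subgroup H, M.index = p → N ≤ M → MC p (n - 1) ↥M →
      ¬ Cfsg.IsMetacyclic ↥M → MC p n H)
    (hp2 : p ≠ 2) {n : ℕ} (ih : IH.{u} p n) {N : Subgroup G} (h : H2 p G N)
    (hcard : Nat.card G = p ^ n) : Cfsg.IsMetacyclic G ∨ MC p n G := by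
  have hG : IsPGroup p G := IsPGroup.of_card hcard
  by_cases hm : Cfsg.IsMetacyclic G
  · exact Or.inl hm
  · right
    have hNM : ∀ M : Subgroup G, M.index = p → N ≤ M := by
      intro M hM
      rcases hmax G hG N h M hM with hc | hle
      · exfalso
        apply hm
        have hMn : M.Normal := normal_of_index_p hG M hM
        refine ⟨M, hMn, hc, ?_⟩
        have hcq : Nat.card (G ⧸ M) = p := by rw [← Subgroup.index_eq_card, hM]
        exact isCyclic_of_prime_card hcq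
      · exact hle
    by_cases hall : ∀ M : Subgroup G, M.index = p → Cfsg.IsMetacyclic ↥M
    · have hmnm : MNM G := by
        refine ⟨hm, fun H hH => ?_⟩
        obtain ⟨M, hHM, hM⟩ := exists_index_p_of_ne_top hG H hH
        exact Cfsg.Agent.Lib.H16.Meta.isMetacyclic_of_le hHM (hall M hM)
      exact kbeta G hG N h n hcard hmnm (beta G hG hmnm)
    · push Not at hall
      obtain ⟨M, hM, hMn⟩ := hall
      have hNle := hNM M hM
      have h2M := hsub G N h M hNle
      have hn1 : 1 ≤ n := by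
        rcases Nat.eq_zero_or_pos n with h0 | h0
        · exfalso
          rw [h0, pow_zero] at hcard
          have h1 := Subgroup.index_dvd_card M
          rw [hcard, hM] at h1
          exact hp.out.one_lt.ne' (Nat.dvd_one.mp h1)
        · exact h0
      have hcardM : Nat.card ↥M = p ^ (n - 1) := by
        have h1 := Subgroup.card_mul_index M
        rw [hM, hcard] at h1
        have h2 : p ^ n = p ^ (n - 1) * p := by
          rw [← pow_succ]; congr 1; omega
        rw [h2] at h1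
        exact Nat.eq_of_mul_eq_mul_right hp.out.pos h1
      have hc := ih (n - 1) (by omega) ↥M hcardM (hrk ↥M _ h2M)
      rcases hc with hmm | ht2 | ht3 | hmc
      · exact absurd hmm hMn
      · exact absurd ht2 (hnot ↥M _ h2M (n - 1) hcardM).1
      · exact absurd ht3 (hnot ↥M _ h2M (n - 1) hcardM).2
      · exact alpha G n ih N h hcard M hM hNle hmc hMn

/-- ALPHA (assembly). -/
theorem h2_alpha
    (az : ∀ (H : Type u) [Group H] [Finite H], IsPGroup p H → ∀ (N : Subgroup H), H2 p H N → ∀ n : ℕ,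
      Nat.card H = p ^ n → ∀ M : Subgroup H, M.index = p → N ≤ M → MC p (n - 1) ↥M →
      ¬ Cfsg.IsMetacyclic ↥M →
      5 ≤ n ∧ Nat.card ↥(N ⊓ Subgroup.center H) = p ∧
        ∀ g ∈ M, (∀ m ∈ M, g * m = m * g) → g ∈ N ⊓ Subgroup.center H)
    (qrk : ∀ (H : Type u) [Group H] [Finite H] (N : Subgroup H), H2 p H N → ∀ (Z : Subgroup H) [Z.Normal],
      Z ≤ N → Z ≤ Subgroup.center H → Cfsg.PRankLE p 2 (H ⧸ Z))
    (qm : ∀ (H : Type u) [Group H] [Finite H], IsPGroup p H → ∀ (N : Subgroup H), H2 p H N →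
      ∀ (Z : Subgroup H) [Z.Normal], Z ≤ N → Z ≤ Subgroup.center H → Nat.card Z = p →
      Cfsg.IsMetacyclic (H ⧸ Z) → Cfsg.IsMetacyclic H)
    (t2 : ∀ (H : Type u) [Group H] [Finite H], IsPGroup p H → ∀ (N : Subgroup H), H2 p H N → ∀ n : ℕ,
      5 ≤ n → Nat.card H = p ^ n → ∀ (Z : Subgroup H) [Z.Normal], Z = N ⊓ Subgroup.center H →
      Nat.card Z = p → ¬ T2 p (n - 1) (H ⧸ Z))
    (t3 : ∀ (H : Type u) [Group H] [Finite H], IsPGroup p H → ∀ (N : Subgroup H), H2 p H N → ∀ n : ℕ,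
      5 ≤ n → Nat.card H = p ^ n → ∀ (Z : Subgroup H) [Z.Normal], Z = N ⊓ Subgroup.center H →
      Nat.card Z = p → T3 p (n - 1) (H ⧸ Z) →
      n = 5 ∧ (⊤ : Subgroup (H ⧸ Z)).lowerCentralSeries 2 ≠ ⊥)
    (amc : ∀ (H : Type u) [Group H] [Finite H], IsPGroup p H → ∀ (N : Subgroup H), H2 p H N → ∀ n : ℕ,
      5 ≤ n → Nat.card H = p ^ n → ∀ M : Subgroup H, M.index = p → N ≤ M →
      (∀ g ∈ M, (∀ m ∈ M, g * m = m * g) → g ∈ N ⊓ Subgroup.center H) →
      ∀ (Z : Subgroup H) [Z.Normal], Z = N ⊓ Subgroup.center H → Nat.card Z = p →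
      MC p (n - 1) (H ⧸ Z) → MC p n H)
    (hp2 : p ≠ 2) {n : ℕ} (ih : IH.{u} p n) {N : Subgroup G} (h : H2 p G N) (hcard : Nat.card G = p ^ n)
    (M : Subgroup G) (hM : M.index = p) (hNM : N ≤ M) (hMmc : MC p (n - 1) ↥M)
    (hMn : ¬ Cfsg.IsMetacyclic ↥M) : MC p n G := by
  have hG : IsPGroup p G := IsPGroup.of_card hcard
  obtain ⟨h5, hZp, hZM⟩ := az G hG N h n hcard M hM hNM hMmc hMn
  have hNn : N.Normal := h.1.normal
  have hZn : (N ⊓ Subgroup.center G).Normal := inferInstance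
  have hZN : N ⊓ Subgroup.center G ≤ N := inf_le_left
  have hZc : N ⊓ Subgroup.center G ≤ Subgroup.center G := inf_le_right
  have hcardQ : Nat.card (G ⧸ (N ⊓ Subgroup.center G)) = p ^ (n - 1) := by
    have h1 := Subgroup.card_eq_card_quotient_mul_card_subgroup (N ⊓ Subgroup.center G)
    rw [hcard, hZp] at h1
    have h2 : p ^ n = p ^ (n - 1) * p := by
      rw [← pow_succ]; congr 1; omega
    rw [h2] at h1
    exact (Nat.eq_of_mul_eq_mul_right hp.out.pos h1).symm
  have hrkQ := qrk G N h (N ⊓ Subgroup.center G) hZN hZc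
  have hconc := ih (n - 1) (by omega) (G ⧸ (N ⊓ Subgroup.center G)) hcardQ hrkQ
  rcases hconc with hm | ht2 | ht3 | hmc
  · exfalso
    have := qm G hG N h (N ⊓ Subgroup.center G) hZN hZc hZp hm
    exact hMn (Cfsg.Agent.Lib.H16.Meta.isMetacyclic_sub this M)
  · exact absurd ht2 (t2 G hG N h n h5 hcard (N ⊓ Subgroup.center G) rfl hZp)
  · obtain ⟨hn5, hl⟩ := t3 G hG N h n h5 hcard (N ⊓ Subgroup.center G) rfl hZp ht3
    have hq : MC p (n - 1) (G ⧸ (N ⊓ Subgroup.center G)) := by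
      refine ⟨hMmc.1, by omega, ?_⟩
      have : n - 1 - 2 = 2 := by omega
      rw [this]
      exact hl
    exact amc G hG N h n h5 hcard M hM hNM hZM (N ⊓ Subgroup.center G) rfl hZp hq
  · exact amc G hG N h n h5 hcard M hM hNM hZM (N ⊓ Subgroup.center G) rfl hZp hmc

end Cfsg.Agent.Lib.H19.R2
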