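import Mathlib
import Cfsg.Prelude.Def_OddOrderLocal
import Cfsg.Prelude.Def_CaseTheorems
import Cfsg.Prelude.Def_PLocal
import Cfsg.Agent.Lib.H19.R2Defs
import Cfsg.Agent.Lib.H16.OmegaQuotA

/-!
# S3888 piece MAIN (helper19): the strong induction
-/

set_option autoImplicit false

namespace Cfsg.Agent.Lib.H19.R2

open Cfsg
open scoped commutatorElement

universe u

variable {p : ℕ} [Fact p.Prime] {G : Type u} [Group G] [Finite G]

omit [Finite G] in
theorem isMetacyclic_of_isCyclic (h : IsCyclic G) : Cfsg.IsMetacyclic G := by
  refine ⟨⊤, inferInstance, ?_, ?_⟩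
  · exact isCyclic_of_surjective (Subgroup.topEquiv (G := G)).symm.toMonoidHom
      (Subgroup.topEquiv (G := G)).symm.surjective
  · exact isCyclic_of_surjective (QuotientGroup.mk' (⊤ : Subgroup G)) (QuotientGroup.mk'_surjective _)

omit [Fact p.Prime] in
/-- rank at most two: an element of order dividing `p` centralizing `N` lies in `N` -/
theorem mem_of_rank (hrk : Cfsg.PRankLE p 2 G) {N : Subgroup G} (hN : NData p G N) {g : G}
    (hg : g ^ p = 1) (hc : g ∈ Subgroup.centralizer (N : Set G)) : g ∈ N := by
  classical
  set S : Set G := (N : Set G) ∪ {g} with hS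
  have hScomm : ∀ a ∈ S, ∀ b ∈ S, a * b = b * a := by
    intro a ha b hb
    rcases ha with ha | ha <;> rcases hb with hb | hb
    · exact hN.comm a ha b hb
    · rw [Set.mem_singleton_iff] at hb
      subst hb
      exact (hc a ha)
    · rw [Set.mem_singleton_iff] at ha
      subst ha
      exact (hc b hb).symm
    · rw [Set.mem_singleton_iff] at ha hb
      rw [ha, hb]
  set A : Subgroup G := Subgroup.closure S with hA
  have hAcomm : ∀ a ∈ A, ∀ b ∈ A, a * b = b * a := by
    intro a ha b hb
    have h1 : A ≤ Subgroup.centralizer (S : Set G) := by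
      rw [hA, Subgroup.closure_le]
      intro s hs
      rw [SetLike.mem_coe, Subgroup.mem_centralizer_iff]
      intro t ht
      exact hScomm t ht s hs
    have h2 : A ≤ Subgroup.centralizer (A : Set G) := by
      rw [hA]
      intro s hs
      rw [Subgroup.mem_centralizer_iff]
      intro t ht
      have h3 : Subgroup.closure S ≤ Subgroup.centralizer ({s} : Set G) := by
        rw [Subgroup.closure_le]
        intro r hr
        rw [SetLike.mem_coe, Subgroup.mem_centralizer_iff]
        intro s' hs'
        rw [Set.mem_singleton_iff] at hs'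
        subst hs'
        have := h1 hs
        rw [Subgroup.mem_centralizer_iff] at this
        exact (this r hr).symm
      have := h3 ht
      rw [Subgroup.mem_centralizer_iff] at this
      exact (this s rfl).symm
    have := h2 hb
    rw [Subgroup.mem_centralizer_iff] at this
    exact this a ha
  have hAexp : ∀ a ∈ A, a ^ p = 1 := by
    intro a ha
    induction ha using Subgroup.closure_induction with
    | mem s hs =>
      rcases hs with hs | hs
      · exact hN.exp s hs
      · rw [Set.mem_singleton_iff] at hs; rw [hs]; exact hg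
    | one => exact one_pow _
    | mul a b ha hb iha ihb =>
      rw [(show Commute a b from hAcomm a ha b hb).mul_pow, iha, ihb, mul_one]
    | inv a _ iha => rw [inv_pow, iha, inv_one]
  have hAc : IsMulCommutative A := ⟨⟨fun a b => Subtype.ext (hAcomm a a.2 b b.2)⟩⟩
  have hle : Nat.card A ≤ p ^ 2 := hrk A hAc hAexp
  have hNA : N ≤ A := by
    intro a ha
    exact Subgroup.subset_closure (Or.inl ha)
  have hEq : N = A := by
    apply Subgroup.eq_of_le_of_card_ge hNA
    rw [hN.card]; exact hle
  rw [hEq]
  exact Subgroup.subset_closure (Or.inr rfl)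

/-- MAIN (assembly). -/
theorem main
    (c1 : ∀ (H : Type u) [Group H] [Finite H] (n : ℕ), Nat.card H = p ^ n → ∀ (N : Subgroup H) (x : H),
      C1 p H N x → T2 p n H ∨ T3 p n H ∨ MC p n H)
    (c2 : ∀ (H : Type u) [Group H] [Finite H] (n : ℕ), IH.{u} p n → ∀ (N : Subgroup H), H2 p H N →
      Nat.card H = p ^ n → Cfsg.IsMetacyclic H ∨ MC p n H)
    (hp2 : p ≠ 2) :
    ∀ (n : ℕ) (H : Type u) [Group H] [Finite H], Nat.card H = p ^ n → Cfsg.PRankLE p 2 H →
      Concl p n H := by
  intro n
  induction n using Nat.strong_induction_on with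
  | _ n ihn =>
    intro H _ _ hcard hrk
    have ih : IH.{u} p n := fun m hm K _ _ hK hrkK => ihn m hm K hK hrkK
    have hP : IsPGroup p H := IsPGroup.of_card hcard
    by_cases hcyc : IsCyclic H
    · left; exact isMetacyclic_of_isCyclic hcyc
    · obtain ⟨N, hNn, hNc, hNe, hNcard⟩ :=
        Cfsg.Agent.Lib.H16.OmegaQuot.exists_normal_sq_of_not_cyclic hp2 hP hcyc
      have hN : NData p H N := ⟨hNn, hNc, hNe, hNcard⟩
      by_cases hx : ∃ x : H, x ^ p = 1 ∧ x ∉ Subgroup.centralizer (N : Set H)
      · obtain ⟨x, hx1, hx2⟩ := hx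
        rcases c1 H n hcard N x ⟨hN, hx1, hx2, hrk⟩ with h | h | h
        · right; left; exact h
        · right; right; left; exact h
        · right; right; right; exact h
      · push Not at hx
        have h2 : H2 p H N := ⟨hN, fun g hg => mem_of_rank hrk hN hg (hx g hg)⟩
        rcases c2 H n ih N h2 hcard with h | h
        · left; exact h
        · right; right; right; exact h

end Cfsg.Agent.Lib.H19.R2
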