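import Mathlib
import Cfsg.Prelude.Def_OddOrderLocal
import Cfsg.Prelude.Def_CaseTheorems
import Cfsg.Prelude.Def_PLocal
import Cfsg.Agent.Lib.H19.R2Defs
import Cfsg.Agent.Lib.H19.R2MAIN
import Cfsg.Agent.Lib.H19.R2B4
import Cfsg.Agent.Lib.H19.R2BETA
import Cfsg.Agent.Lib.H19.R2C1N
import Cfsg.Agent.Lib.H19.R2K2
import Cfsg.Agent.Lib.H6.R2HUPE
import Cfsg.Agent.Lib.H6.R2BL
import Cfsg.Agent.Lib.H6.R2HUP
import Cfsg.Agent.Lib.H6.R2B2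
import Cfsg.Agent.Lib.H14.R2HUP2
import Cfsg.Agent.Lib.H24.R2BL1
import Cfsg.Agent.Lib.H22.R2B1
import Cfsg.Agent.Lib.H25.R2B1P
import Cfsg.Agent.Lib.H22.R2B3
import Cfsg.Agent.Lib.H14.R2B5
import Cfsg.Agent.Lib.H21.R2B6
import Cfsg.Agent.Lib.H20.R2C1SPLIT
import Cfsg.Agent.Lib.H14.R2C1A
import Cfsg.Agent.Lib.H28.R2C1B0
import Cfsg.Agent.Lib.H5.R2C1B1
import Cfsg.Agent.Lib.H18.R2C1B2
import Cfsg.Agent.Lib.H9.R2C1
import Cfsg.Agent.Lib.H1.R2K2MAX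
import Cfsg.Agent.Lib.H1.R2K2SUB
import Cfsg.Agent.Lib.H1.R2K2RK
import Cfsg.Agent.Lib.H1.R2K2NOT
import Cfsg.Agent.Lib.H1.R2K2REG
import Cfsg.Agent.Lib.H21.R2K2QRK
import Cfsg.Agent.Lib.H7.R2K2A
import Cfsg.Agent.Lib.H21.R2K2BETA
import Cfsg.Agent.Lib.H11.R2ALPHAZ
import Cfsg.Agent.Lib.H11.R2ALPHAT2
import Cfsg.Agent.Lib.H11.R2ALPHAT3
import Cfsg.Agent.Lib.H15.R2ALPHAMC

/-!
# S3888 (Blackburn: `p`-groups of rank at most two, `p` odd): final wiring of the landed pieces (helper19)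
-/

set_option autoImplicit false

namespace Cfsg.Agent.Lib.H19.R2

open Cfsg
open scoped commutatorElement

universe u

variable {p : ℕ} [hp : Fact p.Prime]

theorem fin_hupe (H : Type u) [Group H] [Finite H] (hH : IsPGroup p H) (hm : Cfsg.IsMetacyclic H) :
    (agemo p H).index ≤ p ^ 2 :=
  Cfsg.Agent.Lib.H6.R2.index_agemo_le_of_metacyclic hH hm

theorem fin_bl (H : Type u) [Group H] [Finite H] (hH : IsPGroup p H)
    (hq : Cfsg.IsMetacyclic (H ⧸ LB p H)) : Cfsg.IsMetacyclic H :=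
  Cfsg.Agent.Lib.H6.R2.blackburn
    (fun K _ _ hK L₀ _ hcard hle hq => Cfsg.Agent.Lib.H24.R2.blackburn_step hK L₀ hcard hle hq) hH hq

theorem fin_hup (hp2 : p ≠ 2) (H : Type u) [Group H] [Finite H] (hH : IsPGroup p H)
    (hidx : (agemo p H).index ≤ p ^ 2) : Cfsg.IsMetacyclic H :=
  Cfsg.Agent.Lib.H6.R2.metacyclic_of_index_agemo_le
    (fun Q _ _ hQ hcl hexp hi => Cfsg.Agent.Lib.H14.R2.metacyclic_of_class_two hp2 hQ hcl hexp hi)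
    (fun K _ _ hK hq => fin_bl K hK hq) hH hidx

theorem fin_beta (hp2 : p ≠ 2) (H : Type u) [Group H] [Finite H] (hH : IsPGroup p H) (hm : MNM H) :
    Nat.card H = p ^ 3 ∨ (Nat.card H = p ^ 4 ∧ (⊤ : Subgroup H).lowerCentralSeries 2 ≠ ⊥) :=
  mnm_main (fin_hup hp2) fin_hupe fin_bl
    (fun K _ _ hK hm hq hup => Cfsg.Agent.Lib.H22.R2.mnm_index_LB hp2 hK hm hq hup)
    (fun K _ _ hK hm hidx hpow hupe M hM =>
      Cfsg.Agent.Lib.H25.R2.mnm_agemo_max hK hm hidx hpow hupe M hM)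
    (fun K _ _ hK h => Cfsg.Agent.Lib.H6.R2.commutator_eq_bot_of_le_LB hK h)
    (fun K _ _ hK hidx hpow hag hne => Cfsg.Agent.Lib.H22.R2.mnm_gamma3 hp2 hK hidx hpow hag hne)
    (fun K _ _ hK u v hg => mnm_gamma4 hp2 hK hg)
    (fun K _ _ hK u v hg h4 hne => Cfsg.Agent.Lib.H14.R2.mnm_exists_max hK hg h4 hne)
    (fun K _ _ hK hm u v hg M hM hM' hne => Cfsg.Agent.Lib.H21.R2.mnm_card hp2 hK hm hg M hM hM' hne)
    hp2 hH hm

theorem fin_case_one (hp2 : p ≠ 2) (H : Type u) [Group H] [Finite H] (n : ℕ)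
    (hcard : Nat.card H = p ^ n) (N : Subgroup H) (x : H) (h : C1 p H N x) :
    T2 p n H ∨ T3 p n H ∨ MC p n H :=
  Cfsg.Agent.Lib.H9.R2.case_one
    (fun K _ _ m hc N' x' h' hEn => c1_normal
      (fun L _ _ hL N x h hEn => Cfsg.Agent.Lib.H20.R2.c1_split hp2 hL h hEn)
      (fun L _ _ n hc N x h hA => Cfsg.Agent.Lib.H14.R2.c1_A hp2 hc h hA)
      (fun L _ _ n hc N x h y z hy hyx hz hzx hgen =>
        Cfsg.Agent.Lib.H28.R2.c1_B0 hp2 hc h hy hyx hz hzx hgen)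
      (fun L _ _ n h4 x y z hx hy hzo hyz hzx k hk hyx hgen =>
        Cfsg.Agent.Lib.H5.R2.c1_B1 hp2 h4 hx hy hzo hyz hzx hk hyx hgen)
      (fun L _ _ n h4 hc N x h y z hy hyx hz hzx hgen hzo hzN hxz k hk hyx' =>
        Cfsg.Agent.Lib.H18.R2.c1_B2 hp2 h4 hc h hy hyx hz hzx hgen hzo hzN hxz hk hyx')
      hp2 hc h' hEn)
    hp2 hcard h

theorem fin_qm (hp2 : p ≠ 2) (H : Type u) [Group H] [Finite H] (hH : IsPGroup p H) (N : Subgroup H)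
    (h : H2 p H N) (Z : Subgroup H) [Z.Normal] (hZN : Z ≤ N) (hZc : Z ≤ Subgroup.center H)
    (hZp : Nat.card Z = p) (hq : Cfsg.IsMetacyclic (H ⧸ Z)) : Cfsg.IsMetacyclic H :=
  Cfsg.Agent.Lib.H7.R2.h2_quot_meta hp2 hH h Z hZN hZc hZp hq (fun hi => fin_hup hp2 H hH hi)
    (fin_hupe (H ⧸ Z) (hH.to_quotient Z) hq)

theorem fin_alpha (hp2 : p ≠ 2) (H : Type u) [Group H] [Finite H] (n : ℕ) (ih : IH.{u} p n)
    (N : Subgroup H) (h : H2 p H N) (hcard : Nat.card H = p ^ n) (M : Subgroup H) (hM : M.index = p)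
    (hNM : N ≤ M) (hMmc : MC p (n - 1) ↥M) (hMn : ¬ Cfsg.IsMetacyclic ↥M) : MC p n H :=
  h2_alpha
    (fun K _ _ hK N h n hc M hM hNM hMmc hMn =>
      Cfsg.Agent.Lib.H11.R2.alpha_Z hp2 hK h hc M hM hNM hMmc hMn)
    (fun K _ _ N h Z _ hZN hZc => Cfsg.Agent.Lib.H21.R2.h2_quot_rank hp2 h Z hZN hZc)
    (fun K _ _ hK N h Z _ hZN hZc hZp hq => fin_qm hp2 K hK N h Z hZN hZc hZp hq)
    (fun K _ _ hK N h n h5 hc Z _ hZ hZp => Cfsg.Agent.Lib.H11.R2.alpha_T2 hp2 hK h h5 hc Z hZ hZp)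
    (fun K _ _ hK N h n h5 hc Z _ hZ hZp ht =>
      Cfsg.Agent.Lib.H11.R2.alpha_T3 hp2 hK h h5 hc Z hZ hZp ht)
    (fun K _ _ hK N h n h5 hc M hM hNM hZM Z _ hZ hZp hq =>
      Cfsg.Agent.Lib.H15.R2.alpha_MC hK h h5 hc M hM hNM hZM Z hZ hZp hq)
    hp2 ih h hcard M hM hNM hMmc hMn

theorem fin_case_two (hp2 : p ≠ 2) (H : Type u) [Group H] [Finite H] (n : ℕ) (ih : IH.{u} p n)
    (N : Subgroup H) (h : H2 p H N) (hcard : Nat.card H = p ^ n) : Cfsg.IsMetacyclic H ∨ MC p n H :=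
  case_two
    (fun K _ _ hK N h M hM => Cfsg.Agent.Lib.H1.R2.h2_max hp2 hK h M hM)
    (fun K _ _ N h M hNM => Cfsg.Agent.Lib.H1.R2.h2_sub h M hNM)
    (fun K _ _ N h => Cfsg.Agent.Lib.H1.R2.h2_rank h)
    (fun K _ _ N h n hc => Cfsg.Agent.Lib.H1.R2.h2_not_T2_T3 h hc)
    (fun K _ _ hK hm => fin_beta hp2 K hK hm)
    (fun K _ _ hK N h n hc hm beta => Cfsg.Agent.Lib.H21.R2.h2_mnm hp2 hK h hc hm beta
      (fun hi => fin_hup hp2 K hK hi) (fun hreg => Cfsg.Agent.Lib.H1.R2.h2_regular h hreg))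
    (fun K _ _ n ih N h hc M hM hNM hMmc hMn => fin_alpha hp2 K n ih N h hc M hM hNM hMmc hMn)
    hp2 ih h hcard

/-- S3888 in terms of `Concl`. -/
theorem fin_main (hp2 : p ≠ 2) (n : ℕ) (H : Type u) [Group H] [Finite H] (hcard : Nat.card H = p ^ n)
    (hrk : Cfsg.PRankLE p 2 H) : Concl p n H :=
  main (fun K _ _ n hc N x h => fin_case_one hp2 K n hc N x h)
    (fun K _ _ n ih N h hc => fin_case_two hp2 K n ih N h hc) hp2 n H hcard hrk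

end Cfsg.Agent.Lib.H19.R2
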