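import Cfsg.Agent.Lib.H19.AEINT

/-!
# S1951 piece F1 / INT, function form (helper19)

`ae_int_fun`: integer-valued functions `d f : IrrCharacter G → ℤ` with `χ a = d χ`, `χ 1 = f χ`,
`f χ = d χ + m |P|` with `m ≥ 1` for `χ` non-trivial, and `d = f = 1` at the trivial character.
-/

set_option autoImplicit false

namespace Cfsg.Agent.Lib.H19.AE

open Cfsg Cfsg.Agent.Lib.L0 Cfsg.Agent.Lib.H24

variable {G : Type*} [Group G] [Finite G]

/-- **F1 / INT**, function form. -/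
theorem ae_int_fun [IsSimpleGroup G] (P : Subgroup G) (hP : 2 ≤ Nat.card P) (a : G) (ha : a ≠ 1)
    (hconj : ∀ x ∈ P, x ≠ 1 → IsConj a x) :
    ∃ d f : IrrCharacter G → ℤ,
      (∀ χ : IrrCharacter G, (χ : G → ℂ) a = (d χ : ℂ)) ∧
      (∀ χ : IrrCharacter G, (χ : G → ℂ) 1 = (f χ : ℂ)) ∧
      (∀ χ : IrrCharacter G, (χ : G → ℂ) ≠ (fun _ => (1 : ℂ)) →
        ∃ m : ℤ, 1 ≤ m ∧ f χ = d χ + m * (Nat.card P : ℤ)) ∧
      (∀ χ : IrrCharacter G, (χ : G → ℂ) = (fun _ => (1 : ℂ)) → d χ = 1 ∧ f χ = 1) := by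
  classical
  have key : ∀ χ : IrrCharacter G, ∃ d m : ℤ, (χ : G → ℂ) a = d ∧
      (χ : G → ℂ) 1 = d + m * (Nat.card P : ℤ) ∧ (((χ : G → ℂ) ≠ fun _ => 1) → 1 ≤ m) :=
    fun χ => ae_int_simple P hP a ha hconj χ.2
  choose d m hd h1 hm using key
  refine ⟨d, fun χ => d χ + m χ * (Nat.card P : ℤ), hd, ?_, ?_, ?_⟩
  · intro χ
    rw [h1 χ]
    push_cast
    rfl
  · intro χ hne
    exact ⟨m χ, hm χ hne, rfl⟩
  · intro χ htriv
    have hda : (d χ : ℂ) = 1 := by rw [← hd χ, htriv]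
    have hd1 : d χ = 1 := by exact_mod_cast hda
    have hf1 : ((d χ + m χ * (Nat.card P : ℤ) : ℤ) : ℂ) = 1 := by
      have := h1 χ
      rw [htriv] at this
      push_cast at this ⊢
      exact this.symm
    exact ⟨hd1, by exact_mod_cast hf1⟩

end Cfsg.Agent.Lib.H19.AE
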