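import Mathlib
import Cfsg.Agent.Lib.H7.Kazarin
import Cfsg.Agent.Lib.H24.MI.Defs

/-!
# S4245, piece K5 (helper19; architect helper24): LEMMA L

A finite group with a cyclic subgroup of prime-power index is solvable.  Strong induction on `|G|`:
`B = ⊥`: `G` is a `p`-group.  Otherwise pick `1 ≠ x ∈ B`; `B` is abelian, so `B ≤ C_G(x)` and the class size of `x`
is a power of `p`; by Kazarin's theorem (landed `Cfsg.Agent.Lib.H7.Kaz.isSolvable_normalClosure`) the normal closure
`N` of `x` is solvable; it is nontrivial, and `B N / N` is a cyclic subgroup of `G ⧸ N` of index dividing `p ^ s`.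
-/

set_option autoImplicit false

namespace Cfsg.Agent.Lib.H19.MI

open Cfsg.Agent.Lib.H24.MI

/-- local form of K2: an element centralized by a subgroup of prime-power index has a solvable normal closure
(Kazarin). -/
theorem k5_solvable_normalClosure {G : Type*} [Group G] [Finite G] (A : Subgroup G) (p s : ℕ)
    (hp : p.Prime) (hA : A.index ∣ p ^ s) (x : G) (hx : ∀ a ∈ A, a * x = x * a) :
    Group.IsSolvable (Subgroup.normalClosure ({x} : Set G)) := by
  have hle : A ≤ Subgroup.centralizer ({x} : Set G) := by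
    intro a ha
    rw [Subgroup.mem_centralizer_iff]
    intro y hy
    rw [Set.mem_singleton_iff] at hy
    subst hy
    exact (hx a ha).symm
  have hdvd : (Subgroup.centralizer ({x} : Set G)).index ∣ p ^ s :=
    (Subgroup.index_dvd_of_le hle).trans hA
  obtain ⟨k, _, hk⟩ := (Nat.dvd_prime_pow hp).1 hdvd
  exact Cfsg.Agent.Lib.H7.Kaz.isSolvable_normalClosure hp _ x k rfl hk

/-- two elements of a cyclic subgroup commute. -/
theorem k5_comm_of_cyclic {G : Type*} [Group G] (B : Subgroup G) (hB : IsCyclic B) (a x : G)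
    (ha : a ∈ B) (hx : x ∈ B) : a * x = x * a := by
  obtain ⟨g, hg⟩ := hB.exists_generator
  obtain ⟨i, hi⟩ := Subgroup.mem_zpowers_iff.1 (hg ⟨a, ha⟩)
  obtain ⟨j, hj⟩ := Subgroup.mem_zpowers_iff.1 (hg ⟨x, hx⟩)
  have h : (⟨a, ha⟩ : B) * ⟨x, hx⟩ = ⟨x, hx⟩ * ⟨a, ha⟩ := by
    rw [← hi, ← hj, ← zpow_add, ← zpow_add, add_comm]
  exact congrArg Subtype.val h

/-- LEMMA L, inductive form. -/
theorem solvable_of_cyclic_index_aux (p : ℕ) (hp : p.Prime) :
    ∀ (n : ℕ) (G : Type*) [Group G] [Finite G], Nat.card G = n →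
      ∀ (B : Subgroup G), IsCyclic B → ∀ s : ℕ, B.index ∣ p ^ s → Group.IsSolvable G := by
  intro n
  induction n using Nat.strong_induction_on with
  | _ n ih =>
    intro G _ _ hn B hB s h
    by_cases hbot : B = ⊥
    · subst hbot
      rw [Subgroup.index_bot] at h
      obtain ⟨k, _, hk⟩ := (Nat.dvd_prime_pow hp).1 h
      haveI : Fact p.Prime := ⟨hp⟩
      have hpg : IsPGroup p G := IsPGroup.of_card hk
      haveI : Group.IsNilpotent G := hpg.isNilpotent
      infer_instance
    · obtain ⟨⟨x, hxB⟩, hx1'⟩ := (Subgroup.ne_bot_iff_exists_ne_one).1 hbot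
      have hx1 : x ≠ 1 := by
        intro h1
        exact hx1' (Subtype.ext h1)
      have hcomm : ∀ a ∈ B, a * x = x * a := fun a ha => k5_comm_of_cyclic B hB a x ha hxB
      have hsol : Group.IsSolvable (Subgroup.normalClosure ({x} : Set G)) :=
        k5_solvable_normalClosure B p s hp h x hcomm
      obtain ⟨N, hNdef⟩ : ∃ N : Subgroup G, N = Subgroup.normalClosure ({x} : Set G) := ⟨_, rfl⟩
      have hNnormal : N.Normal := hNdef ▸ Subgroup.normalClosure_normal
      rw [← hNdef] at hsol
      have hxN : x ∈ N := hNdef ▸ Subgroup.subset_normalClosure (Set.mem_singleton _)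
      have hNbot : N ≠ ⊥ := by
        intro hb
        rw [hb, Subgroup.mem_bot] at hxN
        exact hx1 hxN
      have hlt : Nat.card (G ⧸ N) < Nat.card G := by
        have h1 := Subgroup.card_eq_card_quotient_mul_card_subgroup N
        have h2' : 1 < Nat.card N := (Subgroup.one_lt_card_iff_ne_bot (H := N)).mpr hNbot
        have h3 : 0 < Nat.card (G ⧸ N) := Nat.card_pos
        nlinarith
      have hcyc : IsCyclic (B.map (QuotientGroup.mk' N)) :=
        isCyclic_of_surjective ((QuotientGroup.mk' N).subgroupMap B)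
          ((QuotientGroup.mk' N).subgroupMap_surjective B)
      have hidx : (B.map (QuotientGroup.mk' N)).index ∣ p ^ s :=
        (Subgroup.index_map_dvd B (QuotientGroup.mk'_surjective N)).trans h
      have hq : Group.IsSolvable (G ⧸ N) :=
        ih (Nat.card (G ⧸ N)) (hn ▸ hlt) (G ⧸ N) rfl (B.map (QuotientGroup.mk' N)) hcyc s hidx
      exact Group.isSolvable_of_ker_le_range N.subtype (QuotientGroup.mk' N) (by simp)

/-- K5 = LEMMA L: a finite group with a cyclic subgroup of prime-power index is solvable. -/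
theorem solvable_of_cyclic_index {G : Type*} [Group G] [Finite G] (B : Subgroup G) (hB : IsCyclic B)
    (p s : ℕ) (hp : p.Prime) (h : B.index ∣ p ^ s) : Group.IsSolvable G :=
  solvable_of_cyclic_index_aux p hp (Nat.card G) G rfl B hB s h

end Cfsg.Agent.Lib.H19.MI
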