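/-
S2332 (sharp minimal degree of `SL_n(q)`, architect helper12), piece **PERM52**:
an irreducible representation of `SL_{m+1}(2)` with a non-zero vector fixed by the stabiliser of the first basis vector is
trivial or of degree `2^(m+1) - 2`  (the permutation character on non-zero vectors is `1 + χ₀`, helper12 `SLPerm.main`).
-/
import Mathlib
import Cfsg.Agent.Lib.H12.SLMinDefs
import Cfsg.Agent.Lib.H12.SLPermChar
import Cfsg.Agent.Lib.L0.CharDecomp
import Cfsg.Agent.Lib.L0.CharPerm

set_option autoImplicit false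

namespace Cfsg.Agent.Lib.H19.SLMin

open Matrix Module Cfsg.Agent.Lib.H12.SLMin Cfsg.Agent.Lib.L0
open scoped ComplexConjugate

/-- the sum of the character over a subgroup with a non-zero fixed vector is non-zero -/
theorem sum_char_subgroup_ne_zero {G : Type*} [Group G] {V : Type*} [AddCommGroup V] [Module ℂ V]
    [FiniteDimensional ℂ V] (ρ : Representation ℂ G V) (H : Subgroup G) [Fintype H] (v : V) (hv : v ≠ 0)
    (hfix : ∀ h : H, ρ h v = v) :
    ∃ d : ℕ, d ≠ 0 ∧ ∑ h : H, ρ.character h = (Fintype.card H : ℂ) * d := by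
  classical
  let σ : Representation ℂ H V := ρ.comp H.subtype
  have hc : (Fintype.card H : ℂ) ≠ 0 := Nat.cast_ne_zero.2 Fintype.card_ne_zero
  let _ : Invertible (Fintype.card H : ℂ) := invertibleOfNonzero hc
  have hP := Representation.isProj_averageMap σ
  have ht := hP.trace
  have hv' : v ∈ Representation.invariants σ := fun h => hfix h
  have hd : finrank ℂ (Representation.invariants σ) ≠ 0 := by
    intro h0
    have hbot := Submodule.finrank_eq_zero.1 h0
    rw [hbot, Submodule.mem_bot] at hv'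
    exact hv hv'
  refine ⟨finrank ℂ (Representation.invariants σ), hd, ?_⟩
  have havg : Representation.averageMap σ = ⅟(Fintype.card H : ℂ) • ∑ h : H, ρ h := by
    show Representation.asAlgebraHom σ (GroupAlgebra.average ℂ H) = _
    unfold GroupAlgebra.average
    rw [map_smul, map_sum]
    congr 1
    refine Finset.sum_congr rfl fun h _ => ?_
    rw [Representation.asAlgebraHom_of]
    rfl
  rw [havg, map_smul, map_sum, smul_eq_mul] at ht
  have h2 : ∑ h : H, ρ.character h = ∑ h : H, LinearMap.trace ℂ V (ρ h) := rfl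
  rw [h2, ← ht, ← mul_assoc, mul_invOf_self, one_mul]

variable {F : Type*} [Field F]

/-- an element of `SL_{m+1}` fixing the first basis vector is `uEl a * lev h` -/
theorem exists_uEl_lev {m : ℕ} (g : Matrix.SpecialLinearGroup (Fin (m + 1)) F)
    (hg : g.1 *ᵥ (Pi.single 0 1 : Fin (m + 1) → F) = Pi.single 0 1) :
    ∃ (a : Fin m → F) (h : GL (Fin m) F), g = uEl a * lev h := by
  have hcol : ∀ i, g.1 i 0 = (Pi.single 0 1 : Fin (m + 1) → F) i := by
    intro i
    have := congrFun hg i
    rwa [Matrix.mulVec_single_one] at this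
  have h00 : g.1 0 0 = 1 := by rw [hcol 0, Pi.single_eq_same]
  have hs0 : (fun i : Fin m => g.1 i.succ 0) = 0 := by
    funext i
    rw [hcol i.succ, Pi.single_eq_of_ne (Fin.succ_ne_zero i)]
    rfl
  set D : Matrix (Fin m) (Fin m) F := g.1.submatrix Fin.succ Fin.succ with hD
  set r : Fin m → F := fun j => g.1 0 j.succ with hr
  have hgbm : g.1 = bm 1 r 0 D := by
    have := bm_eta g.1
    rw [h00, hs0] at this
    exact this
  have hdet : D.det = 1 := by
    have h1 := g.2
    rw [hgbm, det_bm, one_mul] at h1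
    exact h1
  let hGL : GL (Fin m) F := Matrix.GeneralLinearGroup.mkOfDetNeZero D (by rw [hdet]; exact one_ne_zero)
  have hGLval : (hGL : Matrix (Fin m) (Fin m) F) = D := rfl
  have hinv : ((hGL⁻¹ : GL (Fin m) F) : Matrix (Fin m) (Fin m) F) * D = 1 := by
    rw [← hGLval, ← Units.val_mul, inv_mul_cancel, Units.val_one]
  refine ⟨r ᵥ* ((hGL⁻¹ : GL (Fin m) F) : Matrix (Fin m) (Fin m) F), hGL, ?_⟩
  apply Subtype.ext
  rw [Matrix.SpecialLinearGroup.coe_mul, uEl_coe, lev_coe, hGLval, hdet, inv_one, bm_mul, hgbm]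
  congr 1
  · simp
  · rw [one_smul, zero_add, Matrix.vecMul_vecMul, hinv, Matrix.vecMul_one]
  · simp
  · simp

/-- **PERM52** -/
theorem fixed_vector_dim {F : Type*} [Field F] [Fintype F] [DecidableEq F] (hq : Fintype.card F = 2) {m : ℕ}
    (hm : 2 ≤ m) {V : Type*} [AddCommGroup V] [Module ℂ V] [FiniteDimensional ℂ V]
    (ρ : Representation ℂ (Matrix.SpecialLinearGroup (Fin (m + 1)) F) V) [ρ.IsIrreducible]
    (v : V) (hv : v ≠ 0) (hU : ∀ a : Fin m → F, ρ (uEl a) v = v) (hL : ∀ h : GL (Fin m) F, ρ (lev h) v = v) :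
    Module.finrank ℂ V = 1 ∨ Module.finrank ℂ V = 2 ^ (m + 1) - 2 := by
  classical
  have hn : 3 ≤ m + 1 := by omega
  set G := Matrix.SpecialLinearGroup (Fin (m + 1)) F with hG
  have hχ : Cfsg.IsIrrCharacter G ρ.character := isIrrCharacter_of_irr ρ
  obtain ⟨χs, hirr, -, hsum⟩ := Cfsg.Agent.Lib.H12.SLPerm.main (F := F) (n := m + 1) hn
  have hk : Fintype.card F - 1 = 1 := by omega
  let i0 : Fin (Fintype.card F - 1) := ⟨0, by omega⟩
  have hsum' : ∀ g : G, Cfsg.Agent.Lib.H12.SLPerm.piV (m + 1) F g = 1 + χs i0 g := by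
    intro g
    rw [hsum g]
    congr 1
    apply Fintype.sum_eq_single i0
    intro j hj
    exfalso
    apply hj
    apply Fin.ext
    have := j.2
    show j.val = 0
    omega
  -- the permutation character is induced from the stabiliser of `e₀`
  have := Cfsg.Agent.Lib.H12.SLPerm.sl_pretransitive (F := F) hn
  let x0 : Cfsg.Agent.Lib.H12.SLPerm.NZ (m + 1) F := ⟨Pi.single 0 1, Pi.single_ne_zero_iff.2 one_ne_zero⟩
  set H : Subgroup G := MulAction.stabilizer G x0 with hH
  have hpi : Cfsg.Agent.Lib.H12.SLPerm.piV (m + 1) F = Cfsg.indFun H (fun _ => 1) := by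
    rw [← fixedPoints_eq_indFun (G := G) (Cfsg.Agent.Lib.H12.SLPerm.NZ (m + 1) F) x0]
    funext g
    exact Cfsg.Agent.Lib.H12.SLPerm.piV_eq_fixedBy g
  have hfixH : ∀ h : H, ρ h v = v := by
    intro h
    have h1 : (h : G) • x0 = x0 := MulAction.mem_stabilizer_iff.1 h.2
    have h2 : (h : G).1 *ᵥ (Pi.single 0 1 : Fin (m + 1) → F) = Pi.single 0 1 := by
      have := congrArg Cfsg.Agent.Lib.H12.SLPerm.NZ.vec h1
      exact this
    obtain ⟨a, h', hh⟩ := exists_uEl_lev (h : G) h2
    rw [hh, map_mul, Module.End.mul_apply, hL, hU]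
  obtain ⟨d, hd0, hd⟩ := sum_char_subgroup_ne_zero ρ H v hv hfixH
  have hinner : Cfsg.classInner (Cfsg.Agent.Lib.H12.SLPerm.piV (m + 1) F) ρ.character ≠ 0 := by
    rw [hpi, frobenius_reciprocity H (fun _ => 1) ρ.character
      (isClassFunction_of_isCharacter (isCharacter_of_irr hχ))]
    unfold Cfsg.classInner
    have h3 : ∑ h : H, (1 : ℂ) * conj (ρ.character (h : G)) = conj (∑ h : H, ρ.character (h : G)) := by
      rw [map_sum]
      refine Finset.sum_congr rfl fun h _ => ?_
      rw [one_mul]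
    rw [h3, hd, map_mul, Complex.conj_natCast, Complex.conj_natCast]
    apply mul_ne_zero
    · apply inv_ne_zero
      exact_mod_cast (Nat.card_pos (α := H)).ne'
    · apply mul_ne_zero
      · exact Nat.cast_ne_zero.2 Fintype.card_ne_zero
      · exact Nat.cast_ne_zero.2 hd0
  -- so the character is `1` or `χ₀`
  have hdecomp : Cfsg.classInner (Cfsg.Agent.Lib.H12.SLPerm.piV (m + 1) F) ρ.character =
      Cfsg.classInner (1 : G → ℂ) ρ.character + Cfsg.classInner (χs i0) ρ.character := by
    have : Cfsg.Agent.Lib.H12.SLPerm.piV (m + 1) F = (1 : G → ℂ) + χs i0 := by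
      funext g
      rw [hsum' g]
      rfl
    rw [this]
    unfold Cfsg.classInner
    rw [← mul_add, ← Finset.sum_add_distrib]
    congr 1
    refine Finset.sum_congr rfl fun g _ => ?_
    rw [Pi.add_apply, add_mul]
  have hdim : (finrank ℂ V : ℂ) = ρ.character 1 := (Representation.char_one ρ).symm
  by_cases h1 : (1 : G → ℂ) = ρ.character
  · left
    have : (finrank ℂ V : ℂ) = 1 := by rw [hdim, ← h1]; rfl
    exact_mod_cast this
  · by_cases h2 : χs i0 = ρ.character
    · right
      have h4 : ρ.character 1 = Cfsg.Agent.Lib.H12.SLPerm.piV (m + 1) F 1 - 1 := by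
        rw [hsum' 1, h2]; ring
      have h5 : Cfsg.Agent.Lib.H12.SLPerm.piV (m + 1) F 1 =
          (Fintype.card (Cfsg.Agent.Lib.H12.SLPerm.NZ (m + 1) F) : ℂ) := by
        rw [Cfsg.Agent.Lib.H12.SLPerm.piV_eq_fixedBy]
        congr 1
        rw [Nat.card_eq_fintype_card]
        apply Fintype.card_congr
        exact (Equiv.subtypeUnivEquiv (fun x => by simp))
      rw [h5, Cfsg.Agent.Lib.H12.SLPerm.card_NZ, hq] at h4
      have h6 : (finrank ℂ V : ℂ) = ((2 ^ (m + 1) - 2 : ℕ) : ℂ) := by
        rw [hdim, h4]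
        have : 2 ≤ 2 ^ (m + 1) := by
          calc 2 = 2 ^ 1 := by norm_num
            _ ≤ 2 ^ (m + 1) := Nat.pow_le_pow_right (by norm_num) (by omega)
        push_cast [this, Nat.one_le_two_pow]
        ring
      exact_mod_cast h6
    · exfalso
      apply hinner
      rw [hdecomp, irr_classInner_ne isIrrCharacter_one hχ h1, irr_classInner_ne (hirr i0) hχ h2, add_zero]

end Cfsg.Agent.Lib.H19.SLMin
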