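import Mathlib
import Cfsg.Prelude.Def_Sporadic
import Cfsg.Agent.Lib.H14.M7920STRUCT
import Cfsg.Agent.Lib.H10.M7920F0

/-!
helper19, S3592 piece (CENT): centralizer orders of the elements of order `5` and `11` of a simple group of
order `7920`, the order of the normalizer of a Sylow `11`-subgroup, and `n_11 = 144`.
From the landed `structure_7920` (helper14) and `sylow11_data` (helper10) by Sylow conjugacy.
-/

set_option autoImplicit false

namespace Cfsg.Agent.Lib.H19.NSE

open Subgroup

section gen

variable {G : Type*} [Group G]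

/-- conjugate elements have centralizers of the same order. -/
theorem card_centralizer_conj (g y : G) :
    Nat.card (centralizer ({g * y * g⁻¹} : Set G)) = Nat.card (centralizer ({y} : Set G)) := by
  refine Nat.card_congr ⟨fun x => ⟨g⁻¹ * x * g, ?_⟩, fun x => ⟨g * x * g⁻¹, ?_⟩, ?_, ?_⟩
  · have hx := x.2
    rw [mem_centralizer_singleton_iff] at hx ⊢
    calc g⁻¹ * ↑x * g * y = g⁻¹ * (↑x * (g * y * g⁻¹)) * g := by group
      _ = g⁻¹ * ((g * y * g⁻¹) * ↑x) * g := by rw [hx]
      _ = y * (g⁻¹ * ↑x * g) := by group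
  · have hx := x.2
    rw [mem_centralizer_singleton_iff] at hx ⊢
    calc g * ↑x * g⁻¹ * (g * y * g⁻¹) = g * (↑x * y) * g⁻¹ := by group
      _ = g * (y * ↑x) * g⁻¹ := by rw [hx]
      _ = g * y * g⁻¹ * (g * ↑x * g⁻¹) := by group
  · intro x
    apply Subtype.ext
    show g * (g⁻¹ * ↑x * g) * g⁻¹ = ↑x
    group
  · intro x
    apply Subtype.ext
    show g⁻¹ * (g * ↑x * g⁻¹) * g = ↑x
    group

/-- the centralizer of an element is the centralizer of the cyclic group it generates. -/
theorem centralizer_zpowers (x : G) :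
    centralizer ((zpowers x : Subgroup G) : Set G) = centralizer ({x} : Set G) := by
  rw [zpowers_eq_closure, centralizer_closure]

/-- a cyclic subgroup of prime order `p` in a group whose Sylow `p`-subgroups have order `p` is a
Sylow `p`-subgroup. -/
theorem exists_sylow_eq_zpowers [Finite G] {p : ℕ} [hp : Fact p.Prime]
    (hS : ∀ P : Sylow p G, Nat.card (P : Subgroup G) = p) {t : G} (ht : orderOf t = p) :
    ∃ Q : Sylow p G, (Q : Subgroup G) = zpowers t := by
  have hpg : IsPGroup p (zpowers t) := by
    apply IsPGroup.of_card (n := 1)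
    rw [Nat.card_zpowers, ht, pow_one]
  obtain ⟨Q, hQ⟩ := hpg.exists_le_sylow
  refine ⟨Q, (Subgroup.eq_of_le_of_card_ge hQ ?_).symm⟩
  rw [hS Q, Nat.card_zpowers, ht]

/-- a subgroup of order `p` in a group whose Sylow `p`-subgroups have order `p` is a Sylow `p`-subgroup. -/
theorem exists_sylow_eq_of_card [Finite G] {p : ℕ} [hp : Fact p.Prime]
    (hS : ∀ P : Sylow p G, Nat.card (P : Subgroup G) = p) {K : Subgroup G} (hK : Nat.card K = p) :
    ∃ Q : Sylow p G, (Q : Subgroup G) = K := by
  have hpg : IsPGroup p K := by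
    apply IsPGroup.of_card (n := 1)
    rw [hK, pow_one]
  obtain ⟨Q, hQ⟩ := hpg.exists_le_sylow
  refine ⟨Q, (Subgroup.eq_of_le_of_card_ge hQ ?_).symm⟩
  rw [hS Q, hK]

/-- If the Sylow `p`-subgroups of `G` have order `p`, all elements of order `p` have centralizers of the
same order. -/
theorem card_centralizer_eq_of_sylow_prime [Finite G] {p : ℕ} [hp : Fact p.Prime]
    (hS : ∀ P : Sylow p G, Nat.card (P : Subgroup G) = p) {y t : G} (hy : orderOf y = p)
    (ht : orderOf t = p) :
    Nat.card (centralizer ({t} : Set G)) = Nat.card (centralizer ({y} : Set G)) := by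
  obtain ⟨Qt, hQt⟩ := exists_sylow_eq_zpowers hS ht
  obtain ⟨Qy, hQy⟩ := exists_sylow_eq_zpowers hS hy
  obtain ⟨g, hg⟩ := MulAction.exists_smul_eq G Qy Qt
  have hmem : g * y * g⁻¹ ∈ zpowers t := by
    rw [← hQt, ← hg, Sylow.coe_subgroup_smul]
    have hy' : y ∈ (Qy : Subgroup G) := by rw [hQy]; exact mem_zpowers y
    have := (Subgroup.smul_mem_pointwise_smul_iff (a := MulAut.conj g) (S := (Qy : Subgroup G))
      (x := y)).2 hy'
    simpa [MulAut.smul_def, MulAut.conj_apply] using this
  have hord : orderOf (g * y * g⁻¹) = p := by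
    have := orderOf_injective (MulAut.conj g).toMonoidHom (MulAut.conj g).injective y
    simpa [MulAut.conj_apply, hy] using this
  have hz : zpowers (g * y * g⁻¹) = zpowers t := by
    apply Subgroup.eq_of_le_of_card_ge ((zpowers_le).2 hmem)
    rw [Nat.card_zpowers, Nat.card_zpowers, hord, ht]
  rw [← card_centralizer_conj g y, ← centralizer_zpowers t, ← centralizer_zpowers (g * y * g⁻¹), hz]

/-- if `Nat.card G = p * m` with `p ∤ m`, the Sylow `p`-subgroups have order `p`. -/
theorem card_sylow_eq_prime [Finite G] {p m : ℕ} [hp : Fact p.Prime] (hG : Nat.card G = p * m)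
    (hm : ¬ p ∣ m) (P : Sylow p G) : Nat.card (P : Subgroup G) = p := by
  have hm0 : m ≠ 0 := by
    rintro rfl
    exact hm (dvd_zero p)
  rw [Sylow.card_eq_multiplicity, hG, Nat.factorization_mul hp.out.ne_zero hm0, Finsupp.add_apply,
    Nat.Prime.factorization_self hp.out, Nat.factorization_eq_zero_of_not_dvd hm, pow_one]

end gen

section m11

variable {M : Type*} [Group M] [Finite M]

theorem card_sylow5 (h : Cfsg.IsM11 M) (P : Sylow 5 M) : Nat.card (P : Subgroup M) = 5 := by
  have : Fact (Nat.Prime 5) := ⟨by norm_num⟩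
  exact card_sylow_eq_prime (m := 1584) (by rw [h.2]) (by norm_num) P

theorem card_sylow11 (h : Cfsg.IsM11 M) (P : Sylow 11 M) : Nat.card (P : Subgroup M) = 11 := by
  have : Fact (Nat.Prime 11) := ⟨by norm_num⟩
  exact card_sylow_eq_prime (m := 720) (by rw [h.2]) (by norm_num) P

/-- (CENT, `5`) in a simple group of order `7920` every element of order `5` has a centralizer of
order `5`. -/
theorem card_centralizer_of_orderOf_five (h : Cfsg.IsM11 M) {t : M} (ht : orderOf t = 5) :
    Nat.card (centralizer ({t} : Set M)) = 5 := by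
  classical
  have : Fact (Nat.Prime 5) := ⟨by norm_num⟩
  have := h.1
  let _ : Fintype M := Fintype.ofFinite M
  obtain ⟨x, y, ψ, ψ₄, χ₁, χ₂, θ, θ', φ, -, -, hy5, -⟩ :=
    Cfsg.Agent.Lib.H14.M7920.structure_7920 (G := M) h.2
  have hyord : orderOf y = 5 := by
    have hmem : y ∈ centralizer ({y} : Set M) := by
      rw [mem_centralizer_singleton_iff]
    have h1 : orderOf y ∣ 5 := by
      have := orderOf_dvd_natCard (⟨y, hmem⟩ : centralizer ({y} : Set M))
      rwa [Subgroup.orderOf_mk, hy5] at this
    rcases (Nat.dvd_prime (by norm_num : Nat.Prime 5)).1 h1 with h1 | h1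
    · exfalso
      have hy1 : y = 1 := orderOf_eq_one_iff.1 h1
      have htop : centralizer ({y} : Set M) = ⊤ := by
        rw [hy1]
        ext z
        simp [mem_centralizer_singleton_iff]
      rw [htop, Subgroup.card_top, h.2] at hy5
      norm_num at hy5
    · exact h1
  rw [card_centralizer_eq_of_sylow_prime (card_sylow5 h) hyord ht, hy5]

/-- the Sylow `11`-subgroup `K` of `sylow11_data`, with an element generating it. -/
theorem exists_gen11 (h : Cfsg.IsM11 M) :
    ∃ x : M, orderOf x = 11 ∧ Nat.card (centralizer ({x} : Set M)) = 11 ∧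
      Nat.card (normalizer ((zpowers x : Subgroup M) : Set M)) = 55 := by
  have := h.1
  obtain ⟨K, hK, hC, hN⟩ := Cfsg.Agent.Lib.H10.M7920.sylow11_data (G := M) h.2
  obtain ⟨x, hxK, hx1⟩ : ∃ x ∈ K, x ≠ 1 := by
    have h1 : 1 < Nat.card K := by rw [hK]; norm_num
    have : Nontrivial K := (Finite.one_lt_card_iff_nontrivial).1 h1
    obtain ⟨y, hy⟩ := exists_ne (1 : K)
    exact ⟨y, y.2, fun h => hy (Subtype.ext h)⟩
  have hordx : orderOf x = 11 := by
    have h1 : orderOf x ∣ 11 := by
      have := orderOf_dvd_natCard (⟨x, hxK⟩ : K)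
      rwa [Subgroup.orderOf_mk, hK] at this
    rcases (Nat.dvd_prime (by norm_num : Nat.Prime 11)).1 h1 with h | h
    · exact absurd (orderOf_eq_one_iff.1 h) hx1
    · exact h
  have hzK : zpowers x = K := by
    apply Subgroup.eq_of_le_of_card_ge ((zpowers_le).2 hxK)
    rw [Nat.card_zpowers, hordx, hK]
  refine ⟨x, hordx, ?_, ?_⟩
  · rw [← centralizer_zpowers x, hzK, hC, hK]
  · rw [hzK, hN]

/-- (CENT, `11`) in a simple group of order `7920` every element of order `11` has a centralizer of
order `11`. -/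
theorem card_centralizer_of_orderOf_eleven (h : Cfsg.IsM11 M) {t : M} (ht : orderOf t = 11) :
    Nat.card (centralizer ({t} : Set M)) = 11 := by
  have : Fact (Nat.Prime 11) := ⟨by norm_num⟩
  obtain ⟨x, hx, hC, -⟩ := exists_gen11 h
  rw [card_centralizer_eq_of_sylow_prime (card_sylow11 h) hx ht, hC]

/-- (CENT) `n_11 = 144` in a simple group of order `7920`. -/
theorem card_sylow_eleven (h : Cfsg.IsM11 M) : Nat.card (Sylow 11 M) = 144 := by
  have : Fact (Nat.Prime 11) := ⟨by norm_num⟩
  obtain ⟨x, hx, -, hN⟩ := exists_gen11 h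
  obtain ⟨Q, hQ⟩ := exists_sylow_eq_zpowers (card_sylow11 h) hx
  have h1 : Nat.card (Sylow 11 M) = (normalizer ((Q : Subgroup M) : Set M)).index :=
    Sylow.card_eq_index_normalizer Q
  have h2 := Subgroup.card_mul_index (normalizer ((Q : Subgroup M) : Set M))
  rw [hQ, hN, h.2] at h2
  rw [h1, hQ]
  omega

/-- (CENT) the normalizer of a Sylow `11`-subgroup of a simple group of order `7920` has order `55`. -/
theorem card_normalizer_sylow_eleven (h : Cfsg.IsM11 M) (P : Sylow 11 M) :
    Nat.card (normalizer ((P : Subgroup M) : Set M)) = 55 := by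
  have : Fact (Nat.Prime 11) := ⟨by norm_num⟩
  have h1 : Nat.card (Sylow 11 M) = (normalizer ((P : Subgroup M) : Set M)).index :=
    Sylow.card_eq_index_normalizer P
  have h2 := Subgroup.card_mul_index (normalizer ((P : Subgroup M) : Set M))
  rw [← h1, card_sylow_eleven h, h.2] at h2
  omega

/-- (CENT) the number of elements of order `11`-Sylow normalizer form: every Sylow `11`-subgroup is
self-centralizing. -/
theorem centralizer_sylow_eleven (h : Cfsg.IsM11 M) (P : Sylow 11 M) :
    centralizer ((P : Subgroup M) : Set M) = (P : Subgroup M) := by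
  have : Fact (Nat.Prime 11) := ⟨by norm_num⟩
  -- `P` is cyclic of order `11`, generated by some `t` of order `11`
  obtain ⟨t, htP, ht1⟩ : ∃ t ∈ (P : Subgroup M), t ≠ 1 := by
    have h1 : 1 < Nat.card (P : Subgroup M) := by rw [card_sylow11 h P]; norm_num
    have : Nontrivial (P : Subgroup M) := (Finite.one_lt_card_iff_nontrivial).1 h1
    obtain ⟨y, hy⟩ := exists_ne (1 : (P : Subgroup M))
    exact ⟨y, y.2, fun h => hy (Subtype.ext h)⟩
  have hord : orderOf t = 11 := by
    have h1 : orderOf t ∣ 11 := by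
      have := orderOf_dvd_natCard (⟨t, htP⟩ : (P : Subgroup M))
      rwa [Subgroup.orderOf_mk, card_sylow11 h P] at this
    rcases (Nat.dvd_prime (by norm_num : Nat.Prime 11)).1 h1 with h | h
    · exact absurd (orderOf_eq_one_iff.1 h) ht1
    · exact h
  have hz : zpowers t = (P : Subgroup M) := by
    apply Subgroup.eq_of_le_of_card_ge ((zpowers_le).2 htP)
    rw [Nat.card_zpowers, hord, card_sylow11 h P]
  have hle : zpowers t ≤ centralizer ({t} : Set M) := by
    rw [zpowers_le, mem_centralizer_singleton_iff]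
  rw [← hz, centralizer_zpowers t]
  refine (Subgroup.eq_of_le_of_card_ge hle ?_).symm
  rw [card_centralizer_of_orderOf_eleven h hord, Nat.card_zpowers, hord]

end m11

end Cfsg.Agent.Lib.H19.NSE
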