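import Mathlib
import Cfsg.Prelude.Def_Sporadic
import Cfsg.Agent.Lib.H19.NSECENT

/-!
helper19, S3592 piece (CENT) in the EXACT signatures of `tools/blueprints/S3592_sigs.lean`:
`cent5_of_isM11`, `cent11_of_isM11`, `card_sylow11_of_isM11`.
-/

set_option autoImplicit false

universe u

namespace Cfsg.Agent.Lib.H19.NSE11

variable {M : Type u} [Group M] [Finite M]

theorem cent5_of_isM11 (hM : Cfsg.IsM11 M) (t : M) (ht : orderOf t = 5) :
    Nat.card (Subgroup.centralizer ({t} : Set M)) = 5 :=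
  Cfsg.Agent.Lib.H19.NSE.card_centralizer_of_orderOf_five hM ht

theorem cent11_of_isM11 (hM : Cfsg.IsM11 M) (t : M) (ht : orderOf t = 11) :
    Nat.card (Subgroup.centralizer ({t} : Set M)) = 11 :=
  Cfsg.Agent.Lib.H19.NSE.card_centralizer_of_orderOf_eleven hM ht

theorem card_sylow11_of_isM11 (hM : Cfsg.IsM11 M) : Nat.card (Sylow 11 M) = 144 :=
  Cfsg.Agent.Lib.H19.NSE.card_sylow_eleven hM

end Cfsg.Agent.Lib.H19.NSE11
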