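import Mathlib.GroupTheory.Sylow
import Mathlib.GroupTheory.OrderOfElement
import Mathlib.GroupTheory.Subgroup.Centralizer
import Mathlib.Algebra.Group.Subgroup.Pointwise

set_option autoImplicit false

namespace Cfsg.Agent.Lib.H19

variable {G : Type*} [Group G]

/-- membership in a conjugate subgroup written with `MulAut.conj g` as a monoid hom -/
theorem mem_map_conj {K : Subgroup G} {g x : G} :
    x ∈ K.map (MulAut.conj g).toMonoidHom ↔ g⁻¹ * x * g ∈ K := by
  constructor
  · rintro ⟨k, hk, rfl⟩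
    simpa [MulAut.conj_apply, mul_assoc] using hk
  · intro h
    exact ⟨g⁻¹ * x * g, h, by simp [MulAut.conj_apply, mul_assoc]⟩

theorem conj_mem_map_conj {K : Subgroup G} {g k : G} (hk : k ∈ K) :
    g * k * g⁻¹ ∈ K.map (MulAut.conj g).toMonoidHom :=
  ⟨k, hk, by simp [MulAut.conj_apply]⟩

theorem map_conj_mul (K : Subgroup G) (g h : G) :
    K.map (MulAut.conj (g * h)).toMonoidHom =
      (K.map (MulAut.conj h).toMonoidHom).map (MulAut.conj g).toMonoidHom := by
  ext x
  simp only [mem_map_conj]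
  simp [mul_assoc]

theorem map_conj_one (K : Subgroup G) : K.map (MulAut.conj (1 : G)).toMonoidHom = K := by
  ext x
  simp

theorem mem_normalizer_iff_map_conj {K : Subgroup G} {g : G} :
    g ∈ Subgroup.normalizer (K : Set G) ↔ K.map (MulAut.conj g).toMonoidHom = K := by
  rw [Subgroup.mem_normalizer_iff_map_conj_eq]
  rfl

theorem map_conj_eq_of_mem {K : Subgroup G} {g : G} (hg : g ∈ K) :
    K.map (MulAut.conj g).toMonoidHom = K := by
  ext x
  rw [mem_map_conj]
  constructor
  · intro h
    have := K.mul_mem (K.mul_mem hg h) (K.inv_mem hg)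
    simpa [mul_assoc] using this
  · intro h
    exact K.mul_mem (K.mul_mem (K.inv_mem hg) h) hg

theorem map_conj_le_map_conj {H K : Subgroup G} (h : H ≤ K) (g : G) :
    H.map (MulAut.conj g).toMonoidHom ≤ K.map (MulAut.conj g).toMonoidHom :=
  Subgroup.map_mono h

theorem card_map_conj (K : Subgroup G) (g : G) :
    Nat.card (K.map (MulAut.conj g).toMonoidHom) = Nat.card K :=
  Nat.card_congr (K.equivMapOfInjective _ (MulAut.conj g).injective).symm.toEquiv


theorem map_conj_le_of_mem {L M : Subgroup G} {x : G} (hx : x ∈ M) (hL : L ≤ M) :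
    L.map (MulAut.conj x).toMonoidHom ≤ M := by
  intro y hy
  rw [mem_map_conj] at hy
  have := M.mul_mem (M.mul_mem hx (hL hy)) (M.inv_mem hx)
  simpa [mul_assoc] using this

theorem map_conj_inv_eq {H K : Subgroup G} {x : G}
    (h : K = H.map (MulAut.conj x).toMonoidHom) :
    K.map (MulAut.conj x⁻¹).toMonoidHom = H := by
  rw [h, ← map_conj_mul, inv_mul_cancel, map_conj_one]

theorem map_subtype_map_conj {A : Subgroup G} (K : Subgroup A) (a : A) :
    (K.map (MulAut.conj a).toMonoidHom).map A.subtype =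
      (K.map A.subtype).map (MulAut.conj (a : G)).toMonoidHom := by
  ext y
  constructor
  · rintro ⟨z, ⟨k, hk, rfl⟩, rfl⟩
    exact ⟨k, ⟨k, hk, rfl⟩, by simp [MulAut.conj_apply]⟩
  · rintro ⟨z, ⟨k, hk, rfl⟩, rfl⟩
    exact ⟨a * k * a⁻¹, ⟨k, hk, by simp [MulAut.conj_apply]⟩, by simp [MulAut.conj_apply]⟩

theorem orderOf_conj_eq (x a : G) : orderOf (x * a * x⁻¹) = orderOf a := by
  have := orderOf_injective (MulAut.conj x).toMonoidHom (MulAut.conj x).injective a
  simpa [MulAut.conj_apply] using this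

theorem orderOf_conj_eq' (x a : G) : orderOf (x⁻¹ * a * x) = orderOf a := by
  have := orderOf_conj_eq x⁻¹ a
  simpa using this

end Cfsg.Agent.Lib.H19
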