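import Mathlib
import Cfsg.Agent.Lib.H19.HallPi

/-!
# Coprime action on a solvable group: invariant `π`-subgroups lie in invariant Hall `π`-subgroups
-/

set_option autoImplicit false

namespace Cfsg.Agent.Lib.H19

open scoped Pointwise
open Cfsg.Agent.Lib.H1

universe u

section

variable {X : Type u} [Group X]

/-- conjugation by an element of the normalizer as an automorphism of the subgroup -/
def conjEquivOfNormalizer {G : Subgroup X} {a : X}
    (ha : a ∈ Subgroup.normalizer (G : Set X)) : ↥G ≃* ↥G where
  toFun x := ⟨a * x * a⁻¹, (Subgroup.mem_normalizer_iff.1 ha x).1 x.2⟩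
  invFun x := ⟨a⁻¹ * x * a, by
    have h := (Subgroup.mem_normalizer_iff.1 ((Subgroup.normalizer (G : Set X)).inv_mem ha) x).1 x.2
    rwa [inv_inv] at h⟩
  left_inv x := by
    apply Subtype.ext
    show a⁻¹ * (a * x * a⁻¹) * a = x
    group
  right_inv x := by
    apply Subtype.ext
    show a * (a⁻¹ * x * a) * a⁻¹ = x
    group
  map_mul' x y := by
    apply Subtype.ext
    show a * (x * y) * a⁻¹ = (a * x * a⁻¹) * (a * y * a⁻¹)
    group

/-- characteristic subgroups of `G` are normalized by `N_X(G)` -/
theorem normalizer_le_normalizer_map_of_characteristic [Finite X] {G : Subgroup X}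
    (K : Subgroup ↥G) [hK : K.Characteristic] :
    Subgroup.normalizer (G : Set X) ≤ Subgroup.normalizer ((K.map G.subtype : Subgroup X) : Set X) := by
  intro a ha
  apply Subgroup.mem_normalizer_fintype
  rintro _ ⟨k, hk, rfl⟩
  have h1 := (Subgroup.characteristic_iff_map_eq.1 hK) (conjEquivOfNormalizer ha)
  have h2 : (conjEquivOfNormalizer ha) k ∈ K := by
    rw [← h1]; exact ⟨k, hk, rfl⟩
  exact ⟨_, h2, rfl⟩

/-- a nontrivial solvable subgroup has a nontrivial `q`-subgroup normalized by `N_X(G)` -/
theorem exists_invariant_normal_pGroup [Finite X] {G : Subgroup X} [Group.IsSolvable G]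
    (hG : G ≠ ⊥) :
    ∃ (q : ℕ) (N : Subgroup X), q.Prime ∧ N ≤ G ∧ N ≠ ⊥ ∧ IsPGroup q N ∧
      Subgroup.normalizer (G : Set X) ≤ Subgroup.normalizer (N : Set X) := by
  have hnt : Nontrivial ↥G := (Subgroup.nontrivial_iff_ne_bot G).2 hG
  obtain ⟨q, M, hq, hMn, hMbot, hMq⟩ := Cfsg.Agent.Lib.H20.exists_normal_pGroup_of_solvable (G := ↥G)
  have hqF : Fact q.Prime := ⟨hq⟩
  have hle : M ≤ Cfsg.pCore q ↥G := le_pCore hMn hMq
  have hchar : (Cfsg.pCore q ↥G).Characteristic := pCore_characteristic q ↥G
  refine ⟨q, (Cfsg.pCore q ↥G).map G.subtype, hq, Subgroup.map_subtype_le _, ?_,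
    (pCore_isPGroup q ↥G).map _, normalizer_le_normalizer_map_of_characteristic _⟩
  rw [Ne, Subgroup.map_eq_bot_iff_of_injective _ G.subtype_injective]
  intro h
  apply hMbot
  rw [eq_bot_iff, ← h]; exact hle

end

section Main

variable {π : Set ℕ}

theorem isPiHallOf_bot {X : Type u} [Group X] : Cfsg.IsPiHallOf π (⊥ : Subgroup X) ⊥ := by
  refine ⟨le_rfl, ?_, ?_⟩
  · intro p hp hd
    rw [Subgroup.card_bot] at hd
    exact absurd (Nat.dvd_one.1 hd) hp.ne_one
  · intro p hp _ hd
    rw [Subgroup.relIndex_bot_right] at hd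
    exact absurd (Nat.dvd_one.1 hd) hp.ne_one

/-- **Coprime action, part (c)**: every `A`-invariant `π`-subgroup of the solvable group `G` lies in
an `A`-invariant Hall `π`-subgroup. -/
theorem coprime_invariant_pi_le_hall_aux (π : Set ℕ) : ∀ (k : ℕ) (X : Type u) [Group X] [Finite X]
    (A G U : Subgroup X), Nat.card G = k → CoprimeAction A G → Group.IsSolvable G → U ≤ G →
    A ≤ Subgroup.normalizer (U : Set X) → IsPiCard π (Nat.card U) →
    ∃ H, Cfsg.IsPiHallOf π H G ∧ A ≤ Subgroup.normalizer (H : Set X) ∧ U ≤ H := by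
  intro k
  induction k using Nat.strong_induction_on with
  | _ k ih =>
    intro X _ _ A G U hk h hsolv hUG hAU hU
    by_cases hG : G = ⊥
    · subst hG
      refine ⟨⊥, isPiHallOf_bot, ?_, hUG⟩
      intro a _
      rw [Subgroup.mem_normalizer_iff]
      intro x
      simp
    obtain ⟨q, N, hq, hNG, hNbot, hNq, hnorm⟩ := exists_invariant_normal_pGroup hG
    have hqF : Fact q.Prime := ⟨hq⟩
    have hGN : G ≤ Subgroup.normalizer (N : Set X) := Subgroup.le_normalizer.trans hnorm
    have hAN : A ≤ Subgroup.normalizer (N : Set X) := h.normalizes.trans hnorm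
    obtain ⟨j, hj⟩ := hNq.exists_card_eq
    have hcardG : Nat.card (bar N G) * Nat.card N = Nat.card G := card_bar_mul hNG hGN
    have hNcard : 1 < Nat.card N := by
      rw [Subgroup.one_lt_card_iff_ne_bot]; exact hNbot
    have hlt : Nat.card (bar N G) < k := by
      have hpos : 0 < Nat.card (bar N G) := Nat.card_pos
      rw [← hk, ← hcardG]
      nlinarith
    have hbsolv : Group.IsSolvable (bar N G) := isSolvable_bar N G
    have hbar : CoprimeAction (bar N A) (bar N G) :=
      { normalizes := bar_le_normalizer_bar h.normalizes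
        coprime := Nat.Coprime.coprime_dvd_left (card_bar_dvd N A)
          (Nat.Coprime.coprime_dvd_right (card_bar_dvd N G) h.coprime)
        solvable := Or.inr hbsolv }
    obtain ⟨Hb, hHb, hHbA, hUHb⟩ := ih _ hlt (NQ N) (bar N A) (bar N G) (bar N U) rfl hbar hbsolv
      (bar_mono hUG) (bar_le_normalizer_bar hAU) (isPiCard_of_dvd (card_bar_dvd N U) hU)
    obtain ⟨hHbG, hHbπ, hHbidx⟩ := hHb
    -- the preimage
    have hliftG : lift N (bar N G) = G := by rw [lift_bar hGN, sup_of_le_left hNG]
    have hH1G : lift N Hb ≤ G := by rw [← hliftG]; exact lift_mono hHbG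
    have hNH1 : N ≤ lift N Hb := le_lift N Hb
    have hAH1 : A ≤ Subgroup.normalizer ((lift N Hb : Subgroup X) : Set X) :=
      le_normalizer_lift hAN hHbA
    have hUH1 : U ≤ lift N Hb := by
      have h1 : U ≤ lift N (bar N U) := by rw [lift_bar (hUG.trans hGN)]; exact le_sup_left
      exact h1.trans (lift_mono hUHb)
    have hH1card : Nat.card (lift N Hb) = Nat.card Hb * Nat.card N := card_lift N Hb
    have hH1idx : (lift N Hb).relIndex G = Hb.relIndex (bar N G) := by
      have := relIndex_lift (N := N) hHbG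
      rwa [hliftG] at this
    have hH1idx' : ∀ p : ℕ, p.Prime → p ∈ π → ¬ p ∣ (lift N Hb).relIndex G := by
      intro p hp hpπ
      rw [hH1idx]; exact hHbidx p hp hpπ
    by_cases hqπ : q ∈ π
    · -- `N` is a `π`-group
      refine ⟨lift N Hb, ⟨hH1G, ?_, hH1idx'⟩, hAH1, hUH1⟩
      rw [hH1card, hj]
      exact isPiCard_mul hHbπ (isPiCard_prime_pow hq hqπ j)
    · -- `N` is a `π'`-group
      have hNπ' : IsPiCard πᶜ (Nat.card N) := by
        rw [hj]; exact isPiCard_prime_pow (π := πᶜ) hq hqπ j
      by_cases hH1 : lift N Hb = G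
      · -- `G/N` is a `π`-group
        have hdecomp : Nat.card G = Nat.card Hb * Nat.card N := by rw [← hH1card, hH1]
        obtain ⟨K, hK, hKA⟩ := coprime_exists_invariant_hall h π
        obtain ⟨hKG, hKcard⟩ := (isPiHallOf_iff_card hdecomp hHbπ hNπ').1 hK
        have hKN : K ≤ Subgroup.normalizer (N : Set X) := hKG.trans hGN
        have hcopKN : (Nat.card K).Coprime (Nat.card N) := by
          rw [hKcard]; exact coprime_of_isPiCard hHbπ hNπ'
        have hdisj : K ⊓ N = ⊥ := disjoint_iff.1 (Subgroup.disjoint_of_coprime_natCard hcopKN)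
        have hKNG : K ⊔ N = G := by
          apply Subgroup.eq_of_le_of_card_ge (sup_le hKG hNG)
          rw [hdecomp, ← hKcard]
          apply Nat.le_of_dvd Nat.card_pos
          exact Nat.Coprime.mul_dvd_of_dvd_of_dvd hcopKN (Subgroup.card_dvd_of_le le_sup_left)
            (Subgroup.card_dvd_of_le le_sup_right)
        -- `U' = (U ⊔ N) ⊓ K`
        have hUN : U ≤ Subgroup.normalizer (N : Set X) := hUG.trans hGN
        have hDeq : U ⊔ N = ((U ⊔ N) ⊓ K) ⊔ N := by
          apply le_antisymm
          · apply sup_le _ le_sup_right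
            intro u hu
            have hmem : u ∈ ((K ⊔ N : Subgroup X) : Set X) := by
              rw [hKNG]; exact hUG hu
            rw [Subgroup.coe_mul_of_left_le_normalizer_right _ _ hKN] at hmem
            obtain ⟨k', hk', n, hn, hkn⟩ := hmem
            have hk'D : k' ∈ U ⊔ N := by
              have : k' = u * n⁻¹ := by
                have h1 : k' * n = u := hkn
                rw [← h1]; group
              rw [this]
              exact Subgroup.mul_mem _ (Subgroup.mem_sup_left hu)
                (Subgroup.inv_mem _ (Subgroup.mem_sup_right hn))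
            have h1 : k' * n = u := hkn
            rw [← h1]
            exact Subgroup.mul_mem _ (Subgroup.mem_sup_left ⟨hk'D, hk'⟩) (Subgroup.mem_sup_right hn)
          · exact sup_le inf_le_left le_sup_right
        have hDG : U ⊔ N ≤ G := sup_le hUG hNG
        have hAD : A ≤ Subgroup.normalizer ((U ⊔ N : Subgroup X) : Set X) := by
          intro a ha
          apply Subgroup.mem_normalizer_fintype
          intro x hx
          rw [SetLike.mem_coe] at hx ⊢
          have hconj : (U ⊔ N).map (MulAut.conj a).toMonoidHom ≤ U ⊔ N := by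
            rw [Subgroup.map_sup]
            apply sup_le_sup
            · rintro _ ⟨u, hu, rfl⟩
              exact (Subgroup.mem_normalizer_iff.1 (hAU ha) u).1 hu
            · rintro _ ⟨n, hn, rfl⟩
              exact (Subgroup.mem_normalizer_iff.1 (hAN ha) n).1 hn
          exact hconj ⟨x, hx, rfl⟩
        have hAU' : A ≤ Subgroup.normalizer ((((U ⊔ N) ⊓ K : Subgroup X)) : Set X) := by
          intro a ha
          apply Subgroup.mem_normalizer_fintype
          intro x hx
          exact ⟨(Subgroup.mem_normalizer_iff.1 (hAD ha) x).1 hx.1,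
            (Subgroup.mem_normalizer_iff.1 (hKA ha) x).1 hx.2⟩
        have hD : CoprimeAction A (U ⊔ N) := h.mono hDG hAD
        have hDsolv : Group.IsSolvable ↥(U ⊔ N) :=
          Group.isSolvable_of_isSolvable_injective (Subgroup.inclusion_injective hDG)
        have hUhall : Cfsg.IsPiHallOf π U (U ⊔ N) := by
          refine ⟨le_sup_left, hU, ?_⟩
          intro p hp hpπ hd
          exact hNπ' p hp (hd.trans (relIndex_sup_dvd_card hUN)) hpπ
        have hU'hall : Cfsg.IsPiHallOf π ((U ⊔ N) ⊓ K) (U ⊔ N) := by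
          refine ⟨inf_le_left, ?_, ?_⟩
          · exact isPiCard_of_dvd (Subgroup.card_dvd_of_le inf_le_right) (hKcard ▸ hHbπ)
          · intro p hp hpπ hd
            have hU'N : (U ⊔ N) ⊓ K ≤ Subgroup.normalizer (N : Set X) := inf_le_right.trans hKN
            have h2 := relIndex_sup_dvd_card hU'N
            rw [← hDeq] at h2
            exact hNπ' p hp (hd.trans h2) hpπ
        obtain ⟨c, hc, hcU⟩ := coprime_invariant_hall_conj hD hU'hall hUhall hAU' hAU
        have hcG : c ∈ G := hDG hc.1
        refine ⟨MulAut.conj c • K, IsPiHallOf.conj hK (Subgroup.le_normalizer hcG), ?_, ?_⟩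
        · intro a ha
          apply Subgroup.mem_normalizer_fintype
          intro x hx
          rw [SetLike.mem_coe, mem_conj_smul_iff] at hx ⊢
          have hac : a * c = c * a := ((Subgroup.mem_centralizer_iff.1 hc.2) a ha)
          have h1 := (Subgroup.mem_normalizer_iff.1 (hKA ha) _).1 hx
          have e : c⁻¹ * (a * x * a⁻¹) * c = a * (c⁻¹ * x * c) * a⁻¹ := by
            have hac' : c⁻¹ * a = a * c⁻¹ := by
              calc c⁻¹ * a = c⁻¹ * (a * c) * c⁻¹ := by group
                _ = c⁻¹ * (c * a) * c⁻¹ := by rw [hac]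
                _ = a * c⁻¹ := by group
            have hac'' : a⁻¹ * c = c * a⁻¹ := by
              calc a⁻¹ * c = a⁻¹ * (c * a) * a⁻¹ := by group
                _ = a⁻¹ * (a * c) * a⁻¹ := by rw [hac]
                _ = c * a⁻¹ := by group
            calc c⁻¹ * (a * x * a⁻¹) * c = (c⁻¹ * a) * x * (a⁻¹ * c) := by group
              _ = (a * c⁻¹) * x * (c * a⁻¹) := by rw [hac', hac'']
              _ = a * (c⁻¹ * x * c) * a⁻¹ := by group
          rw [e]; exact h1
        · rw [← hcU]
          intro x hx
          rw [mem_conj_smul_iff] at hx ⊢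
          exact hx.2
      · -- `H1 < G`: induction
        have hH1lt : Nat.card (lift N Hb) < k := by
          rw [← hk]
          exact card_lt_of_lt (lt_of_le_of_ne hH1G hH1)
        have hH1cop : CoprimeAction A (lift N Hb) := h.mono hH1G hAH1
        have hH1solv : Group.IsSolvable ↥(lift N Hb) :=
          Group.isSolvable_of_isSolvable_injective (Subgroup.inclusion_injective hH1G)
        obtain ⟨H, hH, hHA, hUH⟩ := ih _ hH1lt X A (lift N Hb) U rfl hH1cop hH1solv hUH1 hAU hU
        exact ⟨H, IsPiHallOf.trans hH hH1G hH1idx', hHA, hUH⟩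

theorem coprime_invariant_pi_le_hall {X : Type u} [Group X] [Finite X] {A G U : Subgroup X}
    (h : CoprimeAction A G) [hs : Group.IsSolvable G] (hUG : U ≤ G)
    (hAU : A ≤ Subgroup.normalizer (U : Set X)) (hU : IsPiCard π (Nat.card U)) :
    ∃ H, Cfsg.IsPiHallOf π H G ∧ A ≤ Subgroup.normalizer (H : Set X) ∧ U ≤ H :=
  coprime_invariant_pi_le_hall_aux π _ X A G U rfl h hs hUG hAU hU

end Main

end Cfsg.Agent.Lib.H19
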