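import Mathlib
import Cfsg.Agent.S3785
import Cfsg.Agent.Lib.H1.Fitting
import Cfsg.Agent.Lib.H1.PCore
import Cfsg.Agent.Lib.H16.SolvableCore
import Cfsg.Agent.Lib.H7.FStar

set_option autoImplicit false
open Cfsg

namespace Cfsg.Agent.Lib.H19

open Cfsg.Agent.Lib.H1 Cfsg.Agent.S3785

/-- A criterion for a normal subgroup `C` of a finite solvable group to lie in the Fitting
subgroup: for every prime `p`, the `p'`-elements of `C` centralize `O_p(G)`. -/
theorem le_fittingSubgroup_of_coprime_centralizes {G : Type*} [Group G] [Finite G]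
    (hG : Group.IsSolvable G) (C : Subgroup G) (hCn : C.Normal)
    (hC1 : ∀ (p : ℕ) [Fact p.Prime], ∀ y ∈ C, (orderOf y).Coprime p →
      ∀ z ∈ pCore p G, y * z = z * y) : C ≤ fittingSubgroup G := by
  intro g hgC
  set F := fittingSubgroup G with hF
  have hCF : Subgroup.centralizer (F : Set G) ≤ F := by
    have h2 := Cfsg.Agent.Lib.H7.centralizer_generalizedFittingSubgroup_le (G := G)
    have h1 : generalizedFittingSubgroup G = F := by
      unfold generalizedFittingSubgroup
      rw [Cfsg.Agent.Lib.H16.layer_eq_bot_of_isSolvable hG, bot_sup_eq]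
    rwa [h1] at h2
  apply mem_of_prime_power_parts F (orderOf g) g rfl (orderOf_pos g)
  intro x hxg q k hq _ hxo
  have hxC : x ∈ C := (Subgroup.zpowers_le.2 hgC) hxg
  have hqf : Fact q.Prime := ⟨hq⟩
  let Tq : Set G := {z | ∃ p : ℕ, p.Prime ∧ p ≠ q ∧ z ∈ pCore p G}
  have hTq : ∀ h z, z ∈ Tq → h⁻¹ * z * h ∈ Tq := by
    rintro h z ⟨p, hp, hpq, hz⟩
    refine ⟨p, hp, hpq, ?_⟩
    have := (pCore_normal p G).conj_mem z hz h⁻¹
    rwa [inv_inv] at this
  set R := C ⊓ Subgroup.centralizer Tq with hR
  have hRn : R.Normal := by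
    have := normal_centralizer_of_conj_invariant hTq
    exact Subgroup.normal_inf_normal _ _
  have hxR : x ∈ R := by
    refine Subgroup.mem_inf.2 ⟨hxC, ?_⟩
    rw [Subgroup.mem_centralizer_iff]
    rintro z ⟨p, hp, hpq, hz⟩
    have : Fact p.Prime := ⟨hp⟩
    refine (hC1 p x hxC ?_ z hz).symm
    rw [hxo]; exact Nat.Coprime.pow_left k ((Nat.coprime_primes hq hp).2 (Ne.symm hpq))
  have hcent : ∀ y ∈ R, (orderOf y).Coprime q → ∀ r ∈ R, r * y = y * r := by
    intro y hyR hyq
    have hyC : y ∈ C := (Subgroup.mem_inf.1 hyR).1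
    have hyT : y ∈ Subgroup.centralizer Tq := (Subgroup.mem_inf.1 hyR).2
    have h1 : ∀ p : Nat.Primes, pCore (p : ℕ) G ≤
        Subgroup.centralizer ((Subgroup.zpowers y : Subgroup G) : Set G) := by
      intro p z hz
      have : Fact (p : ℕ).Prime := ⟨p.2⟩
      rw [Subgroup.mem_centralizer_iff]
      intro w hw
      obtain ⟨j, rfl⟩ := Subgroup.mem_zpowers_iff.1 hw
      have hyz : y * z = z * y := by
        by_cases hpq : (p : ℕ) = q
        · exact hC1 q y hyC hyq z (hpq ▸ hz)
        · rw [Subgroup.mem_centralizer_iff] at hyT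
          exact (hyT z ⟨p, p.2, hpq, hz⟩).symm
      exact (Commute.zpow_left (show Commute y z from hyz) j).eq
    have h2 : F ≤ Subgroup.centralizer ((Subgroup.zpowers y : Subgroup G) : Set G) := by
      rw [hF, fittingSubgroup_eq_iSup_pCore]
      exact iSup_le h1
    have hyF : y ∈ F := by
      apply hCF
      rw [Subgroup.mem_centralizer_iff]
      intro z hz
      have := h2 hz
      rw [Subgroup.mem_centralizer_iff] at this
      exact (this y (Subgroup.mem_zpowers y)).symm
    have h3 : y ∈ Subgroup.centralizer (R : Set G) := by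
      apply mem_of_prime_power_parts _ (orderOf y) y rfl (orderOf_pos y)
      intro z hz p j hp hpy hzo
      have : Fact p.Prime := ⟨hp⟩
      have hpq : p ≠ q := by
        rintro rfl
        exact hp.one_lt.ne' (hyq.symm.eq_one_of_dvd hpy)
      have hzF : z ∈ F := (Subgroup.zpowers_le.2 hyF) hz
      have hzp : z ∈ pCore p G := mem_pCore_of_mem_fitting hzF hzo
      rw [Subgroup.mem_centralizer_iff]
      intro r hr
      have hrT := (Subgroup.mem_inf.1 hr).2
      rw [Subgroup.mem_centralizer_iff] at hrT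
      exact (hrT z ⟨p, hp, hpq, hzp⟩).symm
    intro r hr
    rw [Subgroup.mem_centralizer_iff] at h3
    exact h3 r hr
  have hRnil : Group.IsNilpotent R := by
    apply Group.of_quotient_center_nilpotent
    have hpq : IsPGroup q (↥R ⧸ Subgroup.center ↥R) := by
      intro a
      induction a using QuotientGroup.induction_on with
      | H r =>
        obtain ⟨e, m, hqm, hnm⟩ :=
          Nat.exists_eq_pow_mul_and_not_dvd (orderOf_pos (r : G)).ne' q hq.ne_one
        refine ⟨e, ?_⟩
        rw [← QuotientGroup.mk_pow, QuotientGroup.eq_one_iff, Subgroup.mem_center_iff]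
        intro s
        have hqe0 : q ^ e ≠ 0 := pow_ne_zero _ hq.ne_zero
        have ho : orderOf ((r : G) ^ (q ^ e)) = m := by
          rw [orderOf_pow_of_dvd hqe0 (by rw [hnm]; exact dvd_mul_right _ _), hnm,
            Nat.mul_div_cancel_left _ (Nat.pos_of_ne_zero hqe0)]
        have := hcent ((r : G) ^ (q ^ e)) (R.pow_mem r.2 _)
          (by rw [ho]; exact ((Nat.Prime.coprime_iff_not_dvd hq).2 hqm).symm) s s.2
        exact Subtype.ext this
    exact hpq.isNilpotent
  exact le_fittingSubgroup hRn hRnil hxR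

end Cfsg.Agent.Lib.H19
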