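import Mathlib
import Cfsg.Agent.Lib.H1.FpfBasic

/-!
# Fixed-point-free automorphisms `σ` with `σ ^ 4 = 1`: the subgroup `[G, σ²]` (helper19)
-/

set_option autoImplicit false

namespace Cfsg.Agent.Lib.H19.Fpf4

open Cfsg.Agent.Lib.H1

variable {G : Type*} [Group G]

/-- `[G, σ²]`, generated by the elements `g⁻¹ σ²(g)` -/
def Kt (σ : MulAut G) : Subgroup G :=
  Subgroup.closure (Set.range fun g : G => g⁻¹ * (σ ^ 2) g)

theorem gen_mem_Kt (σ : MulAut G) (g : G) : g⁻¹ * (σ ^ 2) g ∈ Kt σ :=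
  Subgroup.subset_closure ⟨g, rfl⟩

theorem Kt_normal (σ : MulAut G) : (Kt σ).Normal := by
  constructor
  intro n hn h
  induction hn using Subgroup.closure_induction with
  | mem x hx =>
    obtain ⟨g, rfl⟩ := hx
    have e : h * (g⁻¹ * (σ ^ 2) g) * h⁻¹ =
        ((g * h⁻¹)⁻¹ * (σ ^ 2) (g * h⁻¹)) * ((h⁻¹)⁻¹ * (σ ^ 2) h⁻¹)⁻¹ := by
      rw [map_mul, map_inv]
      group
    rw [e]
    exact (Kt σ).mul_mem (gen_mem_Kt σ _) ((Kt σ).inv_mem (gen_mem_Kt σ _))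
  | one => simp
  | mul a b _ _ ha hb =>
    have e : h * (a * b) * h⁻¹ = (h * a * h⁻¹) * (h * b * h⁻¹) := by group
    rw [e]
    exact (Kt σ).mul_mem ha hb
  | inv a _ ha =>
    have e : h * a⁻¹ * h⁻¹ = (h * a * h⁻¹)⁻¹ := by group
    rw [e]
    exact (Kt σ).inv_mem ha

theorem apply_mem_Kt (σ : MulAut G) {x : G} (hx : x ∈ Kt σ) : σ x ∈ Kt σ := by
  induction hx using Subgroup.closure_induction with
  | mem x hx =>
    obtain ⟨g, rfl⟩ := hx
    have e : σ (g⁻¹ * (σ ^ 2) g) = (σ g)⁻¹ * (σ ^ 2) (σ g) := by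
      rw [map_mul, map_inv]
      simp [pow_succ, MulAut.mul_apply]
    rw [e]
    exact gen_mem_Kt σ _
  | one => simp
  | mul a b _ _ ha hb => rw [map_mul]; exact (Kt σ).mul_mem ha hb
  | inv a _ ha => rw [map_inv]; exact (Kt σ).inv_mem ha

theorem Kt_invSub [Finite G] (σ : MulAut G) : InvSub σ (Kt σ) :=
  invSub_of_forall_mem (fun _ hx => apply_mem_Kt σ hx)

/-- the image of `[G, σ²]` in an invariant quotient -/
theorem map_Kt (σ : MulAut G) (N : Subgroup G) [N.Normal] (hN : InvSub σ N) :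
    (Kt σ).map (QuotientGroup.mk' N) = Kt (quotAut σ N hN) := by
  unfold Kt
  rw [MonoidHom.map_closure]
  congr 1
  ext q
  constructor
  · rintro ⟨_, ⟨g, rfl⟩, rfl⟩
    refine ⟨QuotientGroup.mk g, ?_⟩
    show (QuotientGroup.mk g : G ⧸ N)⁻¹ * ((quotAut σ N hN) ^ 2) (QuotientGroup.mk g) = _
    rw [quotAut_pow_mk]
    rfl
  · rintro ⟨q', rfl⟩
    obtain ⟨g, rfl⟩ := QuotientGroup.mk_surjective q'
    refine ⟨g⁻¹ * (σ ^ 2) g, ⟨g, rfl⟩, ?_⟩
    show _ = (QuotientGroup.mk g : G ⧸ N)⁻¹ * ((quotAut σ N hN) ^ 2) (QuotientGroup.mk g)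
    rw [quotAut_pow_mk]
    rfl

/-- `G / [G, σ²]` is abelian, i.e. `G' ≤ [G, σ²]` -/
theorem commutator_le_Kt [Finite G] {σ : MulAut G} (hf : Fpf σ) :
    commutator G ≤ Kt σ := by
  haveI := Kt_normal σ
  have hN := Kt_invSub σ
  have hfq := (hf.quot (Kt σ) hN)
  have hinv : Function.Involutive (quotAut σ (Kt σ) hN) := by
    intro q
    obtain ⟨g, rfl⟩ := QuotientGroup.mk_surjective q
    rw [quotAut_mk, quotAut_mk, QuotientGroup.eq]
    have h := gen_mem_Kt σ g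
    have e : (σ (σ g))⁻¹ * g = (g⁻¹ * (σ ^ 2) g)⁻¹ := by
      simp [pow_succ, MulAut.mul_apply]
    rw [e]
    exact (Kt σ).inv_mem h
  have hcomm := MonoidHom.FixedPointFree.commute_all_of_involutive
    (φ := (quotAut σ (Kt σ) hN)) hfq hinv
  rw [commutator_def, Subgroup.commutator_le]
  intro a _ b _
  rw [← QuotientGroup.eq_one_iff]
  have h1 := hcomm (QuotientGroup.mk a) (QuotientGroup.mk b)
  rw [commutatorElement_def]
  simp only [QuotientGroup.mk_mul, QuotientGroup.mk_inv]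
  rw [h1.eq]
  group

/-- a group with a fixed-point-free automorphism of `2`-power order has odd order -/
theorem odd_card [Finite G] {σ : MulAut G} (hf : Fpf σ) (h4 : σ ^ 4 = 1) : Odd (Nat.card G) := by
  haveI : Fact (Nat.Prime 2) := ⟨Nat.prime_two⟩
  have hP : IsPGroup 2 (Subgroup.zpowers σ) := by
    have h1 : orderOf σ ∣ 2 ^ 2 := orderOf_dvd_of_pow_eq_one (by norm_num; exact h4)
    obtain ⟨k, _, hk⟩ := (Nat.dvd_prime_pow Nat.prime_two).mp h1
    apply IsPGroup.of_card (n := k)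
    rw [Nat.card_zpowers, hk]
  have h1 := hP.card_modEq_card_fixedPoints G
  have h2 : Nat.card (MulAction.fixedPoints (Subgroup.zpowers σ) G) = 1 := by
    rw [Nat.card_eq_one_iff_unique]
    refine ⟨⟨?_⟩, ⟨⟨1, ?_⟩⟩⟩
    · rintro ⟨a, ha⟩ ⟨b, hb⟩
      apply Subtype.ext
      have ha' := hf a (ha ⟨σ, Subgroup.mem_zpowers σ⟩)
      have hb' := hf b (hb ⟨σ, Subgroup.mem_zpowers σ⟩)
      show a = b
      rw [ha', hb']
    · intro g
      show (g : MulAut G) • (1 : G) = 1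
      simp
  rw [h2] at h1
  rw [Nat.odd_iff]
  exact h1

/-- an element inverted by `σ²` commutes with its image under `σ` -/
theorem commute_of_inverted [Finite G] {σ : MulAut G} (hf : Fpf σ) {x : G}
    (hx : σ (σ x) = x⁻¹) : x * σ x = σ x * x := by
  set y := σ x with hy
  set c := x⁻¹ * y⁻¹ * x * y with hc
  have h1 : σ c = x * c * x⁻¹ := by
    rw [hc, map_mul, map_mul, map_mul, map_inv, map_inv, ← hy, hx]
    group
  obtain ⟨b', hb'⟩ := MonoidHom.FixedPointFree.commutatorMap_surjective (φ := σ) hf x⁻¹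
  rw [MonoidHom.commutatorMap_apply] at hb'
  -- b = b'⁻¹ satisfies σ b * x = b
  have h2 : σ b'⁻¹ * x = b'⁻¹ := by
    have : x = σ b' * b'⁻¹ := by
      have h := congrArg (fun t => t⁻¹) hb'
      simp only [inv_inv] at h
      rw [← h, div_eq_mul_inv]
      group
    rw [this, map_inv]
    group
  have h3 : σ (b'⁻¹ * c * b'⁻¹⁻¹) = b'⁻¹ * c * b'⁻¹⁻¹ := by
    rw [map_mul, map_mul, h1, map_inv (σ) (b'⁻¹)]
    have e : σ b'⁻¹ * (x * c * x⁻¹) * (σ b'⁻¹)⁻¹ = (σ b'⁻¹ * x) * c * (σ b'⁻¹ * x)⁻¹ := by group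
    rw [e, h2]
  have h4 := hf _ h3
  have h5 : c = 1 := by
    have : c = b'⁻¹⁻¹ * (b'⁻¹ * c * b'⁻¹⁻¹) * b'⁻¹ := by group
    rw [this, h4]
    group
  rw [hc] at h5
  have : x * y = y * x * (x⁻¹ * y⁻¹ * x * y) := by group
  rw [this, h5, mul_one]

end Cfsg.Agent.Lib.H19.Fpf4
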