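import Mathlib
import Cfsg.Agent.Lib.H1.FpfBasic
import Cfsg.Agent.Lib.H1.OmegaZ

/-!
# Minimal invariant normal subgroups of a solvable group with an automorphism (helper19)
-/

set_option autoImplicit false

namespace Cfsg.Agent.Lib.H19.Fpf4

open Cfsg.Agent.Lib.H1

variable {G : Type*} [Group G]

/-- a minimal `σ`-invariant normal subgroup -/
structure IsMinInv (σ : MulAut G) (M : Subgroup G) : Prop where
  ne_bot : M ≠ ⊥
  normal : M.Normal
  inv : InvSub σ M
  min : ∀ N : Subgroup G, N.Normal → InvSub σ N → N ≤ M → N ≠ ⊥ → N = M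

theorem exists_isMinInv [Finite G] [Nontrivial G] (σ : MulAut G) : ∃ M, IsMinInv σ M := by
  obtain ⟨M, -, hM⟩ := Finite.exists_le_minimal
    (p := fun N : Subgroup G => N ≠ ⊥ ∧ N.Normal ∧ InvSub σ N) (a := ⊤)
    ⟨top_ne_bot, inferInstance, invSub_top σ⟩
  exact ⟨M, hM.1.1, hM.1.2.1, hM.1.2.2, fun N hN1 hN2 hle hne =>
    le_antisymm hle (hM.2 ⟨hne, hN1, hN2⟩ hle)⟩

theorem IsMinInv.comm {σ : MulAut G} {M : Subgroup G} (h : IsMinInv σ M)
    (hs : Group.IsSolvable G) : ∀ a ∈ M, ∀ b ∈ M, a * b = b * a := by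
  haveI := h.normal
  have hsM : Group.IsSolvable ↥M := inferInstance
  have h1 : ⁅M, M⁆ ≠ M := commutator_ne_self_of_isSolvable hsM h.ne_bot
  have h2 : (⁅M, M⁆).Normal := Subgroup.commutator_normal M M
  have h3 : InvSub σ ⁅M, M⁆ := by
    unfold InvSub
    rw [Subgroup.map_commutator, h.inv]
  have h4 : ⁅M, M⁆ ≤ M := Subgroup.commutator_le_right M M
  have h5 : ⁅M, M⁆ = ⊥ := by
    by_contra hne
    exact h1 (h.min _ h2 h3 h4 hne)
  intro a ha b hb
  have h6 := Subgroup.commutator_mem_commutator ha hb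
  rw [h5, Subgroup.mem_bot] at h6
  exact commutatorElement_eq_one_iff_mul_comm.mp h6

theorem IsMinInv.exists_prime [Finite G] {σ : MulAut G} {M : Subgroup G} (h : IsMinInv σ M)
    (hc : ∀ a ∈ M, ∀ b ∈ M, a * b = b * a) : ∃ p : ℕ, p.Prime ∧ ∀ m ∈ M, m ^ p = 1 := by
  haveI := h.normal
  have h1 : Nat.card ↥M ≠ 1 := by
    intro h1
    exact h.ne_bot (Subgroup.card_eq_one.mp h1)
  obtain ⟨p, hp, hpd⟩ := Nat.exists_prime_and_dvd h1
  haveI : Fact p.Prime := ⟨hp⟩
  obtain ⟨x, hx⟩ := exists_prime_orderOf_dvd_card' (G := ↥M) p hpd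
  refine ⟨p, hp, ?_⟩
  have hcent : ∀ z ∈ M, z ∈ Subgroup.centralizer (M : Set G) := by
    intro z hz
    rw [Subgroup.mem_centralizer_iff]
    intro m hm
    exact hc m hm z hz
  have hxΩ : (x : G) ∈ omegaZ p M := by
    rw [mem_omegaZ]
    refine ⟨x.2, hcent _ x.2, ?_⟩
    have := pow_orderOf_eq_one x
    rw [hx] at this
    exact_mod_cast congrArg Subtype.val this
  have hΩne : omegaZ p M ≠ ⊥ := by
    intro hb
    rw [hb, Subgroup.mem_bot] at hxΩ
    have hx1 : x = 1 := Subtype.ext hxΩ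
    rw [hx1, orderOf_one] at hx
    exact hp.one_lt.ne hx
  have hΩinv : InvSub σ (omegaZ p M) := by
    apply invSub_of_forall_mem
    intro z hz
    rw [mem_omegaZ] at hz ⊢
    have hz' := h.inv.apply_mem hz.1
    refine ⟨hz', hcent _ hz', ?_⟩
    rw [← map_pow, hz.2.2, map_one]
  have hΩ := h.min _ (omegaZ_normal M) hΩinv (omegaZ_le M) hΩne
  intro m hm
  rw [← hΩ] at hm
  exact hm.2.2

end Cfsg.Agent.Lib.H19.Fpf4
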