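import Mathlib

/-!
# A Frobenius-type fixed point computation (helper19)

`M` a finite abelian group, `s` a fixed-point-free automorphism of `M` with `s ^ 4 = 1`,
`R` an abelian group of automorphisms of `M` of odd order prime to `|M|`, normalized by `s`
and inverted by `s ^ 2`.  Then `R = 1`.
-/

set_option autoImplicit false

namespace Cfsg.Agent.Lib.H19.Fpf4

variable {M : Type*} [CommGroup M]

theorem norm_eq_one {s : MulAut M} (h4 : s ^ 4 = 1) (hf : ∀ m, s m = m → m = 1) (w : M) :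
    w * s w * (s ^ 2) w * (s ^ 3) w = 1 := by
  apply hf
  have h4' : s ((s ^ 3) w) = w := by
    have h := congrArg (fun f : MulAut M => f w) h4
    simpa [pow_succ, MulAut.mul_apply] using h
  have h2 : s (s w) = (s ^ 2) w := by simp [pow_succ, MulAut.mul_apply]
  have h3 : s ((s ^ 2) w) = (s ^ 3) w := by simp [pow_succ, MulAut.mul_apply]
  rw [map_mul, map_mul, map_mul, h4', h2, h3]
  ac_rfl

/-- the Frobenius-type computation -/
theorem frob_trivial [Finite M] (s : MulAut M) (h4 : s ^ 4 = 1) (hf : ∀ m, s m = m → m = 1)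
    (R : Subgroup (MulAut M)) (hcomm : ∀ a ∈ R, ∀ b ∈ R, a * b = b * a)
    (hodd : Odd (Nat.card R)) (hcop : (Nat.card R).Coprime (Nat.card M))
    (hnorm : ∀ r ∈ R, s * r * s⁻¹ ∈ R) (hinv : ∀ r ∈ R, s ^ 2 * r * (s ^ 2)⁻¹ = r⁻¹) :
    ∀ r ∈ R, r = 1 := by
  classical
  have : Finite (MulAut M) :=
    Finite.of_injective (fun e : MulAut M => (e : M → M)) DFunLike.coe_injective
  letI : Fintype R := Fintype.ofFinite R
  -- elements of `R` with square `1` are trivial
  have hsq : ∀ k ∈ R, k * k = 1 → k = 1 := by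
    intro k hk hkk
    have h1 : orderOf (⟨k, hk⟩ : R) ∣ 2 := by
      apply orderOf_dvd_of_pow_eq_one
      apply Subtype.ext
      simp [pow_two, hkk]
    have h2 : orderOf (⟨k, hk⟩ : R) ∣ Nat.card R := orderOf_dvd_natCard _
    have h3 : (Nat.card R).Coprime 2 := Nat.coprime_two_right.mpr hodd
    have h4 : orderOf (⟨k, hk⟩ : R) = 1 :=
      Nat.Coprime.eq_one_of_dvd (Nat.Coprime.coprime_dvd_left h2 h3) h1
    have h5 := orderOf_eq_one_iff.mp h4
    exact congrArg Subtype.val h5
  -- `φ² = inversion`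
  have hφ2 : ∀ k ∈ R, s * (s * k * s⁻¹) * s⁻¹ = k⁻¹ := by
    intro k hk
    rw [← hinv k hk]
    simp [pow_two, mul_assoc]
  have hfix : ∀ k ∈ R, s * k * s⁻¹ = k → k = 1 := by
    intro k hkR h2
    have h3 : k⁻¹ = k := by
      have := hφ2 k hkR
      rw [h2, h2] at this
      exact this.symm
    have h4 : k * k = 1 := by
      nth_rewrite 1 [← h3]
      exact inv_mul_cancel k
    exact hsq k hkR h4
  have hfix' : ∀ k ∈ R, s * k * s⁻¹ = k⁻¹ → k = 1 := by
    intro k hkR h2
    have h3 : k⁻¹ = k := by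
      have h := hφ2 k hkR
      rw [h2] at h
      have e : s * k⁻¹ * s⁻¹ = (s * k * s⁻¹)⁻¹ := by group
      rw [e, h2, inv_inv] at h
      exact h.symm
    have h4 : k * k = 1 := by
      nth_rewrite 1 [← h3]
      exact inv_mul_cancel k
    exact hsq k hkR h4
  -- the three reindexing maps
  let α : R → R := fun g => ⟨(g : MulAut M) * (s * (g : MulAut M)⁻¹ * s⁻¹),
    R.mul_mem g.2 (hnorm _ (R.inv_mem g.2))⟩
  let β : R → R := fun g => ⟨(g : MulAut M) * (g : MulAut M), R.mul_mem g.2 g.2⟩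
  let γ : R → R := fun g => ⟨(g : MulAut M) * (s * (g : MulAut M) * s⁻¹),
    R.mul_mem g.2 (hnorm _ g.2)⟩
  have hα : Function.Bijective α := by
    rw [← Finite.injective_iff_bijective]
    intro g h hgh
    have h1 : (g : MulAut M) * (s * (g : MulAut M)⁻¹ * s⁻¹) =
        (h : MulAut M) * (s * (h : MulAut M)⁻¹ * s⁻¹) := congrArg Subtype.val hgh
    set k : MulAut M := (h : MulAut M)⁻¹ * (g : MulAut M) with hk
    have hkR : k ∈ R := R.mul_mem (R.inv_mem h.2) g.2
    have h2 : s * k * s⁻¹ = k := by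
      have e1 : s * k * s⁻¹ = (s * (h : MulAut M)⁻¹ * s⁻¹) * (s * (g : MulAut M)⁻¹ * s⁻¹)⁻¹ := by
        rw [hk]; group
      have e2 : (s * (g : MulAut M)⁻¹ * s⁻¹) = (g : MulAut M)⁻¹ * ((h : MulAut M) *
          (s * (h : MulAut M)⁻¹ * s⁻¹)) := by
        rw [← h1]; group
      rw [e1, e2, hk]
      have c2 := hcomm _ (hnorm _ (R.inv_mem h.2)) _ (R.mul_mem (R.inv_mem h.2) g.2)
      calc (s * (h : MulAut M)⁻¹ * s⁻¹) * ((g : MulAut M)⁻¹ * ((h : MulAut M) *
            (s * (h : MulAut M)⁻¹ * s⁻¹)))⁻¹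
          = ((s * (h : MulAut M)⁻¹ * s⁻¹) * (s * (h : MulAut M)⁻¹ * s⁻¹)⁻¹) *
              ((h : MulAut M)⁻¹ * (g : MulAut M)) := by group
        _ = (h : MulAut M)⁻¹ * (g : MulAut M) := by group
    have h5 := hfix k hkR h2
    apply Subtype.ext
    have : (h : MulAut M)⁻¹ * (g : MulAut M) = 1 := h5
    exact (inv_mul_eq_one.mp this).symm
  have hβ : Function.Bijective β := by
    rw [← Finite.injective_iff_bijective]
    intro g h hgh
    have h1 : (g : MulAut M) * (g : MulAut M) = (h : MulAut M) * (h : MulAut M) :=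
      congrArg Subtype.val hgh
    set k : MulAut M := (h : MulAut M)⁻¹ * (g : MulAut M) with hk
    have hkR : k ∈ R := R.mul_mem (R.inv_mem h.2) g.2
    have c1 := hcomm _ g.2 _ (R.inv_mem h.2)
    have h2 : k * k = 1 := by
      calc k * k = (h : MulAut M)⁻¹ * ((g : MulAut M) * (h : MulAut M)⁻¹) * (g : MulAut M) := by
            rw [hk]; group
        _ = (h : MulAut M)⁻¹ * ((h : MulAut M)⁻¹ * (g : MulAut M)) * (g : MulAut M) := by rw [c1]
        _ = (h : MulAut M)⁻¹ * (h : MulAut M)⁻¹ * ((g : MulAut M) * (g : MulAut M)) := by group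
        _ = 1 := by rw [h1]; group
    have h5 := hsq k hkR h2
    apply Subtype.ext
    have : (h : MulAut M)⁻¹ * (g : MulAut M) = 1 := h5
    exact (inv_mul_eq_one.mp this).symm
  have hγ : Function.Bijective γ := by
    rw [← Finite.injective_iff_bijective]
    intro g h hgh
    have h1 : (g : MulAut M) * (s * (g : MulAut M) * s⁻¹) =
        (h : MulAut M) * (s * (h : MulAut M) * s⁻¹) := congrArg Subtype.val hgh
    set k : MulAut M := (h : MulAut M)⁻¹ * (g : MulAut M) with hk
    have hkR : k ∈ R := R.mul_mem (R.inv_mem h.2) g.2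
    have h2 : s * k * s⁻¹ = k⁻¹ := by
      have e1 : s * k * s⁻¹ = (s * (h : MulAut M) * s⁻¹)⁻¹ * (s * (g : MulAut M) * s⁻¹) := by
        rw [hk]; group
      have e2 : (s * (g : MulAut M) * s⁻¹) = (g : MulAut M)⁻¹ * ((h : MulAut M) *
          (s * (h : MulAut M) * s⁻¹)) := by
        rw [← h1]; group
      rw [e1, e2, hk]
      have c2 := hcomm _ (hnorm _ h.2) _ (R.mul_mem (R.inv_mem g.2) h.2)
      calc (s * (h : MulAut M) * s⁻¹)⁻¹ * ((g : MulAut M)⁻¹ * ((h : MulAut M) *
            (s * (h : MulAut M) * s⁻¹)))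
          = (s * (h : MulAut M) * s⁻¹)⁻¹ * (((g : MulAut M)⁻¹ * (h : MulAut M)) *
            (s * (h : MulAut M) * s⁻¹)) := by group
        _ = (s * (h : MulAut M) * s⁻¹)⁻¹ * ((s * (h : MulAut M) * s⁻¹) *
            ((g : MulAut M)⁻¹ * (h : MulAut M))) := by rw [c2]
        _ = ((h : MulAut M)⁻¹ * (g : MulAut M))⁻¹ := by group
    have h5 := hfix' k hkR h2
    apply Subtype.ext
    have : (h : MulAut M)⁻¹ * (g : MulAut M) = 1 := h5
    exact (inv_mul_eq_one.mp this).symm
  -- the trace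
  let S : M → M := fun v => ∏ h : R, (h : MulAut M) v
  have hS_mul : ∀ u v, S (u * v) = S u * S v := by
    intro u v
    simp only [S, map_mul, Finset.prod_mul_distrib]
  have hS_inv : ∀ u, S u⁻¹ = (S u)⁻¹ := by
    intro u
    simp only [S, map_inv, Finset.prod_inv_distrib]
  have hS_fix : ∀ (r : R) v, (r : MulAut M) (S v) = S v := by
    intro r v
    simp only [S, map_prod]
    exact Function.Bijective.prod_comp (Group.mulLeft_bijective r) (fun h : R => (h : MulAut M) v)
  have key : ∀ w : M, S w = w ^ Fintype.card R := by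
    intro w
    have h1 : ∀ g : R, w * (α g : MulAut M) (s w) * (β g : MulAut M) ((s ^ 2) w) *
        (γ g : MulAut M) ((s ^ 3) w) = 1 := by
      intro g
      set sg : MulAut M := (g : MulAut M) * s * (g : MulAut M)⁻¹ with hsg
      have hsg4 : sg ^ 4 = 1 := by rw [hsg, conj_pow, h4]; group
      have hsgf : ∀ m, sg m = m → m = 1 := by
        intro m hm
        have h2 : s ((g : MulAut M)⁻¹ m) = (g : MulAut M)⁻¹ m := by
          have h3 : (g : MulAut M)⁻¹ (sg m) = (g : MulAut M)⁻¹ m := by rw [hm]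
          rw [hsg] at h3
          simpa [MulAut.mul_apply] using h3
        have h4 := hf _ h2
        have h5 : (g : MulAut M) ((g : MulAut M)⁻¹ m) = (g : MulAut M) 1 := by rw [h4]
        simpa using h5
      have hn := norm_eq_one hsg4 hsgf w
      have e1 : sg = (α g : MulAut M) * s := by
        show sg = (g : MulAut M) * (s * (g : MulAut M)⁻¹ * s⁻¹) * s
        rw [hsg]; group
      have e2 : sg ^ 2 = (β g : MulAut M) * s ^ 2 := by
        show sg ^ 2 = (g : MulAut M) * (g : MulAut M) * s ^ 2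
        have h2 := hinv _ (R.inv_mem g.2)
        rw [inv_inv] at h2
        rw [hsg, conj_pow]
        calc (g : MulAut M) * s ^ 2 * (g : MulAut M)⁻¹
            = (g : MulAut M) * (s ^ 2 * (g : MulAut M)⁻¹ * (s ^ 2)⁻¹) * s ^ 2 := by group
          _ = (g : MulAut M) * (g : MulAut M) * s ^ 2 := by rw [h2]
      have e3 : sg ^ 3 = (γ g : MulAut M) * s ^ 3 := by
        show sg ^ 3 = (g : MulAut M) * (s * (g : MulAut M) * s⁻¹) * s ^ 3
        have h2 := hinv _ (R.inv_mem g.2)
        rw [inv_inv] at h2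
        rw [hsg, conj_pow]
        calc (g : MulAut M) * s ^ 3 * (g : MulAut M)⁻¹
            = (g : MulAut M) * (s * (s ^ 2 * (g : MulAut M)⁻¹ * (s ^ 2)⁻¹) * s⁻¹) * s ^ 3 := by
              group
          _ = (g : MulAut M) * (s * (g : MulAut M) * s⁻¹) * s ^ 3 := by rw [h2]
      rw [e2, e3, e1] at hn
      simpa [MulAut.mul_apply] using hn
    have h2 : ∏ g : R, (w * (α g : MulAut M) (s w) * (β g : MulAut M) ((s ^ 2) w) *
        (γ g : MulAut M) ((s ^ 3) w)) = 1 := by
      apply Finset.prod_eq_one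
      intro g _
      exact h1 g
    rw [Finset.prod_mul_distrib, Finset.prod_mul_distrib, Finset.prod_mul_distrib,
      Finset.prod_const, Finset.card_univ] at h2
    have ea : ∏ g : R, (α g : MulAut M) (s w) = S (s w) :=
      Function.Bijective.prod_comp hα (fun h : R => (h : MulAut M) (s w))
    have eb : ∏ g : R, (β g : MulAut M) ((s ^ 2) w) = S ((s ^ 2) w) :=
      Function.Bijective.prod_comp hβ (fun h : R => (h : MulAut M) ((s ^ 2) w))
    have ec : ∏ g : R, (γ g : MulAut M) ((s ^ 3) w) = S ((s ^ 3) w) :=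
      Function.Bijective.prod_comp hγ (fun h : R => (h : MulAut M) ((s ^ 3) w))
    rw [ea, eb, ec] at h2
    have h3 : s w * (s ^ 2) w * (s ^ 3) w = w⁻¹ := by
      have := norm_eq_one h4 hf w
      rw [eq_inv_iff_mul_eq_one]
      rw [← this]
      ac_rfl
    have h4' : S (s w) * S ((s ^ 2) w) * S ((s ^ 3) w) = (S w)⁻¹ := by
      rw [← hS_mul, ← hS_mul, h3, hS_inv]
    have h5 : w ^ Fintype.card R * (S w)⁻¹ = 1 := by
      rw [← h4', ← h2]
      ac_rfl
    rw [mul_inv_eq_one] at h5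
    exact h5.symm
  intro r hr
  ext m
  have hcop' : (Nat.card M).Coprime (Fintype.card R) := by
    rw [← Nat.card_eq_fintype_card]
    exact hcop.symm
  obtain ⟨w, rfl⟩ := (powCoprime hcop').surjective m
  show r (w ^ Fintype.card R) = w ^ Fintype.card R
  rw [← key w]
  exact hS_fix ⟨r, hr⟩ w

/-- the same for a group with a commutativity hypothesis rather than a `CommGroup` instance -/
theorem frob_trivial' {M : Type*} [Group M] [Finite M] (hc : ∀ a b : M, a * b = b * a)
    (s : MulAut M) (h4 : s ^ 4 = 1) (hf : ∀ m, s m = m → m = 1)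
    (R : Subgroup (MulAut M)) (hcomm : ∀ a ∈ R, ∀ b ∈ R, a * b = b * a)
    (hodd : Odd (Nat.card R)) (hcop : (Nat.card R).Coprime (Nat.card M))
    (hnorm : ∀ r ∈ R, s * r * s⁻¹ ∈ R) (hinv : ∀ r ∈ R, s ^ 2 * r * (s ^ 2)⁻¹ = r⁻¹) :
    ∀ r ∈ R, r = 1 := by
  letI : CommGroup M := { (inferInstance : Group M) with mul_comm := hc }
  exact frob_trivial s h4 hf R hcomm hodd hcop hnorm hinv

end Cfsg.Agent.Lib.H19.Fpf4
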