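import Cfsg.Agent.Lib.H19.SylowAux
import Mathlib.GroupTheory.QuotientGroup.Basic
import Mathlib.GroupTheory.PGroup
import Mathlib.GroupTheory.Commutator.Basic

/-!
# Soft subgroups of `p`-groups: basic toolkit

`IsSoft p A`: `A` is abelian, contains its centralizer and has index `p` in its normalizer.
Also a small toolkit for passing to a quotient `P ⧸ C` by a normal subgroup `C ≤ A`.
-/

set_option autoImplicit false

namespace Cfsg.Agent.Lib.H19.Soft

open Cfsg.Agent.Lib.H19
open scoped commutatorElement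

variable {P : Type*} [Group P]

/-- a soft subgroup: abelian, self-centralizing, of index `p` in its normalizer -/
structure IsSoft (p : ℕ) (A : Subgroup P) : Prop where
  comm : ∀ a ∈ A, ∀ b ∈ A, a * b = b * a
  cent : Subgroup.centralizer (A : Set P) ≤ A
  idx : A.relIndex (Subgroup.normalizer (A : Set P)) = p

theorem IsSoft.center_le {p : ℕ} {A : Subgroup P} (h : IsSoft p A) : Subgroup.center P ≤ A :=
  (Subgroup.center_le_centralizer _).trans h.cent

/-- a subgroup between `A` and `N`, where `|N : A|` is a prime, is `A` or `N` -/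
theorem eq_or_eq_of_relIndex_prime {p : ℕ} (hp : p.Prime) {A H N : Subgroup P} (hAH : A ≤ H)
    (hHN : H ≤ N) (h : A.relIndex N = p) : H = A ∨ H = N := by
  have h1 := Subgroup.relIndex_mul_relIndex A H N hAH hHN
  rw [h] at h1
  rcases (Nat.dvd_prime hp).mp (Dvd.intro _ h1) with h2 | h2
  · left
    exact le_antisymm (Subgroup.relIndex_eq_one.mp h2) hAH
  · right
    rw [h2] at h1
    have h3 : H.relIndex N = 1 := by
      have hp0 : 0 < p := hp.pos
      nlinarith
    exact le_antisymm hHN (Subgroup.relIndex_eq_one.mp h3)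

theorem IsSoft.ne_normalizer {p : ℕ} (hp : p.Prime) {A : Subgroup P} (h : IsSoft p A) :
    A ≠ Subgroup.normalizer (A : Set P) := by
  intro h1
  have h2 := h.idx
  rw [← h1, Subgroup.relIndex_self] at h2
  exact hp.one_lt.ne h2

theorem IsSoft.ne_top {p : ℕ} (hp : p.Prime) {A : Subgroup P} (h : IsSoft p A) : A ≠ ⊤ := by
  intro h1
  apply h.ne_normalizer hp
  rw [h1]
  exact (top_le_iff.mp Subgroup.le_normalizer).symm

/-- every subgroup properly containing a soft subgroup of a `p`-group contains its normalizer -/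
theorem IsSoft.normalizer_le [Finite P] {p : ℕ} [hp : Fact p.Prime] (hP : IsPGroup p P)
    {A K : Subgroup P} (h : IsSoft p A) (hAK : A < K) : Subgroup.normalizer (A : Set P) ≤ K := by
  obtain ⟨x, hxK, hxN, hxA⟩ := exists_mem_normalizer_not_mem (p := p) (hP.to_subgroup K) hAK
  have h1 : A ≤ Subgroup.normalizer (A : Set P) ⊓ K := le_inf Subgroup.le_normalizer hAK.le
  rcases eq_or_eq_of_relIndex_prime hp.out h1 inf_le_left h.idx with h2 | h2
  · exact absurd (h2 ▸ Subgroup.mem_inf.mpr ⟨hxN, hxK⟩) hxA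
  · rw [← h2]
    exact inf_le_right

/-- a subgroup containing a soft subgroup of a `p`-group is `A` itself or contains `N(A)` -/
theorem IsSoft.eq_or_normalizer_le [Finite P] {p : ℕ} [Fact p.Prime] (hP : IsPGroup p P)
    {A K : Subgroup P} (h : IsSoft p A) (hAK : A ≤ K) :
    K = A ∨ Subgroup.normalizer (A : Set P) ≤ K := by
  by_cases h1 : K = A
  · exact Or.inl h1
  · exact Or.inr (h.normalizer_le hP (lt_of_le_of_ne hAK (Ne.symm h1)))

/-! ### Quotient toolkit -/

section Quot

variable (C : Subgroup P) [C.Normal]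

theorem mk_comm_iff {g h : P} :
    (QuotientGroup.mk' C g) * (QuotientGroup.mk' C h) =
      (QuotientGroup.mk' C h) * (QuotientGroup.mk' C g) ↔ ⁅g, h⁆ ∈ C := by
  rw [← QuotientGroup.eq_one_iff, commutatorElement_def]
  have : ((g * h * g⁻¹ * h⁻¹ : P) : P ⧸ C) =
      (QuotientGroup.mk' C g) * (QuotientGroup.mk' C h) * (QuotientGroup.mk' C g)⁻¹ *
        (QuotientGroup.mk' C h)⁻¹ := by
    simp
  rw [this]
  constructor
  · intro h1
    rw [h1]
    group
  · intro h1
    have h2 := congrArg (fun x => x * (QuotientGroup.mk' C h) * (QuotientGroup.mk' C g)) h1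
    simpa [mul_assoc] using h2

theorem comap_map_mk {H : Subgroup P} (hCH : C ≤ H) :
    (H.map (QuotientGroup.mk' C)).comap (QuotientGroup.mk' C) = H :=
  Subgroup.comap_map_eq_self (by rw [QuotientGroup.ker_mk']; exact hCH)

theorem map_mk_le_iff {H K : Subgroup P} (hCK : C ≤ K) :
    H.map (QuotientGroup.mk' C) ≤ K.map (QuotientGroup.mk' C) ↔ H ≤ K := by
  constructor
  · intro h
    have h1 := Subgroup.comap_mono (f := QuotientGroup.mk' C) h
    rw [comap_map_mk C hCK] at h1
    exact (Subgroup.le_comap_map _ _).trans h1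
  · exact fun h => Subgroup.map_mono h

theorem map_mk_eq_top_iff {H : Subgroup P} (hCH : C ≤ H) :
    H.map (QuotientGroup.mk' C) = ⊤ ↔ H = ⊤ := by
  constructor
  · intro h
    have h1 := comap_map_mk C hCH
    rw [h, Subgroup.comap_top] at h1
    exact h1.symm
  · intro h
    rw [h, ← MonoidHom.range_eq_map, MonoidHom.range_eq_top]
    exact QuotientGroup.mk'_surjective C

theorem normalizer_map_mk {H : Subgroup P} (hCH : C ≤ H) :
    Subgroup.normalizer ((H.map (QuotientGroup.mk' C) : Subgroup (P ⧸ C)) : Set (P ⧸ C)) =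
      (Subgroup.normalizer (H : Set P)).map (QuotientGroup.mk' C) := by
  have h1 := Subgroup.comap_normalizer_eq_of_surjective (H.map (QuotientGroup.mk' C))
    (QuotientGroup.mk'_surjective C)
  rw [comap_map_mk C hCH] at h1
  rw [← h1, Subgroup.map_comap_eq_self_of_surjective (QuotientGroup.mk'_surjective C)]

theorem relIndex_map_mk {H K : Subgroup P} (hCH : C ≤ H) (hCK : C ≤ K) :
    (H.map (QuotientGroup.mk' C)).relIndex (K.map (QuotientGroup.mk' C)) = H.relIndex K := by
  rw [Subgroup.relIndex_map_map, QuotientGroup.ker_mk', sup_eq_left.mpr hCH, sup_eq_left.mpr hCK]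

/-- preimage of the centralizer of `H/C` -/
theorem mem_comap_centralizer_map {H : Subgroup P} {g : P} :
    g ∈ (Subgroup.centralizer ((H.map (QuotientGroup.mk' C) : Subgroup (P ⧸ C)) : Set (P ⧸ C))).comap
      (QuotientGroup.mk' C) ↔ ∀ h ∈ H, ⁅g, h⁆ ∈ C := by
  rw [Subgroup.mem_comap, Subgroup.mem_centralizer_iff]
  constructor
  · intro h1 h hh
    rw [← mk_comm_iff C]
    exact (h1 _ (Subgroup.mem_map_of_mem _ hh)).symm
  · rintro h1 _ ⟨h, hh, rfl⟩
    exact ((mk_comm_iff C).mpr (h1 h hh)).symm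

omit [C.Normal] in
theorem card_quotient_lt [Finite P] (hC : C ≠ ⊥) : Nat.card (P ⧸ C) < Nat.card P := by
  have h1 : Nat.card (P ⧸ C) = C.index := rfl
  have h2 := C.index_mul_card
  have h3 : 1 < Nat.card C := by
    rw [Finite.one_lt_card_iff_nontrivial]
    exact (Subgroup.nontrivial_iff_ne_bot C).mpr hC
  have h4 : 0 < C.index := Nat.pos_of_ne_zero Subgroup.index_ne_zero_of_finite
  rw [h1]
  nlinarith

end Quot

end Cfsg.Agent.Lib.H19.Soft
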