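import Mathlib
import Cfsg.Agent.Lib.H1.FpfBasic
import Cfsg.Agent.Lib.H1.PCore
import Cfsg.Agent.Lib.H19.SoftBasic
import Cfsg.Agent.Lib.H19.Fpf4Module
import Cfsg.Agent.Lib.H19.Fpf4Basic
import Cfsg.Agent.Lib.H19.Fpf4Min

/-!
# Solvable groups with a fixed-point-free automorphism `σ`, `σ ^ 4 = 1`: `[G, σ²]` is nilpotent
(helper19)
-/

set_option autoImplicit false
universe u

namespace Cfsg.Agent.Lib.H19.Fpf4

open Cfsg.Agent.Lib.H1

section setup
variable {G : Type*} [Group G]

/-- conjugation action on a normal subgroup -/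
def rho (M : Subgroup G) [M.Normal] : G →* MulAut ↥M := MulAut.conjNormal

theorem rho_apply (M : Subgroup G) [M.Normal] (g : G) (m : ↥M) :
    ((rho M g m : ↥M) : G) = g * m * g⁻¹ := MulAut.conjNormal_apply g m

theorem mem_ker_rho {M : Subgroup G} [M.Normal] {g : G} :
    g ∈ (rho M).ker ↔ ∀ m ∈ M, g * m * g⁻¹ = m := by
  rw [MonoidHom.mem_ker]
  constructor
  · intro h m hm
    have h1 := congrArg (fun f : MulAut ↥M => ((f ⟨m, hm⟩ : ↥M) : G)) h
    simpa [rho_apply] using h1
  · intro h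
    ext m
    rw [rho_apply]
    exact h m m.2

theorem restrict_mul_rho {σ : MulAut G} {M : Subgroup G} [M.Normal] (hM : InvSub σ M) (g : G) :
    restrictAut σ M hM * rho M g = rho M (σ g) * restrictAut σ M hM := by
  ext m
  simp only [MulAut.mul_apply, rho_apply, restrictAut_apply, map_mul, map_inv]

theorem restrict_conj_rho {σ : MulAut G} {M : Subgroup G} [M.Normal] (hM : InvSub σ M) (g : G) :
    restrictAut σ M hM * rho M g * (restrictAut σ M hM)⁻¹ = rho M (σ g) := by
  rw [restrict_mul_rho, mul_inv_cancel_right]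

theorem invSub_ker_rho [Finite G] {σ : MulAut G} {M : Subgroup G} [M.Normal] (hM : InvSub σ M) :
    InvSub σ (rho M).ker := by
  apply invSub_of_forall_mem
  intro g hg
  rw [MonoidHom.mem_ker] at hg ⊢
  rw [← restrict_conj_rho hM, hg]
  group

/-- a normal nilpotent subgroup of a group with trivial `p`-core is a `p'`-group -/
theorem not_dvd_orderOf_of_nilpotent {H : Type*} [Group H] [Finite H] {p : ℕ} [hp : Fact p.Prime]
    (hcore : Cfsg.pCore p H = ⊥) (K : Subgroup H) [hKn : K.Normal] (hK : Group.IsNilpotent ↥K)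
    {q : H} (hq : q ∈ K) : ¬ p ∣ orderOf q := by
  intro hdvd
  set q' := q ^ (orderOf q / p) with hq'
  have ho : orderOf q' = p := orderOf_pow_orderOf_div (orderOf_pos q).ne' hdvd
  have hq'K : q' ∈ K := K.pow_mem hq _
  set Q : Subgroup ↥K := Subgroup.zpowers (⟨q', hq'K⟩ : ↥K) with hQ
  have hQp : IsPGroup p Q := by
    apply IsPGroup.of_card (n := 1)
    rw [Nat.card_zpowers, pow_one, ← ho]
    exact Subgroup.orderOf_mk q' hq'K
  obtain ⟨P, hQP⟩ := hQp.exists_le_sylow
  have h03 : Group.IsNilpotent ↥K ↔ ∀ (p : ℕ) (_ : Fact p.Prime) (P : Sylow p ↥K),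
      (↑P : Subgroup ↥K).Normal := (Group.isNilpotent_of_finite_tfae (G := ↥K)).out 0 3
  have hPn : (P : Subgroup ↥K).Normal := h03.mp hK p hp P
  haveI hPc : (P : Subgroup ↥K).Characteristic := Sylow.characteristic_of_normal P hPn
  have hn : ((P : Subgroup ↥K).map K.subtype).Normal :=
    ConjAct.normal_of_characteristic_of_normal
  have hp' : IsPGroup p ((P : Subgroup ↥K).map K.subtype) := P.isPGroup'.map K.subtype
  have hle := le_pCore hn hp'
  rw [hcore] at hle
  have hmem : q' ∈ (P : Subgroup ↥K).map K.subtype :=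
    ⟨⟨q', hq'K⟩, hQP (Subgroup.mem_zpowers _), rfl⟩
  have h1 := hle hmem
  rw [Subgroup.mem_bot] at h1
  rw [h1, orderOf_one] at ho
  exact hp.out.one_lt.ne ho

theorem pCore_quot_eq_bot [Finite G] {σ : MulAut G} {M : Subgroup G} [M.Normal]
    (hM : IsMinInv σ M) {p : ℕ} [Fact p.Prime] (hpM : IsPGroup p ↥M)
    (hC : InvSub σ (rho M).ker) : Cfsg.pCore p (G ⧸ (rho M).ker) = ⊥ := by
  set C := (rho M).ker with hCdef
  set D : Subgroup G := (Cfsg.pCore p (G ⧸ C)).comap (QuotientGroup.mk' C) with hD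
  haveI hDn : D.Normal := (pCore_normal p (G ⧸ C)).comap _
  have hDinv : InvSub σ D := by
    apply invSub_of_forall_mem
    intro x hx
    rw [hD, Subgroup.mem_comap] at hx ⊢
    have hchar := pCore_characteristic p (G ⧸ C)
    have h1 := (Subgroup.characteristic_iff_map_eq.mp hchar) (quotAut σ C hC)
    rw [← h1]
    exact ⟨_, hx, rfl⟩
  set N := M ⊓ Subgroup.centralizer (D : Set G) with hN
  have hNn : N.Normal := inferInstance
  have hNinv : InvSub σ N := hM.inv.inf hDinv.centralizer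
  have hNne : N ≠ ⊥ := by
    set Δ : Subgroup (MulAut ↥M) :=
      (Cfsg.pCore p (G ⧸ C)).map (QuotientGroup.kerLift (rho M)) with hΔ
    have hΔp : IsPGroup p Δ := (pCore_isPGroup p (G ⧸ C)).map _
    have hdvd : p ∣ Nat.card ↥M := by
      obtain ⟨n, hn⟩ := IsPGroup.iff_card.mp hpM
      have hn0 : n ≠ 0 := by
        rintro rfl
        rw [pow_zero] at hn
        exact hM.ne_bot (Subgroup.card_eq_one.mp hn)
      rw [hn]
      exact dvd_pow_self p hn0
    have h1 : (1 : ↥M) ∈ MulAction.fixedPoints Δ ↥M := by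
      intro d
      show (d : MulAut ↥M) (1 : ↥M) = 1
      simp
    obtain ⟨b, hb, hb1⟩ :=
      hΔp.exists_fixed_point_of_prime_dvd_card_of_fixed_point ↥M hdvd h1
    have hbN : (b : G) ∈ N := by
      refine Subgroup.mem_inf.mpr ⟨b.2, ?_⟩
      rw [Subgroup.mem_centralizer_iff]
      intro d hd
      have hdΔ : rho M d ∈ Δ := ⟨QuotientGroup.mk d, hd, rfl⟩
      have h2 := hb ⟨rho M d, hdΔ⟩
      have h3 : ((rho M d b : ↥M) : G) = b := congrArg Subtype.val h2
      rw [rho_apply] at h3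
      calc d * (b : G) = (d * b * d⁻¹) * d := by group
        _ = b * d := by rw [h3]
    intro hbot
    rw [hbot, Subgroup.mem_bot] at hbN
    exact hb1 (Subtype.ext hbN.symm)
  have hNM := hM.min N hNn hNinv inf_le_left hNne
  have hDC : D ≤ C := by
    intro d hd
    rw [hCdef, mem_ker_rho]
    intro m hm
    have hmN : m ∈ N := hNM ▸ hm
    have h1 := Subgroup.mem_centralizer_iff.mp hmN.2 d hd
    calc d * m * d⁻¹ = (d * m) * d⁻¹ := rfl
      _ = (m * d) * d⁻¹ := by rw [h1]
      _ = m := by group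
  rw [eq_bot_iff]
  intro q hq
  obtain ⟨d, rfl⟩ := QuotientGroup.mk_surjective q
  have hdD : d ∈ D := hq
  rw [Subgroup.mem_bot, QuotientGroup.eq_one_iff]
  exact hDC hdD

end setup

/-- **Key lemma**: `[G, σ²]` centralizes a minimal invariant normal subgroup. -/
theorem Kt_le_ker_rho {G : Type u} [Group G] [Finite G] (hs : Group.IsSolvable G) {σ : MulAut G}
    (hf : Fpf σ) (h4 : σ ^ 4 = 1) {M : Subgroup G} [M.Normal] (hM : IsMinInv σ M)
    (IH : ∀ (H : Type u) [Group H] [Finite H], Nat.card H < Nat.card G → Group.IsSolvable H →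
      ∀ τ : MulAut H, Fpf τ → τ ^ 4 = 1 → Group.IsNilpotent ↥(Kt τ)) :
    Kt σ ≤ (rho M).ker := by
  classical
  have hc := hM.comm hs
  obtain ⟨p, hp, hpow⟩ := hM.exists_prime hc
  haveI : Fact p.Prime := ⟨hp⟩
  have hpM : IsPGroup p ↥M := by
    intro m
    refine ⟨1, ?_⟩
    rw [pow_one]
    apply Subtype.ext
    simpa using hpow m m.2
  have hC := invSub_ker_rho (σ := σ) hM.inv
  set C := (rho M).ker with hCdef
  have hMC : M ≤ C := by
    intro m hm
    rw [hCdef, mem_ker_rho]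
    intro m' hm'
    rw [hc m hm m' hm']
    group
  have hCne : C ≠ ⊥ := fun h => hM.ne_bot (le_bot_iff.mp (h ▸ hMC))
  have hlt : Nat.card (G ⧸ C) < Nat.card G := Soft.card_quotient_lt C hCne
  have hsq : Group.IsSolvable (G ⧸ C) := inferInstance
  have hnil := IH (G ⧸ C) hlt hsq (quotAut σ C hC) (hf.quot C hC) (quotAut_pow_eq_one h4 C hC)
  have hcore := pCore_quot_eq_bot hM hpM hC
  haveI := Kt_normal (quotAut σ C hC)
  have hord : ∀ x ∈ Kt σ, ¬ p ∣ orderOf (rho M x) := by
    intro x hx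
    have h1 : (QuotientGroup.mk x : G ⧸ C) ∈ Kt (quotAut σ C hC) := by
      rw [← map_Kt]
      exact ⟨x, hx, rfl⟩
    have h2 := not_dvd_orderOf_of_nilpotent hcore _ hnil h1
    have h3 : orderOf (rho M x) = orderOf (QuotientGroup.mk x : G ⧸ C) :=
      orderOf_injective (QuotientGroup.kerLift (rho M)) (QuotientGroup.kerLift_injective _)
        (QuotientGroup.mk x)
    rwa [h3]
  have hodd := odd_card hf h4
  have hordodd : ∀ x : G, Odd (orderOf (rho M x)) := by
    intro x
    exact Odd.of_dvd_nat hodd ((orderOf_map_dvd _ x).trans (orderOf_dvd_natCard x))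
  set s : MulAut ↥M := restrictAut σ M hM.inv with hs_def
  have hs4 : s ^ 4 = 1 := restrictAut_pow_eq_one h4 M hM.inv
  have hsf : ∀ m : ↥M, s m = m → m = 1 := hf.restrict M hM.inv
  rw [Kt, Subgroup.closure_le]
  rintro _ ⟨g, rfl⟩
  set x := g⁻¹ * (σ ^ 2) g with hx
  have hxK : x ∈ Kt σ := gen_mem_Kt σ g
  have hxinv : σ (σ x) = x⁻¹ := by
    have h44 : σ (σ (σ (σ g))) = g := by
      have := congrArg (fun f : MulAut G => f g) h4
      simpa [pow_succ, MulAut.mul_apply] using this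
    rw [hx]
    simp only [map_mul, map_inv, pow_succ, pow_zero, one_mul, MulAut.mul_apply, h44]
    group
  set y := σ x with hy
  have hyK : y ∈ Kt σ := apply_mem_Kt σ hxK
  have hxy : x * y = y * x := commute_of_inverted hf hxinv
  set a := rho M x with ha
  set b := rho M y with hb
  have hab : a * b = b * a := by rw [ha, hb, ← map_mul, ← map_mul, hxy]
  have hsa : s * a * s⁻¹ = b := restrict_conj_rho hM.inv x
  have hsb : s * b * s⁻¹ = a⁻¹ := by
    rw [hb, hs_def, restrict_conj_rho hM.inv y, hxinv, map_inv]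
  set R : Subgroup (MulAut ↥M) := Subgroup.closure {a, b} with hR
  have haR : a ∈ R := Subgroup.subset_closure (by simp)
  have hbR : b ∈ R := Subgroup.subset_closure (by simp)
  have hRcomm : ∀ u ∈ R, ∀ v ∈ R, u * v = v * u := by
    have hk : ∀ u ∈ ({a, b} : Set (MulAut ↥M)), ∀ v ∈ ({a, b} : Set (MulAut ↥M)),
        u * v = v * u := by
      intro u hu v hv
      rcases hu with hu | hu <;> rcases hv with hv | hv
      · rw [hu, hv]
      · rw [hu, hv]; exact hab
      · rw [hu, hv]; exact hab.symm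
      · rw [hu, hv]
    have hcl := Subgroup.isMulCommutative_closure hk
    intro u hu v hv
    exact congrArg Subtype.val (hcl.is_comm.comm (⟨u, hu⟩ : ↥R) ⟨v, hv⟩)
  have hRnorm : ∀ r ∈ R, s * r * s⁻¹ ∈ R := by
    intro r hr
    induction hr using Subgroup.closure_induction with
    | mem r hr =>
      rcases hr with hr | hr
      · rw [hr, hsa]; exact hbR
      · rw [hr, hsb]; exact R.inv_mem haR
    | one => simp
    | mul u v _ _ hu hv =>
      have e : s * (u * v) * s⁻¹ = (s * u * s⁻¹) * (s * v * s⁻¹) := by group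
      rw [e]; exact R.mul_mem hu hv
    | inv u _ hu =>
      have e : s * u⁻¹ * s⁻¹ = (s * u * s⁻¹)⁻¹ := by group
      rw [e]; exact R.inv_mem hu
  have hRinv : ∀ r ∈ R, s ^ 2 * r * (s ^ 2)⁻¹ = r⁻¹ := by
    intro r hr
    induction hr using Subgroup.closure_induction with
    | mem r hr =>
      rcases hr with hr | hr
      · have e : s ^ 2 * a * (s ^ 2)⁻¹ = s * (s * a * s⁻¹) * s⁻¹ := by
          rw [pow_two, mul_inv_rev]; simp only [mul_assoc]
        rw [hr, e, hsa, hsb]
      · have e : s ^ 2 * b * (s ^ 2)⁻¹ = s * (s * b * s⁻¹) * s⁻¹ := by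
          rw [pow_two, mul_inv_rev]; simp only [mul_assoc]
        have e2 : s * a⁻¹ * s⁻¹ = (s * a * s⁻¹)⁻¹ := by group
        rw [hr, e, hsb, e2, hsa]
    | one => simp
    | mul u v hu hv ihu ihv =>
      have e : s ^ 2 * (u * v) * (s ^ 2)⁻¹ =
          (s ^ 2 * u * (s ^ 2)⁻¹) * (s ^ 2 * v * (s ^ 2)⁻¹) := by group
      rw [e, ihu, ihv, hRcomm u hu v hv, mul_inv_rev]
    | inv u _ ihu =>
      have e : s ^ 2 * u⁻¹ * (s ^ 2)⁻¹ = (s ^ 2 * u * (s ^ 2)⁻¹)⁻¹ := by group
      rw [e, ihu]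
  have hexp : ∀ r ∈ R, r ^ (orderOf a * orderOf b) = 1 := by
    intro r hr
    induction hr using Subgroup.closure_induction with
    | mem r hr =>
      rcases hr with hr | hr
      · rw [hr, pow_mul, pow_orderOf_eq_one, one_pow]
      · rw [hr, mul_comm, pow_mul, pow_orderOf_eq_one, one_pow]
    | one => simp
    | mul u v hu hv ihu ihv =>
      have hcuv : Commute u v := hRcomm u hu v hv
      rw [hcuv.mul_pow, ihu, ihv, one_mul]
    | inv u _ ihu => rw [inv_pow, ihu, inv_one]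
  have hfinA : Finite (MulAut ↥M) :=
    Finite.of_injective (fun e : MulAut ↥M => (e : ↥M → ↥M)) DFunLike.coe_injective
  have hnd : ∀ ℓ : ℕ, ℓ.Prime → ¬ ℓ ∣ orderOf a → ¬ ℓ ∣ orderOf b → ¬ ℓ ∣ Nat.card R := by
    intro ℓ hℓ h1 h2 h3
    haveI : Fact ℓ.Prime := ⟨hℓ⟩
    obtain ⟨r, hr⟩ := exists_prime_orderOf_dvd_card' (G := ↥R) ℓ h3
    have h5 : (r : MulAut ↥M) ^ (orderOf a * orderOf b) = 1 := hexp r r.2
    have h6 : orderOf (r : MulAut ↥M) ∣ orderOf a * orderOf b := orderOf_dvd_of_pow_eq_one h5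
    rw [Subgroup.orderOf_coe, hr] at h6
    rcases (Nat.Prime.dvd_mul hℓ).mp h6 with h | h
    exacts [h1 h, h2 h]
  have hoddR : Odd (Nat.card R) := by
    rw [← Nat.not_even_iff_odd, even_iff_two_dvd]
    apply hnd 2 Nat.prime_two
    · rw [← even_iff_two_dvd, Nat.not_even_iff_odd]; exact hordodd x
    · rw [← even_iff_two_dvd, Nat.not_even_iff_odd]; exact hordodd y
  have hcop : (Nat.card R).Coprime (Nat.card ↥M) := by
    obtain ⟨n, hn⟩ := IsPGroup.iff_card.mp hpM
    rw [hn]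
    apply Nat.Coprime.pow_right
    rw [Nat.coprime_comm]
    exact (Nat.Prime.coprime_iff_not_dvd hp).mpr (hnd p hp (hord x hxK) (hord y hyK))
  have hcM : ∀ u v : ↥M, u * v = v * u := fun u v => Subtype.ext (hc u u.2 v v.2)
  have hfin := frob_trivial' hcM s hs4 hsf R hRcomm hoddR hcop hRnorm hRinv a haR
  exact hfin

/-- **Theorem**: `[G, σ²]` is nilpotent. -/
theorem Kt_nilpotent_aux : ∀ n : ℕ, ∀ (G : Type u) [Group G] [Finite G], Nat.card G = n →
    Group.IsSolvable G → ∀ σ : MulAut G, Fpf σ → σ ^ 4 = 1 → Group.IsNilpotent ↥(Kt σ) := by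
  intro n
  induction n using Nat.strong_induction_on with
  | _ n ih =>
    intro G _ _ hn hs σ hf h4
    rcases subsingleton_or_nontrivial G with hsub | hnt
    · exact Group.isNilpotent_of_subsingleton
    obtain ⟨M, hM⟩ := exists_isMinInv σ
    haveI := hM.normal
    have IH : ∀ (H : Type u) [Group H] [Finite H], Nat.card H < Nat.card G →
        Group.IsSolvable H → ∀ τ : MulAut H, Fpf τ → τ ^ 4 = 1 → Group.IsNilpotent ↥(Kt τ) := by
      intro H _ _ hlt hsH τ hτ hτ4
      exact ih (Nat.card H) (hn ▸ hlt) H rfl hsH τ hτ hτ4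
    have hK := Kt_le_ker_rho hs hf h4 hM IH
    have hlt : Nat.card (G ⧸ M) < Nat.card G := Soft.card_quotient_lt M hM.ne_bot
    have hsq : Group.IsSolvable (G ⧸ M) := inferInstance
    have hnil := IH (G ⧸ M) hlt hsq (quotAut σ M hM.inv) (hf.quot M hM.inv)
      (quotAut_pow_eq_one h4 M hM.inv)
    obtain ⟨c, hc⟩ := (Subgroup.isNilpotent_iff_lowerCentralSeries _).mp hnil
    rw [← map_Kt, ← Subgroup.map_lowerCentralSeries, Subgroup.map_eq_bot_iff,
      QuotientGroup.ker_mk'] at hc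
    apply Subgroup.isNilpotent_of_lowerCentralSeries_eq_bot (n := c + 1)
    rw [Subgroup.lowerCentralSeries_succ, eq_bot_iff]
    have h1 : ⁅(Kt σ).lowerCentralSeries c, Kt σ⁆ ≤ ⁅M, (rho M).ker⁆ :=
      Subgroup.commutator_mono hc hK
    refine h1.trans ?_
    rw [Subgroup.commutator_le]
    intro m hm g hg
    rw [Subgroup.mem_bot, commutatorElement_def]
    have h2 := mem_ker_rho.mp hg m hm
    calc m * g * m⁻¹ * g⁻¹ = m * (g * m * g⁻¹)⁻¹ := by group
      _ = 1 := by rw [h2]; group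

/-- `[G, σ²]` is nilpotent. -/
theorem Kt_nilpotent {G : Type u} [Group G] [Finite G] (hs : Group.IsSolvable G) (σ : MulAut G)
    (hf : Fpf σ) (h4 : σ ^ 4 = 1) : Group.IsNilpotent ↥(Kt σ) :=
  Kt_nilpotent_aux _ G rfl hs σ hf h4

end Cfsg.Agent.Lib.H19.Fpf4
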