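import Mathlib
import Cfsg.Agent.Lib.H19.ModRepBasic

/-!
# Shult–Gross, part 1: twisted operators and the Frobenius partition argument (helper19)

Abstract setting: a finite group `Q` with a representation `ρ` on `W`, an automorphism `φ` of `Q`
and an operator `T` on `W` with `T ρ(u) = ρ(φ u) T`, `T ^ P = 1`, `φ ^ P = 1` (`Tw ρ φ T P`).

* `frob_kill` : if all `φ ^ i`, `0 < i < P`, are fixed point free on `Q` and `T` has no nonzero
  fixed vector, then `ρ` is trivial.
-/

set_option autoImplicit false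

namespace Cfsg.Agent.Lib.H19.SG

open Module

variable {k : Type*} [Field k] {Q : Type*} [Group Q] {W : Type*} [AddCommGroup W] [Module k W]

/-- `T` is an operator with `T ^ P = 1` normalizing `ρ(Q)` and inducing `φ` there. -/
structure Tw (ρ : Representation k Q W) (φ : MulAut Q) (T : Module.End k W) (P : ℕ) : Prop where
  hT : T ^ P = 1
  hφ : φ ^ P = 1
  htw : ∀ u : Q, T * ρ u = ρ (φ u) * T

namespace Tw

variable {ρ : Representation k Q W} {φ : MulAut Q} {T : Module.End k W} {P : ℕ}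

theorem pow_tw (h : Tw ρ φ T P) (i : ℕ) (u : Q) : T ^ i * ρ u = ρ ((φ ^ i) u) * T ^ i := by
  induction i generalizing u with
  | zero => simp
  | succ i ih =>
    rw [pow_succ, mul_assoc, h.htw, ← mul_assoc, ih, mul_assoc, pow_succ, MulAut.mul_apply]

theorem pow (h : Tw ρ φ T P) {i P' : ℕ} (hi : i * P' = P) : Tw ρ (φ ^ i) (T ^ i) P' where
  hT := by rw [← pow_mul, hi, h.hT]
  hφ := by rw [← pow_mul, hi, h.hφ]
  htw := h.pow_tw i

/-- `T` is invertible with inverse `T ^ (P - 1)` -/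
theorem mul_pow_pred (h : Tw ρ φ T P) (hP : 0 < P) : T * T ^ (P - 1) = 1 := by
  rw [← pow_succ', Nat.sub_add_cancel hP, h.hT]

theorem pow_pred_mul (h : Tw ρ φ T P) (hP : 0 < P) : T ^ (P - 1) * T = 1 := by
  rw [← pow_succ, Nat.sub_add_cancel hP, h.hT]

end Tw

/-- `T` fixes the image of the norm operator -/
theorem mul_nrm {T : Module.End k W} {P : ℕ} (hT : T ^ P = 1) :
    T * (∑ i ∈ Finset.range P, T ^ i) = ∑ i ∈ Finset.range P, T ^ i := by
  rw [Finset.mul_sum]
  have h1 : ∀ i ∈ Finset.range P, T * T ^ i = T ^ (i + 1) := fun i _ => (pow_succ' T i).symm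
  rw [Finset.sum_congr rfl h1]
  have h2 := Finset.sum_range_succ' (fun i => T ^ i) P
  have h3 := Finset.sum_range_succ (fun i => T ^ i) P
  rw [h3, hT, pow_zero] at h2
  exact (add_right_cancel h2).symm

theorem nrm_eq_zero {T : Module.End k W} {P : ℕ} (hT : T ^ P = 1)
    (hfpf : ∀ w, T w = w → w = 0) : ∑ i ∈ Finset.range P, T ^ i = 0 := by
  apply LinearMap.ext
  intro w
  rw [LinearMap.zero_apply]
  apply hfpf
  have := congrArg (fun f : Module.End k W => f w) (mul_nrm hT)
  simpa using this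

/-- **Frobenius partition argument**: a fixed point free `T` and a free action of `⟨φ⟩` force the
representation to be trivial. -/
theorem frob_kill [Finite Q] (hQ : (Nat.card Q : k) ≠ 0) {ρ : Representation k Q W}
    {φ : MulAut Q} {T : Module.End k W} {P : ℕ} (hP : 0 < P) (h : Tw ρ φ T P)
    (hfree : ∀ i, 0 < i → i < P → ∀ u : Q, (φ ^ i) u = u → u = 1)
    (hfpf : ∀ w, T w = w → w = 0) (u : Q) : ρ u = 1 := by
  classical
  have := Fintype.ofFinite Q
  set E : Module.End k W := ∑ y : Q, ρ y with hE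
  have hN := nrm_eq_zero h.hT hfpf
  -- the sum over conjugates of `T ^ i`
  have hconj : ∀ i, 0 < i → i < P → ∑ y : Q, ρ y * T ^ i * ρ y⁻¹ = E * T ^ i := by
    intro i hi0 hiP
    have h1 : ∀ y : Q, ρ y * T ^ i * ρ y⁻¹ = ρ (y * ((φ ^ i) y)⁻¹) * T ^ i := by
      intro y
      rw [mul_assoc, h.pow_tw i, ← mul_assoc, ← map_mul, map_inv]
    simp only [h1]
    have hinj : Function.Injective (fun y : Q => y * ((φ ^ i) y)⁻¹) := by
      intro y y' hyy
      have h2 : y * ((φ ^ i) y)⁻¹ = y' * ((φ ^ i) y')⁻¹ := hyy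
      have h3 : (φ ^ i) (y'⁻¹ * y) = y'⁻¹ * y := by
        rw [map_mul, map_inv]
        have : y'⁻¹ * y = ((φ ^ i) y')⁻¹ * (φ ^ i) y := by
          calc y'⁻¹ * y = y'⁻¹ * (y * ((φ ^ i) y)⁻¹) * (φ ^ i) y := by group
            _ = y'⁻¹ * (y' * ((φ ^ i) y')⁻¹) * (φ ^ i) y := by rw [h2]
            _ = ((φ ^ i) y')⁻¹ * (φ ^ i) y := by group
        exact this.symm
      have h4 := hfree i hi0 hiP _ h3
      exact (inv_mul_eq_one.mp h4).symm
    let e : Q ≃ Q := Equiv.ofBijective _ ⟨hinj, Finite.surjective_of_injective hinj⟩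
    rw [hE, Finset.sum_mul]
    exact Equiv.sum_comp e (fun y : Q => ρ y * T ^ i)
  -- total
  have htot : ∑ y : Q, ρ y * (∑ i ∈ Finset.range P, T ^ i) * ρ y⁻¹ =
      (Nat.card Q : k) • (1 : Module.End k W) + E * ((∑ i ∈ Finset.range P, T ^ i) - 1) := by
    have h1 : ∀ y : Q, ρ y * (∑ i ∈ Finset.range P, T ^ i) * ρ y⁻¹ =
        ∑ i ∈ Finset.range P, ρ y * T ^ i * ρ y⁻¹ := by
      intro y
      rw [Finset.mul_sum, Finset.sum_mul]
    simp only [h1]
    rw [Finset.sum_comm]
    obtain ⟨P', rfl⟩ : ∃ P', P = P' + 1 := ⟨P - 1, (Nat.succ_pred_eq_of_pos hP).symm⟩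
    rw [Finset.sum_range_succ']
    have h0 : ∑ y : Q, ρ y * T ^ 0 * ρ y⁻¹ = (Nat.card Q : k) • (1 : Module.End k W) := by
      have : ∀ y : Q, ρ y * T ^ 0 * ρ y⁻¹ = 1 := by
        intro y
        rw [pow_zero, mul_one, ← map_mul, mul_inv_cancel, map_one]
      simp only [this]
      rw [Finset.sum_const, Finset.card_univ, Nat.card_eq_fintype_card, Nat.cast_smul_eq_nsmul]
    have hj : ∀ j ∈ Finset.range P', ∑ y : Q, ρ y * T ^ (j + 1) * ρ y⁻¹ = E * T ^ (j + 1) := by
      intro j hj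
      exact hconj (j + 1) (Nat.succ_pos j) (Nat.succ_lt_succ (Finset.mem_range.mp hj))
    rw [Finset.sum_congr rfl hj, h0, add_comm]
    congr 1
    rw [Finset.sum_range_succ' (fun i => T ^ i), pow_zero, add_sub_cancel_right, Finset.mul_sum]
  rw [hN] at htot
  simp only [mul_zero, zero_mul, Finset.sum_const_zero, zero_sub, mul_neg, mul_one] at htot
  have hEq : E = (Nat.card Q : k) • (1 : Module.End k W) := by
    have := eq_neg_of_add_eq_zero_left htot.symm
    rw [neg_neg] at this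
    exact this.symm
  -- `ρ u * E = E`
  have huE : ρ u * E = E := by
    rw [hE, Finset.mul_sum]
    have : ∀ y : Q, ρ u * ρ y = ρ (u * y) := fun y => (map_mul ρ u y).symm
    simp only [this]
    exact Equiv.sum_comp (Equiv.mulLeft u) (fun y : Q => ρ y)
  rw [hEq, mul_smul_comm, mul_one] at huE
  have h5 := congrArg (fun f : Module.End k W => (Nat.card Q : k)⁻¹ • f) huE
  simp only [smul_smul, inv_mul_cancel₀ hQ, one_smul] at h5
  exact h5

end Cfsg.Agent.Lib.H19.SG
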