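import Mathlib

/-!
# Ward's theorem, part B: simultaneous eigenspaces of a commuting family (helper19)

`wtF T χ = ⨅ i, eigenspace (T i) (χ i)` for a family `T : ι → End k M` of commuting semisimple
operators: independence, `⨆ χ, wtF T χ = ⊤` over an algebraically closed field, and two
consequences (`ext_of_wtF`, `exists_ne_of_sum_eq_zero`).
-/

set_option autoImplicit false
set_option linter.style.haveILetI false
set_option linter.unusedSectionVars false

namespace Cfsg.Agent.Lib.H19.Ward

open Module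

variable {k : Type*} [Field k] {M : Type*} [AddCommGroup M] [Module k M] {ι : Type*}

/-- simultaneous eigenspace -/
def wtF (T : ι → End k M) (χ : ι → k) : Submodule k M := ⨅ i, End.eigenspace (T i) (χ i)

theorem mem_wtF {T : ι → End k M} {χ : ι → k} {m : M} :
    m ∈ wtF T χ ↔ ∀ i, T i m = χ i • m := by
  unfold wtF
  rw [Submodule.mem_iInf]
  exact forall_congr' fun i => End.mem_eigenspace_iff

/-- an operator of finite order prime to the characteristic is semisimple -/
theorem isSemisimple_of_pow_eq_one [FiniteDimensional k M] {F : End k M} {n : ℕ}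
    (hn : (n : k) ≠ 0) (hF : F ^ n = 1) : F.IsSemisimple := by
  have hsep : (Polynomial.X ^ n - Polynomial.C (1 : k)).Separable :=
    Polynomial.separable_X_pow_sub_C (1 : k) hn one_ne_zero
  apply Module.End.isSemisimple_of_squarefree_aeval_eq_zero hsep.squarefree
  rw [map_sub, map_pow, Polynomial.aeval_X, Polynomial.aeval_C, hF, map_one, sub_self]

variable [FiniteDimensional k M]

theorem wtF_eq {T : ι → End k M} (hss : ∀ i, (T i).IsSemisimple) (χ : ι → k) :
    wtF T χ = ⨅ i, End.maxGenEigenspace (T i) (χ i) := by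
  unfold wtF
  congr 1
  funext i
  exact ((hss i).isFinitelySemisimple.maxGenEigenspace_eq_eigenspace (χ i)).symm

theorem iSupIndep_wtF {T : ι → End k M} (hss : ∀ i, (T i).IsSemisimple)
    (hcomm : ∀ i j, Commute (T i) (T j)) : iSupIndep (wtF T) := by
  have h1 : wtF T = fun χ : ι → k => ⨅ i, End.maxGenEigenspace (T i) (χ i) := by
    funext χ
    exact wtF_eq hss χ
  rw [h1]
  apply End.independent_iInf_maxGenEigenspace_of_forall_mapsTo
  intro i j φ
  exact End.mapsTo_maxGenEigenspace_of_comm (hcomm j i) φ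

theorem iSup_wtF_eq_top [IsAlgClosed k] {T : ι → End k M} (hss : ∀ i, (T i).IsSemisimple)
    (hcomm : ∀ i j, Commute (T i) (T j)) : ⨆ χ : ι → k, wtF T χ = ⊤ := by
  have h1 : wtF T = fun χ : ι → k => ⨅ i, End.maxGenEigenspace (T i) (χ i) := by
    funext χ
    exact wtF_eq hss χ
  rw [h1]
  apply End.iSup_iInf_maxGenEigenspace_eq_top_of_iSup_maxGenEigenspace_eq_top_of_commute
  · intro i j _
    exact hcomm i j
  · intro i
    exact End.iSup_maxGenEigenspace_eq_top _

/-- two operators agreeing on all weight spaces are equal -/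
theorem ext_of_wtF [IsAlgClosed k] {T : ι → End k M} (hss : ∀ i, (T i).IsSemisimple)
    (hcomm : ∀ i j, Commute (T i) (T j)) {F₁ F₂ : End k M}
    (h : ∀ χ : ι → k, ∀ m ∈ wtF T χ, F₁ m = F₂ m) : F₁ = F₂ := by
  have h1 : (⨆ χ : ι → k, wtF T χ) ≤ LinearMap.eqLocus F₁ F₂ := by
    apply iSup_le
    intro χ m hm
    exact h χ m hm
  rw [iSup_wtF_eq_top hss hcomm] at h1
  apply LinearMap.ext
  intro m
  exact h1 (Submodule.mem_top : m ∈ ⊤)

/-- in a vanishing sum of weight vectors, a nonzero term has a partner of the same weight -/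
theorem exists_ne_of_sum_eq_zero {T : ι → End k M} (hss : ∀ i, (T i).IsSemisimple)
    (hcomm : ∀ i j, Commute (T i) (T j)) {J : Type*} (s : Finset J) (χ : J → ι → k) (v : J → M)
    (hv : ∀ j ∈ s, v j ∈ wtF T (χ j)) (hsum : ∑ j ∈ s, v j = 0) {j₀ : J} (hj₀ : j₀ ∈ s)
    (hne : v j₀ ≠ 0) : ∃ j ∈ s, j ≠ j₀ ∧ χ j = χ j₀ := by
  classical
  by_contra hcon
  push Not at hcon
  have hind := iSupIndep_wtF hss hcomm
  have hdisj := hind (χ j₀)
  have h1 : v j₀ = - ∑ j ∈ s.erase j₀, v j := by
    rw [← Finset.add_sum_erase s v hj₀] at hsum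
    exact eq_neg_of_add_eq_zero_left hsum
  have h2 : v j₀ ∈ ⨆ ψ, ⨆ (_ : ψ ≠ χ j₀), wtF T ψ := by
    rw [h1]
    apply Submodule.neg_mem
    apply Submodule.sum_mem
    intro j hj
    have hj' := Finset.mem_erase.mp hj
    have h3 : χ j ≠ χ j₀ := hcon j hj'.2 hj'.1
    exact Submodule.mem_iSup_of_mem (χ j) (Submodule.mem_iSup_of_mem h3 (hv j hj'.2))
  have h4 := Submodule.disjoint_def.mp hdisj (v j₀) (hv j₀ hj₀) h2
  exact hne h4

end Cfsg.Agent.Lib.H19.Ward
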