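import Mathlib
import Cfsg.Agent.Lib.H19.SG1
import Cfsg.Agent.Lib.H19.WardB

/-!
# Shult–Gross, part 2: weights of an invariant abelian-acting subgroup and their stabilizers
(helper19)

* `wtS ρ B χ` : the simultaneous eigenspace of the subgroup `B` with eigenvalues `χ b`.
* `pow_mem_wtS` : `T ^ m` maps `wtS ρ B χ` to `wtS ρ B (χ ∘ (φ ^ m)⁻¹)`.
* `fpf_on_weight` : if `φ ^ (p ^ i)` is the smallest `p`-power of `φ` stabilizing `χ` on `B` and
  `T` has no nonzero fixed vector then `T ^ (p ^ i)` has no nonzero fixed vector in `wtS ρ B χ`.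
-/

set_option autoImplicit false
set_option linter.unusedSectionVars false

namespace Cfsg.Agent.Lib.H19.SG

open Module Cfsg.Agent.Lib.H19.Ward Cfsg.Agent.Lib.H19.ModRep

variable {k : Type*} [Field k] {Q : Type*} [Group Q] {W : Type*} [AddCommGroup W] [Module k W]

/-- the simultaneous eigenspace of the subgroup `B` for the function `χ` -/
def wtS (ρ : Representation k Q W) (B : Subgroup Q) (χ : Q → k) : Submodule k W :=
  wtF (fun b : B => ρ (b : Q)) (fun b : B => χ (b : Q))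

theorem mem_wtS {ρ : Representation k Q W} {B : Subgroup Q} {χ : Q → k} {w : W} :
    w ∈ wtS ρ B χ ↔ ∀ b ∈ B, ρ b w = χ b • w := by
  unfold wtS
  rw [mem_wtF]
  exact ⟨fun h b hb => h ⟨b, hb⟩, fun h b => h b b.2⟩

section inv

variable {φ : MulAut Q} {B : Subgroup Q}

theorem zpow_mem_iff (hB : ∀ b, φ b ∈ B ↔ b ∈ B) (z : ℤ) (b : Q) : (φ ^ z) b ∈ B ↔ b ∈ B := by
  induction z using Int.induction_on generalizing b with
  | zero => simp
  | succ z ih =>
    rw [zpow_add_one, MulAut.mul_apply, ih, hB]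
  | pred z ih =>
    rw [zpow_sub_one, MulAut.mul_apply, ih, ← hB (φ⁻¹ b), MulAut.apply_inv_self]

theorem pow_mem_iff (hB : ∀ b, φ b ∈ B ↔ b ∈ B) (m : ℕ) (b : Q) : (φ ^ m) b ∈ B ↔ b ∈ B := by
  have := zpow_mem_iff hB (m : ℤ) b
  rwa [zpow_natCast] at this

theorem pow_inv_mem_iff (hB : ∀ b, φ b ∈ B ↔ b ∈ B) (m : ℕ) (b : Q) :
    (φ ^ m)⁻¹ b ∈ B ↔ b ∈ B := by
  rw [← pow_mem_iff hB m ((φ ^ m)⁻¹ b), MulAut.apply_inv_self]

/-- the periods of `χ` on `B` are closed under gcd -/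
theorem period_gcd (hB : ∀ b, φ b ∈ B ↔ b ∈ B) (χ : Q → k) {d e : ℕ}
    (hd : ∀ b ∈ B, χ ((φ ^ d) b) = χ b) (he : ∀ b ∈ B, χ ((φ ^ e) b) = χ b) :
    ∀ b ∈ B, χ ((φ ^ (Nat.gcd d e)) b) = χ b := by
  let S : AddSubgroup ℤ :=
    { carrier := {z | ∀ b ∈ B, χ ((φ ^ z) b) = χ b}
      zero_mem' := by
        intro b _
        simp
      add_mem' := by
        intro z z' hz hz' b hb
        rw [zpow_add, MulAut.mul_apply, hz _ ((zpow_mem_iff hB z' b).mpr hb), hz' b hb]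
      neg_mem' := by
        intro z hz b hb
        have h1 := hz _ ((zpow_mem_iff hB (-z) b).mpr hb)
        rw [← MulAut.mul_apply, ← zpow_add, add_neg_cancel, zpow_zero, MulAut.one_apply] at h1
        exact h1.symm }
  have hdS : (d : ℤ) ∈ S := by
    intro b hb
    rw [zpow_natCast]
    exact hd b hb
  have heS : (e : ℤ) ∈ S := by
    intro b hb
    rw [zpow_natCast]
    exact he b hb
  have hg : ((Nat.gcd d e : ℕ) : ℤ) ∈ S := by
    rw [Nat.gcd_eq_gcd_ab]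
    apply S.add_mem
    · rw [mul_comm, ← smul_eq_mul]
      exact S.zsmul_mem hdS _
    · rw [mul_comm, ← smul_eq_mul]
      exact S.zsmul_mem heS _
  intro b hb
  have := hg b hb
  rwa [zpow_natCast] at this

end inv

variable {ρ : Representation k Q W} {φ : MulAut Q} {T : Module.End k W} {P : ℕ}

/-- `T ^ m` permutes the weight spaces of an invariant subgroup -/
theorem pow_mem_wtS (h : Tw ρ φ T P) {B : Subgroup Q} (hB : ∀ b, φ b ∈ B ↔ b ∈ B) {χ : Q → k}
    {w : W} (hw : w ∈ wtS ρ B χ) (m : ℕ) :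
    (T ^ m) w ∈ wtS ρ B (fun b => χ ((φ ^ m)⁻¹ b)) := by
  rw [mem_wtS] at hw ⊢
  intro b hb
  have h1 := h.pow_tw m ((φ ^ m)⁻¹ b)
  rw [MulAut.apply_inv_self] at h1
  have h2 := congrArg (fun f : Module.End k W => f w) h1
  simp only [Module.End.mul_apply] at h2
  rw [← h2, hw _ ((pow_inv_mem_iff hB m b).mpr hb), map_smul]

/-- **stabilizer lemma** -/
theorem fpf_on_weight [Finite Q] [FiniteDimensional k W] (hQ : (Nat.card Q : k) ≠ 0)
    (h : Tw ρ φ T P) {B : Subgroup Q} (hB : ∀ b, φ b ∈ B ↔ b ∈ B)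
    (hcomm : ∀ b ∈ B, ∀ b' ∈ B, Commute (ρ b) (ρ b')) (χ : Q → k) {p i : ℕ} (hp : p.Prime)
    (hstab : ∀ b ∈ B, χ ((φ ^ (p ^ i)) b) = χ b)
    (hmin : ∀ l < i, ∃ b ∈ B, χ ((φ ^ (p ^ l)) b) ≠ χ b)
    (hfpf : ∀ w, T w = w → w = 0) :
    ∀ w ∈ wtS ρ B χ, (T ^ (p ^ i)) w = w → w = 0 := by
  intro w hw hTw
  by_contra hw0
  set n := p ^ i with hn
  -- the orbit sum is fixed
  have hv : T (∑ m ∈ Finset.range n, (T ^ m) w) = ∑ m ∈ Finset.range n, (T ^ m) w := by
    rw [map_sum]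
    have h1 : ∀ m ∈ Finset.range n, T ((T ^ m) w) = (T ^ (m + 1)) w := by
      intro m _
      rw [pow_succ', Module.End.mul_apply]
    rw [Finset.sum_congr rfl h1]
    have h2 := Finset.sum_range_succ' (fun m => (T ^ m) w) n
    have h3 := Finset.sum_range_succ (fun m => (T ^ m) w) n
    rw [h3, hTw, pow_zero, Module.End.one_apply] at h2
    exact (add_right_cancel h2).symm
  have hsum := hfpf _ hv
  have hss : ∀ b : B, Module.End.IsSemisimple (ρ (b : Q)) := fun b => isSemisimple_apply hQ ρ b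
  have hcomm' : ∀ b b' : B, Commute (ρ (b : Q)) (ρ (b' : Q)) := fun b b' => hcomm b b.2 b' b'.2
  have hnpos : 0 < n := pow_pos hp.pos i
  have hmem : ∀ m ∈ Finset.range n, (T ^ m) w ∈
      wtF (fun b : B => ρ (b : Q)) ((fun (m : ℕ) (b : B) => χ ((φ ^ m)⁻¹ (b : Q))) m) := by
    intro m _
    exact pow_mem_wtS h hB hw m
  have h0 : (T ^ 0) w ≠ 0 := by
    rw [pow_zero, Module.End.one_apply]
    exact hw0
  obtain ⟨m, hm, hm0, hχ⟩ := exists_ne_of_sum_eq_zero hss hcomm' (Finset.range n)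
    (fun (m : ℕ) (b : B) => χ ((φ ^ m)⁻¹ (b : Q))) (fun m => (T ^ m) w) hmem hsum
    (Finset.mem_range.mpr hnpos) h0
  have hmn : m < n := Finset.mem_range.mp hm
  -- `m` is a period
  have hper : ∀ b ∈ B, χ ((φ ^ m) b) = χ b := by
    intro b hb
    have h1 := congrFun hχ ⟨(φ ^ m) b, (pow_mem_iff hB m b).mpr hb⟩
    simp only [pow_zero, inv_one, MulAut.one_apply, MulAut.inv_apply_self] at h1
    exact h1.symm
  have hg := period_gcd hB χ hper hstab
  obtain ⟨l, hl, hgl⟩ := (Nat.dvd_prime_pow hp).mp (Nat.gcd_dvd_right m (p ^ i))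
  rw [hgl] at hg
  rcases Nat.lt_or_ge l i with hli | hli
  · obtain ⟨b, hb, hbne⟩ := hmin l hli
    exact hbne (hg b hb)
  · have hli' : l = i := le_antisymm hl hli
    have h1 : p ^ i ∣ m := by
      rw [← hli', ← hgl]
      exact Nat.gcd_dvd_left m (p ^ i)
    have h2 := Nat.le_of_dvd (Nat.pos_of_ne_zero hm0) h1
    omega

end Cfsg.Agent.Lib.H19.SG
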