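import Mathlib
import Cfsg.Agent.Lib.H19.SG2

/-!
# Shult–Gross, part 3: groups acting "extraspecially" (helper19)

`XHyp ρ R Λ` : the subgroup `R` of `Q` acts by the scalars `Λ`, contains all commutators, and is
exactly the set of elements commuting with `ρ(Q)` (non-degeneracy, expressed through `Λ`).

* `XHyp.li` : the operators `ρ (out ū)`, `ū : Q ⧸ R`, are linearly independent.
* `XHyp.reynolds_comm`, `XHyp.inversion` : the averaging operator and the Fourier inversion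
  `|Q:R| f = ∑ ū, e ū * 𝓡 (e ū⁻¹ * f)`.
-/

set_option autoImplicit false
set_option linter.unusedSectionVars false
set_option linter.style.haveILetI false

namespace Cfsg.Agent.Lib.H19.SG

open Module Cfsg.Agent.Lib.H19.Ward Cfsg.Agent.Lib.H19.ModRep

variable {k : Type*} [Field k] {Q : Type*} [Group Q] {W : Type*} [AddCommGroup W] [Module k W]

/-- the hypotheses of the extraspecial situation -/
structure XHyp (ρ : Representation k Q W) (R : Subgroup Q) (Λ : Q → k) : Prop where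
  hΛ : ∀ z ∈ R, ρ z = Λ z • (1 : Module.End k W)
  hQR : ∀ u v : Q, u * v * u⁻¹ * v⁻¹ ∈ R
  hnd : ∀ u : Q, (∀ v : Q, Λ (v * u * v⁻¹ * u⁻¹) = 1) → u ∈ R

theorem apply_mul_inv (ρ : Representation k Q W) (g : Q) : ρ g * ρ g⁻¹ = 1 := by
  rw [← map_mul, mul_inv_cancel, map_one]

theorem apply_inv_mul (ρ : Representation k Q W) (g : Q) : ρ g⁻¹ * ρ g = 1 := by
  rw [← map_mul, inv_mul_cancel, map_one]

theorem one_ne_zero_end [Nontrivial W] : (1 : Module.End k W) ≠ 0 := by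
  obtain ⟨w, hw⟩ := exists_ne (0 : W)
  intro h
  apply hw
  have := congrArg (fun f : Module.End k W => f w) h
  simpa using this

theorem apply_ne_zero [Nontrivial W] (ρ : Representation k Q W) (g : Q) : ρ g ≠ 0 := by
  intro h
  apply one_ne_zero_end (k := k) (W := W)
  rw [← apply_inv_mul ρ g, h, mul_zero]

namespace XHyp

variable {ρ : Representation k Q W} {R : Subgroup Q} {Λ : Q → k}

theorem normal (hX : XHyp ρ R Λ) : R.Normal := by
  constructor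
  intro r hr g
  have h1 := hX.hQR g r
  have e : g * r * g⁻¹ = (g * r * g⁻¹ * r⁻¹) * r := by group
  rw [e]
  exact R.mul_mem h1 hr

theorem comm_rel (hX : XHyp ρ R Λ) (v u : Q) :
    ρ v * ρ u = Λ (v * u * v⁻¹ * u⁻¹) • (ρ u * ρ v) := by
  have h2 : ρ v * ρ u = ρ (v * u * v⁻¹ * u⁻¹) * (ρ u * ρ v) := by
    rw [← map_mul, ← map_mul, ← map_mul]
    congr 1
    group
  rw [h2, hX.hΛ _ (hX.hQR v u), smul_mul_assoc, one_mul]

theorem Λ_ne_zero [Nontrivial W] (hX : XHyp ρ R Λ) {z : Q} (hz : z ∈ R) : Λ z ≠ 0 := by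
  intro h
  apply apply_ne_zero ρ z
  rw [hX.hΛ z hz, h, zero_smul]

/-- elements commuting with everything lie in `R` -/
theorem mem_of_comm [Nontrivial W] (hX : XHyp ρ R Λ) {u : Q}
    (h : ∀ v : Q, ρ v * ρ u = ρ u * ρ v) : u ∈ R := by
  apply hX.hnd
  intro v
  have h1 := hX.comm_rel v u
  rw [h v] at h1
  have h2 : (1 - Λ (v * u * v⁻¹ * u⁻¹)) • (ρ u * ρ v) = 0 := by
    rw [sub_smul, one_smul, ← h1, sub_self]
  rcases smul_eq_zero.mp h2 with h3 | h3
  · exact (sub_eq_zero.mp h3).symm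
  · exfalso
    rw [← map_mul] at h3
    exact apply_ne_zero ρ _ h3

theorem comm_of_mem (hX : XHyp ρ R Λ) {u : Q} (hu : u ∈ R) (f : Module.End k W) :
    ρ u * f = f * ρ u := by
  rw [hX.hΛ u hu, smul_mul_assoc, one_mul, mul_smul_comm, mul_one]

section quot

/-- conjugation by `ρ g` depends only on the coset of `g` -/
theorem conj_congr (hX : XHyp ρ R Λ) {g g' : Q} (h : g⁻¹ * g' ∈ R) (f : Module.End k W) :
    ρ g' * f * ρ g'⁻¹ = ρ g * f * ρ g⁻¹ := by
  have e1 : g' = g * (g⁻¹ * g') := by group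
  have e2 : g'⁻¹ = (g⁻¹ * g')⁻¹ * g⁻¹ := by group
  have h1 : ρ g' = ρ g * ρ (g⁻¹ * g') := by rw [← map_mul, ← e1]
  have h2 : ρ g'⁻¹ = ρ (g⁻¹ * g')⁻¹ * ρ g⁻¹ := by rw [← map_mul, ← e2]
  rw [h1, h2]
  have h3 := hX.comm_of_mem h (f * ρ (g⁻¹ * g')⁻¹)
  calc ρ g * ρ (g⁻¹ * g') * f * (ρ (g⁻¹ * g')⁻¹ * ρ g⁻¹)
      = ρ g * (ρ (g⁻¹ * g') * (f * ρ (g⁻¹ * g')⁻¹)) * ρ g⁻¹ := by simp only [mul_assoc]
    _ = ρ g * ((f * ρ (g⁻¹ * g')⁻¹) * ρ (g⁻¹ * g')) * ρ g⁻¹ := by rw [h3]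
    _ = ρ g * f * ρ g⁻¹ := by
      rw [mul_assoc f, apply_inv_mul, mul_one]

end quot

end XHyp

end Cfsg.Agent.Lib.H19.SG
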