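import Mathlib
import Cfsg.Agent.Lib.H19.SG3

/-!
# Shult–Gross, part 4: coset representatives, independence, Reynolds operator (helper19)
-/

set_option autoImplicit false
set_option linter.unusedSectionVars false
set_option linter.style.haveILetI false

namespace Cfsg.Agent.Lib.H19.SG

open Module Cfsg.Agent.Lib.H19.Ward Cfsg.Agent.Lib.H19.ModRep

variable {k : Type*} [Field k] {Q : Type*} [Group Q] {W : Type*} [AddCommGroup W] [Module k W]

/-- chosen coset representatives -/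
noncomputable def rep (R : Subgroup Q) [R.Normal] (ū : Q ⧸ R) : Q := Quotient.out ū

theorem mk_rep (R : Subgroup Q) [R.Normal] (ū : Q ⧸ R) :
    (QuotientGroup.mk (rep R ū) : Q ⧸ R) = ū := Quotient.out_eq' ū

theorem rep_mk (R : Subgroup Q) [R.Normal] (u : Q) :
    (rep R (QuotientGroup.mk u : Q ⧸ R))⁻¹ * u ∈ R :=
  QuotientGroup.eq.mp (mk_rep R _)

namespace XHyp

variable {ρ : Representation k Q W} {R : Subgroup Q} {Λ : Q → k} [R.Normal]

/-- the weight of `ρ (rep ū)` under the adjoint action -/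
noncomputable def chi (R : Subgroup Q) [R.Normal] (Λ : Q → k) (ū : Q ⧸ R) : Q → k :=
  fun v => Λ (v * rep R ū * v⁻¹ * (rep R ū)⁻¹)

theorem adj_comm (hX : XHyp ρ R Λ) (a b : Q) :
    Commute (Representation.linHom ρ ρ a) (Representation.linHom ρ ρ b) := by
  have hAdZ : ∀ z ∈ R, Representation.linHom ρ ρ z = 1 := by
    intro z hz
    apply LinearMap.ext
    intro f
    rw [Representation.linHom_apply]
    show ρ z * (f * ρ z⁻¹) = f
    rw [← mul_assoc, hX.comm_of_mem hz f, mul_assoc, apply_mul_inv, mul_one]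
  show Representation.linHom ρ ρ a * Representation.linHom ρ ρ b =
    Representation.linHom ρ ρ b * Representation.linHom ρ ρ a
  have h1 : a * b = (a * b * a⁻¹ * b⁻¹) * (b * a) := by group
  rw [← map_mul, ← map_mul, h1, map_mul, hAdZ _ (hX.hQR a b), one_mul]

theorem adj_mem (hX : XHyp ρ R Λ) (ū : Q ⧸ R) :
    ρ (rep R ū) ∈ wtF (fun u : Q => Representation.linHom ρ ρ u) (chi R Λ ū) := by
  rw [mem_wtF]
  intro v
  rw [Representation.linHom_apply]
  show ρ v * (ρ (rep R ū) * ρ v⁻¹) = chi R Λ ū v • ρ (rep R ū)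
  have h1 := hX.comm_rel v (rep R ū)
  calc ρ v * (ρ (rep R ū) * ρ v⁻¹) = (ρ v * ρ (rep R ū)) * ρ v⁻¹ := (mul_assoc _ _ _).symm
    _ = (chi R Λ ū v • (ρ (rep R ū) * ρ v)) * ρ v⁻¹ := by rw [h1]; rfl
    _ = chi R Λ ū v • ρ (rep R ū) := by
      rw [smul_mul_assoc, mul_assoc (ρ (rep R ū)), apply_mul_inv, mul_one]

theorem chi_injective [Nontrivial W] (hX : XHyp ρ R Λ) :
    Function.Injective (chi R Λ : Q ⧸ R → Q → k) := by
  intro ū ū' hχ
  have hy : (rep R ū')⁻¹ * rep R ū ∈ R := by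
    apply hX.mem_of_comm
    intro v
    set a := chi R Λ ū v with ha
    have ha0 : a ≠ 0 := hX.Λ_ne_zero (hX.hQR v (rep R ū))
    have h1 : ρ v * ρ (rep R ū) = a • (ρ (rep R ū) * ρ v) := hX.comm_rel v (rep R ū)
    have h2 : ρ v * ρ (rep R ū') = a • (ρ (rep R ū') * ρ v) := by
      rw [ha, hχ]
      exact hX.comm_rel v (rep R ū')
    have h3 : ρ (rep R ū')⁻¹ * ρ v = a • (ρ v * ρ (rep R ū')⁻¹) := by
      calc ρ (rep R ū')⁻¹ * ρ v
          = ρ (rep R ū')⁻¹ * (ρ v * ρ (rep R ū')) * ρ (rep R ū')⁻¹ := by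
            rw [mul_assoc, mul_assoc, apply_mul_inv, mul_one]
        _ = ρ (rep R ū')⁻¹ * (a • (ρ (rep R ū') * ρ v)) * ρ (rep R ū')⁻¹ := by rw [h2]
        _ = a • (ρ v * ρ (rep R ū')⁻¹) := by
            rw [mul_smul_comm, smul_mul_assoc, ← mul_assoc, apply_inv_mul, one_mul]
    apply smul_right_injective _ ha0
    show a • (ρ v * ρ ((rep R ū')⁻¹ * rep R ū)) = a • (ρ ((rep R ū')⁻¹ * rep R ū) * ρ v)
    rw [map_mul, ← mul_assoc, ← smul_mul_assoc, ← h3, mul_assoc, h1, mul_smul_comm, mul_assoc]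
  have h1 : (QuotientGroup.mk (rep R ū') : Q ⧸ R) = QuotientGroup.mk (rep R ū) :=
    QuotientGroup.eq.mpr hy
  rw [← mk_rep R ū, ← mk_rep R ū', h1]

variable [Finite Q] [FiniteDimensional k W]

theorem adj_ss (hk : (Nat.card Q : k) ≠ 0) (ρ : Representation k Q W) (u : Q) :
    Module.End.IsSemisimple (Representation.linHom ρ ρ u) :=
  isSemisimple_apply hk (Representation.linHom ρ ρ) u

/-- the operators `ρ (rep ū)` are linearly independent -/
theorem li [Nontrivial W] (hk : (Nat.card Q : k) ≠ 0) (hX : XHyp ρ R Λ) :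
    LinearIndependent k (fun ū : Q ⧸ R => ρ (rep R ū)) :=
  ((iSupIndep_wtF (adj_ss hk ρ) hX.adj_comm).comp hX.chi_injective).linearIndependent _
    hX.adj_mem (fun ū => apply_ne_zero ρ _)

section reynolds

variable [Fintype (Q ⧸ R)]

/-- the Reynolds operator -/
noncomputable def rey (ρ : Representation k Q W) (R : Subgroup Q) [R.Normal] [Fintype (Q ⧸ R)]
    (f : Module.End k W) : Module.End k W :=
  ∑ ū : Q ⧸ R, ρ (rep R ū) * f * ρ (rep R ū)⁻¹

theorem rey_conj (hX : XHyp ρ R Λ) (f : Module.End k W) (v : Q) :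
    ρ v * rey ρ R f * ρ v⁻¹ = rey ρ R f := by
  unfold rey
  rw [Finset.mul_sum, Finset.sum_mul]
  have h1 : ∀ ū : Q ⧸ R, ρ v * (ρ (rep R ū) * f * ρ (rep R ū)⁻¹) * ρ v⁻¹ =
      ρ (rep R ((QuotientGroup.mk v : Q ⧸ R) * ū)) * f *
        ρ (rep R ((QuotientGroup.mk v : Q ⧸ R) * ū))⁻¹ := by
    intro ū
    have h2 : ρ v * (ρ (rep R ū) * f * ρ (rep R ū)⁻¹) * ρ v⁻¹ =
        ρ (v * rep R ū) * f * ρ (v * rep R ū)⁻¹ := by
      rw [mul_inv_rev, map_mul, map_mul]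
      simp only [mul_assoc]
    rw [h2]
    apply hX.conj_congr
    have h3 := rep_mk R (v * rep R ū)
    rw [QuotientGroup.mk_mul, mk_rep] at h3
    exact h3
  rw [Finset.sum_congr rfl (fun ū _ => h1 ū)]
  exact Equiv.sum_comp (Equiv.mulLeft (QuotientGroup.mk v : Q ⧸ R))
    (fun ū : Q ⧸ R => ρ (rep R ū) * f * ρ (rep R ū)⁻¹)

theorem rey_comm (hX : XHyp ρ R Λ) (f : Module.End k W) (v : Q) :
    ρ v * rey ρ R f = rey ρ R f * ρ v := by
  have h1 := hX.rey_conj f v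
  calc ρ v * rey ρ R f = (ρ v * rey ρ R f * ρ v⁻¹) * ρ v := by
        rw [mul_assoc (ρ v * rey ρ R f), apply_inv_mul, mul_one]
    _ = rey ρ R f * ρ v := by rw [h1]

/-- `𝓡 (ρ v)` is a multiple of `ρ v` -/
theorem rey_apply (hX : XHyp ρ R Λ) (v : Q) :
    rey ρ R (ρ v) = (∑ ū : Q ⧸ R, Λ (rep R ū * v * (rep R ū)⁻¹ * v⁻¹)) • ρ v := by
  unfold rey
  rw [Finset.sum_smul]
  apply Finset.sum_congr rfl
  intro ū _
  rw [hX.comm_rel (rep R ū) v, smul_mul_assoc, mul_assoc (ρ v), apply_mul_inv, mul_one]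

/-- orthogonality -/
theorem rey_eq_zero [Nontrivial W] (hX : XHyp ρ R Λ) {v : Q} (hv : v ∉ R) :
    rey ρ R (ρ v) = 0 := by
  by_contra hne
  apply hv
  have h1 := hX.rey_apply v
  set S := ∑ ū : Q ⧸ R, Λ (rep R ū * v * (rep R ū)⁻¹ * v⁻¹) with hS
  have hS0 : S ≠ 0 := by
    intro h0
    apply hne
    rw [h1, h0, zero_smul]
  apply hX.mem_of_comm
  intro u
  have h2 := hX.rey_comm (ρ v) u
  rw [h1, mul_smul_comm, smul_mul_assoc] at h2
  exact smul_right_injective _ hS0 h2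

theorem rey_of_mem (hX : XHyp ρ R Λ) {v : Q} (hv : v ∈ R) :
    rey ρ R (ρ v) = (Fintype.card (Q ⧸ R) : k) • ρ v := by
  unfold rey
  have h1 : ∀ ū : Q ⧸ R, ρ (rep R ū) * ρ v * ρ (rep R ū)⁻¹ = ρ v := by
    intro ū
    rw [← hX.comm_of_mem hv, mul_assoc, apply_mul_inv, mul_one]
  rw [Finset.sum_congr rfl (fun ū _ => h1 ū), Finset.sum_const, Finset.card_univ,
    Nat.cast_smul_eq_nsmul]

/-- Fourier inversion -/
theorem inversion [Nontrivial W] (hX : XHyp ρ R Λ) (f : Module.End k W) :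
    (Fintype.card (Q ⧸ R) : k) • f =
      ∑ ū : Q ⧸ R, ρ (rep R ū) * rey ρ R (ρ (rep R ū)⁻¹ * f) := by
  classical
  have h1 : ∀ ū : Q ⧸ R, ρ (rep R ū) * rey ρ R (ρ (rep R ū)⁻¹ * f) =
      ∑ vb : Q ⧸ R, (ρ (rep R ū) * ρ (rep R vb) * ρ (rep R ū)⁻¹) * (f * ρ (rep R vb)⁻¹) := by
    intro ū
    unfold rey
    rw [Finset.mul_sum]
    apply Finset.sum_congr rfl
    intro vb _
    simp only [mul_assoc]
  rw [Finset.sum_congr rfl (fun ū _ => h1 ū), Finset.sum_comm]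
  have h2 : ∀ vb : Q ⧸ R, ∑ ū : Q ⧸ R,
      (ρ (rep R ū) * ρ (rep R vb) * ρ (rep R ū)⁻¹) * (f * ρ (rep R vb)⁻¹) =
      rey ρ R (ρ (rep R vb)) * (f * ρ (rep R vb)⁻¹) := by
    intro vb
    unfold rey
    rw [Finset.sum_mul]
  rw [Finset.sum_congr rfl (fun vb _ => h2 vb)]
  rw [Finset.sum_eq_single (1 : Q ⧸ R)]
  · have h3 : rep R (1 : Q ⧸ R) ∈ R := by
      rw [← QuotientGroup.eq_one_iff, mk_rep]
    rw [hX.rey_of_mem h3, smul_mul_assoc, ← mul_assoc, hX.comm_of_mem h3 f, mul_assoc,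
      apply_mul_inv, mul_one]
  · intro vb _ hvb
    have h3 : rep R vb ∉ R := by
      intro h
      apply hvb
      rw [← mk_rep R vb]
      exact (QuotientGroup.eq_one_iff _).mpr h
    rw [hX.rey_eq_zero h3, zero_mul]
  · intro h
    exact absurd (Finset.mem_univ _) h

end reynolds

end XHyp

end Cfsg.Agent.Lib.H19.SG
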