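import Mathlib
import Cfsg.Agent.Lib.H19.SG4
import Cfsg.Agent.Lib.H19.ModRepBurn
import Cfsg.Agent.Lib.H19.ModRepCount

/-!
# Shult–Gross, part 5: `|Q : R|` is a square; orbit counting; numerics (helper19)
-/

set_option autoImplicit false
set_option linter.unusedSectionVars false
set_option linter.style.haveILetI false

namespace Cfsg.Agent.Lib.H19.SG

open Module Cfsg.Agent.Lib.H19.Ward Cfsg.Agent.Lib.H19.ModRep

variable {k : Type*} [Field k] {Q : Type*} [Group Q] {W : Type*} [AddCommGroup W] [Module k W]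

namespace XHyp

variable {ρ : Representation k Q W} {R : Subgroup Q} {Λ : Q → k}

/-- the hypotheses pass to invariant subspaces -/
theorem sub (hX : XHyp ρ R Λ) (U : Submodule k W) (hU : Inv ρ U) :
    XHyp (ModRep.sub ρ U hU) R Λ where
  hΛ := by
    intro z hz
    apply LinearMap.ext
    intro u
    apply Subtype.ext
    rw [ModRep.sub_apply, hX.hΛ z hz]
    rfl
  hQR := hX.hQR
  hnd := hX.hnd

/-- `|Q : R|` is a square -/
theorem exists_sq [IsAlgClosed k] [FiniteDimensional k W] [Finite Q] [Nontrivial W]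
    (hk : (Nat.card Q : k) ≠ 0) (hX : XHyp ρ R Λ) : ∃ d : ℕ, Nat.card (Q ⧸ R) = d * d := by
  classical
  haveI := hX.normal
  have htop : (⊤ : Submodule k W) ≠ ⊥ := top_ne_bot
  obtain ⟨U₁, h₁, -, hirr⟩ := exists_irr_le ρ ⊤ (inv_top ρ) htop
  have hX₁ := hX.sub U₁ h₁
  haveI : Nontrivial U₁ := hirr.1
  set ρ₁ := ModRep.sub ρ U₁ h₁ with hρ₁
  have hli := hX₁.li hk
  have hspan := span_range_eq_top ρ₁ ⊤ hirr
  haveI : Fintype (Q ⧸ R) := Fintype.ofFinite _
  have hspan' : ⊤ ≤ Submodule.span k (Set.range (fun ū : Q ⧸ R => ρ₁ (rep R ū))) := by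
    rw [← hspan, Submodule.span_le]
    rintro _ ⟨u, rfl⟩
    show ρ₁ (u : Q) ∈ _
    have h2 := rep_mk R (u : Q)
    have e : (u : Q) = rep R (QuotientGroup.mk (u : Q) : Q ⧸ R) *
        ((rep R (QuotientGroup.mk (u : Q) : Q ⧸ R))⁻¹ * (u : Q)) := by group
    rw [e, map_mul, hX₁.hΛ _ h2, mul_smul_comm, mul_one]
    exact Submodule.smul_mem _ _ (Submodule.subset_span ⟨_, rfl⟩)
  let e : Basis (Q ⧸ R) k (Module.End k U₁) := Basis.mk hli hspan'
  refine ⟨finrank k U₁, ?_⟩
  rw [Nat.card_eq_fintype_card, ← Module.finrank_eq_card_basis e, Module.finrank_linearMap]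

end XHyp

/-- orbit count for a cyclic group acting freely off a set of fixed points -/
theorem card_orbits_mul' {I : Type*} [Fintype I] [DecidableEq I] (σ : Equiv.Perm I) {P : ℕ}
    (hP : 0 < P) (hσP : σ ^ P = 1) (F : Finset I) (hF : ∀ x ∈ F, σ x = x)
    (hfree : ∀ i, 0 < i → i < P → ∀ x, (σ ^ i) x = x → x ∈ F) (hex : ∃ x, x ∉ F) :
    Nat.card (MulAction.orbitRel.Quotient (Subgroup.zpowers σ) I) * P =
      Fintype.card I + (P - 1) * F.card := by
  classical
  have hord : orderOf σ = P := by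
    have hdvd : orderOf σ ∣ P := orderOf_dvd_of_pow_eq_one hσP
    have hle := Nat.le_of_dvd hP hdvd
    rcases Nat.lt_or_ge (orderOf σ) P with hlt | hge
    · exfalso
      obtain ⟨x, hx⟩ := hex
      apply hx
      have hpos : 0 < orderOf σ := Nat.pos_of_dvd_of_pos hdvd hP
      apply hfree (orderOf σ) hpos hlt x
      rw [pow_orderOf_eq_one]
      rfl
    · exact le_antisymm hle hge
  set X := Subgroup.zpowers σ with hX
  have hcardX : Nat.card X = P := by
    rw [Nat.card_zpowers, hord]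
  have : Fintype X := Fintype.ofFinite X
  have : Fintype (Quotient (MulAction.orbitRel X I)) := Fintype.ofFinite _
  have hB := MulAction.sum_card_fixedBy_eq_card_orbits_mul_card_group X I
  have h1 : ∀ g : X, g ≠ 1 → Fintype.card (MulAction.fixedBy I g) = F.card := by
    intro g hg
    obtain ⟨j, hj⟩ := mem_powers_iff_mem_zpowers.mpr g.2
    have hj' : σ ^ j = (g : Equiv.Perm I) := hj
    have hj2 : σ ^ (j % P) = (g : Equiv.Perm I) := by
      rw [← hord, pow_mod_orderOf, hj']
    have hjP : j % P < P := Nat.mod_lt j hP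
    have hj0 : 0 < j % P := by
      rcases Nat.eq_zero_or_pos (j % P) with h0 | h0
      · exfalso
        apply hg
        apply Subtype.ext
        rw [← hj2, h0, pow_zero]
        rfl
      · exact h0
    apply Fintype.card_of_subtype F
    intro x
    rw [MulAction.mem_fixedBy]
    constructor
    · intro hx
      have h2 : σ ∈ MulAction.stabilizer (Equiv.Perm I) x := hF x hx
      have h3 : σ ^ (j % P) ∈ MulAction.stabilizer (Equiv.Perm I) x := Subgroup.pow_mem _ h2 _
      rw [hj2] at h3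
      exact h3
    · intro hx
      apply hfree (j % P) hj0 hjP x
      rw [hj2]
      exact hx
  have h2 : Fintype.card (MulAction.fixedBy I (1 : X)) = Fintype.card I := by
    apply Fintype.card_of_subtype
    intro i
    simp
  rw [← Finset.add_sum_erase Finset.univ _ (Finset.mem_univ (1 : X)), h2] at hB
  rw [Finset.sum_congr rfl (fun g hg => h1 g (Finset.ne_of_mem_erase hg))] at hB
  rw [Finset.sum_const, Finset.card_erase_of_mem (Finset.mem_univ _), Finset.card_univ,
    smul_eq_mul] at hB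
  rw [Nat.card_eq_fintype_card, ← hcardX, Nat.card_eq_fintype_card]
  exact hB.symm

/-- the numerical core -/
theorem numeric_core' {d c n n' P p a : ℕ} (hp : p.Prime) (hp2 : p ≠ 2) (hP : P = p ^ a)
    (hd : 2 ≤ d) (hc : 0 < c) (hn : n * P = d * d * c + (P - 1) * c)
    (hle : d * d * c ≤ (P - 1) * n) (hn' : n' * P = d * d + (P - 1)) : d + 1 = P := by
  have hPpos : 0 < P := by rw [hP]; exact pow_pos hp.pos a
  obtain ⟨s, rfl⟩ : ∃ s, P = s + 1 := ⟨P - 1, by omega⟩
  simp only [Nat.add_sub_cancel] at hn hle hn'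
  -- `d ≤ s`
  have h1 : d * d * c * (s + 1) ≤ s * (d * d * c + s * c) := by
    calc d * d * c * (s + 1) ≤ (s * n) * (s + 1) := Nat.mul_le_mul_right _ hle
      _ = s * (n * (s + 1)) := by ring
      _ = s * (d * d * c + s * c) := by rw [hn]
  have h2 : d * d ≤ s * s := by
    have h3 : d * d * c ≤ s * s * c := by nlinarith
    exact Nat.le_of_mul_le_mul_right h3 hc
  have h4 : d ≤ s := by
    by_contra hcon
    push Not at hcon
    nlinarith
  -- divisibility
  have h5 : (s + 1) ∣ (d - 1) * (d + 1) := by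
    have e : (d - 1) * (d + 1) + (s + 1) = d * d + s := by
      obtain ⟨e, rfl⟩ : ∃ e, d = e + 1 := ⟨d - 1, by omega⟩
      simp only [Nat.add_sub_cancel]
      ring
    have h6 : (s + 1) ∣ (d - 1) * (d + 1) + (s + 1) := by
      rw [e, ← hn']
      exact Dvd.intro_left n' rfl
    exact (Nat.dvd_add_left (dvd_refl _)).mp h6
  -- `p` does not divide both
  have ha : a ≠ 0 := by
    rintro rfl
    rw [pow_zero] at hP
    have : s = 0 := by omega
    subst this
    omega
  have h7 : ¬ (p ∣ d - 1 ∧ p ∣ d + 1) := by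
    rintro ⟨h8, h9⟩
    have h10 : p ∣ (d + 1) - (d - 1) := Nat.dvd_sub h9 h8
    have e : (d + 1) - (d - 1) = 2 := by omega
    rw [e] at h10
    exact hp2 ((Nat.prime_dvd_prime_iff_eq hp Nat.prime_two).mp h10)
  by_cases h8 : p ∣ d - 1
  · have h9 : ¬ p ∣ d + 1 := fun h => h7 ⟨h8, h⟩
    have hcop : Nat.Coprime (s + 1) (d + 1) := by
      rw [hP]
      exact Nat.Coprime.pow_left a ((Nat.Prime.coprime_iff_not_dvd hp).mpr h9)
    have h10 : (s + 1) ∣ d - 1 := hcop.dvd_of_dvd_mul_right h5
    have := Nat.le_of_dvd (by omega) h10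
    omega
  · have hcop : Nat.Coprime (s + 1) (d - 1) := by
      rw [hP]
      exact Nat.Coprime.pow_left a ((Nat.Prime.coprime_iff_not_dvd hp).mpr h8)
    have h10 : (s + 1) ∣ d + 1 := hcop.dvd_of_dvd_mul_left h5
    have := Nat.le_of_dvd (by omega) h10
    omega

end Cfsg.Agent.Lib.H19.SG
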