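import Mathlib

/-!
# Shult–Gross, part 7: the structure of a minimal configuration (helper19)

`Q` is a finite `q`-group, `φ` an automorphism of `Q`, `ψ` a power of `φ` with `ψ ^ p = 1`
(`p ≠ q` prime), `ψ ≠ 1`, and `ψ` acts trivially on every proper `φ`-invariant subgroup of `Q`
(`MinHyp`).  Then `Q = [Q, ψ]`, every proper `φ`-invariant normal subgroup is central,
commutators are central, and `ψ` acts fixed point freely on `Q / Z(Q)` (on `Q` if `Q` is abelian).
-/

set_option autoImplicit false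
set_option linter.unusedSectionVars false
set_option linter.style.haveILetI false

namespace Cfsg.Agent.Lib.H19.SG

variable {Q : Type*} [Group Q]

section powers

variable {φ : MulAut Q}

theorem pow_fix_mod {N : Subgroup Q} [N.Normal] (hN : ∀ u, φ u ∈ N ↔ u ∈ N) {u : Q}
    (h : φ u * u⁻¹ ∈ N) (m : ℕ) : (φ ^ m) u * u⁻¹ ∈ N := by
  induction m with
  | zero => simp
  | succ m ih =>
    have hNm : ∀ (j : ℕ) (x : Q), x ∈ N → (φ ^ j) x ∈ N := by
      intro j
      induction j with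
      | zero => intro x hx; simpa using hx
      | succ j ihj =>
        intro x hx
        rw [pow_succ', MulAut.mul_apply]
        exact (hN _).mpr (ihj x hx)
    have e : (φ ^ (m + 1)) u * u⁻¹ = (φ ^ m) (φ u * u⁻¹) * ((φ ^ m) u * u⁻¹) := by
      rw [pow_succ, MulAut.mul_apply, map_mul, map_inv]
      group
    rw [e]
    exact N.mul_mem (hNm m _ h) ih

/-- in a cyclic `p`-group every nontrivial element has the element of order `p` among its powers -/
theorem exists_pow_eq_psi {p n i : ℕ} (hp : p.Prime) (hn : 0 < n) (hφ : φ ^ (p ^ n) = 1)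
    (hi0 : 0 < i) (hi : i < p ^ n) : ∃ m : ℕ, (φ ^ i) ^ m = φ ^ (p ^ (n - 1)) := by
  obtain ⟨l, i', hi', rfl⟩ := Nat.exists_eq_pow_mul_and_not_dvd hi0.ne' p hp.ne_one
  have hi'pos : 0 < i' := by
    rcases Nat.eq_zero_or_pos i' with h0 | h0
    · rw [h0, mul_zero] at hi0
      omega
    · exact h0
  have hl : l < n := by
    by_contra hcon
    push Not at hcon
    have h1 : p ^ n ≤ p ^ l := Nat.pow_le_pow_right hp.pos hcon
    have h2 : p ^ l ≤ p ^ l * i' := Nat.le_mul_of_pos_right _ hi'pos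
    omega
  have hcop : Nat.Coprime i' (p ^ n) :=
    Nat.Coprime.pow_right n ((Nat.Prime.coprime_iff_not_dvd hp).mpr hi').symm
  have hpn1 : 1 < p ^ n := Nat.one_lt_pow hn.ne' hp.one_lt
  obtain ⟨m', -, hm'⟩ := Nat.exists_mul_mod_eq_one_of_coprime hcop hpn1
  refine ⟨p ^ (n - 1 - l) * m', ?_⟩
  rw [← pow_mul]
  have e1 : p ^ l * i' * (p ^ (n - 1 - l) * m') = p ^ (n - 1) * (i' * m') := by
    have : p ^ (n - 1) = p ^ l * p ^ (n - 1 - l) := by
      rw [← pow_add]
      congr 1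
      omega
    rw [this]
    ring
  rw [e1]
  have e2 : i' * m' = p ^ n * (i' * m' / p ^ n) + 1 := by
    have := Nat.div_add_mod (i' * m') (p ^ n)
    rw [hm'] at this
    exact this.symm
  rw [e2, mul_add, mul_one, pow_add, ← mul_assoc, mul_comm (p ^ (n - 1)) (p ^ n), mul_assoc,
    pow_mul, hφ, one_pow, one_mul]

end powers

/-- the minimal configuration -/
structure MinHyp (φ ψ : MulAut Q) (p q : ℕ) : Prop where
  hq : IsPGroup q Q
  hpq : p ≠ q
  hcomm : ∀ u : Q, φ (ψ u) = ψ (φ u)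
  hψp : ψ ^ p = 1
  hψ : ∃ u : Q, ψ u ≠ u
  hmin : ∀ H : Subgroup Q, (∀ u, φ u ∈ H ↔ u ∈ H) → H ≠ ⊤ → ∀ u ∈ H, ψ u = u

namespace MinHyp

variable {φ ψ : MulAut Q} {p q : ℕ}

theorem eq_one_of_pow_p [Fact p.Prime] [Fact q.Prime] (h : MinHyp φ ψ p q) {x : Q}
    (hx : x ^ p = 1) : x = 1 := by
  have hp : p.Prime := Fact.out
  have hq : q.Prime := Fact.out
  obtain ⟨j, hj⟩ := h.hq x
  have h1 : orderOf x ∣ p := orderOf_dvd_of_pow_eq_one hx
  have h2 : orderOf x ∣ q ^ j := orderOf_dvd_of_pow_eq_one hj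
  have h3 : Nat.Coprime p (q ^ j) := Nat.Coprime.pow_right j ((Nat.coprime_primes hp hq).mpr h.hpq)
  have h4 : orderOf x = 1 := Nat.eq_one_of_dvd_coprimes h3 h1 h2
  exact orderOf_eq_one_iff.mp h4

theorem comm_inv (h : MinHyp φ ψ p q) (u : Q) : φ⁻¹ (ψ u) = ψ (φ⁻¹ u) := by
  have h1 := h.hcomm (φ⁻¹ u)
  rw [MulAut.apply_inv_self] at h1
  rw [← h1, MulAut.inv_apply_self]

/-- the subgroup `[Q, ψ]` -/
def comm (ψ : MulAut Q) : Subgroup Q := Subgroup.closure {x | ∃ u : Q, x = u⁻¹ * ψ u}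

theorem mem_comm (ψ : MulAut Q) (u : Q) : u⁻¹ * ψ u ∈ comm ψ :=
  Subgroup.subset_closure ⟨u, rfl⟩

theorem comm_normal (ψ : MulAut Q) : (comm ψ).Normal := by
  constructor
  intro x hx g
  unfold comm at hx ⊢
  induction hx using Subgroup.closure_induction with
  | mem x hx =>
    obtain ⟨u, rfl⟩ := hx
    have e : g * (u⁻¹ * ψ u) * g⁻¹ = ((u * g⁻¹)⁻¹ * ψ (u * g⁻¹)) * (g⁻¹⁻¹ * ψ g⁻¹)⁻¹ := by
      rw [map_mul]
      group
    rw [e]
    exact Subgroup.mul_mem _ (Subgroup.subset_closure ⟨_, rfl⟩)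
      (Subgroup.inv_mem _ (Subgroup.subset_closure ⟨_, rfl⟩))
  | one => simp
  | mul x y _ _ hx hy =>
    have e : g * (x * y) * g⁻¹ = (g * x * g⁻¹) * (g * y * g⁻¹) := by group
    rw [e]
    exact Subgroup.mul_mem _ hx hy
  | inv x _ hx =>
    have e : g * x⁻¹ * g⁻¹ = (g * x * g⁻¹)⁻¹ := by group
    rw [e]
    exact Subgroup.inv_mem _ hx

theorem comm_inv' (h : MinHyp φ ψ p q) : ∀ u, φ u ∈ comm ψ ↔ u ∈ comm ψ := by
  have h1 : ∀ x ∈ comm ψ, φ x ∈ comm ψ := by
    intro x hx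
    unfold comm at hx
    induction hx using Subgroup.closure_induction with
    | mem x hx =>
      obtain ⟨u, rfl⟩ := hx
      rw [map_mul, map_inv, h.hcomm]
      exact mem_comm ψ _
    | one => rw [map_one]; exact Subgroup.one_mem _
    | mul x y _ _ hx hy => rw [map_mul]; exact Subgroup.mul_mem _ hx hy
    | inv x _ hx => rw [map_inv]; exact Subgroup.inv_mem _ hx
  have h2 : ∀ x ∈ comm ψ, φ⁻¹ x ∈ comm ψ := by
    intro x hx
    unfold comm at hx
    induction hx using Subgroup.closure_induction with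
    | mem x hx =>
      obtain ⟨u, rfl⟩ := hx
      rw [map_mul, map_inv, h.comm_inv]
      exact mem_comm ψ _
    | one => rw [map_one]; exact Subgroup.one_mem _
    | mul x y _ _ hx hy => rw [map_mul]; exact Subgroup.mul_mem _ hx hy
    | inv x _ hx => rw [map_inv]; exact Subgroup.inv_mem _ hx
  intro u
  constructor
  · intro hu
    have := h2 _ hu
    rwa [MulAut.inv_apply_self] at this
  · exact h1 u

/-- `Q = [Q, ψ]` -/
theorem comm_eq_top [Fact p.Prime] [Fact q.Prime] (h : MinHyp φ ψ p q) : comm ψ = ⊤ := by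
  by_contra hne
  have hfix := h.hmin (comm ψ) h.comm_inv' hne
  obtain ⟨u₀, hu₀⟩ := h.hψ
  apply hu₀
  have hpow : ∀ (j : ℕ) (u : Q), (ψ ^ j) u = u * (u⁻¹ * ψ u) ^ j := by
    intro j u
    induction j with
    | zero => simp
    | succ j ih =>
      rw [pow_succ', MulAut.mul_apply, ih, map_mul, map_pow, hfix _ (mem_comm ψ u)]
      calc ψ u * (u⁻¹ * ψ u) ^ j = u * (u⁻¹ * ψ u) * (u⁻¹ * ψ u) ^ j := by
            rw [mul_inv_cancel_left]
        _ = u * (u⁻¹ * ψ u) ^ (j + 1) := by rw [pow_succ', mul_assoc]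
  have h1 := hpow p u₀
  rw [h.hψp, MulAut.one_apply] at h1
  have h2 : (u₀⁻¹ * ψ u₀) ^ p = 1 := by
    have := congrArg (fun x => u₀⁻¹ * x) h1
    simpa using this.symm
  have h3 := h.eq_one_of_pow_p h2
  exact (inv_mul_eq_one.mp h3).symm

/-- proper invariant normal subgroups are central -/
theorem le_center [Fact p.Prime] [Fact q.Prime] (h : MinHyp φ ψ p q) (N : Subgroup Q)
    [N.Normal] (hN : ∀ u, φ u ∈ N ↔ u ∈ N) (hne : N ≠ ⊤) : N ≤ Subgroup.center Q := by
  have hfix := h.hmin N hN hne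
  intro n hn
  have h1 : comm ψ ≤ Subgroup.centralizer {n} := by
    unfold comm
    rw [Subgroup.closure_le]
    rintro _ ⟨u, rfl⟩
    rw [SetLike.mem_coe, Subgroup.mem_centralizer_singleton_iff]
    have h2 : u * n * u⁻¹ ∈ N := ‹N.Normal›.conj_mem n hn u
    have h3 := hfix _ h2
    rw [map_mul, map_mul, map_inv, hfix n hn] at h3
    -- `ψ u * n * (ψ u)⁻¹ = u * n * u⁻¹`
    calc u⁻¹ * ψ u * n = u⁻¹ * (ψ u * n * (ψ u)⁻¹) * ψ u := by group
      _ = u⁻¹ * (u * n * u⁻¹) * ψ u := by rw [h3]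
      _ = n * (u⁻¹ * ψ u) := by group
  rw [h.comm_eq_top] at h1
  rw [Subgroup.mem_center_iff]
  intro g
  have h2 := h1 (Subgroup.mem_top g)
  rw [Subgroup.mem_centralizer_singleton_iff] at h2
  exact h2

theorem center_inv (φ : MulAut Q) : ∀ u, φ u ∈ Subgroup.center Q ↔ u ∈ Subgroup.center Q := by
  intro u
  rw [Subgroup.mem_center_iff, Subgroup.mem_center_iff]
  constructor
  · intro h g
    have h1 := h (φ g)
    rw [← map_mul, ← map_mul] at h1
    exact φ.injective h1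
  · intro h g
    have h1 := h (φ⁻¹ g)
    have h2 := congrArg φ h1
    rwa [map_mul, map_mul, MulAut.apply_inv_self] at h2

theorem nontrivial (h : MinHyp φ ψ p q) : Nontrivial Q := by
  obtain ⟨u, hu⟩ := h.hψ
  refine ⟨⟨u, 1, ?_⟩⟩
  rintro rfl
  exact hu (map_one ψ)

/-- commutators are central -/
theorem commutator_mem_center [Finite Q] [Fact p.Prime] [Fact q.Prime] (h : MinHyp φ ψ p q)
    (u v : Q) : u * v * u⁻¹ * v⁻¹ ∈ Subgroup.center Q := by
  haveI := h.nontrivial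
  haveI : Group.IsNilpotent Q := h.hq.isNilpotent
  have h1 : commutator Q < ⊤ := Group.IsSolvable.commutator_lt_top_of_nontrivial (G := Q)
  have h2 : ∀ x, φ x ∈ commutator Q ↔ x ∈ commutator Q := by
    have h3 : ∀ (χ : MulAut Q) (x : Q), x ∈ commutator Q → χ x ∈ commutator Q := by
      intro χ x hx
      have hchar : (commutator Q).Characteristic := by
        rw [commutator_def]
        infer_instance
      have h4 := (Subgroup.characteristic_iff_map_le.mp hchar) χ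
      exact h4 ⟨x, hx, rfl⟩
    intro x
    constructor
    · intro hx
      have := h3 φ⁻¹ _ hx
      rwa [MulAut.inv_apply_self] at this
    · exact h3 φ x
  have h5 := h.le_center (commutator Q) h2 h1.ne
  apply h5
  rw [commutator_def]
  exact Subgroup.commutator_mem_commutator (Subgroup.mem_top u) (Subgroup.mem_top v)

/-- `ψ` is fixed point free on `Q / Z(Q)` when `Q` is not abelian -/
theorem mem_center_of_fix [Finite Q] [Fact p.Prime] [Fact q.Prime] (h : MinHyp φ ψ p q)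
    (hna : Subgroup.center Q ≠ ⊤) {u : Q} (hu : ψ u * u⁻¹ ∈ Subgroup.center Q) :
    u ∈ Subgroup.center Q := by
  set Z := Subgroup.center Q with hZ
  have hcz : ∀ (z : Q), z ∈ Z → ∀ g : Q, g * z = z * g := fun z hz g =>
    Subgroup.mem_center_iff.mp hz g
  let N₂ : Subgroup Q :=
    { carrier := {u | ψ u * u⁻¹ ∈ Z}
      one_mem' := by
        show ψ 1 * 1⁻¹ ∈ Z
        rw [map_one, inv_one, mul_one]
        exact Z.one_mem
      mul_mem' := by
        intro a b ha hb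
        show ψ (a * b) * (a * b)⁻¹ ∈ Z
        have hb' : ψ b * b⁻¹ ∈ Z := hb
        have e : ψ (a * b) * (a * b)⁻¹ = (ψ a * a⁻¹) * (ψ b * b⁻¹) := by
          rw [map_mul]
          calc ψ a * ψ b * (a * b)⁻¹ = ψ a * (ψ b * b⁻¹) * a⁻¹ := by group
            _ = (ψ b * b⁻¹) * ψ a * a⁻¹ := by rw [hcz _ hb' (ψ a)]
            _ = (ψ a * a⁻¹) * (ψ b * b⁻¹) := by
              rw [mul_assoc, hcz _ hb' (ψ a * a⁻¹)]
        rw [e]
        exact Z.mul_mem ha hb
      inv_mem' := by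
        intro a ha
        show ψ a⁻¹ * a⁻¹⁻¹ ∈ Z
        have ha' : ψ a * a⁻¹ ∈ Z := ha
        have e : ψ a⁻¹ * a⁻¹⁻¹ = (ψ a * a⁻¹)⁻¹ := by
          rw [map_inv, inv_inv]
          have h1 := hcz _ ha' a
          -- `a * (ψ a * a⁻¹) = (ψ a * a⁻¹) * a`
          calc (ψ a)⁻¹ * a = (ψ a)⁻¹ * (a * (ψ a * a⁻¹)) * (ψ a * a⁻¹)⁻¹ := by group
            _ = (ψ a)⁻¹ * ((ψ a * a⁻¹) * a) * (ψ a * a⁻¹)⁻¹ := by rw [h1]
            _ = (ψ a * a⁻¹)⁻¹ := by group
        rw [e]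
        exact Z.inv_mem ha }
  have hmemN : ∀ x, x ∈ N₂ ↔ ψ x * x⁻¹ ∈ Z := fun x => Iff.rfl
  have hZN : Z ≤ N₂ := by
    intro z hz
    rw [hmemN, h.hmin Z (center_inv φ) hna z hz, mul_inv_cancel]
    exact Z.one_mem
  haveI : N₂.Normal := by
    constructor
    intro x hx g
    have e : g * x * g⁻¹ = (g * x * g⁻¹ * x⁻¹) * x := by group
    rw [e]
    exact N₂.mul_mem (hZN (h.commutator_mem_center g x)) hx
  have hN₂inv : ∀ x, φ x ∈ N₂ ↔ x ∈ N₂ := by
    intro x
    rw [hmemN, hmemN, ← h.hcomm, ← map_inv, ← map_mul]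
    exact center_inv φ _
  have hN₂ne : N₂ ≠ ⊤ := by
    intro htop
    apply hna
    rw [eq_top_iff, ← h.comm_eq_top]
    unfold comm
    rw [Subgroup.closure_le]
    rintro _ ⟨x, rfl⟩
    have hx : ψ x * x⁻¹ ∈ Z := (hmemN x).mp (by rw [htop]; exact Subgroup.mem_top x)
    have e : x⁻¹ * ψ x = ψ x * x⁻¹ := by
      have h1 := hcz _ hx x⁻¹
      calc x⁻¹ * ψ x = (x⁻¹ * (ψ x * x⁻¹)) * x := by group
        _ = ((ψ x * x⁻¹) * x⁻¹) * x := by rw [h1]
        _ = ψ x * x⁻¹ := by group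
    rw [SetLike.mem_coe, e]
    exact hx
  exact h.le_center N₂ hN₂inv hN₂ne hu

/-- `ψ` is fixed point free on an abelian `Q` -/
theorem eq_one_of_fix [Finite Q] [Fact p.Prime] [Fact q.Prime] (h : MinHyp φ ψ p q)
    (hab : ∀ u v : Q, u * v = v * u) {u : Q} (hu : ψ u = u) : u = 1 := by
  let f : Q →* Q :=
    { toFun := fun x => x⁻¹ * ψ x
      map_one' := by simp
      map_mul' := by
        intro x y
        show (x * y)⁻¹ * ψ (x * y) = x⁻¹ * ψ x * (y⁻¹ * ψ y)
        rw [map_mul, mul_inv_rev, hab y⁻¹ x⁻¹]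
        calc x⁻¹ * y⁻¹ * (ψ x * ψ y) = x⁻¹ * (y⁻¹ * ψ x) * ψ y := by group
          _ = x⁻¹ * (ψ x * y⁻¹) * ψ y := by rw [hab y⁻¹ (ψ x)]
          _ = x⁻¹ * ψ x * (y⁻¹ * ψ y) := by group }
  have hsurj : Function.Surjective f := by
    rw [← MonoidHom.range_eq_top, eq_top_iff, ← h.comm_eq_top]
    unfold comm
    rw [Subgroup.closure_le]
    rintro _ ⟨x, rfl⟩
    exact ⟨x, rfl⟩
  have hinj : Function.Injective f := Finite.injective_iff_surjective.mpr hsurj
  apply hinj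
  show u⁻¹ * ψ u = (1 : Q)⁻¹ * ψ 1
  rw [hu, map_one]
  group

end MinHyp

end Cfsg.Agent.Lib.H19.SG
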