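import Mathlib

/-!
# Shult–Gross, part 8: the number theoretic lemma (helper19)

`nt_core` : if `q ^ m = p ^ a - 1` (`p` an odd prime, `a ≥ 1`) and `p ^ (a + j) ∣ q ^ f - 1` with
`f > 0` then `2 m p ^ j ≤ f`.
-/

set_option autoImplicit false

namespace Cfsg.Agent.Lib.H19.SG

theorem nt_core {p q a j m f : ℕ} (hp : p.Prime) (hp2 : p ≠ 2) (ha : 0 < a) (hq1 : 1 < q)
    (hqm : q ^ m = p ^ a - 1) (hf : 0 < f) (hdiv : p ^ (a + j) ∣ q ^ f - 1) :
    2 * m * p ^ j ≤ f := by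
  haveI : Fact p.Prime := ⟨hp⟩
  have hp3 : 3 ≤ p := by
    have := hp.two_le
    omega
  obtain ⟨P, hPdef⟩ : ∃ P, P = p ^ a := ⟨_, rfl⟩
  rw [← hPdef] at hqm
  have hpP : p ∣ P := by rw [hPdef]; exact dvd_pow_self p ha.ne'
  have hP3 : 3 ≤ P := by
    have := Nat.le_of_dvd (by rw [hPdef]; exact pow_pos hp.pos a) hpP
    omega
  have hm : 0 < m := by
    rcases Nat.eq_zero_or_pos m with h0 | h0
    · rw [h0, pow_zero] at hqm
      omega
    · exact h0
  -- `t = q ^ (2 m)`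
  obtain ⟨t, htdef⟩ : ∃ t, t = q ^ (2 * m) := ⟨_, rfl⟩
  have ht : t = (P - 1) ^ 2 := by rw [htdef, mul_comm, pow_mul, hqm]
  have ht1 : t - 1 = P * (P - 2) := by
    rw [ht]
    obtain ⟨s, rfl⟩ : ∃ s, P = s + 2 := ⟨P - 2, by omega⟩
    have e1 : s + 2 - 1 = s + 1 := by omega
    have e2 : s + 2 - 2 = s := by omega
    rw [e1, e2]
    have : (s + 1) ^ 2 = (s + 2) * s + 1 := by ring
    rw [this, Nat.add_sub_cancel]
  have hPf : P ∣ q ^ f - 1 := by
    refine dvd_trans ?_ hdiv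
    rw [hPdef]
    exact pow_dvd_pow p (Nat.le_add_right a j)
  have hPt : P ∣ q ^ (2 * m) - 1 := by
    rw [← htdef, ht1]
    exact dvd_mul_right _ _
  -- `2 m ∣ f`
  have hg : P ∣ q ^ Nat.gcd f (2 * m) - 1 := by
    rw [← Nat.pow_sub_one_gcd_pow_sub_one]
    exact Nat.dvd_gcd hPf hPt
  have hgpos : 0 < Nat.gcd f (2 * m) := Nat.gcd_pos_of_pos_left _ hf
  have hgdvd : Nat.gcd f (2 * m) ∣ 2 * m := Nat.gcd_dvd_right _ _
  have hg2m : Nat.gcd f (2 * m) = 2 * m := by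
    by_contra hne
    obtain ⟨c, hc⟩ := hgdvd
    have hc2 : 2 ≤ c := by
      rcases Nat.lt_or_ge c 2 with h | h
      · exfalso
        interval_cases c
        · omega
        · apply hne; omega
      · exact h
    have hle : Nat.gcd f (2 * m) ≤ m := by nlinarith
    have h1 : q ^ Nat.gcd f (2 * m) ≤ q ^ m := Nat.pow_le_pow_right (by omega) hle
    have h2 : 1 < q ^ Nat.gcd f (2 * m) := Nat.one_lt_pow hgpos.ne' hq1
    have h3 := Nat.le_of_dvd (by omega) hg
    omega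
  obtain ⟨e, he⟩ : 2 * m ∣ f := by
    rw [← hg2m]
    exact Nat.gcd_dvd_left _ _
  have he0 : e ≠ 0 := by
    rintro rfl
    rw [mul_zero] at he
    omega
  -- valuations
  have hqf : q ^ f - 1 = t ^ e - 1 ^ e := by
    rw [he, pow_mul, ← htdef, one_pow]
  have ht_gt : 1 < t := by
    rw [htdef]
    exact Nat.one_lt_pow (by omega) hq1
  have hpt1 : p ∣ t - 1 := by
    rw [ht1]
    exact dvd_mul_of_dvd_left hpP _
  have hpq : ¬ p ∣ q := by
    intro h
    have h1 : p ∣ q ^ m := dvd_pow h hm.ne'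
    rw [hqm] at h1
    have h2 : p ∣ P - (P - 1) := Nat.dvd_sub hpP h1
    have e1 : P - (P - 1) = 1 := by omega
    rw [e1] at h2
    exact hp.one_lt.ne' (Nat.dvd_one.mp h2)
  have hpt : ¬ p ∣ t := by
    rw [htdef]
    intro h
    exact hpq (hp.dvd_of_dvd_pow h)
  have hodd : Odd p := hp.odd_of_ne_two hp2
  have hval := padicValNat.pow_sub_pow hodd ht_gt hpt1 hpt he0
  have hvt : padicValNat p (t - 1) = a := by
    rw [ht1]
    have hP0 : P ≠ 0 := by omega
    have hP2 : P - 2 ≠ 0 := by omega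
    rw [padicValNat.mul hP0 hP2, hPdef, padicValNat.prime_pow]
    have h1 : ¬ p ∣ p ^ a - 2 := by
      intro h
      rw [← hPdef] at h
      have h2 : p ∣ P - (P - 2) := Nat.dvd_sub hpP h
      have e1 : P - (P - 2) = 2 := by omega
      rw [e1] at h2
      exact hp2 ((Nat.prime_dvd_prime_iff_eq hp Nat.prime_two).mp h2)
    rw [padicValNat.eq_zero_of_not_dvd h1, add_zero]
  have hne0 : q ^ f - 1 ≠ 0 := by
    have : 1 < q ^ f := Nat.one_lt_pow hf.ne' hq1
    omega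
  have hle := (padicValNat_dvd_iff_le hne0).mp hdiv
  rw [hqf, hval, hvt] at hle
  have hj : j ≤ padicValNat p e := by omega
  have hpje : p ^ j ∣ e := (padicValNat_dvd_iff_le he0).mpr hj
  have := Nat.le_of_dvd (Nat.pos_of_ne_zero he0) hpje
  rw [he]
  exact Nat.mul_le_mul_left _ this

end Cfsg.Agent.Lib.H19.SG
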