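import Mathlib
import Cfsg.Agent.Lib.H19.SG6
import Cfsg.Agent.Lib.H19.SG7
import Cfsg.Agent.Lib.H19.SG8

/-!
# Shult–Gross, part 9: auxiliary lemmas for the assembly (helper19)

* `restrictAut` : restriction of an automorphism to an invariant subgroup.
* `ext0`, `wtS_ext0` : weights as functions on the whole group.
* `exists_eq_inv_mul` : `b ↦ b⁻¹ φ(b)` is onto an invariant subgroup on which `φ` is fixed point
  free.
* `nrm` : the norm `u ψ(u) ⋯ ψ^{j-1}(u)`.
* `card_quot_orbits` : the orbit equation on `Q ⧸ N`.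
-/

set_option autoImplicit false
set_option linter.unusedSectionVars false
set_option linter.style.haveILetI false

namespace Cfsg.Agent.Lib.H19.SG

open Module Cfsg.Agent.Lib.H19.Ward Cfsg.Agent.Lib.H19.ModRep

variable {k : Type*} [Field k] {Q : Type*} [Group Q] {W : Type*} [AddCommGroup W] [Module k W]

/-- restriction of an automorphism to an invariant subgroup -/
def restrictAut (φ : MulAut Q) (H : Subgroup Q) (hH : ∀ u, φ u ∈ H ↔ u ∈ H) : MulAut ↥H where
  toFun u := ⟨φ u, (hH u).mpr u.2⟩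
  invFun u := ⟨φ⁻¹ u, by
    rw [← hH, MulAut.apply_inv_self]
    exact u.2⟩
  left_inv u := Subtype.ext (MulAut.inv_apply_self Q φ u)
  right_inv u := Subtype.ext (MulAut.apply_inv_self Q φ u)
  map_mul' u v := Subtype.ext (map_mul φ (u : Q) (v : Q))

@[simp] theorem restrictAut_coe (φ : MulAut Q) (H : Subgroup Q) (hH : ∀ u, φ u ∈ H ↔ u ∈ H)
    (u : H) : ((restrictAut φ H hH u : H) : Q) = φ (u : Q) := rfl

theorem restrictAut_pow_coe (φ : MulAut Q) (H : Subgroup Q) (hH : ∀ u, φ u ∈ H ↔ u ∈ H)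
    (i : ℕ) (u : H) : (((restrictAut φ H hH) ^ i) u : Q) = (φ ^ i) (u : Q) := by
  induction i generalizing u with
  | zero => simp
  | succ i ih =>
    rw [pow_succ, MulAut.mul_apply, ih, restrictAut_coe, pow_succ, MulAut.mul_apply]

/-- extension by zero of a function on a subgroup -/
noncomputable def ext0 {B : Subgroup Q} (χ : B → k) : Q → k := by
  classical
  exact fun u => if h : u ∈ B then χ ⟨u, h⟩ else 0

theorem ext0_apply {B : Subgroup Q} (χ : B → k) (b : B) : ext0 χ (b : Q) = χ b := by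
  unfold ext0
  rw [dif_pos b.2]

theorem wtS_ext0 (ρ : Representation k Q W) {B : Subgroup Q} (χ : B → k) :
    wtS ρ B (ext0 χ) = wtF (fun b : B => ρ (b : Q)) χ := by
  unfold wtS
  congr 1
  funext b
  exact ext0_apply χ b

/-- `b ↦ b⁻¹ φ(b)` is onto an invariant subgroup without fixed points -/
theorem exists_eq_inv_mul [Finite Q] {φ : MulAut Q} {B : Subgroup Q}
    (hB : ∀ u, φ u ∈ B ↔ u ∈ B) (hfix : ∀ u ∈ B, φ u = u → u = 1) :
    ∀ z ∈ B, ∃ b ∈ B, z = b⁻¹ * φ b := by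
  let f : B → B := fun b => ⟨(b : Q)⁻¹ * φ b, B.mul_mem (B.inv_mem b.2) ((hB b).mpr b.2)⟩
  have hinj : Function.Injective f := by
    intro b b' hbb
    have h1 : (b : Q)⁻¹ * φ b = (b' : Q)⁻¹ * φ b' := congrArg Subtype.val hbb
    have h2 : φ ((b' : Q) * (b : Q)⁻¹) = (b' : Q) * (b : Q)⁻¹ := by
      rw [map_mul, map_inv]
      calc φ b' * (φ b)⁻¹ = (b' : Q) * ((b' : Q)⁻¹ * φ b') * (φ b)⁻¹ := by group
        _ = (b' : Q) * ((b : Q)⁻¹ * φ b) * (φ b)⁻¹ := by rw [h1]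
        _ = (b' : Q) * (b : Q)⁻¹ := by group
    have h3 := hfix _ (B.mul_mem b'.2 (B.inv_mem b.2)) h2
    apply Subtype.ext
    exact (mul_inv_eq_one.mp h3).symm
  have hsurj : Function.Surjective f := Finite.surjective_of_injective hinj
  intro z hz
  obtain ⟨b, hb⟩ := hsurj ⟨z, hz⟩
  exact ⟨b, b.2, (congrArg Subtype.val hb).symm⟩

section norm

/-- the partial norm `u ψ(u) ⋯ ψ^{j-1}(u)` -/
def nrm (ψ : MulAut Q) : ℕ → Q → Q
  | 0, _ => 1
  | j + 1, u => nrm ψ j u * (ψ ^ j) u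

theorem apply_nrm (ψ : MulAut Q) (j : ℕ) (u : Q) : ψ (nrm ψ j u) = u⁻¹ * nrm ψ (j + 1) u := by
  induction j with
  | zero => simp [nrm]
  | succ j ih =>
    have e : nrm ψ (j + 1 + 1) u = nrm ψ (j + 1) u * (ψ ^ (j + 1)) u := rfl
    have e' : nrm ψ (j + 1) u = nrm ψ j u * (ψ ^ j) u := rfl
    rw [e', map_mul, ih, e, e', pow_succ', MulAut.mul_apply]
    group

theorem mk_nrm (ψ : MulAut Q) (N : Subgroup Q) [N.Normal] (hN : ∀ u, ψ u ∈ N ↔ u ∈ N) {u : Q}
    (h : ψ u * u⁻¹ ∈ N) (j : ℕ) :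
    (QuotientGroup.mk (nrm ψ j u) : Q ⧸ N) = (QuotientGroup.mk u) ^ j := by
  induction j with
  | zero => simp [nrm]
  | succ j ih =>
    have e : nrm ψ (j + 1) u = nrm ψ j u * (ψ ^ j) u := rfl
    rw [e, QuotientGroup.mk_mul, ih, pow_succ]
    congr 1
    rw [QuotientGroup.eq]
    have h1 := pow_fix_mod hN h j
    have h2 := ‹N.Normal›.conj_mem _ (N.inv_mem h1) u⁻¹
    have e2 : u⁻¹ * ((ψ ^ j) u * u⁻¹)⁻¹ * u⁻¹⁻¹ = ((ψ ^ j) u)⁻¹ * u := by group
    rwa [e2] at h2

end norm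

/-- the orbit equation for a cyclic group acting freely on `Q ⧸ N` -/
theorem card_quot_orbits [Finite Q] {φ : MulAut Q} {P : ℕ} (hP : 0 < P) (hφP : φ ^ P = 1)
    (N : Subgroup Q) [N.Normal] (hN : ∀ u, φ u ∈ N ↔ u ∈ N) (hne : N ≠ ⊤)
    (hfree : ∀ i, 0 < i → i < P → ∀ u : Q, (φ ^ i) u * u⁻¹ ∈ N → u ∈ N) :
    ∃ n' : ℕ, n' * P = Nat.card (Q ⧸ N) + (P - 1) := by
  classical
  haveI : Fintype (Q ⧸ N) := Fintype.ofFinite _
  have hmap : N.map φ.toMonoidHom = N := by
    ext u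
    constructor
    · rintro ⟨u₀, hu₀, rfl⟩
      exact (hN u₀).mpr hu₀
    · intro hu
      refine ⟨φ⁻¹ u, ?_, MulAut.apply_inv_self Q φ u⟩
      show φ⁻¹ u ∈ N
      rw [← hN, MulAut.apply_inv_self]
      exact hu
  let σ : Equiv.Perm (Q ⧸ N) := (QuotientGroup.congr N N φ hmap).toEquiv
  have hσmk : ∀ u : Q, σ (QuotientGroup.mk u) = QuotientGroup.mk (φ u) := fun u => rfl
  have hσpow : ∀ (i : ℕ) (u : Q), (σ ^ i) (QuotientGroup.mk u) = QuotientGroup.mk ((φ ^ i) u) := by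
    intro i
    induction i with
    | zero => intro u; simp
    | succ i ih =>
      intro u
      rw [pow_succ', Equiv.Perm.mul_apply, ih, hσmk, pow_succ', MulAut.mul_apply]
  have hσP : σ ^ P = 1 := by
    ext ū
    induction ū using QuotientGroup.induction_on with
    | H u => rw [hσpow, hφP]; rfl
  have hσone : σ 1 = 1 := by
    have : (1 : Q ⧸ N) = QuotientGroup.mk (1 : Q) := rfl
    rw [this, hσmk, map_one]
  have hσfree : ∀ i, 0 < i → i < P → ∀ ū : Q ⧸ N, (σ ^ i) ū = ū → ū = 1 := by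
    intro i hi0 hiP ū
    induction ū using QuotientGroup.induction_on with
    | H u =>
      intro hfix
      rw [hσpow, eq_comm, QuotientGroup.eq] at hfix
      have h1 : (φ ^ i) u * u⁻¹ ∈ N := by
        have := ‹N.Normal›.conj_mem _ hfix u
        have e : u * (u⁻¹ * (φ ^ i) u) * u⁻¹ = (φ ^ i) u * u⁻¹ := by group
        rwa [e] at this
      exact (QuotientGroup.eq_one_iff u).mpr (hfree i hi0 hiP u h1)
  obtain ⟨ū₁, hū₁⟩ : ∃ ū : Q ⧸ N, ū ≠ 1 := by
    by_contra hcon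
    push Not at hcon
    apply hne
    rw [eq_top_iff]
    intro u _
    exact (QuotientGroup.eq_one_iff u).mp (hcon _)
  have horb := card_orbits_mul' σ hP hσP ({1} : Finset (Q ⧸ N))
    (by
      intro ū hx
      rw [Finset.mem_singleton] at hx
      rw [hx, hσone])
    (by
      intro i hi0 hiP ū hx
      rw [Finset.mem_singleton]
      exact hσfree i hi0 hiP ū hx)
    ⟨ū₁, by rw [Finset.mem_singleton]; exact hū₁⟩
  rw [Finset.card_singleton, mul_one] at horb
  exact ⟨_, by rw [Nat.card_eq_fintype_card (α := Q ⧸ N)]; exact horb⟩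

end Cfsg.Agent.Lib.H19.SG
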