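import Mathlib
import Cfsg.Agent.Lib.H19.SG9

/-!
# Shult–Gross, part 10: the count for one weight of the centre (helper19)

`lam_count` : in a minimal nonabelian configuration, for a weight `lam` of `Z(Q)` on `W` whose
stabilizer in `⟨φ⟩` is generated by `φ ^ (p ^ j)`, the radical
`R = {u | ∀ v, lam [v, u] = 1}` is a subgroup with `|Q : R| = (p ^ (n - j) - 1)²` (unless `R = Q`).
-/

set_option autoImplicit false
set_option linter.unusedSectionVars false
set_option linter.style.haveILetI false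
set_option maxHeartbeats 1000000

namespace Cfsg.Agent.Lib.H19.SG

open Module Cfsg.Agent.Lib.H19.Ward Cfsg.Agent.Lib.H19.ModRep

variable {k : Type*} [Field k] {Q : Type*} [Group Q] {W : Type*} [AddCommGroup W] [Module k W]

theorem restrict_pow_coe {T : Module.End k W} {U : Submodule k W} (hU : ∀ w ∈ U, T w ∈ U)
    (m : ℕ) (w : U) : (((T.restrict hU) ^ m) w : W) = (T ^ m) (w : W) := by
  induction m generalizing w with
  | zero => simp
  | succ m ih =>
    rw [pow_succ, Module.End.mul_apply, ih, LinearMap.coe_restrict_apply, pow_succ,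
      Module.End.mul_apply]

theorem lam_count [IsAlgClosed k] [FiniteDimensional k W] [Finite Q]
    {p q n : ℕ} [Fact p.Prime] [Fact q.Prime] (hp2 : p ≠ 2)
    (hpk : (p : k) ≠ 0) (hk : (Nat.card Q : k) ≠ 0)
    {ρ : Representation k Q W} {φ : MulAut Q} {T : Module.End k W}
    (h : Tw ρ φ T (p ^ n))
    (hM : MinHyp φ (φ ^ (p ^ (n - 1))) p q)
    (hna : Subgroup.center Q ≠ ⊤)
    (hfpf : ∀ w, T w = w → w = 0)
    (lam : Q → k) (hW : wtS ρ (Subgroup.center Q) lam ≠ ⊥)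
    {j : ℕ} (hjn : j < n)
    (hstab : ∀ b ∈ Subgroup.center Q, lam ((φ ^ (p ^ j)) b) = lam b)
    (hmin : ∀ l < j, ∃ b ∈ Subgroup.center Q, lam ((φ ^ (p ^ l)) b) ≠ lam b) :
    ∃ R : Subgroup Q, Subgroup.center Q ≤ R ∧
      (∀ u, u ∈ R ↔ ∀ v : Q, lam (v * u * v⁻¹ * u⁻¹) = 1) ∧
      (∀ u, (φ ^ (p ^ j)) u ∈ R ↔ u ∈ R) ∧
      (R ≠ ⊤ → R.index = (p ^ (n - j) - 1) ^ 2) := by
  classical
  have hp : p.Prime := Fact.out
  have hq : q.Prime := Fact.out
  obtain ⟨ψ, hψdef⟩ : ∃ ψ : MulAut Q, ψ = φ ^ (p ^ (n - 1)) := ⟨_, rfl⟩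
  rw [← hψdef] at hM
  obtain ⟨Z, hZdef⟩ : ∃ Z : Subgroup Q, Z = Subgroup.center Q := ⟨_, rfl⟩
  rw [← hZdef] at hna hW hstab hmin ⊢
  have hcz : ∀ z ∈ Z, ∀ g : Q, g * z = z * g := by
    intro z hz g
    rw [hZdef] at hz
    exact Subgroup.mem_center_iff.mp hz g
  have hZinv : ∀ u, φ u ∈ Z ↔ u ∈ Z := by rw [hZdef]; exact MinHyp.center_inv φ
  have hcommZ : ∀ b ∈ Z, ∀ b' ∈ Z, Commute (ρ b) (ρ b') := by
    intro b hb b' _
    show ρ b * ρ b' = ρ b' * ρ b
    rw [← map_mul, ← map_mul, hcz b hb b']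
  have hcomZ : ∀ u v : Q, u * v * u⁻¹ * v⁻¹ ∈ Z := by
    intro u v
    rw [hZdef]
    exact hM.commutator_mem_center u v
  -- the weight space
  obtain ⟨Wl, hWldef⟩ : ∃ Wl : Submodule k W, Wl = wtS ρ Z lam := ⟨_, rfl⟩
  rw [← hWldef] at hW
  have hlam : ∀ z ∈ Z, ∀ w ∈ Wl, ρ z w = lam z • w := by
    intro z hz w hw
    rw [hWldef, mem_wtS] at hw
    exact hw z hz
  have hWinv : Inv ρ Wl := by
    intro u w hw
    rw [hWldef, mem_wtS]
    intro z hz
    have h1 : ρ z (ρ u w) = ρ u (ρ z w) := by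
      rw [← Module.End.mul_apply, ← Module.End.mul_apply, ← map_mul, ← map_mul, hcz z hz u]
    rw [h1, hlam z hz w hw, map_smul]
  obtain ⟨w₀, hw₀, hw₀0⟩ := Submodule.exists_mem_ne_zero_of_ne_bot hW
  have hlam_mul : ∀ z ∈ Z, ∀ z' ∈ Z, lam (z * z') = lam z * lam z' := by
    intro z hz z' hz'
    have h1 := hlam (z * z') (Z.mul_mem hz hz') w₀ hw₀
    rw [map_mul, Module.End.mul_apply, hlam z' hz' w₀ hw₀, map_smul, hlam z hz w₀ hw₀,
      smul_smul, mul_comm] at h1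
    exact (smul_left_injective k hw₀0 h1).symm
  -- the stabilizer
  obtain ⟨φ₁, hφ₁def⟩ : ∃ φ₁ : MulAut Q, φ₁ = φ ^ (p ^ j) := ⟨_, rfl⟩
  obtain ⟨T₁, hT₁def⟩ : ∃ T₁ : Module.End k W, T₁ = T ^ (p ^ j) := ⟨_, rfl⟩
  rw [← hφ₁def] at hstab
  have hZinv₁ : ∀ u, φ₁ u ∈ Z ↔ u ∈ Z := by
    intro u
    rw [hφ₁def]
    exact pow_mem_iff hZinv _ u
  have hstab' : ∀ b ∈ Z, lam (φ₁⁻¹ b) = lam b := by
    intro b hb
    have h1 : φ₁⁻¹ b ∈ Z := by
      rw [← hZinv₁, MulAut.apply_inv_self]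
      exact hb
    have h2 := hstab _ h1
    rw [MulAut.apply_inv_self] at h2
    exact h2.symm
  have hT₁maps : ∀ w ∈ Wl, T₁ w ∈ Wl := by
    intro w hw
    rw [hWldef] at hw ⊢
    have h1 := pow_mem_wtS h hZinv hw (p ^ j)
    rw [mem_wtS] at h1 ⊢
    intro b hb
    rw [hT₁def, h1 b hb, ← hφ₁def, hstab' b hb]
  have hT₁fpf : ∀ w ∈ Wl, T₁ w = w → w = 0 := by
    rw [hWldef, hT₁def]
    rw [hφ₁def] at hstab
    exact fpf_on_weight hk h hZinv hcommZ lam hp hstab hmin hfpf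
  -- the restricted situation
  obtain ⟨P₁, hP₁def⟩ : ∃ P₁ : ℕ, P₁ = p ^ (n - j) := ⟨_, rfl⟩
  have hPP : p ^ j * P₁ = p ^ n := by
    rw [hP₁def, ← pow_add]
    congr 1
    omega
  have hTw₁ : Tw ρ φ₁ T₁ P₁ := by
    rw [hφ₁def, hT₁def]
    exact h.pow hPP
  obtain ⟨ρl, hρldef⟩ : ∃ ρl : Representation k Q Wl, ρl = ModRep.sub ρ Wl hWinv := ⟨_, rfl⟩
  have hρl : ∀ (u : Q) (w : Wl), ((ρl u w : Wl) : W) = ρ u (w : W) := by
    intro u w
    rw [hρldef]
    rfl
  obtain ⟨Tl, hTldef⟩ : ∃ Tl : Module.End k Wl, Tl = T₁.restrict hT₁maps := ⟨_, rfl⟩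
  have hTl : ∀ w : Wl, ((Tl w : Wl) : W) = T₁ (w : W) := by
    intro w
    rw [hTldef]
    rfl
  have hTlpow : ∀ (m : ℕ) (w : Wl), (((Tl ^ m) w : Wl) : W) = (T₁ ^ m) (w : W) := by
    intro m w
    rw [hTldef]
    exact restrict_pow_coe hT₁maps m w
  have hTwl : Tw ρl φ₁ Tl P₁ :=
    { hT := by
        apply LinearMap.ext
        intro w
        apply Subtype.ext
        rw [hTlpow, hTw₁.hT]
        rfl
      hφ := hTw₁.hφ
      htw := by
        intro u
        apply LinearMap.ext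
        intro w
        apply Subtype.ext
        rw [Module.End.mul_apply, Module.End.mul_apply, hTl, hρl, hρl, hTl]
        have := congrArg (fun f : Module.End k W => f (w : W)) (hTw₁.htw u)
        simpa using this }
  have hTlfpf : ∀ w : Wl, Tl w = w → w = 0 := by
    intro w hw
    apply Subtype.ext
    apply hT₁fpf _ w.2
    rw [← hTl, hw]
  haveI : Nontrivial Wl := Submodule.nontrivial_iff_ne_bot.mpr hW
  have hρlZ : ∀ z ∈ Z, ρl z = lam z • (1 : Module.End k Wl) := by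
    intro z hz
    apply LinearMap.ext
    intro w
    apply Subtype.ext
    rw [hρl, hlam z hz _ w.2]
    rfl
  have hrel : ∀ v u : Q, ρl v * ρl u = lam (v * u * v⁻¹ * u⁻¹) • (ρl u * ρl v) := by
    intro v u
    have h2 : ρl v * ρl u = ρl (v * u * v⁻¹ * u⁻¹) * (ρl u * ρl v) := by
      rw [← map_mul, ← map_mul, ← map_mul]
      congr 1
      group
    rw [h2, hρlZ _ (hcomZ v u), smul_mul_assoc, one_mul]
  -- the radical
  let R : Subgroup Q :=
    { carrier := {u | ∀ v : Q, ρl v * ρl u = ρl u * ρl v}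
      one_mem' := by
        intro v
        rw [map_one, mul_one, one_mul]
      mul_mem' := by
        intro a b ha hb v
        rw [map_mul, ← mul_assoc, ha v, mul_assoc, hb v, mul_assoc]
      inv_mem' := by
        intro a ha v
        have h1 := ha v
        calc ρl v * ρl a⁻¹ = ρl a⁻¹ * (ρl a * ρl v) * ρl a⁻¹ := by
              rw [← mul_assoc, apply_inv_mul, one_mul]
          _ = ρl a⁻¹ * (ρl v * ρl a) * ρl a⁻¹ := by rw [h1]
          _ = ρl a⁻¹ * ρl v := by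
              rw [mul_assoc, mul_assoc, apply_mul_inv, mul_one] }
  have hRmem : ∀ u, u ∈ R ↔ ∀ v : Q, ρl v * ρl u = ρl u * ρl v := fun u => Iff.rfl
  have hRchar : ∀ u, u ∈ R ↔ ∀ v : Q, lam (v * u * v⁻¹ * u⁻¹) = 1 := by
    intro u
    rw [hRmem]
    constructor
    · intro hu v
      have h1 := hrel v u
      rw [hu v] at h1
      have hne0 : ρl u * ρl v ≠ 0 := by
        rw [← map_mul]
        exact apply_ne_zero ρl _
      have h2 : (1 : k) • (ρl u * ρl v) = lam (v * u * v⁻¹ * u⁻¹) • (ρl u * ρl v) := by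
        rw [one_smul]
        exact h1
      exact (smul_left_injective k hne0 h2).symm
    · intro hu v
      rw [hrel v u, hu v, one_smul]
  have hZR : Z ≤ R := by
    intro z hz
    rw [hRmem]
    intro v
    rw [hρlZ z hz, mul_smul_comm, mul_one, smul_mul_assoc, one_mul]
  haveI hRn : R.Normal := by
    constructor
    intro x hx g
    have e : g * x * g⁻¹ = (g * x * g⁻¹ * x⁻¹) * x := by group
    rw [e]
    exact R.mul_mem (hZR (hcomZ g x)) hx
  have hRφ₁ : ∀ u, φ₁ u ∈ R ↔ u ∈ R := by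
    intro u
    rw [hRchar, hRchar]
    constructor
    · intro hu v
      have h1 := hu (φ₁ v)
      rw [← map_inv, ← map_inv, ← map_mul, ← map_mul, ← map_mul, hstab _ (hcomZ v u)] at h1
      exact h1
    · intro hu v
      have h1 := hu (φ₁⁻¹ v)
      have h2 := hstab _ (hcomZ (φ₁⁻¹ v) u)
      rw [map_mul, map_mul, map_mul, map_inv, map_inv, MulAut.apply_inv_self] at h2
      rw [h2]
      exact h1
  -- `ψ` as a power of `φ₁`
  have hnj : n - 1 = j + (n - j - 1) := by omega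
  have hψ₁ : ψ = φ₁ ^ (p ^ (n - j - 1)) := by
    rw [hψdef, hφ₁def, ← pow_mul, ← pow_add, ← hnj]
  have hRψ : ∀ u, ψ u ∈ R ↔ u ∈ R := by
    intro u
    rw [hψ₁]
    exact pow_mem_iff hRφ₁ _ u
  have hcommR : ∀ b ∈ R, ∀ b' ∈ R, Commute (ρl b) (ρl b') := by
    intro b _ b' hb'
    exact (hb' b)
  -- Step 6: `ρl (ψ u) = ρl u` on `R`
  have hψR : ∀ u ∈ R, ρl (ψ u) = ρl u := by
    intro u hu
    have hss : ∀ b : R, Module.End.IsSemisimple (ρl (b : Q)) := fun b => isSemisimple_apply hk ρl b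
    have hcomm' : ∀ b b' : R, Commute (ρl (b : Q)) (ρl (b' : Q)) :=
      fun b b' => hcommR b b.2 b' b'.2
    apply ext_of_wtF hss hcomm'
    intro χ' m hm
    by_cases hm0 : m = 0
    · rw [hm0, map_zero, map_zero]
    rw [← wtS_ext0] at hm
    obtain ⟨mu, hmudef⟩ : ∃ mu : Q → k, mu = ext0 χ' := ⟨_, rfl⟩
    rw [← hmudef] at hm
    have hmu : ∀ b ∈ R, ρl b m = mu b • m := mem_wtS.mp hm
    have hex : ∃ i, ∀ b ∈ R, mu ((φ₁ ^ (p ^ i)) b) = mu b := by
      refine ⟨n - j, fun b _ => ?_⟩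
      rw [← hP₁def, hTw₁.hφ, MulAut.one_apply]
    have hi₀s := Nat.find_spec hex
    have hi₀m : ∀ l < Nat.find hex, ∃ b ∈ R, mu ((φ₁ ^ (p ^ l)) b) ≠ mu b := by
      intro l hl
      have := Nat.find_min hex hl
      push Not at this
      exact this
    have hi₀le : Nat.find hex ≤ n - j := Nat.find_min' hex (by
      intro b _
      rw [← hP₁def, hTw₁.hφ, MulAut.one_apply])
    have hfw := fpf_on_weight hk hTwl hRφ₁ hcommR mu hp hi₀s hi₀m hTlfpf m hm
    have hi₀lt : Nat.find hex < n - j := by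
      rcases Nat.lt_or_ge (Nat.find hex) (n - j) with hlt | hge
      · exact hlt
      · exfalso
        have heq : Nat.find hex = n - j := le_antisymm hi₀le hge
        apply hm0
        apply hfw
        rw [heq, ← hP₁def, hTwl.hT, Module.End.one_apply]
    -- periods are closed under powers
    have hper : ∀ (e : ℕ), ∀ b ∈ R, mu (((φ₁ ^ (p ^ Nat.find hex)) ^ e) b) = mu b := by
      intro e
      induction e with
      | zero => intro b _; simp
      | succ e ih =>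
        intro b hb
        rw [pow_succ, MulAut.mul_apply, ih _ ((pow_mem_iff hRφ₁ _ b).mpr hb), hi₀s b hb]
    have hψper : ∀ b ∈ R, mu (ψ b) = mu b := by
      intro b hb
      have e1 : ψ = (φ₁ ^ (p ^ Nat.find hex)) ^ (p ^ (n - j - 1 - Nat.find hex)) := by
        rw [hψ₁, ← pow_mul, ← pow_add]
        congr 2
        omega
      rw [e1]
      exact hper _ b hb
    rw [hmu _ ((hRψ u).mpr hu), hmu u hu, hψper u hu]
  -- Step 7: scalars
  have hψpowR : ∀ (l : ℕ), ∀ u ∈ R, ρl ((ψ ^ l) u) = ρl u := by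
    intro l
    induction l with
    | zero => intro u _; simp
    | succ l ih =>
      intro u hu
      rw [pow_succ, MulAut.mul_apply, ih _ ((hRψ u).mpr hu), hψR u hu]
  have hnrmR : ∀ (l : ℕ), ∀ u ∈ R, ρl (nrm ψ l u) = (ρl u) ^ l := by
    intro l
    induction l with
    | zero => intro u _; simp [nrm]
    | succ l ih =>
      intro u hu
      have e : nrm ψ (l + 1) u = nrm ψ l u * (ψ ^ l) u := rfl
      rw [e, map_mul, ih u hu, hψpowR l u hu, pow_succ]
  have hnrmZ : ∀ u : Q, nrm ψ p u ∈ Z := by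
    intro u
    rw [hZdef]
    rw [hZdef] at hna
    apply hM.mem_center_of_fix hna
    rw [apply_nrm]
    have e : nrm ψ (p + 1) u = nrm ψ p u * (ψ ^ p) u := rfl
    rw [e, hM.hψp, MulAut.one_apply]
    have e2 : u⁻¹ * (nrm ψ p u * u) * (nrm ψ p u)⁻¹ = u⁻¹ * nrm ψ p u * u⁻¹⁻¹ * (nrm ψ p u)⁻¹ := by
      group
    rw [e2]
    exact hM.commutator_mem_center _ _
  have hscal : ∀ u ∈ R, ∃ c : k, ρl u = c • (1 : Module.End k Wl) := by
    intro u hu
    have h1 : (ρl u) ^ p = lam (nrm ψ p u) • (1 : Module.End k Wl) := by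
      rw [← hnrmR p u hu, hρlZ _ (hnrmZ u)]
    obtain ⟨b, hb⟩ := hM.hq u
    rcases Nat.lt_or_ge 1 (q ^ b) with hqb | hqb
    · have hcop : Nat.Coprime p (q ^ b) :=
        Nat.Coprime.pow_right b ((Nat.coprime_primes hp hq).mpr hM.hpq)
      obtain ⟨p', -, hp'⟩ := Nat.exists_mul_mod_eq_one_of_coprime hcop hqb
      have h2 : u ^ (p * p') = u := by
        rw [pow_eq_pow_mod _ hb, hp', pow_one]
      refine ⟨lam (nrm ψ p u) ^ p', ?_⟩
      calc ρl u = ρl (u ^ (p * p')) := by rw [h2]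
        _ = ((ρl u) ^ p) ^ p' := by rw [map_pow, pow_mul]
        _ = lam (nrm ψ p u) ^ p' • (1 : Module.End k Wl) := by
            rw [h1, smul_pow, one_pow]
    · have hqb1 : q ^ b = 1 := le_antisymm hqb (Nat.one_le_pow _ _ hq.pos)
      rw [hqb1, pow_one] at hb
      exact ⟨1, by rw [hb, map_one, one_smul]⟩
  -- Step 8
  let Λ : Q → k := fun u => if hc : ∃ c : k, ρl u = c • (1 : Module.End k Wl) then hc.choose else 0
  have hΛ : ∀ u ∈ R, ρl u = Λ u • (1 : Module.End k Wl) := by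
    intro u hu
    have hc := hscal u hu
    show ρl u = (if hc : ∃ c : k, ρl u = c • (1 : Module.End k Wl) then hc.choose else 0) • 1
    rw [dif_pos hc]
    exact hc.choose_spec
  have hX : XHyp ρl R Λ :=
    { hΛ := hΛ
      hQR := fun u v => hZR (hcomZ u v)
      hnd := by
        intro u hu
        rw [hRmem]
        intro v
        have h1 : ρl (v * u * v⁻¹ * u⁻¹) = 1 := by
          rw [hΛ _ (hZR (hcomZ v u)), hu v, one_smul]
        have h2 : ρl v * ρl u = ρl (v * u * v⁻¹ * u⁻¹) * (ρl u * ρl v) := by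
          rw [← map_mul, ← map_mul, ← map_mul]
          congr 1
          group
        rw [h2, h1, one_mul] }
  refine ⟨R, hZR, hRchar, by rw [← hφ₁def]; exact hRφ₁, ?_⟩
  intro hRne
  have hφ₁P : φ₁ ^ (p ^ (n - j)) = 1 := by
    rw [← hP₁def]
    exact hTw₁.hφ
  have hfree : ∀ i, 0 < i → i < P₁ → ∀ u : Q, (φ₁ ^ i) u * u⁻¹ ∈ R → u ∈ R := by
    intro i hi0 hiP u hu
    rw [hP₁def] at hiP
    have hnj0 : 0 < n - j := by omega
    obtain ⟨m, hm⟩ := exists_pow_eq_psi hp hnj0 hφ₁P hi0 hiP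
    have hRi : ∀ x, (φ₁ ^ i) x ∈ R ↔ x ∈ R := fun x => pow_mem_iff hRφ₁ i x
    have h1 := pow_fix_mod hRi hu m
    rw [hm, ← hψ₁] at h1
    -- `ψ u * u⁻¹ ∈ R`
    have h2 := mk_nrm ψ R hRψ h1 p
    have h3 : (QuotientGroup.mk (nrm ψ p u) : Q ⧸ R) = 1 :=
      (QuotientGroup.eq_one_iff _).mpr (hZR (hnrmZ u))
    rw [h3] at h2
    have h4 : (QuotientGroup.mk u : Q ⧸ R) = 1 := by
      obtain ⟨b, hb⟩ := hM.hq u
      have h5 : (QuotientGroup.mk u : Q ⧸ R) ^ q ^ b = 1 := by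
        rw [← QuotientGroup.mk_pow, hb]
        rfl
      have h6 : orderOf (QuotientGroup.mk u : Q ⧸ R) ∣ p := orderOf_dvd_of_pow_eq_one h2.symm
      have h7 : orderOf (QuotientGroup.mk u : Q ⧸ R) ∣ q ^ b := orderOf_dvd_of_pow_eq_one h5
      have h8 : Nat.Coprime p (q ^ b) :=
        Nat.Coprime.pow_right b ((Nat.coprime_primes hp hq).mpr hM.hpq)
      exact orderOf_eq_one_iff.mp (Nat.eq_one_of_dvd_coprimes h8 h6 h7)
    exact (QuotientGroup.eq_one_iff u).mp h4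
  have hcount := extra_count hk hTwl hp hp2 hP₁def hpk hX hRφ₁ hfree hRne hTlfpf
  rw [Subgroup.index, hcount, hP₁def]

end Cfsg.Agent.Lib.H19.SG
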