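import Mathlib
import Cfsg.Agent.Lib.H19.SG10

/-!
# Shult–Gross, part 11: a minimal configuration does not exist (helper19)
-/

set_option autoImplicit false
set_option linter.unusedSectionVars false
set_option linter.style.haveILetI false
set_option maxHeartbeats 1000000

namespace Cfsg.Agent.Lib.H19.SG

open Module Cfsg.Agent.Lib.H19.Ward Cfsg.Agent.Lib.H19.ModRep

variable {k : Type*} [Field k] {Q : Type*} [Group Q] {W : Type*} [AddCommGroup W] [Module k W]

/-- a weight with nonzero weight space is multiplicative -/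
theorem lam_mul {ρ : Representation k Q W} {B : Subgroup Q} {lam : Q → k}
    (hW : wtS ρ B lam ≠ ⊥) : (∀ z ∈ B, ∀ z' ∈ B, lam (z * z') = lam z * lam z') ∧ lam 1 = 1 := by
  obtain ⟨w₀, hw₀, hw₀0⟩ := Submodule.exists_mem_ne_zero_of_ne_bot hW
  rw [mem_wtS] at hw₀
  constructor
  · intro z hz z' hz'
    have h1 := hw₀ (z * z') (B.mul_mem hz hz')
    rw [map_mul, Module.End.mul_apply, hw₀ z' hz', map_smul, hw₀ z hz, smul_smul, mul_comm] at h1
    exact (smul_left_injective k hw₀0 h1).symm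
  · have h1 := hw₀ 1 B.one_mem
    rw [map_one, Module.End.one_apply] at h1
    have h2 : (1 : k) • w₀ = lam 1 • w₀ := by rw [one_smul]; exact h1
    exact (smul_left_injective k hw₀0 h2).symm

theorem min_case [IsAlgClosed k] [FiniteDimensional k W] [Finite Q]
    {p q n : ℕ} [Fact p.Prime] [Fact q.Prime] (hp2 : p ≠ 2) (hn : 0 < n)
    (hpk : (p : k) ≠ 0) (hk : (Nat.card Q : k) ≠ 0)
    {ρ : Representation k Q W} {φ : MulAut Q} {T : Module.End k W}
    (h : Tw ρ φ T (p ^ n))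
    (hM : MinHyp φ (φ ^ (p ^ (n - 1))) p q)
    (hfaith : ∀ u, ρ u = 1 → u = 1)
    (hfixQ : ∀ u, φ u = u → u = 1)
    (hfpf : ∀ w, T w = w → w = 0) : False := by
  classical
  have hp : p.Prime := Fact.out
  have hq : q.Prime := Fact.out
  have hPpos : 0 < p ^ n := pow_pos hp.pos n
  obtain ⟨ψ, hψdef⟩ : ∃ ψ : MulAut Q, ψ = φ ^ (p ^ (n - 1)) := ⟨_, rfl⟩
  have hM' := hM
  rw [← hψdef] at hM
  -- powers of `φ` have `ψ` among their powers
  have hpowψ : ∀ i, 0 < i → i < p ^ n → ∃ m : ℕ, (φ ^ i) ^ m = ψ := by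
    intro i hi0 hi
    rw [hψdef]
    exact exists_pow_eq_psi hp hn h.hφ hi0 hi
  by_cases hab : Subgroup.center Q = ⊤
  · -- the abelian case
    have hab' : ∀ u v : Q, u * v = v * u := by
      intro u v
      have : v ∈ Subgroup.center Q := by rw [hab]; exact Subgroup.mem_top v
      exact Subgroup.mem_center_iff.mp this u
    have hfree : ∀ i, 0 < i → i < p ^ n → ∀ u : Q, (φ ^ i) u = u → u = 1 := by
      intro i hi0 hi u hu
      obtain ⟨m, hm⟩ := hpowψ i hi0 hi
      apply hM.eq_one_of_fix hab'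
      rw [← hm]
      have : ∀ m : ℕ, ((φ ^ i) ^ m) u = u := by
        intro m
        induction m with
        | zero => simp
        | succ m ih => rw [pow_succ, MulAut.mul_apply, hu, ih]
      exact this m
    obtain ⟨u, hu⟩ := hM.hψ
    apply hu
    have := hfaith u (frob_kill hk hPpos h hfree hfpf u)
    rw [this, map_one]
  -- the nonabelian case
  obtain ⟨Z, hZdef⟩ : ∃ Z : Subgroup Q, Z = Subgroup.center Q := ⟨_, rfl⟩
  have hna : Z ≠ ⊤ := by rw [hZdef]; exact hab
  have hcz : ∀ z ∈ Z, ∀ g : Q, g * z = z * g := by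
    intro z hz g
    rw [hZdef] at hz
    exact Subgroup.mem_center_iff.mp hz g
  have hZinv : ∀ u, φ u ∈ Z ↔ u ∈ Z := by rw [hZdef]; exact MinHyp.center_inv φ
  have hcomZ : ∀ u v : Q, u * v * u⁻¹ * v⁻¹ ∈ Z := by
    intro u v
    rw [hZdef]
    exact hM.commutator_mem_center u v
  have hψZ : ∀ z ∈ Z, ψ z = z := hM.hmin Z hZinv hna
  have hssZ : ∀ b : Z, Module.End.IsSemisimple (ρ (b : Q)) := fun b => isSemisimple_apply hk ρ b
  have hcommZ : ∀ b b' : Z, Commute (ρ (b : Q)) (ρ (b' : Q)) := by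
    intro b b'
    show ρ (b : Q) * ρ (b' : Q) = ρ (b' : Q) * ρ (b : Q)
    rw [← map_mul, ← map_mul, hcz b b.2 b']
  -- (B1) a weight which is nontrivial on a commutator
  obtain ⟨lam, hW, u₀, v₀, hc₀⟩ : ∃ lam : Q → k, wtS ρ Z lam ≠ ⊥ ∧
      ∃ u v : Q, lam (u * v * u⁻¹ * v⁻¹) ≠ 1 := by
    by_contra hcon
    push Not at hcon
    apply hab
    rw [eq_top_iff]
    intro v _
    rw [Subgroup.mem_center_iff]
    intro u
    have h1 : ρ (u * v * u⁻¹ * v⁻¹) = 1 := by
      apply ext_of_wtF hssZ hcommZ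
      intro χ' m hm
      rw [Module.End.one_apply]
      by_cases hm0 : m = 0
      · rw [hm0, map_zero]
      rw [← wtS_ext0] at hm
      have hne : wtS ρ Z (ext0 χ') ≠ ⊥ := by
        intro hbot
        rw [hbot, Submodule.mem_bot] at hm
        exact hm0 hm
      rw [mem_wtS.mp hm _ (hcomZ u v), hcon _ hne u v, one_smul]
    have h2 := hfaith _ h1
    calc u * v = (u * v * u⁻¹ * v⁻¹) * (v * u) := by group
      _ = v * u := by rw [h2, one_mul]
  obtain ⟨hlam_mul, hlam_one⟩ := lam_mul hW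
  -- (B2) the stabilizer
  have hex : ∃ i, ∀ b ∈ Z, lam ((φ ^ (p ^ i)) b) = lam b := by
    refine ⟨n - 1, fun b hb => ?_⟩
    rw [← hψdef, hψZ b hb]
  obtain ⟨j, hjdef⟩ : ∃ j, j = Nat.find hex := ⟨_, rfl⟩
  have hstab : ∀ b ∈ Z, lam ((φ ^ (p ^ j)) b) = lam b := by
    rw [hjdef]
    exact Nat.find_spec hex
  have hmin : ∀ l < j, ∃ b ∈ Z, lam ((φ ^ (p ^ l)) b) ≠ lam b := by
    intro l hl
    rw [hjdef] at hl
    have := Nat.find_min hex hl
    push Not at this
    exact this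
  have hjn : j < n := by
    have : j ≤ n - 1 := by
      rw [hjdef]
      exact Nat.find_min' hex (fun b hb => by rw [← hψdef, hψZ b hb])
    omega
  have hsurjZ := exists_eq_inv_mul hZinv (fun u _ => hfixQ u)
  have hlam_inv : ∀ b ∈ Z, lam b⁻¹ * lam b = 1 := by
    intro b hb
    rw [← hlam_mul _ (Z.inv_mem hb) _ hb, inv_mul_cancel, hlam_one]
  -- (B3) `j ≠ 0`
  have hj0 : j ≠ 0 := by
    intro hj0
    rw [hj0, pow_zero, pow_one] at hstab
    apply hc₀
    obtain ⟨b, hb, hbe⟩ := hsurjZ _ (hcomZ u₀ v₀)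
    rw [hbe, hlam_mul _ (Z.inv_mem hb) _ ((hZinv b).mpr hb), hstab b hb, hlam_inv b hb]
  -- (B4) the radical
  rw [hZdef] at hW hstab hmin
  obtain ⟨R, hZR, hRchar, hRφ₁, hRidx⟩ := lam_count hp2 hpk hk h hM' hab hfpf lam hW hjn hstab hmin
  rw [← hZdef] at hW hstab hmin hZR
  have hRne : R ≠ ⊤ := by
    intro htop
    apply hc₀
    have : v₀ ∈ R := by rw [htop]; exact Subgroup.mem_top v₀
    exact (hRchar v₀).mp this u₀
  have hidx := hRidx hRne
  haveI hRn : R.Normal := by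
    constructor
    intro x hx g
    have e : g * x * g⁻¹ = (g * x * g⁻¹ * x⁻¹) * x := by group
    rw [e]
    exact R.mul_mem (hZR (hcomZ g x)) hx
  obtain ⟨φ₁, hφ₁def⟩ : ∃ φ₁ : MulAut Q, φ₁ = φ ^ (p ^ j) := ⟨_, rfl⟩
  rw [← hφ₁def] at hstab hRφ₁
  have hstab' : ∀ b ∈ Z, lam (φ₁⁻¹ b) = lam b := by
    intro b hb
    have h1 : φ₁⁻¹ b ∈ Z := by
      rw [hφ₁def, pow_inv_mem_iff hZinv]
      exact hb
    have h2 := hstab _ h1
    rw [MulAut.apply_inv_self] at h2
    exact h2.symm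
  -- (B5) the translates of the radical
  let RR : ℕ → Subgroup Q := fun i => R.comap ((φ ^ i)⁻¹ : MulAut Q).toMonoidHom
  have hRRmem : ∀ (i : ℕ) (u : Q), u ∈ RR i ↔ (φ ^ i)⁻¹ u ∈ R := fun i u => Iff.rfl
  have hRRidx : ∀ i, (RR i).index = R.index := by
    intro i
    exact Subgroup.index_comap_of_surjective R (MulEquiv.surjective _)
  have hNpos : 0 < p ^ j := pow_pos hp.pos j
  -- the product relation
  have hprod : ∀ z ∈ Z, ∏ i ∈ Finset.range (p ^ j), lam ((φ ^ i)⁻¹ z) = 1 := by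
    intro z hz
    obtain ⟨b, hb, rfl⟩ := hsurjZ z hz
    have hmemi : ∀ i : ℕ, (φ ^ i)⁻¹ b ∈ Z := fun i => (pow_inv_mem_iff hZinv i b).mpr hb
    have h1 : ∀ i : ℕ, lam ((φ ^ i)⁻¹ (b⁻¹ * φ b)) =
        (lam ((φ ^ i)⁻¹ b))⁻¹ * lam ((φ ^ i)⁻¹ (φ b)) := by
      intro i
      rw [map_mul, map_inv, hlam_mul _ (Z.inv_mem (hmemi i)) _
        ((pow_inv_mem_iff hZinv i _).mpr ((hZinv b).mpr hb))]
      congr 1
      have := hlam_inv _ (hmemi i)
      exact eq_inv_of_mul_eq_one_left this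
    simp only [h1]
    rw [Finset.prod_mul_distrib, Finset.prod_inv_distrib]
    obtain ⟨N', hN'⟩ : ∃ N', p ^ j = N' + 1 := ⟨p ^ j - 1, by omega⟩
    have h2 : ∏ i ∈ Finset.range (p ^ j), lam ((φ ^ i)⁻¹ (φ b)) =
        ∏ i ∈ Finset.range (p ^ j), lam ((φ ^ i)⁻¹ b) := by
      rw [hN', Finset.prod_range_succ', Finset.prod_range_succ]
      congr 1
      · apply Finset.prod_congr rfl
        intro i _
        congr 1
        rw [pow_succ', mul_inv_rev, MulAut.mul_apply, MulAut.inv_apply_self]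
      · -- `lam (φ b) = lam ((φ ^ N')⁻¹ b)`
        rw [pow_zero, inv_one, MulAut.one_apply]
        have h3 := hstab' (φ b) ((hZinv b).mpr hb)
        rw [← h3]
        congr 1
        have e : φ₁ = φ * φ ^ N' := by rw [hφ₁def, hN', pow_succ']
        rw [e, mul_inv_rev, MulAut.mul_apply, MulAut.inv_apply_self]
    rw [h2]
    apply inv_mul_cancel₀
    rw [Finset.prod_ne_zero_iff]
    intro i _ h0
    have := hlam_inv _ (hmemi i)
    rw [h0, mul_zero] at this
    exact zero_ne_one this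
  -- the intersection
  let I : Subgroup Q := ⨅ i : Fin (p ^ j - 1), RR ((i : ℕ) + 1)
  have hIle : I.index ≤ R.index ^ (p ^ j - 1) := by
    have h1 := Subgroup.index_iInf_le (fun i : Fin (p ^ j - 1) => RR ((i : ℕ) + 1))
    simp only [hRRidx, Finset.prod_const, Finset.card_univ, Fintype.card_fin] at h1
    exact h1
  have hIZ : I ≤ Z := by
    intro u hu
    have hui : ∀ i, 0 < i → i < p ^ j → (φ ^ i)⁻¹ u ∈ R := by
      intro i hi0 hi
      have h1 : u ∈ RR (((⟨i - 1, by omega⟩ : Fin (p ^ j - 1)) : ℕ) + 1) :=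
        (Subgroup.mem_iInf.mp hu) ⟨i - 1, by omega⟩
      have e : ((⟨i - 1, by omega⟩ : Fin (p ^ j - 1)) : ℕ) + 1 = i := by
        show i - 1 + 1 = i
        omega
      rw [e] at h1
      exact (hRRmem i u).mp h1
    -- `u ∈ R`
    have huR : u ∈ R := by
      rw [hRchar]
      intro v
      have h1 := hprod _ (hcomZ v u)
      rw [Finset.prod_eq_single 0] at h1
      · rw [pow_zero, inv_one, MulAut.one_apply] at h1
        exact h1
      · intro i hi hi0
        have h2 := (hRchar _).mp (hui i (Nat.pos_of_ne_zero hi0) (Finset.mem_range.mp hi))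
          ((φ ^ i)⁻¹ v)
        rw [← map_inv, ← map_inv, ← map_mul, ← map_mul, ← map_mul] at h2
        exact h2
      · intro h0
        exact absurd (Finset.mem_range.mpr hNpos) h0
    -- `u` lies in all translates
    let J : Subgroup Q := ⨅ i : ℕ, RR i
    have hRφ₁pow : ∀ (t : ℕ) (x : Q), (φ₁ ^ t)⁻¹ x ∈ R ↔ x ∈ R :=
      fun t x => pow_inv_mem_iff hRφ₁ t x
    have huJ : u ∈ J := by
      rw [Subgroup.mem_iInf]
      intro i
      rw [hRRmem]
      have e : φ ^ i = φ ^ (i % p ^ j) * φ₁ ^ (i / p ^ j) := by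
        rw [hφ₁def, ← pow_mul, ← pow_add, Nat.mod_add_div]
      rw [e, mul_inv_rev, MulAut.mul_apply, hRφ₁pow]
      rcases Nat.eq_zero_or_pos (i % p ^ j) with h0 | h0
      · rw [h0, pow_zero, inv_one, MulAut.one_apply]
        exact huR
      · exact hui _ h0 (Nat.mod_lt i hNpos)
    have hJinv : ∀ x, φ x ∈ J ↔ x ∈ J := by
      intro x
      constructor
      · intro hx
        rw [Subgroup.mem_iInf] at hx ⊢
        intro i
        have h1 := (hRRmem (i + 1) (φ x)).mp (hx (i + 1))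
        rw [pow_succ', mul_inv_rev, MulAut.mul_apply, MulAut.inv_apply_self] at h1
        exact (hRRmem i x).mpr h1
      · intro hx
        rw [Subgroup.mem_iInf] at hx ⊢
        intro i
        rw [hRRmem]
        rcases Nat.eq_zero_or_pos i with h0 | h0
        · rw [h0, pow_zero, inv_one, MulAut.one_apply]
          have h1 := (hRRmem (p ^ n - 1) x).mp (hx (p ^ n - 1))
          have e : (φ ^ (p ^ n - 1))⁻¹ = φ := by
            rw [inv_eq_iff_eq_inv, eq_inv_iff_mul_eq_one, ← pow_succ, Nat.sub_add_cancel hPpos,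
              h.hφ]
          rwa [e] at h1
        · have h1 := (hRRmem (i - 1) x).mp (hx (i - 1))
          have e : φ ^ i = φ * φ ^ (i - 1) := by rw [← pow_succ', Nat.sub_add_cancel h0]
          rw [e, mul_inv_rev, MulAut.mul_apply, MulAut.inv_apply_self]
          exact h1
    haveI hJn : J.Normal := by
      have : ∀ i, (RR i).Normal := fun i => Subgroup.Normal.comap hRn _
      exact Subgroup.normal_iInf_normal this
    have hJne : J ≠ ⊤ := by
      intro htop
      apply hRne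
      rw [eq_top_iff]
      intro x _
      have h1 : x ∈ J := by rw [htop]; exact Subgroup.mem_top x
      have h2 := (hRRmem 0 x).mp (Subgroup.mem_iInf.mp h1 0)
      rwa [pow_zero, inv_one, MulAut.one_apply] at h2
    have hJZ := hM.le_center J hJinv hJne
    rw [hZdef]
    exact hJZ huJ
  -- indices
  have hZidx_le : Z.index ≤ R.index ^ (p ^ j - 1) := by
    have h1 : Z.index ∣ I.index := Subgroup.index_dvd_of_le hIZ
    have h2 : I.index ≠ 0 := Subgroup.index_ne_zero_of_finite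
    exact (Nat.le_of_dvd (Nat.pos_of_ne_zero h2) h1).trans hIle
  obtain ⟨f, hf⟩ := hM.hq.index Z
  obtain ⟨e₀, he₀⟩ := hM.hq.index R
  have hf0 : 0 < f := by
    rcases Nat.eq_zero_or_pos f with h0 | h0
    · exfalso
      rw [h0, pow_zero, Subgroup.index_eq_one] at hf
      exact hna hf
    · exact h0
  -- `p ^ n ∣ q ^ f - 1`
  have hfreeZ : ∀ i, 0 < i → i < p ^ n → ∀ u : Q, (φ ^ i) u * u⁻¹ ∈ Z → u ∈ Z := by
    intro i hi0 hi u hu
    obtain ⟨m, hm⟩ := hpowψ i hi0 hi
    haveI : Z.Normal := by rw [hZdef]; infer_instance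
    have hZi : ∀ x, (φ ^ i) x ∈ Z ↔ x ∈ Z := fun x => pow_mem_iff hZinv i x
    have h1 := pow_fix_mod hZi hu m
    rw [hm] at h1
    rw [hZdef] at h1 ⊢
    exact hM.mem_center_of_fix hab h1
  haveI : Z.Normal := by rw [hZdef]; infer_instance
  obtain ⟨n', hn'⟩ := card_quot_orbits hPpos h.hφ Z hZinv hna hfreeZ
  have hdiv : p ^ n ∣ q ^ f - 1 := by
    have h1 : Nat.card (Q ⧸ Z) = q ^ f := hf
    rw [h1] at hn'
    have hqf : 1 ≤ q ^ f := Nat.one_le_pow _ _ hq.pos
    have hn'1 : 1 ≤ n' := by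
      rcases Nat.eq_zero_or_pos n' with h0 | h0
      · rw [h0, zero_mul] at hn'
        omega
      · exact h0
    refine ⟨n' - 1, ?_⟩
    have h2 : (n' - 1) * p ^ n + p ^ n = n' * p ^ n := by
      rw [← Nat.succ_mul, Nat.succ_eq_add_one, Nat.sub_add_cancel hn'1]
    rw [mul_comm]
    omega
  -- the shape of `p ^ (n - j) - 1`
  have ha : 0 < n - j := by omega
  have hP₁3 : 3 ≤ p ^ (n - j) := by
    have h1 : p ≤ p ^ (n - j) := Nat.le_self_pow ha.ne' p
    have h2 := hp.two_le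
    have h3 : p ≠ 2 := hp2
    omega
  rw [he₀] at hidx
  obtain ⟨m, hm, hqm⟩ := (Nat.dvd_prime_pow hq).mp (Dvd.intro_left _ (by rw [← sq]; exact hidx.symm) :
    p ^ (n - j) - 1 ∣ q ^ e₀)
  have hm0 : 0 < m := by
    rcases Nat.eq_zero_or_pos m with h0 | h0
    · rw [h0, pow_zero] at hqm
      omega
    · exact h0
  have hdiv' : p ^ (n - j + j) ∣ q ^ f - 1 := by
    have : n - j + j = n := by omega
    rw [this]
    exact hdiv
  have hlow := nt_core hp hp2 ha hq.one_lt hqm.symm hf0 hdiv'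
  -- the upper bound
  rw [hf, he₀, hidx, hqm, ← pow_mul, ← pow_mul] at hZidx_le
  have hup : f ≤ m * (2 * (p ^ j - 1)) := (Nat.pow_le_pow_iff_right hq.one_lt).mp hZidx_le
  have h9 : m * (2 * (p ^ j - 1)) < 2 * m * p ^ j := by
    obtain ⟨N', hN'⟩ : ∃ N', p ^ j = N' + 1 := ⟨p ^ j - 1, by omega⟩
    rw [hN', Nat.add_sub_cancel]
    nlinarith
  omega

end Cfsg.Agent.Lib.H19.SG
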