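import Mathlib
import Cfsg.Agent.Lib.H19.SG11

/-!
# Shult–Gross, part 12: the module core (helper19)

`sg_core` : let `Q` be a finite `q`-group with a faithful representation `ρ` over an algebraically
closed field of characteristic prime to `p q`, `φ` an automorphism of `Q` and `T` an operator with
`T ρ(u) = ρ(φ u) T`, `T ^ (p ^ n) = 1 = φ ^ (p ^ n)` (`p` an odd prime, `p ≠ q`, `n ≥ 1`).  If `φ`
has no nontrivial fixed point on `Q` and `T` no nonzero fixed vector, then `φ ^ (p ^ (n - 1)) = 1`.
-/

set_option autoImplicit false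
set_option linter.unusedSectionVars false
set_option linter.style.haveILetI false

namespace Cfsg.Agent.Lib.H19.SG

open Module Cfsg.Agent.Lib.H19.Ward Cfsg.Agent.Lib.H19.ModRep

universe u

variable {k : Type*} [Field k] {W : Type*} [AddCommGroup W] [Module k W]

theorem sg_core_aux [IsAlgClosed k] [FiniteDimensional k W] {p q : ℕ} [Fact p.Prime]
    [Fact q.Prime] (hp2 : p ≠ 2) (hpq : p ≠ q) (hpk : (p : k) ≠ 0) (hqk : (q : k) ≠ 0)
    (T : Module.End k W) (hfpf : ∀ w, T w = w → w = 0) (n : ℕ) (hn : 0 < n) :
    ∀ (N : ℕ) (Q : Type u) [Group Q] [Finite Q], Nat.card Q ≤ N → IsPGroup q Q →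
      ∀ (ρ : Representation k Q W) (φ : MulAut Q), Tw ρ φ T (p ^ n) →
        (∀ u, ρ u = 1 → u = 1) → (∀ u, φ u = u → u = 1) →
        ∀ u, (φ ^ (p ^ (n - 1))) u = u := by
  intro N
  induction N with
  | zero =>
    intro Q _ _ hcard
    exfalso
    have := Nat.card_pos (α := Q)
    omega
  | succ N ih =>
    intro Q _ _ hcard hQ ρ φ h hfaith hfixQ
    by_contra hcon
    push Not at hcon
    obtain ⟨u₀, hu₀⟩ := hcon
    by_cases hex : ∃ H : Subgroup Q, (∀ u, φ u ∈ H ↔ u ∈ H) ∧ H ≠ ⊤ ∧
        ∃ u ∈ H, (φ ^ (p ^ (n - 1))) u ≠ u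
    · obtain ⟨H, hH, hHne, u, hu, hψu⟩ := hex
      have hlt : Nat.card H < Nat.card Q := by
        apply lt_of_le_of_ne (Subgroup.card_le_card_group H)
        intro heq
        exact hHne (H.eq_top_of_card_eq heq)
      have hHq : IsPGroup q H := hQ.to_subgroup H
      have hTwH : Tw (ρ.comp H.subtype) (restrictAut φ H hH) T (p ^ n) :=
        { hT := h.hT
          hφ := by
            apply MulEquiv.ext
            intro x
            apply Subtype.ext
            rw [restrictAut_pow_coe, h.hφ]
            rfl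
          htw := by
            intro x
            exact h.htw (x : Q) }
      have h1 := ih H (by omega) hHq (ρ.comp H.subtype) (restrictAut φ H hH) hTwH
        (by
          intro x hx
          apply Subtype.ext
          exact hfaith (x : Q) hx)
        (by
          intro x hx
          apply Subtype.ext
          apply hfixQ (x : Q)
          have := congrArg Subtype.val hx
          simpa using this)
        ⟨u, hu⟩
      apply hψu
      have h2 := congrArg Subtype.val h1
      rw [restrictAut_pow_coe] at h2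
      exact h2
    · push Not at hex
      have hM : MinHyp φ (φ ^ (p ^ (n - 1))) p q :=
        { hq := hQ
          hpq := hpq
          hcomm := by
            intro x
            have h1 : φ * φ ^ (p ^ (n - 1)) = φ ^ (p ^ (n - 1)) * φ :=
              ((Commute.refl φ).pow_right _).eq
            have h2 := congrArg (fun f : MulAut Q => f x) h1
            simpa [MulAut.mul_apply] using h2
          hψp := by
            rw [← pow_mul, ← pow_succ, Nat.sub_add_cancel hn, h.hφ]
          hψ := ⟨u₀, hu₀⟩
          hmin := by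
            intro H hH hHne x hx
            exact hex H hH hHne x hx }
      have hk : (Nat.card Q : k) ≠ 0 := by
        obtain ⟨b, hb⟩ := IsPGroup.iff_card.mp hQ
        rw [hb, Nat.cast_pow]
        exact pow_ne_zero b hqk
      exact min_case hp2 hn hpk hk h hM hfaith hfixQ hfpf

theorem sg_core [IsAlgClosed k] [FiniteDimensional k W] {Q : Type u} [Group Q] [Finite Q]
    {p q : ℕ} [Fact p.Prime] [Fact q.Prime] (hp2 : p ≠ 2) (hpq : p ≠ q) (hpk : (p : k) ≠ 0)
    (hqk : (q : k) ≠ 0) (hQ : IsPGroup q Q) {ρ : Representation k Q W} {φ : MulAut Q}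
    {T : Module.End k W} {n : ℕ} (hn : 0 < n) (h : Tw ρ φ T (p ^ n))
    (hfaith : ∀ u, ρ u = 1 → u = 1) (hfixQ : ∀ u, φ u = u → u = 1)
    (hfpf : ∀ w, T w = w → w = 0) : ∀ u, (φ ^ (p ^ (n - 1))) u = u :=
  sg_core_aux hp2 hpq hpk hqk T hfpf n hn (Nat.card Q) Q le_rfl hQ ρ φ h hfaith hfixQ

end Cfsg.Agent.Lib.H19.SG
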