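import Mathlib

/-!
# Ward's theorem, part A: operator identities (helper19)

For a representation `ρ : Representation k Γ M`:

* `Esum ρ Q` : the sum of `ρ` over a finite subgroup `Q`; `avg ρ Q` the averaging idempotent.
* `Nrm ρ c p = ∑ j < p, ρ (c ^ j)`.
* `frob_id` : the Frobenius partition identity
  `∑ y ∈ Q, ρ y * N_c * ρ y⁻¹ = |Q| + E_Q * (N_c - 1)` when `c` (of prime order `p`) normalizes `Q` and
  acts fixed-point-freely on it.
* `frob_trivial` : if `f` commutes with `ρ(Q)`, `N_c * f = 0` and `|Q|` is invertible then `ρ(Q)` is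
  trivial on `f`.
-/

set_option autoImplicit false
set_option linter.style.haveILetI false
set_option linter.unusedSectionVars false

namespace Cfsg.Agent.Lib.H19.Ward

open Module

variable {k : Type*} [Field k] {Γ : Type*} [Group Γ] {M : Type*} [AddCommGroup M] [Module k M]

section basic

variable (ρ : Representation k Γ M)

theorem apply_mul_apply_inv (g : Γ) : ρ g * ρ g⁻¹ = 1 := by
  rw [← map_mul, mul_inv_cancel, map_one]

theorem apply_inv_mul_apply (g : Γ) : ρ g⁻¹ * ρ g = 1 := by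
  rw [← map_mul, inv_mul_cancel, map_one]

/-- if `F` commutes with `ρ g` it commutes with `ρ g⁻¹` -/
theorem commute_inv {g : Γ} {F : End k M} (h : Commute (ρ g) F) : Commute (ρ g⁻¹) F := by
  have h1 : ρ g⁻¹ * F = ρ g⁻¹ * F * (ρ g * ρ g⁻¹) := by rw [apply_mul_apply_inv, mul_one]
  have h2 : ρ g⁻¹ * F * (ρ g * ρ g⁻¹) = ρ g⁻¹ * (F * ρ g) * ρ g⁻¹ := by
    simp only [mul_assoc]
  have h3 : ρ g⁻¹ * (F * ρ g) * ρ g⁻¹ = ρ g⁻¹ * (ρ g * F) * ρ g⁻¹ := by rw [h.eq]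
  have h4 : ρ g⁻¹ * (ρ g * F) * ρ g⁻¹ = (ρ g⁻¹ * ρ g) * F * ρ g⁻¹ := by simp only [mul_assoc]
  show ρ g⁻¹ * F = F * ρ g⁻¹
  rw [h1, h2, h3, h4, apply_inv_mul_apply, one_mul]

/-- the subgroup of elements whose image commutes with every operator in `S` -/
def cenOf (S : Set (End k M)) : Subgroup Γ where
  carrier := {g | ∀ F ∈ S, Commute (ρ g) F}
  one_mem' := by
    intro F _
    rw [map_one]
    exact Commute.one_left F
  mul_mem' := by
    intro g h hg hh F hF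
    rw [map_mul]
    exact (hg F hF).mul_left (hh F hF)
  inv_mem' := by
    intro g hg F hF
    exact commute_inv ρ (hg F hF)

theorem mem_cenOf {S : Set (End k M)} {g : Γ} : g ∈ cenOf ρ S ↔ ∀ F ∈ S, Commute (ρ g) F :=
  Iff.rfl

/-- the subgroup of elements acting trivially on (the image of) `f` -/
def fixOf (f : End k M) : Subgroup Γ where
  carrier := {g | ρ g * f = f}
  one_mem' := by
    show ρ 1 * f = f
    rw [map_one, one_mul]
  mul_mem' := by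
    intro g h hg hh
    show ρ (g * h) * f = f
    rw [map_mul, mul_assoc, show ρ h * f = f from hh, show ρ g * f = f from hg]
  inv_mem' := by
    intro g hg
    show ρ g⁻¹ * f = f
    have h1 : ρ g * f = f := hg
    calc ρ g⁻¹ * f = ρ g⁻¹ * (ρ g * f) := by rw [h1]
      _ = (ρ g⁻¹ * ρ g) * f := by rw [mul_assoc]
      _ = f := by rw [apply_inv_mul_apply, one_mul]

theorem mem_fixOf {f : End k M} {g : Γ} : g ∈ fixOf ρ f ↔ ρ g * f = f := Iff.rfl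

/-- conjugation lemma for commutation -/
theorem commute_conj' {w v x : Γ} (h : Commute (ρ w) (ρ x)) :
    Commute (ρ (v * w * v⁻¹)) (ρ (v * x * v⁻¹)) := by
  show ρ (v * w * v⁻¹) * ρ (v * x * v⁻¹) = ρ (v * x * v⁻¹) * ρ (v * w * v⁻¹)
  have e1 : (v * w * v⁻¹) * (v * x * v⁻¹) = v * (w * x) * v⁻¹ := by group
  have e2 : (v * x * v⁻¹) * (v * w * v⁻¹) = v * (x * w) * v⁻¹ := by group
  have h1 : ρ (w * x) = ρ (x * w) := by
    rw [map_mul ρ w x, map_mul ρ x w, h.eq]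
  rw [← map_mul, ← map_mul, e1, e2, map_mul ρ (v * (w * x)) v⁻¹, map_mul ρ v (w * x), h1,
    map_mul ρ (v * (x * w)) v⁻¹, map_mul ρ v (x * w)]

theorem commute_conj {y v x : Γ} (h : Commute (ρ (v⁻¹ * y * v)) (ρ x)) :
    Commute (ρ y) (ρ (v * x * v⁻¹)) := by
  have h1 := commute_conj' ρ (v := v) h
  have e : v * (v⁻¹ * y * v) * v⁻¹ = y := by group
  rwa [e] at h1

end basic

section esum

variable (ρ : Representation k Γ M)

/-- the sum of `ρ` over the subgroup `Q` -/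
noncomputable def Esum (Q : Subgroup Γ) : End k M := ∑ᶠ y : ↥Q, ρ (y : Γ)

theorem Esum_eq (Q : Subgroup Γ) [Fintype ↥Q] : Esum ρ Q = ∑ y : ↥Q, ρ (y : Γ) :=
  finsum_eq_sum_of_fintype _

variable {Q : Subgroup Γ} [Finite ↥Q]

theorem apply_mul_Esum {u : Γ} (hu : u ∈ Q) : ρ u * Esum ρ Q = Esum ρ Q := by
  haveI := Fintype.ofFinite ↥Q
  rw [Esum_eq, Finset.mul_sum]
  have h1 : ∀ y : ↥Q, ρ u * ρ (y : Γ) = ρ ((Equiv.mulLeft (⟨u, hu⟩ : ↥Q) y : ↥Q) : Γ) := by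
    intro y
    rw [← map_mul]
    rfl
  simp only [h1]
  exact Equiv.sum_comp (Equiv.mulLeft (⟨u, hu⟩ : ↥Q)) (fun y : ↥Q => ρ (y : Γ))

theorem Esum_mul_apply {u : Γ} (hu : u ∈ Q) : Esum ρ Q * ρ u = Esum ρ Q := by
  haveI := Fintype.ofFinite ↥Q
  rw [Esum_eq, Finset.sum_mul]
  have h1 : ∀ y : ↥Q, ρ (y : Γ) * ρ u = ρ ((Equiv.mulRight (⟨u, hu⟩ : ↥Q) y : ↥Q) : Γ) := by
    intro y
    rw [← map_mul]
    rfl
  simp only [h1]
  exact Equiv.sum_comp (Equiv.mulRight (⟨u, hu⟩ : ↥Q)) (fun y : ↥Q => ρ (y : Γ))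

theorem Esum_mul_Esum : Esum ρ Q * Esum ρ Q = (Nat.card Q : k) • Esum ρ Q := by
  haveI := Fintype.ofFinite ↥Q
  have h1 : Esum ρ Q * Esum ρ Q = ∑ y : ↥Q, ρ (y : Γ) * Esum ρ Q := by
    rw [← Finset.sum_mul, ← Esum_eq]
  rw [h1]
  have h2 : ∀ y : ↥Q, ρ (y : Γ) * Esum ρ Q = Esum ρ Q := fun y => apply_mul_Esum ρ y.2
  simp only [h2]
  rw [Finset.sum_const, Finset.card_univ, Nat.card_eq_fintype_card, Nat.cast_smul_eq_nsmul]

theorem commute_Esum {F : End k M} (hF : ∀ u ∈ Q, Commute F (ρ u)) : Commute F (Esum ρ Q) := by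
  haveI := Fintype.ofFinite ↥Q
  rw [Esum_eq]
  exact Commute.sum_right _ _ _ (fun y _ => hF y y.2)

/-- an element normalizing `Q` commutes with `Esum ρ Q` -/
theorem commute_apply_Esum {g : Γ} (hg : g ∈ Subgroup.normalizer (Q : Set Γ)) :
    Commute (ρ g) (Esum ρ Q) := by
  haveI := Fintype.ofFinite ↥Q
  have hmem : ∀ y : ↥Q, g * (y : Γ) * g⁻¹ ∈ Q := fun y =>
    (Subgroup.mem_normalizer_iff.mp hg y).mp y.2
  have hmem' : ∀ y : ↥Q, g⁻¹ * (y : Γ) * g ∈ Q := fun y =>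
    (Subgroup.mem_normalizer_iff''.mp hg y).mp y.2
  let e : ↥Q ≃ ↥Q :=
    { toFun := fun y => ⟨g * y * g⁻¹, hmem y⟩
      invFun := fun y => ⟨g⁻¹ * y * g, hmem' y⟩
      left_inv := by
        intro y
        apply Subtype.ext
        show g⁻¹ * (g * (y : Γ) * g⁻¹) * g = y
        group
      right_inv := by
        intro y
        apply Subtype.ext
        show g * (g⁻¹ * (y : Γ) * g) * g⁻¹ = y
        group }
  show ρ g * Esum ρ Q = Esum ρ Q * ρ g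
  rw [Esum_eq, Finset.mul_sum, Finset.sum_mul]
  have h1 : ∀ y : ↥Q, ρ g * ρ (y : Γ) = ρ ((e y : ↥Q) : Γ) * ρ g := by
    intro y
    rw [← map_mul, ← map_mul]
    congr 1
    show g * (y : Γ) = g * y * g⁻¹ * g
    group
  simp only [h1]
  exact Equiv.sum_comp e (fun y : ↥Q => ρ (y : Γ) * ρ g)

/-- the averaging idempotent -/
noncomputable def avg (Q : Subgroup Γ) : End k M := (Nat.card Q : k)⁻¹ • Esum ρ Q

theorem apply_mul_avg {u : Γ} (hu : u ∈ Q) : ρ u * avg ρ Q = avg ρ Q := by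
  unfold avg
  rw [mul_smul_comm, apply_mul_Esum ρ hu]

theorem avg_mul_apply {u : Γ} (hu : u ∈ Q) : avg ρ Q * ρ u = avg ρ Q := by
  unfold avg
  rw [smul_mul_assoc, Esum_mul_apply ρ hu]

theorem avg_mul_avg (hQ : (Nat.card Q : k) ≠ 0) : avg ρ Q * avg ρ Q = avg ρ Q := by
  unfold avg
  rw [smul_mul_assoc, mul_smul_comm, Esum_mul_Esum, smul_smul, smul_smul, mul_assoc,
    inv_mul_cancel₀ hQ, mul_one]

theorem Esum_eq_smul_avg (hQ : (Nat.card Q : k) ≠ 0) : Esum ρ Q = (Nat.card Q : k) • avg ρ Q := by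
  unfold avg
  rw [smul_smul, mul_inv_cancel₀ hQ, one_smul]

theorem commute_avg {F : End k M} (hF : ∀ u ∈ Q, Commute F (ρ u)) : Commute F (avg ρ Q) := by
  unfold avg
  exact (commute_Esum ρ hF).smul_right _

theorem commute_apply_avg {g : Γ} (hg : g ∈ Subgroup.normalizer (Q : Set Γ)) :
    Commute (ρ g) (avg ρ Q) := by
  unfold avg
  exact (commute_apply_Esum ρ hg).smul_right _

/-- if `ρ(Q)` is trivial on `f` then `avg * f = f` -/
theorem avg_mul_of_fix (hQ : (Nat.card Q : k) ≠ 0) {f : End k M} (hf : ∀ u ∈ Q, ρ u * f = f) :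
    avg ρ Q * f = f := by
  haveI := Fintype.ofFinite ↥Q
  unfold avg
  rw [smul_mul_assoc, Esum_eq, Finset.sum_mul]
  have h2 : ∀ y : ↥Q, ρ (y : Γ) * f = f := fun y => hf y y.2
  simp only [h2]
  rw [Finset.sum_const, Finset.card_univ, ← Nat.card_eq_fintype_card, ← Nat.cast_smul_eq_nsmul k,
    smul_smul, inv_mul_cancel₀ hQ, one_smul]

end esum

section nrm

variable (ρ : Representation k Γ M)

/-- the norm operator `∑ j < p, ρ (c ^ j)` -/
noncomputable def Nrm (c : Γ) (p : ℕ) : End k M := ∑ j ∈ Finset.range p, ρ (c ^ j)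

theorem apply_mul_Nrm {c : Γ} {p : ℕ} (hc : c ^ p = 1) : ρ c * Nrm ρ c p = Nrm ρ c p := by
  unfold Nrm
  rw [Finset.mul_sum]
  have h1 : ∀ j, ρ c * ρ (c ^ j) = ρ (c ^ (j + 1)) := by
    intro j
    rw [pow_succ', map_mul]
  simp only [h1]
  have h2 := Finset.sum_range_succ' (fun j => ρ (c ^ j)) p
  have h3 := Finset.sum_range_succ (fun j => ρ (c ^ j)) p
  rw [h3, hc, pow_zero] at h2
  exact (add_right_cancel h2).symm

theorem apply_pow_mul_Nrm {c : Γ} {p : ℕ} (hc : c ^ p = 1) (m : ℕ) :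
    ρ (c ^ m) * Nrm ρ c p = Nrm ρ c p := by
  induction m with
  | zero => rw [pow_zero, map_one, one_mul]
  | succ m ih => rw [pow_succ, map_mul, mul_assoc, apply_mul_Nrm ρ hc, ih]

theorem commute_Nrm {F : End k M} {c : Γ} (h : Commute F (ρ c)) (p : ℕ) :
    Commute F (Nrm ρ c p) := by
  unfold Nrm
  apply Commute.sum_right
  intro j _
  rw [map_pow]
  exact h.pow_right j

/-- the image of `Nrm ρ c p` consists of `c`-fixed vectors -/
theorem apply_Nrm_apply {c : Γ} {p : ℕ} (hc : c ^ p = 1) (m : M) :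
    ρ c (Nrm ρ c p m) = Nrm ρ c p m := by
  have := congrArg (fun F : End k M => F m) (apply_mul_Nrm ρ hc)
  exact this

theorem Nrm_pair {a b : Γ} {p : ℕ} (hab : Commute a b) (hap : a ^ p = 1) (i : ℕ) :
    Nrm ρ (a ^ i * b) p * Nrm ρ a p = Nrm ρ b p * Nrm ρ a p := by
  conv_lhs => unfold Nrm
  conv_rhs => unfold Nrm
  rw [Finset.sum_mul, Finset.sum_mul]
  apply Finset.sum_congr rfl
  intro j _
  have h1 : (a ^ i * b) ^ j = b ^ j * a ^ (i * j) := by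
    rw [(hab.pow_left i).mul_pow, ← pow_mul]
    exact ((hab.pow_left (i * j)).pow_right j).eq
  have h2 := apply_pow_mul_Nrm ρ hap (i * j)
  have h3 : (∑ j ∈ Finset.range p, ρ (a ^ j)) = Nrm ρ a p := rfl
  rw [h3, h1, map_mul, mul_assoc, h2]

end nrm

section frob

variable (ρ : Representation k Γ M)

/-- in a cyclic group of prime order every nontrivial power generates -/
theorem exists_pow_pow_eq {c : Γ} {p : ℕ} (hp : p.Prime) (hc : c ^ p = 1) {j : ℕ} (hj : ¬ p ∣ j) :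
    ∃ m : ℕ, (c ^ j) ^ m = c := by
  have hcop : Nat.Coprime j p := ((Nat.Prime.coprime_iff_not_dvd hp).mpr hj).symm
  obtain ⟨m, -, hm⟩ := Nat.exists_mul_mod_eq_one_of_coprime hcop hp.one_lt
  refine ⟨m, ?_⟩
  rw [← pow_mul, pow_eq_pow_mod _ hc, hm, pow_one]

variable {Q : Subgroup Γ} [Finite ↥Q]

/-- the map `y ↦ y c y⁻¹ c⁻¹` is a bijection of `Q` when `c` normalizes `Q` and is fixed point
free on it -/
theorem exists_eq_comm {c : Γ} (hcQ : c ∈ Subgroup.normalizer (Q : Set Γ))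
    (hfix : ∀ u ∈ Q, c * u = u * c → u = 1) :
    ∀ x ∈ Q, ∃ y ∈ Q, x = y * c * y⁻¹ * c⁻¹ := by
  have hmem : ∀ y : ↥Q, (y : Γ) * c * (y : Γ)⁻¹ * c⁻¹ ∈ Q := by
    intro y
    have h1 : c * (y : Γ)⁻¹ * c⁻¹ ∈ Q :=
      (Subgroup.mem_normalizer_iff.mp hcQ _).mp (Q.inv_mem y.2)
    have e : (y : Γ) * c * (y : Γ)⁻¹ * c⁻¹ = y * (c * (y : Γ)⁻¹ * c⁻¹) := by group
    rw [e]
    exact Q.mul_mem y.2 h1
  let φ : ↥Q → ↥Q := fun y => ⟨(y : Γ) * c * (y : Γ)⁻¹ * c⁻¹, hmem y⟩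
  have hinj : Function.Injective φ := by
    intro y y' h
    have h1 : (y : Γ) * c * (y : Γ)⁻¹ * c⁻¹ = (y' : Γ) * c * (y' : Γ)⁻¹ * c⁻¹ :=
      congrArg Subtype.val h
    have h2 : c * ((y : Γ)⁻¹ * y') = ((y : Γ)⁻¹ * y') * c := by
      have h3 : (y : Γ) * c * (y : Γ)⁻¹ = (y' : Γ) * c * (y' : Γ)⁻¹ := mul_right_cancel h1
      calc c * ((y : Γ)⁻¹ * y') = (y : Γ)⁻¹ * ((y : Γ) * c * (y : Γ)⁻¹) * y' := by group
        _ = (y : Γ)⁻¹ * ((y' : Γ) * c * (y' : Γ)⁻¹) * y' := by rw [h3]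
        _ = ((y : Γ)⁻¹ * y') * c := by group
    have h4 := hfix _ (Q.mul_mem (Q.inv_mem y.2) y'.2) h2
    apply Subtype.ext
    exact (inv_mul_eq_one.mp h4)
  have hsurj : Function.Surjective φ := Finite.surjective_of_injective hinj
  intro x hx
  obtain ⟨y, hy⟩ := hsurj ⟨x, hx⟩
  exact ⟨y, y.2, (congrArg Subtype.val hy).symm⟩

theorem sum_conj_eq [Fintype ↥Q] {c : Γ} (hcQ : c ∈ Subgroup.normalizer (Q : Set Γ))
    (hfix : ∀ u ∈ Q, c * u = u * c → u = 1) :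
    ∑ y : ↥Q, ρ ((y : Γ) * c * (y : Γ)⁻¹) = Esum ρ Q * ρ c := by
  have hmem : ∀ y : ↥Q, (y : Γ) * c * (y : Γ)⁻¹ * c⁻¹ ∈ Q := by
    intro y
    have h1 : c * (y : Γ)⁻¹ * c⁻¹ ∈ Q :=
      (Subgroup.mem_normalizer_iff.mp hcQ _).mp (Q.inv_mem y.2)
    have e : (y : Γ) * c * (y : Γ)⁻¹ * c⁻¹ = y * (c * (y : Γ)⁻¹ * c⁻¹) := by group
    rw [e]
    exact Q.mul_mem y.2 h1
  let φ : ↥Q → ↥Q := fun y => ⟨(y : Γ) * c * (y : Γ)⁻¹ * c⁻¹, hmem y⟩
  have hinj : Function.Injective φ := by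
    intro y y' h
    have h1 : (y : Γ) * c * (y : Γ)⁻¹ * c⁻¹ = (y' : Γ) * c * (y' : Γ)⁻¹ * c⁻¹ :=
      congrArg Subtype.val h
    have h2 : c * ((y : Γ)⁻¹ * y') = ((y : Γ)⁻¹ * y') * c := by
      have h3 : (y : Γ) * c * (y : Γ)⁻¹ = (y' : Γ) * c * (y' : Γ)⁻¹ := mul_right_cancel h1
      calc c * ((y : Γ)⁻¹ * y') = (y : Γ)⁻¹ * ((y : Γ) * c * (y : Γ)⁻¹) * y' := by group
        _ = (y : Γ)⁻¹ * ((y' : Γ) * c * (y' : Γ)⁻¹) * y' := by rw [h3]
        _ = ((y : Γ)⁻¹ * y') * c := by group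
    have h4 := hfix _ (Q.mul_mem (Q.inv_mem y.2) y'.2) h2
    apply Subtype.ext
    exact (inv_mul_eq_one.mp h4)
  let e : ↥Q ≃ ↥Q := Equiv.ofBijective φ ⟨hinj, Finite.surjective_of_injective hinj⟩
  have h1 : ∀ y : ↥Q, ρ ((y : Γ) * c * (y : Γ)⁻¹) = ρ ((e y : ↥Q) : Γ) * ρ c := by
    intro y
    rw [← map_mul]
    congr 1
    show (y : Γ) * c * (y : Γ)⁻¹ = (y : Γ) * c * (y : Γ)⁻¹ * c⁻¹ * c
    group
  simp only [h1]
  rw [Esum_eq, Finset.sum_mul]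
  exact Equiv.sum_comp e (fun y : ↥Q => ρ (y : Γ) * ρ c)

/-- **Frobenius partition identity** -/
theorem frob_id {p : ℕ} (hp : p.Prime) {c : Γ} (hcQ : c ∈ Subgroup.normalizer (Q : Set Γ))
    (hcp : c ^ p = 1) (hfix : ∀ u ∈ Q, c * u = u * c → u = 1) :
    ∑ᶠ y : ↥Q, ρ (y : Γ) * Nrm ρ c p * ρ (y : Γ)⁻¹ =
      (Nat.card Q : k) • (1 : End k M) + Esum ρ Q * (Nrm ρ c p - 1) := by
  haveI := Fintype.ofFinite ↥Q
  rw [finsum_eq_sum_of_fintype]
  -- expand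
  have h1 : ∀ y : ↥Q, ρ (y : Γ) * Nrm ρ c p * ρ (y : Γ)⁻¹ =
      ∑ j ∈ Finset.range p, ρ ((y : Γ) * c ^ j * (y : Γ)⁻¹) := by
    intro y
    unfold Nrm
    rw [Finset.mul_sum, Finset.sum_mul]
    apply Finset.sum_congr rfl
    intro j _
    rw [map_mul, map_mul]
  simp only [h1]
  rw [Finset.sum_comm]
  obtain ⟨p', rfl⟩ : ∃ p', p = p' + 1 := ⟨p - 1, (Nat.succ_pred_eq_of_pos hp.pos).symm⟩
  rw [Finset.sum_range_succ']
  have h0 : ∑ y : ↥Q, ρ ((y : Γ) * c ^ 0 * (y : Γ)⁻¹) = (Nat.card Q : k) • (1 : End k M) := by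
    have : ∀ y : ↥Q, ρ ((y : Γ) * c ^ 0 * (y : Γ)⁻¹) = 1 := by
      intro y
      rw [pow_zero, mul_one, mul_inv_cancel, map_one]
    simp only [this]
    rw [Finset.sum_const, Finset.card_univ, Nat.card_eq_fintype_card, Nat.cast_smul_eq_nsmul]
  have hj : ∀ j ∈ Finset.range p', ∑ y : ↥Q, ρ ((y : Γ) * c ^ (j + 1) * (y : Γ)⁻¹) =
      Esum ρ Q * ρ (c ^ (j + 1)) := by
    intro j hj
    have hjlt : j + 1 < p' + 1 := Nat.succ_lt_succ (Finset.mem_range.mp hj)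
    have hnd : ¬ (p' + 1) ∣ (j + 1) := Nat.not_dvd_of_pos_of_lt (Nat.succ_pos j) hjlt
    obtain ⟨m, hm⟩ := exists_pow_pow_eq hp hcp hnd
    apply sum_conj_eq ρ (Subgroup.pow_mem _ hcQ _)
    intro u hu hcu
    apply hfix u hu
    have h2 : Commute (c ^ (j + 1)) u := hcu
    have h3 := h2.pow_left m
    rw [hm] at h3
    exact h3.eq
  rw [Finset.sum_congr rfl hj, h0, add_comm]
  congr 1
  unfold Nrm
  rw [Finset.sum_range_succ' (fun j => ρ (c ^ j)), pow_zero, map_one, add_sub_cancel_right,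
    Finset.mul_sum]

/-- if `f` commutes with `ρ(Q)`, is killed by `N_c` and `|Q|` is invertible, `ρ(Q)` fixes `f` -/
theorem frob_trivial {p : ℕ} (hp : p.Prime) {c : Γ} (hcQ : c ∈ Subgroup.normalizer (Q : Set Γ))
    (hcp : c ^ p = 1) (hfix : ∀ u ∈ Q, c * u = u * c → u = 1) (hQ : (Nat.card Q : k) ≠ 0)
    {f : End k M} (hfQ : ∀ u ∈ Q, Commute f (ρ u)) (hN : Nrm ρ c p * f = 0) :
    ∀ u ∈ Q, ρ u * f = f := by
  have hid := frob_id ρ hp hcQ hcp hfix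
  have h1 : (∑ᶠ y : ↥Q, ρ (y : Γ) * Nrm ρ c p * ρ (y : Γ)⁻¹) * f = 0 := by
    haveI := Fintype.ofFinite ↥Q
    rw [finsum_eq_sum_of_fintype, Finset.sum_mul]
    apply Finset.sum_eq_zero
    intro y _
    have h2 : ρ (y : Γ)⁻¹ * f = f * ρ (y : Γ)⁻¹ := ((hfQ _ (Q.inv_mem y.2)).eq).symm
    rw [mul_assoc, h2, ← mul_assoc, mul_assoc (ρ (y : Γ)), hN, mul_zero, zero_mul]
  rw [hid, add_mul, smul_mul_assoc, one_mul, mul_assoc, sub_mul, hN, one_mul, zero_sub, mul_neg] at h1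
  have h3 : Esum ρ Q * f = (Nat.card Q : k) • f := by
    have := eq_neg_of_add_eq_zero_left h1
    rw [neg_neg] at this
    exact this.symm
  intro u hu
  have h4 : f = (Nat.card Q : k)⁻¹ • (Esum ρ Q * f) := by
    rw [h3, smul_smul, inv_mul_cancel₀ hQ, one_smul]
  rw [h4, mul_smul_comm, ← mul_assoc, apply_mul_Esum ρ hu]

end frob

end Cfsg.Agent.Lib.H19.Ward
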