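import Mathlib
import Cfsg.Agent.Lib.H1.CoprimeAction

/-!
# Ward's theorem: group-theoretic helper lemmas (helper19)
-/

set_option autoImplicit false
set_option linter.style.haveILetI false
set_option linter.unusedSectionVars false

namespace Cfsg.Agent.Lib.H19.Ward

open Cfsg.Agent.Lib.H1
open scoped commutatorElement

variable {Γ : Type*} [Group Γ]

theorem isPGroup_zpowers {p : ℕ} (hp : p.Prime) {a : Γ} (ha : a ^ p = 1) :
    IsPGroup p (Subgroup.zpowers a) := by
  have h1 : orderOf a ∣ p := orderOf_dvd_of_pow_eq_one ha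
  rcases (Nat.dvd_prime hp).mp h1 with h | h
  · apply IsPGroup.of_card (n := 0)
    rw [Nat.card_zpowers, h, pow_zero]
  · apply IsPGroup.of_card (n := 1)
    rw [Nat.card_zpowers, h, pow_one]

theorem mem_centralizer_zpowers {a c : Γ} (hac : a * c = c * a) :
    a ∈ Subgroup.centralizer (Subgroup.zpowers c : Set Γ) := by
  rw [Subgroup.mem_centralizer_iff]
  intro h hh
  obtain ⟨n, rfl⟩ := Subgroup.mem_zpowers_iff.mp hh
  have h1 : Commute c a := hac.symm
  exact (h1.zpow_left n).eq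

theorem isPGroup_pair {p : ℕ} (hp : p.Prime) {a c : Γ} (hac : a * c = c * a) (ha : a ^ p = 1)
    (hc : c ^ p = 1) : IsPGroup p (Subgroup.zpowers a ⊔ Subgroup.zpowers c : Subgroup Γ) := by
  apply IsPGroup.to_sup_of_normal_right' (isPGroup_zpowers hp ha) (isPGroup_zpowers hp hc)
  rw [Subgroup.zpowers_le]
  exact Subgroup.centralizer_le_normalizer _ (mem_centralizer_zpowers hac)

/-- a `p`-group normalizing a `p'`-group acts coprimely -/
theorem coprimeAction_of_isPGroup [Finite Γ] {p : ℕ} [Fact p.Prime] {A K : Subgroup Γ}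
    (hA : IsPGroup p A) (hK : (Nat.card K).Coprime p)
    (hAK : A ≤ Subgroup.normalizer (K : Set Γ)) : CoprimeAction A K where
  normalizes := hAK
  coprime := by
    obtain ⟨n, hn⟩ := IsPGroup.iff_card.mp hA
    rw [hn]
    exact (Nat.Coprime.pow_right n hK).symm
  solvable := by
    left
    haveI := hA.isNilpotent
    infer_instance

theorem pair_le_normalizer {a c : Γ} {K : Subgroup Γ} (ha : a ∈ Subgroup.normalizer (K : Set Γ))
    (hc : c ∈ Subgroup.normalizer (K : Set Γ)) :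
    Subgroup.zpowers a ⊔ Subgroup.zpowers c ≤ Subgroup.normalizer (K : Set Γ) :=
  sup_le (Subgroup.zpowers_le.mpr ha) (Subgroup.zpowers_le.mpr hc)

theorem coprimeAction_pair [Finite Γ] {p : ℕ} [Fact p.Prime] {a c : Γ} (hac : a * c = c * a)
    (ha : a ^ p = 1) (hc : c ^ p = 1) {K : Subgroup Γ} (hK : (Nat.card K).Coprime p)
    (haK : a ∈ Subgroup.normalizer (K : Set Γ)) (hcK : c ∈ Subgroup.normalizer (K : Set Γ)) :
    CoprimeAction (Subgroup.zpowers a ⊔ Subgroup.zpowers c) K :=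
  coprimeAction_of_isPGroup (isPGroup_pair (Fact.out) hac ha hc) hK (pair_le_normalizer haK hcK)

theorem coprimeAction_zpowers [Finite Γ] {p : ℕ} [Fact p.Prime] {a : Γ}
    (ha : a ^ p = 1) {K : Subgroup Γ} (hK : (Nat.card K).Coprime p)
    (haK : a ∈ Subgroup.normalizer (K : Set Γ)) :
    CoprimeAction (Subgroup.zpowers a) K :=
  coprimeAction_of_isPGroup (isPGroup_zpowers (Fact.out) ha) hK (Subgroup.zpowers_le.mpr haK)

/-- the cardinality of a `q`-group is coprime to `p ≠ q` -/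
theorem coprime_card_of_isPGroup [Finite Γ] {p q : ℕ} (hp : p.Prime) (hq : q.Prime) (hpq : p ≠ q)
    {Q : Subgroup Γ} (hQ : IsPGroup q Q) : (Nat.card Q).Coprime p := by
  haveI : Fact q.Prime := ⟨hq⟩
  obtain ⟨n, hn⟩ := IsPGroup.iff_card.mp hQ
  rw [hn]
  exact Nat.Coprime.pow_left n ((Nat.coprime_primes hq hp).mpr hpq.symm)

/-- `g` normalizing `Q` and commuting with `a` normalizes `C_Q(a)` -/
theorem mem_normalizer_inf_centralizer {g a : Γ} {Q : Subgroup Γ}
    (hg : g ∈ Subgroup.normalizer (Q : Set Γ)) (hga : g * a = a * g) :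
    g ∈ Subgroup.normalizer ((Q ⊓ Subgroup.centralizer {a} : Subgroup Γ) : Set Γ) := by
  rw [Subgroup.mem_normalizer_iff]
  intro h
  rw [Subgroup.mem_inf, Subgroup.mem_inf, Subgroup.mem_centralizer_singleton_iff,
    Subgroup.mem_centralizer_singleton_iff, ← Subgroup.mem_normalizer_iff.mp hg h]
  constructor
  · rintro ⟨h1, h2⟩
    refine ⟨h1, ?_⟩
    calc g * h * g⁻¹ * a = g * h * (g⁻¹ * a) := by group
      _ = g * h * (a * g⁻¹) := by
        have : g⁻¹ * a = a * g⁻¹ := by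
          calc g⁻¹ * a = g⁻¹ * (a * g) * g⁻¹ := by group
            _ = g⁻¹ * (g * a) * g⁻¹ := by rw [hga]
            _ = a * g⁻¹ := by group
        rw [this]
      _ = g * (h * a) * g⁻¹ := by group
      _ = g * (a * h) * g⁻¹ := by rw [h2]
      _ = (g * a) * h * g⁻¹ := by group
      _ = (a * g) * h * g⁻¹ := by rw [hga]
      _ = a * (g * h * g⁻¹) := by group
  · rintro ⟨h1, h2⟩
    refine ⟨h1, ?_⟩
    have hga' : g⁻¹ * a = a * g⁻¹ := by
      calc g⁻¹ * a = g⁻¹ * (a * g) * g⁻¹ := by group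
        _ = g⁻¹ * (g * a) * g⁻¹ := by rw [hga]
        _ = a * g⁻¹ := by group
    calc h * a = g⁻¹ * (g * h * g⁻¹ * a) * g * (g⁻¹ * a⁻¹ * g * a) := by group
      _ = g⁻¹ * (a * (g * h * g⁻¹)) * g * (g⁻¹ * a⁻¹ * g * a) := by rw [h2]
      _ = g⁻¹ * (a * (g * h * g⁻¹)) * g * (g⁻¹ * a⁻¹ * (g * a)) := by group
      _ = g⁻¹ * (a * (g * h * g⁻¹)) * g * (g⁻¹ * a⁻¹ * (a * g)) := by rw [hga]
      _ = (g⁻¹ * a) * g * h := by group
      _ = (a * g⁻¹) * g * h := by rw [hga']
      _ = a * h := by group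

/-- an element normalizing `H` and `K` normalizes `⁅H, K⁆` -/
theorem mem_normalizer_commutator {g : Γ} {H K : Subgroup Γ}
    (hH : g ∈ Subgroup.normalizer (H : Set Γ)) (hK : g ∈ Subgroup.normalizer (K : Set Γ)) :
    g ∈ Subgroup.normalizer ((⁅H, K⁆ : Subgroup Γ) : Set Γ) := by
  have key : ∀ g : Γ, g ∈ Subgroup.normalizer (H : Set Γ) → g ∈ Subgroup.normalizer (K : Set Γ) →
      ∀ h ∈ ⁅H, K⁆, g * h * g⁻¹ ∈ ⁅H, K⁆ := by
    intro g hH hK
    have hle : ⁅H, K⁆ ≤ (⁅H, K⁆ : Subgroup Γ).comap (MulAut.conj g).toMonoidHom := by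
      rw [Subgroup.commutator_le]
      intro x hx y hy
      rw [Subgroup.mem_comap]
      show MulAut.conj g ⁅x, y⁆ ∈ ⁅H, K⁆
      rw [map_commutatorElement]
      apply Subgroup.commutator_mem_commutator
      · rw [MulAut.conj_apply]
        exact (Subgroup.mem_normalizer_iff.mp hH x).mp hx
      · rw [MulAut.conj_apply]
        exact (Subgroup.mem_normalizer_iff.mp hK y).mp hy
    intro h hh
    have := hle hh
    rw [Subgroup.mem_comap] at this
    exact this
  rw [Subgroup.mem_normalizer_iff]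
  intro h
  constructor
  · exact key g hH hK h
  · intro hh
    have := key g⁻¹ (Subgroup.inv_mem _ hH) (Subgroup.inv_mem _ hK) _ hh
    have e : g⁻¹ * (g * h * g⁻¹) * g⁻¹⁻¹ = h := by group
    rwa [e] at this

end Cfsg.Agent.Lib.H19.Ward
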