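import Mathlib
import Cfsg.Agent.Lib.H19.WardA
import Cfsg.Agent.Lib.H19.WardG
import Cfsg.Agent.Lib.H9.CoprimeGeneration

/-!
# Ward's theorem, part A2: the commutation lemmas (helper19)

* `lemC` : if `N_c * f = 0` then `ρ c` commutes with `ρ(Q)` on `f`.
* `rcomm` : ... hence so does `ρ(R)` when `c` acts fixed-point-freely on `R`.
* `fix_of_comm` : if `Q = [Q, R]` and `ρ(R)` commutes with `ρ(Q)` on `f` then `ρ(Q)` fixes `f`.
-/

set_option autoImplicit false
set_option linter.style.haveILetI false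
set_option linter.unusedSectionVars false

namespace Cfsg.Agent.Lib.H19.Ward

open Module Cfsg.Agent.Lib.H1
open scoped commutatorElement

variable {k : Type*} [Field k] {Γ : Type*} [Group Γ] {M : Type*} [AddCommGroup M] [Module k M]

theorem commute_conj_units {R : Type*} [Monoid R] {X X' A F : R} (h1 : X * X' = 1)
    (h : Commute A (X' * F * X)) : Commute (X * A * X') F := by
  show X * A * X' * F = F * (X * A * X')
  have e1 : X * A * X' * F = X * (A * (X' * F * X)) * X' := by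
    calc X * A * X' * F = X * A * X' * F * (X * X') := by rw [h1, mul_one]
      _ = X * (A * (X' * F * X)) * X' := by simp only [mul_assoc]
  have e2 : F * (X * A * X') = X * ((X' * F * X) * A) * X' := by
    calc F * (X * A * X') = (X * X') * F * (X * A * X') := by rw [h1, one_mul]
      _ = X * ((X' * F * X) * A) * X' := by simp only [mul_assoc]
  rw [e1, e2, h.eq]

variable (ρ : Representation k Γ M)

theorem conj_mem_cenOf {S : Set (End k M)} {x g : Γ}
    (hx : ∀ F ∈ S, ρ x⁻¹ * F * ρ x ∈ S) (hg : g ∈ cenOf ρ S) : x * g * x⁻¹ ∈ cenOf ρ S := by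
  intro F hF
  rw [map_mul, map_mul]
  exact commute_conj_units (apply_mul_apply_inv ρ x) (hg _ (hx F hF))

section

variable [Finite Γ]

/-- **Lemma C** -/
theorem lemC {p q : ℕ} [Fact p.Prime] [Fact q.Prime] (hpq : p ≠ q) (hqk : (q : k) ≠ 0)
    {Q : Subgroup Γ} (hQ : IsPGroup q Q) {a c : Γ} (hac : a * c = c * a) (hap : a ^ p = 1)
    (hcp : c ^ p = 1) (haQ : a ∈ Subgroup.normalizer (Q : Set Γ))
    (hcQ : c ∈ Subgroup.normalizer (Q : Set Γ))
    (hfix : ∀ u ∈ Q, a * u = u * a → c * u = u * c → u = 1)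
    {f : End k M} (hfQ : ∀ u ∈ Q, Commute f (ρ u)) (hfc : Commute f (ρ c))
    (hN : Nrm ρ c p * f = 0) : ∀ u ∈ Q, Commute (ρ u) (ρ c * f) := by
  have hp : p.Prime := Fact.out
  have hq : q.Prime := Fact.out
  have hQp : (Nat.card Q).Coprime p := coprime_card_of_isPGroup hp hq hpq hQ
  have hact : CoprimeAction (Subgroup.zpowers c ⊔ Subgroup.zpowers a) Q :=
    coprimeAction_pair hac.symm hcp hap hQp hcQ haQ
  have hle : Q ≤ cenOf ρ {ρ c * f} := by
    apply Cfsg.Agent.Lib.H9.le_of_centralizers_le_of_isPGroup hact hQ hQp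
      (x := c) (y := a) (Subgroup.mem_sup_left (Subgroup.mem_zpowers c))
      (Subgroup.mem_sup_right (Subgroup.mem_zpowers a)) hac.symm hcp hap
    · intro u hu
      rw [Subgroup.mem_inf, Subgroup.mem_centralizer_singleton_iff] at hu
      intro F hF
      rw [Set.mem_singleton_iff] at hF
      rw [hF]
      have h1 : Commute (ρ u) (ρ c) := by
        show ρ u * ρ c = ρ c * ρ u
        rw [← map_mul, ← map_mul, hu.2]
      exact h1.mul_right (hfQ u hu.1).symm
    · intro i u hu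
      rw [Subgroup.mem_inf] at hu
      set d := c ^ i * a with hd
      -- `c` normalizes `Q ⊓ C(d)` and is fixed point free on it
      have hcd : c * d = d * c := by
        have h1 : Commute c (c ^ i * a) := ((Commute.refl c).pow_right i).mul_right hac.symm
        exact h1.eq
      have hcQd := mem_normalizer_inf_centralizer hcQ hcd
      have hfix' : ∀ u ∈ Q ⊓ Subgroup.centralizer {d}, c * u = u * c → u = 1 := by
        intro v hv hcv
        rw [Subgroup.mem_inf, Subgroup.mem_centralizer_singleton_iff] at hv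
        apply hfix v hv.1 _ hcv
        -- `a = c⁻ⁱ d`
        have h1 : Commute v c := hcv.symm
        have h2 : Commute v d := hv.2
        have h3 : Commute v ((c ^ i)⁻¹ * d) := ((h1.pow_right i).inv_right).mul_right h2
        have e : (c ^ i)⁻¹ * d = a := by rw [hd]; group
        rw [e] at h3
        exact h3.eq.symm
      have hcard : (Nat.card (Q ⊓ Subgroup.centralizer {d} : Subgroup Γ) : k) ≠ 0 := by
        have hQd : IsPGroup q (Q ⊓ Subgroup.centralizer {d} : Subgroup Γ) :=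
          hQ.to_le inf_le_left
        obtain ⟨n, hn⟩ := IsPGroup.iff_card.mp hQd
        rw [hn, Nat.cast_pow]
        exact pow_ne_zero n hqk
      have htriv := frob_trivial ρ hp hcQd hcp hfix' hcard
        (fun v hv => hfQ v (Subgroup.mem_inf.mp hv).1) hN u (Subgroup.mem_inf.mpr hu)
      intro F hF
      rw [Set.mem_singleton_iff] at hF
      rw [hF]
      show ρ u * (ρ c * f) = ρ c * f * ρ u
      have h1 : ρ c * f * ρ u = ρ c * f := by
        rw [mul_assoc, (hfQ u hu.1).eq, htriv]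
      have h2 : ρ u * (ρ c * f) = ρ c * f := by
        rw [← hfc.eq, ← mul_assoc, htriv]
      rw [h1, h2]
  intro u hu
  exact hle hu _ (Set.mem_singleton _)

/-- **Lemma R** -/
theorem rcomm {Q R : Subgroup Γ} {c : Γ} (hRQ : R ≤ Subgroup.normalizer (Q : Set Γ))
    (hcR : c ∈ Subgroup.normalizer (R : Set Γ)) (hfixR : ∀ x ∈ R, c * x = x * c → x = 1)
    {f : End k M} (hfQ : ∀ u ∈ Q, Commute f (ρ u)) (hfR : ∀ x ∈ R, Commute f (ρ x))
    (hfc : Commute f (ρ c)) (hc : ∀ u ∈ Q, Commute (ρ u) (ρ c * f)) :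
    ∀ x ∈ R, ∀ u ∈ Q, Commute (ρ x) (ρ u * f) := by
  set S : Set (End k M) := insert f {F | ∃ u ∈ Q, F = ρ u * f} with hS
  have hcS : c ∈ cenOf ρ S := by
    intro F hF
    rcases hF with rfl | ⟨u, hu, rfl⟩
    · exact hfc.symm
    · show ρ c * (ρ u * f) = ρ u * f * ρ c
      have h1 := (hc u hu).eq
      calc ρ c * (ρ u * f) = ρ c * (f * ρ u) := by rw [(hfQ u hu).eq]
        _ = ρ c * f * ρ u := (mul_assoc _ _ _).symm
        _ = ρ u * (ρ c * f) := h1.symm
        _ = ρ u * (f * ρ c) := by rw [hfc.eq]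
        _ = ρ u * f * ρ c := (mul_assoc _ _ _).symm
  have hconj : ∀ x ∈ R, ∀ F ∈ S, ρ x⁻¹ * F * ρ x ∈ S := by
    intro x hx F hF
    rcases hF with rfl | ⟨u, hu, rfl⟩
    · left
      rw [mul_assoc, (hfR x hx).eq, ← mul_assoc, apply_inv_mul_apply, one_mul]
    · right
      refine ⟨x⁻¹ * u * x, (Subgroup.mem_normalizer_iff''.mp (hRQ hx) u).mp hu, ?_⟩
      rw [map_mul, map_mul]
      simp only [mul_assoc]
      rw [(hfR x hx).eq]
  intro x hx u hu
  obtain ⟨y, hy, rfl⟩ := exists_eq_comm hcR hfixR x hx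
  have h1 : y * c * y⁻¹ ∈ cenOf ρ S := conj_mem_cenOf ρ (hconj y hy) hcS
  have h2 : y * c * y⁻¹ * c⁻¹ ∈ cenOf ρ S := Subgroup.mul_mem _ h1 (Subgroup.inv_mem _ hcS)
  exact h2 _ (Or.inr ⟨u, hu, rfl⟩)

/-- if `Q = [Q, R]` and `ρ(R)` commutes with `ρ(Q)` on `f`, then `ρ(Q)` is trivial on `f` -/
theorem fix_of_comm {Q R : Subgroup Γ} (hQR : Q ≤ ⁅Q, R⁆) {f : End k M}
    (hfR : ∀ x ∈ R, Commute f (ρ x))
    (h : ∀ x ∈ R, ∀ u ∈ Q, Commute (ρ x) (ρ u * f)) : ∀ u ∈ Q, ρ u * f = f := by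
  have hle : ⁅Q, R⁆ ≤ fixOf ρ f := by
    rw [Subgroup.commutator_le]
    intro u hu x hx
    rw [mem_fixOf, commutatorElement_def, map_mul, map_mul, map_mul]
    have h1 := (h x hx u⁻¹ (Q.inv_mem hu)).eq
    have h2 := (hfR x⁻¹ (R.inv_mem hx)).eq
    calc ρ u * ρ x * ρ u⁻¹ * ρ x⁻¹ * f = ρ u * (ρ x * (ρ u⁻¹ * f)) * ρ x⁻¹ := by
          rw [mul_assoc _ (ρ x⁻¹) f, ← h2]; simp only [mul_assoc]
      _ = ρ u * ((ρ u⁻¹ * f) * ρ x) * ρ x⁻¹ := by rw [h1]
      _ = (ρ u * ρ u⁻¹) * f * (ρ x * ρ x⁻¹) := by simp only [mul_assoc]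
      _ = f := by rw [apply_mul_apply_inv, apply_mul_apply_inv, one_mul, mul_one]
  intro u hu
  exact hle (hQR hu)

end

end Cfsg.Agent.Lib.H19.Ward
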