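import Mathlib
import Cfsg.Agent.Lib.H19.WardA2

/-!
# Ward's theorem, part C1: the hypotheses of Claim W and stage 1 (helper19)
-/

set_option autoImplicit false
set_option linter.style.haveILetI false
set_option linter.unusedSectionVars false

namespace Cfsg.Agent.Lib.H19.Ward

open Module Cfsg.Agent.Lib.H1
open scoped commutatorElement

variable {k : Type*} [Field k] {Γ : Type*} [Group Γ] {M : Type*} [AddCommGroup M] [Module k M]

/-- the hypotheses of Claim W -/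
structure WHyp (ρ : Representation k Γ M) (p q : ℕ) (a b : Γ) (R Q : Subgroup Γ) : Prop where
  hab : a * b = b * a
  hap : a ^ p = 1
  hbp : b ^ p = 1
  hRa : ∀ x ∈ R, a * x = x * a
  hbR : b ∈ Subgroup.normalizer (R : Set Γ)
  hRfix : ∀ x ∈ R, b * x = x * b → x = 1
  hRq : (Nat.card R).Coprime q
  hRp : (Nat.card R).Coprime p
  hNA : Nrm ρ a p * Nrm ρ b p = 0
  hQ : IsPGroup q Q
  haQ : a ∈ Subgroup.normalizer (Q : Set Γ)
  hbQ : b ∈ Subgroup.normalizer (Q : Set Γ)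
  hRQ : R ≤ Subgroup.normalizer (Q : Set Γ)
  hQfix : ∀ u ∈ Q, a * u = u * a → b * u = u * b → u = 1
  H0 : ∀ u ∈ Q, a * u = u * a → ∀ x ∈ R, u * x = x * u
  Hnil : ∀ i : ℕ, ∀ u ∈ Q, (a ^ i * b) * u = u * (a ^ i * b) →
    ρ u * Nrm ρ (a ^ i * b) p = Nrm ρ (a ^ i * b) p

namespace WHyp

variable {ρ : Representation k Γ M} {p q : ℕ} {a b : Γ} {R Q : Subgroup Γ}

theorem mono (h : WHyp ρ p q a b R Q) {Q' : Subgroup Γ} (hle : Q' ≤ Q)
    (ha : a ∈ Subgroup.normalizer (Q' : Set Γ)) (hb : b ∈ Subgroup.normalizer (Q' : Set Γ))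
    (hR : R ≤ Subgroup.normalizer (Q' : Set Γ)) : WHyp ρ p q a b R Q' where
  hab := h.hab
  hap := h.hap
  hbp := h.hbp
  hRa := h.hRa
  hbR := h.hbR
  hRfix := h.hRfix
  hRq := h.hRq
  hRp := h.hRp
  hNA := h.hNA
  hQ := h.hQ.to_le hle
  haQ := ha
  hbQ := hb
  hRQ := hR
  hQfix := fun u hu => h.hQfix u (hle hu)
  H0 := fun u hu => h.H0 u (hle hu)
  Hnil := fun i u hu => h.Hnil i u (hle hu)

variable (h : WHyp ρ p q a b R Q)
include h

theorem comm_ac (i : ℕ) : a * (a ^ i * b) = (a ^ i * b) * a := by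
  have h1 : Commute a (a ^ i * b) := ((Commute.refl a).pow_right i).mul_right h.hab
  exact h1.eq

theorem comm_bc (i : ℕ) : b * (a ^ i * b) = (a ^ i * b) * b := by
  have h0 : Commute b a := h.hab.symm
  have h1 : Commute b (a ^ i * b) := (h0.pow_right i).mul_right (Commute.refl b)
  exact h1.eq

theorem hcp (i : ℕ) : (a ^ i * b) ^ p = 1 := by
  have h0 : Commute a b := h.hab
  rw [(h0.pow_left i).mul_pow, ← pow_mul, mul_comm, pow_mul, h.hap, one_pow, h.hbp, one_mul]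

theorem hcQ (i : ℕ) : a ^ i * b ∈ Subgroup.normalizer (Q : Set Γ) :=
  Subgroup.mul_mem _ (Subgroup.pow_mem _ h.haQ i) h.hbQ

theorem haR : a ∈ Subgroup.normalizer (R : Set Γ) := by
  rw [Subgroup.mem_normalizer_iff]
  intro x
  constructor
  · intro hx
    have : a * x * a⁻¹ = x := by rw [h.hRa x hx]; group
    rw [this]; exact hx
  · intro hx
    have h1 := h.hRa _ hx
    have h2 : a * x * a⁻¹ = x := by
      calc a * x * a⁻¹ = a⁻¹ * (a * (a * x * a⁻¹)) := by group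
        _ = a⁻¹ * ((a * x * a⁻¹) * a) := by rw [h1]
        _ = x := by group
    rw [h2] at hx; exact hx

theorem hcR (i : ℕ) : a ^ i * b ∈ Subgroup.normalizer (R : Set Γ) :=
  Subgroup.mul_mem _ (Subgroup.pow_mem _ h.haR i) h.hbR

/-- if `u` commutes with `a` and `a ^ i * b` it commutes with `b` -/
theorem comm_b_of_comm {i : ℕ} {u : Γ} (hua : a * u = u * a) (huc : (a ^ i * b) * u = u * (a ^ i * b)) :
    b * u = u * b := by
  have h1 : Commute u a := hua.symm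
  have h2 : Commute u (a ^ i * b) := huc.symm
  have h3 : Commute u ((a ^ i)⁻¹ * (a ^ i * b)) := ((h1.pow_right i).inv_right).mul_right h2
  have e : (a ^ i)⁻¹ * (a ^ i * b) = b := by group
  rw [e] at h3
  exact h3.eq.symm

theorem hcRfix (i : ℕ) : ∀ x ∈ R, (a ^ i * b) * x = x * (a ^ i * b) → x = 1 := by
  intro x hx hc
  exact h.hRfix x hx (h.comm_b_of_comm (h.hRa x hx) hc)

theorem hcQfix (i : ℕ) : ∀ u ∈ Q, a * u = u * a → (a ^ i * b) * u = u * (a ^ i * b) → u = 1 := by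
  intro u hu hua huc
  exact h.hQfix u hu hua (h.comm_b_of_comm hua huc)

theorem commute_ρab : Commute (ρ a) (ρ b) := by
  show ρ a * ρ b = ρ b * ρ a
  rw [← map_mul, ← map_mul, h.hab]

theorem hNA' : Nrm ρ b p * Nrm ρ a p = 0 := by
  have h1 : Commute (Nrm ρ b p) (Nrm ρ a p) :=
    commute_Nrm ρ (commute_Nrm ρ h.commute_ρab p).symm p
  rw [h1.eq, h.hNA]

theorem hNc (i : ℕ) : Nrm ρ (a ^ i * b) p * Nrm ρ a p = 0 := by
  rw [Nrm_pair ρ h.hab h.hap i, h.hNA']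

theorem card_ne_zero (hqk : (q : k) ≠ 0) [Fact q.Prime] [Finite Γ] {Q' : Subgroup Γ} (hle : Q' ≤ Q) :
    (Nat.card Q' : k) ≠ 0 := by
  obtain ⟨n, hn⟩ := IsPGroup.iff_card.mp (h.hQ.to_le hle)
  rw [hn, Nat.cast_pow]
  exact pow_ne_zero n hqk

theorem commutator_le : ⁅Q, Q⁆ ≤ Q := by
  rw [Subgroup.commutator_le]
  intro u hu v hv
  exact Q.mul_mem (Q.mul_mem (Q.mul_mem hu hv) (Q.inv_mem hu)) (Q.inv_mem hv)

omit h in
theorem conj_mem_commutator {v z : Γ} (hv : v ∈ Q) (hz : z ∈ ⁅Q, Q⁆) : v⁻¹ * z * v ∈ ⁅Q, Q⁆ := by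
  have h1 : v ∈ Subgroup.normalizer ((⁅Q, Q⁆ : Subgroup Γ) : Set Γ) :=
    Subgroup.normalizer_commutator_ge_left Q Q hv
  exact (Subgroup.mem_normalizer_iff''.mp h1 z).mp hz

/-- `ρ(Z)` is central in `ρ(Q)` -/
theorem Z_central (hQR : Q ≤ ⁅Q, R⁆)
    (hZ : ∀ z ∈ ⁅Q, Q⁆, ∀ x ∈ R, Commute (ρ z) (ρ x)) :
    ∀ z ∈ ⁅Q, Q⁆, ∀ v ∈ Q, Commute (ρ z) (ρ v) := by
  have hle : ⁅Q, R⁆ ≤ cenOf ρ {F | ∃ z ∈ ⁅Q, Q⁆, F = ρ z} := by
    rw [Subgroup.commutator_le]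
    intro v hv x hx F hF
    obtain ⟨z, hz, rfl⟩ := hF
    rw [commutatorElement_def]
    have e : v * x * v⁻¹ * x⁻¹ = (v * x * v⁻¹) * x⁻¹ := rfl
    rw [e, map_mul]
    have h1 : Commute (ρ z) (ρ (v * x * v⁻¹)) :=
      commute_conj ρ (hZ _ (conj_mem_commutator hv hz) x hx)
    have h2 : Commute (ρ z) (ρ x⁻¹) := hZ z hz x⁻¹ (R.inv_mem hx)
    exact (h1.mul_right h2).symm
  intro z hz v hv
  exact (hle (hQR hv) _ ⟨z, hz, rfl⟩).symm

/-- `ρ(C_Q(a))` is central in `ρ(Q)` -/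
theorem C0_central (hQR : Q ≤ ⁅Q, R⁆)
    (hZ : ∀ z ∈ ⁅Q, Q⁆, ∀ x ∈ R, Commute (ρ z) (ρ x)) :
    ∀ y ∈ Q ⊓ Subgroup.centralizer {a}, ∀ v ∈ Q, Commute (ρ y) (ρ v) := by
  have hyR : ∀ y ∈ Q ⊓ Subgroup.centralizer {a}, ∀ x ∈ R, Commute (ρ y) (ρ x) := by
    intro y hy x hx
    rw [Subgroup.mem_inf, Subgroup.mem_centralizer_singleton_iff] at hy
    show ρ y * ρ x = ρ x * ρ y
    rw [← map_mul, ← map_mul, h.H0 y hy.1 hy.2.symm x hx]
  have hle : ⁅Q, R⁆ ≤ cenOf ρ {F | ∃ y ∈ Q ⊓ Subgroup.centralizer {a}, F = ρ y} := by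
    rw [Subgroup.commutator_le]
    intro v hv x hx F hF
    obtain ⟨y, hy, rfl⟩ := hF
    have hyQ : y ∈ Q := (Subgroup.mem_inf.mp hy).1
    rw [commutatorElement_def]
    have e : v * x * v⁻¹ * x⁻¹ = (v * x * v⁻¹) * x⁻¹ := rfl
    rw [e, map_mul]
    have h1 : Commute (ρ y) (ρ (v * x * v⁻¹)) := by
      apply commute_conj ρ
      have e2 : v⁻¹ * y * v = y * ⁅y⁻¹, v⁻¹⁆ := by
        rw [commutatorElement_def]; group
      rw [e2, map_mul]
      have h3 : ⁅y⁻¹, v⁻¹⁆ ∈ ⁅Q, Q⁆ :=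
        Subgroup.commutator_mem_commutator (Q.inv_mem hyQ) (Q.inv_mem hv)
      exact (hyR y hy x hx).mul_left (hZ _ h3 x hx)
    have h2 : Commute (ρ y) (ρ x⁻¹) := hyR y hy x⁻¹ (R.inv_mem hx)
    exact (h1.mul_right h2).symm
  intro y hy v hv
  exact (hle (hQR hv) _ ⟨y, hy, rfl⟩).symm

end WHyp

end Cfsg.Agent.Lib.H19.Ward
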