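import Mathlib
import Cfsg.Agent.Lib.H19.WardC1

/-!
# Ward's theorem, part C2: the idempotent `e₀` and stage 1 (helper19)
-/

set_option autoImplicit false
set_option linter.style.haveILetI false
set_option linter.unusedSectionVars false

namespace Cfsg.Agent.Lib.H19.Ward

open Module Cfsg.Agent.Lib.H1
open scoped commutatorElement

variable {k : Type*} [Field k] {Γ : Type*} [Group Γ] {M : Type*} [AddCommGroup M] [Module k M]

/-- the facts about the idempotent `e₀ = avg ρ (C_Q(a))` -/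
structure E0Hyp (ρ : Representation k Γ M) (a b : Γ) (R Q : Subgroup Γ) (e₀ : End k M) : Prop where
  idem : e₀ * e₀ = e₀
  fixC : ∀ y ∈ Q ⊓ Subgroup.centralizer {a}, ρ y * e₀ = e₀
  commQ : ∀ v ∈ Q, Commute e₀ (ρ v)
  commR : ∀ x ∈ R, Commute e₀ (ρ x)
  comma : Commute e₀ (ρ a)
  commb : Commute e₀ (ρ b)

namespace E0Hyp

variable {ρ : Representation k Γ M} {a b : Γ} {R Q : Subgroup Γ} {e₀ : End k M}

theorem commc (he : E0Hyp ρ a b R Q e₀) (i : ℕ) : Commute e₀ (ρ (a ^ i * b)) := by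
  rw [map_mul, map_pow]
  exact (he.comma.pow_right i).mul_right he.commb

theorem mul_one_sub (he : E0Hyp ρ a b R Q e₀) : e₀ * (1 - e₀) = 0 := by
  rw [mul_sub, mul_one, he.idem, sub_self]

theorem one_sub_mul (he : E0Hyp ρ a b R Q e₀) : (1 - e₀) * e₀ = 0 := by
  rw [sub_mul, one_mul, he.idem, sub_self]

end E0Hyp

namespace WHyp

variable {ρ : Representation k Γ M} {p q : ℕ} {a b : Γ} {R Q : Subgroup Γ}
variable [Finite Γ] [Fact q.Prime]

theorem e0Hyp (h : WHyp ρ p q a b R Q) (hqk : (q : k) ≠ 0) (hQR : Q ≤ ⁅Q, R⁆)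
    (hZ : ∀ z ∈ ⁅Q, Q⁆, ∀ x ∈ R, Commute (ρ z) (ρ x)) :
    E0Hyp ρ a b R Q (avg ρ (Q ⊓ Subgroup.centralizer {a})) where
  idem := avg_mul_avg ρ (h.card_ne_zero hqk inf_le_left)
  fixC := fun y hy => apply_mul_avg ρ hy
  commQ := by
    intro v hv
    apply (commute_avg ρ _).symm
    intro y hy
    exact (h.C0_central hQR hZ y hy v hv).symm
  commR := by
    intro x hx
    apply (commute_avg ρ _).symm
    intro y hy
    rw [Subgroup.mem_inf, Subgroup.mem_centralizer_singleton_iff] at hy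
    show ρ x * ρ y = ρ y * ρ x
    rw [← map_mul, ← map_mul, h.H0 y hy.1 hy.2.symm x hx]
  comma := by
    apply (commute_avg ρ _).symm
    intro y hy
    rw [Subgroup.mem_inf, Subgroup.mem_centralizer_singleton_iff] at hy
    show ρ a * ρ y = ρ y * ρ a
    rw [← map_mul, ← map_mul, hy.2]
  commb := by
    apply (commute_apply_avg ρ _).symm
    exact mem_normalizer_inf_centralizer h.hbQ h.hab.symm

/-- stage 1 for a single `c = a ^ i * b` -/
theorem stage1_c [Fact p.Prime] (h : WHyp ρ p q a b R Q) (hpq : p ≠ q) (hqk : (q : k) ≠ 0)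
    (hQR : Q ≤ ⁅Q, R⁆) (hZ : ∀ z ∈ ⁅Q, Q⁆, ∀ x ∈ R, Commute (ρ z) (ρ x)) (i : ℕ) :
    ∀ z ∈ ⁅Q, Q⁆ ⊓ Subgroup.centralizer {a ^ i * b},
      ρ z * avg ρ (Q ⊓ Subgroup.centralizer {a}) = avg ρ (Q ⊓ Subgroup.centralizer {a}) := by
  have hp : p.Prime := Fact.out
  have he := h.e0Hyp hqk hQR hZ
  have hcomm_ac := h.comm_ac i
  have hcomm_bc := h.comm_bc i
  have hcp := h.hcp i
  have hcQ := h.hcQ i
  have hcR := h.hcR i
  have hcQfix := h.hcQfix i
  have hcRfix := h.hcRfix i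
  have hNc := h.hNc i
  have hec0 := he.commc i
  obtain ⟨c, hc⟩ : ∃ c : Γ, c = a ^ i * b := ⟨_, rfl⟩
  rw [← hc] at hcomm_ac hcomm_bc hcp hcQ hcR hcQfix hcRfix hNc hec0 ⊢
  obtain ⟨e₀, he₀⟩ : ∃ e₀ : End k M, e₀ = avg ρ (Q ⊓ Subgroup.centralizer {a}) := ⟨_, rfl⟩
  rw [← he₀] at he hec0 ⊢
  obtain ⟨Zc, hZc⟩ : ∃ Zc : Subgroup Γ, Zc = ⁅Q, Q⁆ ⊓ Subgroup.centralizer {c} := ⟨_, rfl⟩
  rw [← hZc]
  have hZcle : Zc ≤ ⁅Q, Q⁆ ⊓ Subgroup.centralizer {c} := hZc.le
  have hZcQ : Zc ≤ Q := hZcle.trans (inf_le_left.trans h.commutator_le)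
  have hZcZ : Zc ≤ ⁅Q, Q⁆ := hZcle.trans inf_le_left
  have hZcc : ∀ z ∈ Zc, z * c = c * z := by
    intro z hz
    have := (Subgroup.mem_inf.mp (hZcle hz)).2
    rwa [Subgroup.mem_centralizer_singleton_iff] at this
  have hcard : (Nat.card Zc : k) ≠ 0 := h.card_ne_zero hqk hZcQ
  have hZcent := h.Z_central hQR hZ
  have haZ : a ∈ Subgroup.normalizer ((⁅Q, Q⁆ : Subgroup Γ) : Set Γ) :=
    mem_normalizer_commutator h.haQ h.haQ
  have hbZ : b ∈ Subgroup.normalizer ((⁅Q, Q⁆ : Subgroup Γ) : Set Γ) :=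
    mem_normalizer_commutator h.hbQ h.hbQ
  have haZc : a ∈ Subgroup.normalizer (Zc : Set Γ) := by
    rw [hZc]; exact mem_normalizer_inf_centralizer haZ hcomm_ac
  have hbZc : b ∈ Subgroup.normalizer (Zc : Set Γ) := by
    rw [hZc]; exact mem_normalizer_inf_centralizer hbZ hcomm_bc
  have hcZc : c ∈ Subgroup.normalizer (Zc : Set Γ) := by
    rw [hc]; exact Subgroup.mul_mem _ (Subgroup.pow_mem _ haZc i) hbZc
  obtain ⟨ec, hec⟩ : ∃ ec : End k M, ec = avg ρ Zc := ⟨_, rfl⟩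
  have hec_idem : ec * ec = ec := by rw [hec]; exact avg_mul_avg ρ hcard
  have hecQ : ∀ v ∈ Q, Commute ec (ρ v) := by
    intro v hv
    rw [hec]
    apply (commute_avg ρ _).symm
    intro z hz
    exact (hZcent z (hZcZ hz) v hv).symm
  have hecR : ∀ x ∈ R, Commute ec (ρ x) := by
    intro x hx
    rw [hec]
    apply (commute_avg ρ _).symm
    intro z hz
    exact (hZ z (hZcZ hz) x hx).symm
  have heca : Commute ec (ρ a) := by rw [hec]; exact (commute_apply_avg ρ haZc).symm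
  have hecc : Commute ec (ρ c) := by rw [hec]; exact (commute_apply_avg ρ hcZc).symm
  have hece : Commute ec e₀ := by
    rw [he₀]
    apply commute_avg ρ
    intro y hy
    exact hecQ y (Subgroup.mem_inf.mp hy).1
  -- the cutoff
  obtain ⟨f, hf⟩ : ∃ f : End k M, f = e₀ * (1 - ec) := ⟨_, rfl⟩
  have hfX : ∀ X : End k M, Commute e₀ X → Commute ec X → Commute f X := by
    intro X h1 h2
    rw [hf]
    exact h1.mul_left ((Commute.one_left X).sub_left h2)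
  have hfQ : ∀ v ∈ Q, Commute f (ρ v) := fun v hv => hfX _ (he.commQ v hv) (hecQ v hv)
  have hfR : ∀ x ∈ R, Commute f (ρ x) := fun x hx => hfX _ (he.commR x hx) (hecR x hx)
  have hfa : Commute f (ρ a) := hfX _ he.comma heca
  have hfc : Commute f (ρ c) := hfX _ hec0 hecc
  have hecf : ec * f = 0 := by
    rw [hf, ← mul_assoc, hece.eq, mul_assoc, mul_sub, mul_one, hec_idem, sub_self, mul_zero]
  -- `N_c * f = 0`
  have hNf : Nrm ρ c p * f = 0 := by
    have hfixa : ∀ u ∈ Zc, a * u = u * a → u = 1 := by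
      intro u hu hua
      exact hcQfix u (hZcQ hu) hua (hZcc u hu).symm
    have hid := frob_id ρ hp haZc h.hap hfixa
    have h1 : Nrm ρ c p * (∑ᶠ y : ↥Zc, ρ (y : Γ) * Nrm ρ a p * ρ (y : Γ)⁻¹) * f = 0 := by
      haveI := Fintype.ofFinite ↥Zc
      rw [finsum_eq_sum_of_fintype, Finset.mul_sum, Finset.sum_mul]
      apply Finset.sum_eq_zero
      intro y _
      have hy : Commute (Nrm ρ c p) (ρ (y : Γ)) := by
        apply (commute_Nrm ρ _ p).symm
        show ρ (y : Γ) * ρ c = ρ c * ρ (y : Γ)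
        rw [← map_mul, ← map_mul, hZcc y y.2]
      calc Nrm ρ c p * (ρ (y : Γ) * Nrm ρ a p * ρ (y : Γ)⁻¹) * f
          = (Nrm ρ c p * ρ (y : Γ)) * Nrm ρ a p * ρ (y : Γ)⁻¹ * f := by simp only [mul_assoc]
        _ = (ρ (y : Γ) * Nrm ρ c p) * Nrm ρ a p * ρ (y : Γ)⁻¹ * f := by rw [hy.eq]
        _ = ρ (y : Γ) * (Nrm ρ c p * Nrm ρ a p) * ρ (y : Γ)⁻¹ * f := by simp only [mul_assoc]
        _ = 0 := by rw [hNc, mul_zero, zero_mul, zero_mul]
    rw [hid, mul_add, add_mul, mul_smul_comm, mul_one, smul_mul_assoc] at h1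
    have h2 : Nrm ρ c p * (Esum ρ Zc * (Nrm ρ a p - 1)) * f = 0 := by
      have h3 : Commute f (Nrm ρ a p - 1) :=
        (commute_Nrm ρ hfa p).sub_right (Commute.one_right f)
      have h4 : Esum ρ Zc * f = 0 := by
        rw [Esum_eq_smul_avg ρ hcard, smul_mul_assoc, ← hec, hecf, smul_zero]
      calc Nrm ρ c p * (Esum ρ Zc * (Nrm ρ a p - 1)) * f
          = Nrm ρ c p * (Esum ρ Zc * ((Nrm ρ a p - 1) * f)) := by simp only [mul_assoc]
        _ = Nrm ρ c p * (Esum ρ Zc * (f * (Nrm ρ a p - 1))) := by rw [h3.eq]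
        _ = Nrm ρ c p * ((Esum ρ Zc * f) * (Nrm ρ a p - 1)) := by simp only [mul_assoc]
        _ = 0 := by rw [h4, zero_mul, mul_zero]
    rw [h2, add_zero] at h1
    exact (smul_eq_zero.mp h1).resolve_left hcard
  -- Lemma C, Lemma R
  have hC := lemC ρ hpq hqk h.hQ hcomm_ac h.hap hcp h.haQ hcQ hcQfix hfQ hfc hNf
  have hR := rcomm ρ h.hRQ hcR hcRfix hfQ hfR hfc hC
  have hfix := fix_of_comm ρ hQR hfR hR
  -- hence `f = 0`
  have hf0 : f = 0 := by
    have h1 : ec * f = f := by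
      rw [hec]
      exact avg_mul_of_fix ρ hcard (fun z hz => hfix z (hZcQ hz))
    rw [← h1, hecf]
  have he0 : e₀ = e₀ * ec := by
    have : e₀ * (1 - ec) = 0 := by rw [← hf]; exact hf0
    rw [mul_sub, mul_one, sub_eq_zero] at this
    exact this
  intro z hz
  have h1 : ρ z * ec = ec := by rw [hec]; exact apply_mul_avg ρ hz
  calc ρ z * e₀ = ρ z * (e₀ * ec) := by rw [← he0]
    _ = ρ z * (ec * e₀) := by rw [hece.eq]
    _ = (ρ z * ec) * e₀ := by rw [mul_assoc]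
    _ = ec * e₀ := by rw [h1]
    _ = e₀ * ec := hece.eq
    _ = e₀ := he0.symm

/-- **Stage 1**: `Z = [Q, Q]` acts trivially on `e₀` -/
theorem stage1 [Fact p.Prime] (h : WHyp ρ p q a b R Q) (hpq : p ≠ q) (hqk : (q : k) ≠ 0)
    (hQR : Q ≤ ⁅Q, R⁆) (hZ : ∀ z ∈ ⁅Q, Q⁆, ∀ x ∈ R, Commute (ρ z) (ρ x)) :
    ∀ z ∈ ⁅Q, Q⁆,
      ρ z * avg ρ (Q ⊓ Subgroup.centralizer {a}) = avg ρ (Q ⊓ Subgroup.centralizer {a}) := by
  have hp : p.Prime := Fact.out
  have hq : q.Prime := Fact.out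
  have hZq : IsPGroup q (⁅Q, Q⁆ : Subgroup Γ) := h.hQ.to_le h.commutator_le
  have hZp : (Nat.card (⁅Q, Q⁆ : Subgroup Γ)).Coprime p := coprime_card_of_isPGroup hp hq hpq hZq
  have haZ : a ∈ Subgroup.normalizer ((⁅Q, Q⁆ : Subgroup Γ) : Set Γ) :=
    mem_normalizer_commutator h.haQ h.haQ
  have hbZ : b ∈ Subgroup.normalizer ((⁅Q, Q⁆ : Subgroup Γ) : Set Γ) :=
    mem_normalizer_commutator h.hbQ h.hbQ
  have hact := coprimeAction_pair h.hab h.hap h.hbp hZp haZ hbZ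
  have hle : ⁅Q, Q⁆ ≤ fixOf ρ (avg ρ (Q ⊓ Subgroup.centralizer {a})) := by
    apply Cfsg.Agent.Lib.H9.le_of_centralizers_le_of_isPGroup hact hZq hZp
      (x := a) (y := b) (Subgroup.mem_sup_left (Subgroup.mem_zpowers a))
      (Subgroup.mem_sup_right (Subgroup.mem_zpowers b)) h.hab h.hap h.hbp
    · intro z hz
      rw [Subgroup.mem_inf] at hz
      rw [mem_fixOf]
      exact apply_mul_avg ρ (Subgroup.mem_inf.mpr ⟨h.commutator_le hz.1, hz.2⟩)
    · intro i z hz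
      rw [mem_fixOf]
      exact h.stage1_c hpq hqk hQR hZ i z hz
  intro z hz
  exact hle hz

end WHyp

end Cfsg.Agent.Lib.H19.Ward
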