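import Mathlib
import Cfsg.Agent.Lib.H19.WardC2
import Cfsg.Agent.Lib.H19.WardB

/-!
# Ward's theorem, part C3: the truncated action on `e₀ M` and its weights (helper19)
-/

set_option autoImplicit false
set_option linter.style.haveILetI false
set_option linter.unusedSectionVars false

namespace Cfsg.Agent.Lib.H19.Ward

open Module Cfsg.Agent.Lib.H1
open scoped commutatorElement

variable {k : Type*} [Field k] {Γ : Type*} [Group Γ] {M : Type*} [AddCommGroup M] [Module k M]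

theorem trunc_mul {A : Type*} [Ring A] {P P' X Y : A} (hPP : P * P = P) (hPP' : P * P' = 0)
    (hP'P : P' * P = 0) (hP'P' : P' * P' = P') (hPY : P * Y = Y * P) (hP'Y : P' * Y = Y * P') :
    (X * P + P') * (Y * P + P') = X * Y * P + P' := by
  calc (X * P + P') * (Y * P + P')
      = X * (P * Y) * P + X * (P * P') + (P' * Y) * P + P' * P' := by noncomm_ring
    _ = X * (Y * P) * P + X * 0 + (Y * P') * P + P' := by rw [hPY, hPP', hP'Y, hP'P']
    _ = X * Y * (P * P) + Y * (P' * P) + P' := by noncomm_ring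
    _ = X * Y * P + P' := by rw [hPP, hP'P, mul_zero, add_zero]

theorem trunc_conj {A : Type*} [Ring A] {G G' U P : A} (hG'G : G' * G = 1)
    (hGP : G * P = P * G) : G * (U * P + (1 - P)) = (G * U * G' * P + (1 - P)) * G := by
  symm
  calc (G * U * G' * P + (1 - P)) * G = G * U * G' * (P * G) + (G - P * G) := by noncomm_ring
    _ = G * U * G' * (G * P) + (G - G * P) := by rw [← hGP]
    _ = G * U * (G' * G) * P + (G - G * P) := by noncomm_ring
    _ = G * U * P + (G - G * P) := by rw [hG'G, mul_one]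
    _ = G * (U * P + (1 - P)) := by noncomm_ring

open Classical in
/-- the truncated action of `Q` on `e₀ M` (extended by the identity) -/
noncomputable def Tq (ρ : Representation k Γ M) (Q : Subgroup Γ) (e₀ : End k M) (g : Γ) :
    End k M :=
  if g ∈ Q then ρ g * e₀ + (1 - e₀) else 1

section Tq

variable {ρ : Representation k Γ M} {a b : Γ} {R Q : Subgroup Γ} {e₀ : End k M}

theorem Tq_of_mem {g : Γ} (hg : g ∈ Q) : Tq ρ Q e₀ g = ρ g * e₀ + (1 - e₀) := if_pos hg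

theorem Tq_of_not_mem {g : Γ} (hg : g ∉ Q) : Tq ρ Q e₀ g = 1 := if_neg hg

theorem Tq_one : Tq ρ Q e₀ 1 = 1 := by
  rw [Tq_of_mem Q.one_mem, map_one, one_mul, add_sub_cancel]

variable (he : E0Hyp ρ a b R Q e₀)
include he

theorem Tq_mul {u v : Γ} (hu : u ∈ Q) (hv : v ∈ Q) :
    Tq ρ Q e₀ u * Tq ρ Q e₀ v = Tq ρ Q e₀ (u * v) := by
  rw [Tq_of_mem hu, Tq_of_mem hv, Tq_of_mem (Q.mul_mem hu hv), map_mul]
  apply trunc_mul he.idem he.mul_one_sub he.one_sub_mul
  · rw [sub_mul, one_mul, he.mul_one_sub, sub_zero]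
  · exact (he.commQ v hv).eq
  · rw [sub_mul, mul_sub, one_mul, mul_one, (he.commQ v hv).eq]

theorem Tq_pow {u : Γ} (hu : u ∈ Q) (n : ℕ) : (Tq ρ Q e₀ u) ^ n = Tq ρ Q e₀ (u ^ n) := by
  induction n with
  | zero => rw [pow_zero, pow_zero, Tq_one]
  | succ n ih => rw [pow_succ, pow_succ, ih, Tq_mul he (Q.pow_mem hu n) hu]

theorem Tq_pow_card [Finite Γ] (g : Γ) : (Tq ρ Q e₀ g) ^ (Nat.card Q) = 1 := by
  by_cases hg : g ∈ Q
  · rw [Tq_pow he hg]
    have h1 : g ^ Nat.card Q = 1 := by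
      have := pow_card_eq_one' (G := ↥Q) (x := ⟨g, hg⟩)
      exact congrArg Subtype.val this
    rw [h1, Tq_one]
  · rw [Tq_of_not_mem hg, one_pow]

theorem Tq_comm (hZe : ∀ z ∈ ⁅Q, Q⁆, ρ z * e₀ = e₀) (g g' : Γ) :
    Commute (Tq ρ Q e₀ g) (Tq ρ Q e₀ g') := by
  by_cases hg : g ∈ Q
  · by_cases hg' : g' ∈ Q
    · show Tq ρ Q e₀ g * Tq ρ Q e₀ g' = Tq ρ Q e₀ g' * Tq ρ Q e₀ g
      rw [Tq_mul he hg hg', Tq_mul he hg' hg, Tq_of_mem (Q.mul_mem hg hg'),
        Tq_of_mem (Q.mul_mem hg' hg)]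
      congr 1
      have e : g * g' = g' * g * ⁅g⁻¹, g'⁻¹⁆ := by
        rw [commutatorElement_def]; group
      have hz : ⁅g⁻¹, g'⁻¹⁆ ∈ ⁅Q, Q⁆ :=
        Subgroup.commutator_mem_commutator (Q.inv_mem hg) (Q.inv_mem hg')
      rw [e, map_mul, mul_assoc, hZe _ hz]
    · rw [Tq_of_not_mem hg']
      exact Commute.one_right _
  · rw [Tq_of_not_mem hg]
    exact Commute.one_left _

theorem Tq_conj {g : Γ} (hgQ : g ∈ Subgroup.normalizer (Q : Set Γ)) (hge : Commute (ρ g) e₀)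
    (u : Γ) : ρ g * Tq ρ Q e₀ u = Tq ρ Q e₀ (g * u * g⁻¹) * ρ g := by
  by_cases hu : u ∈ Q
  · have hu' : g * u * g⁻¹ ∈ Q := (Subgroup.mem_normalizer_iff.mp hgQ u).mp hu
    rw [Tq_of_mem hu, Tq_of_mem hu', map_mul, map_mul]
    exact trunc_conj (apply_inv_mul_apply ρ g) hge.eq
  · have hu' : g * u * g⁻¹ ∉ Q := fun h => hu ((Subgroup.mem_normalizer_iff.mp hgQ u).mpr h)
    rw [Tq_of_not_mem hu, Tq_of_not_mem hu', mul_one, one_mul]

theorem wt_map {g : Γ} (hgQ : g ∈ Subgroup.normalizer (Q : Set Γ)) (hge : Commute (ρ g) e₀)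
    {χ : Γ → k} {m : M} (hm : m ∈ wtF (Tq ρ Q e₀) χ) :
    ρ g m ∈ wtF (Tq ρ Q e₀) (fun u => χ (g⁻¹ * u * g)) := by
  rw [mem_wtF] at hm ⊢
  intro u
  have h1 := Tq_conj he hgQ hge (g⁻¹ * u * g)
  have e : g * (g⁻¹ * u * g) * g⁻¹ = u := by group
  rw [e] at h1
  have h2 := congrArg (fun F : End k M => F m) h1
  simp only [Module.End.mul_apply] at h2
  rw [← h2, hm, map_smul]

section weights

variable {χ : Γ → k} {m : M} (hm : m ∈ wtF (Tq ρ Q e₀) χ) (hm0 : m ≠ 0)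
include hm hm0

omit he in
theorem chi_eq {g : Γ} {c : k} (h : Tq ρ Q e₀ g m = c • m) : χ g = c := by
  have h1 := mem_wtF.mp hm g
  rw [h] at h1
  exact (smul_left_injective k hm0 h1).symm

theorem chi_mul {u v : Γ} (hu : u ∈ Q) (hv : v ∈ Q) : χ (u * v) = χ u * χ v := by
  apply chi_eq hm hm0
  rw [← Tq_mul he hu hv, Module.End.mul_apply, mem_wtF.mp hm v, map_smul, mem_wtF.mp hm u,
    smul_smul, mul_comm]

omit he in
theorem chi_one : χ 1 = 1 := by
  apply chi_eq hm hm0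
  rw [Tq_one, Module.End.one_apply, one_smul]

theorem chi_C0 {y : Γ} (hy : y ∈ Q ⊓ Subgroup.centralizer {a}) : χ y = 1 := by
  apply chi_eq hm hm0
  rw [Tq_of_mem (Subgroup.mem_inf.mp hy).1, he.fixC y hy, add_sub_cancel, Module.End.one_apply,
    one_smul]

omit he in
theorem chi_out {g : Γ} (hg : g ∉ Q) : χ g = 1 := by
  apply chi_eq hm hm0
  rw [Tq_of_not_mem hg, Module.End.one_apply, one_smul]

theorem chi_inv {u : Γ} (hu : u ∈ Q) : χ u * χ u⁻¹ = 1 := by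
  rw [← chi_mul he hm hm0 hu (Q.inv_mem hu), mul_inv_cancel, chi_one hm hm0]

end weights

end Tq

/-- the stabilizer of a weight -/
def stabW (χ : Γ → k) : Subgroup Γ where
  carrier := {g | ∀ u, χ (g⁻¹ * u * g) = χ u}
  one_mem' := by
    intro u
    rw [inv_one, one_mul, mul_one]
  mul_mem' := by
    intro g g' hg hg' u
    have e : (g * g')⁻¹ * u * (g * g') = g'⁻¹ * (g⁻¹ * u * g) * g' := by group
    rw [e, hg', hg]
  inv_mem' := by
    intro g hg u
    have h1 := hg (g⁻¹⁻¹ * u * g⁻¹)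
    have e : g⁻¹ * (g⁻¹⁻¹ * u * g⁻¹) * g = u := by group
    rw [e] at h1
    exact h1.symm

theorem mem_stabW {χ : Γ → k} {g : Γ} : g ∈ stabW χ ↔ ∀ u, χ (g⁻¹ * u * g) = χ u := Iff.rfl

end Cfsg.Agent.Lib.H19.Ward
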