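import Mathlib
import Cfsg.Agent.Lib.H19.WardC3

/-!
# Ward's theorem, part C4: stage 2 — `Q` acts trivially on `e₀ M` (helper19)
-/

set_option autoImplicit false
set_option linter.style.haveILetI false
set_option linter.unusedSectionVars false

namespace Cfsg.Agent.Lib.H19.Ward

open Module Cfsg.Agent.Lib.H1
open scoped commutatorElement

variable {k : Type*} [Field k] {Γ : Type*} [Group Γ] {M : Type*} [AddCommGroup M] [Module k M]

theorem Nrm_conj (ρ : Representation k Γ M) (x b : Γ) (p : ℕ) :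
    ρ x * Nrm ρ b p * ρ x⁻¹ = Nrm ρ (x * b * x⁻¹) p := by
  unfold Nrm
  rw [Finset.mul_sum, Finset.sum_mul]
  apply Finset.sum_congr rfl
  intro j _
  rw [conj_pow, map_mul, map_mul]

theorem mem_zpowers_of_ne_one {p : ℕ} [Fact p.Prime] {a β : Γ} (hap : a ^ p = 1)
    (hβ : β ∈ Subgroup.zpowers a) (hβ1 : β ≠ 1) : a ∈ Subgroup.zpowers β := by
  have hp : p.Prime := Fact.out
  have ha1 : a ≠ 1 := by
    rintro rfl
    rw [Subgroup.zpowers_one_eq_bot, Subgroup.mem_bot] at hβ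
    exact hβ1 hβ
  have hord : orderOf a = p := orderOf_eq_prime hap ha1
  have hcard : Nat.card (Subgroup.zpowers a) = p := by rw [Nat.card_zpowers, hord]
  have hβ' : (⟨β, hβ⟩ : ↥(Subgroup.zpowers a)) ≠ 1 := by
    intro h
    exact hβ1 (congrArg Subtype.val h)
  have h1 : (⟨a, Subgroup.mem_zpowers a⟩ : ↥(Subgroup.zpowers a)) ∈
      Subgroup.zpowers (⟨β, hβ⟩ : ↥(Subgroup.zpowers a)) := mem_zpowers_of_prime_card hcard hβ'
  obtain ⟨n, hn⟩ := Subgroup.mem_zpowers_iff.mp h1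
  rw [Subgroup.mem_zpowers_iff]
  refine ⟨n, ?_⟩
  have := congrArg Subtype.val hn
  simpa using this

namespace WHyp

variable {ρ : Representation k Γ M} {p q : ℕ} {a b : Γ} {R Q : Subgroup Γ} {e₀ : End k M}
variable [Finite Γ] [Fact p.Prime] [Fact q.Prime]
variable (h : WHyp ρ p q a b R Q) (hpq : p ≠ q) (he : E0Hyp ρ a b R Q e₀)
variable {χ : Γ → k} {m : M} (hm : m ∈ wtF (Tq ρ Q e₀) χ) (hm0 : m ≠ 0)
include h hpq he hm hm0

/-- (A1) an `a`-invariant weight is trivial -/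
theorem chi_triv_of_a (ha : a ∈ stabW χ) : ∀ u ∈ Q, χ u = 1 := by
  have hp : p.Prime := Fact.out
  have hq : q.Prime := Fact.out
  have hQp : (Nat.card Q).Coprime p := coprime_card_of_isPGroup hp hq hpq h.hQ
  have hact : CoprimeAction (Subgroup.zpowers a) Q := coprimeAction_zpowers h.hap hQp h.haQ
  have hsup := coprime_commutator_sup_centralizer hact
  let U : Subgroup Γ :=
    { carrier := {u | u ∈ Q ∧ χ u = 1}
      one_mem' := ⟨Q.one_mem, chi_one hm hm0⟩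
      mul_mem' := by
        rintro u v ⟨hu, hu1⟩ ⟨hv, hv1⟩
        exact ⟨Q.mul_mem hu hv, by rw [chi_mul he hm hm0 hu hv, hu1, hv1, mul_one]⟩
      inv_mem' := by
        rintro u ⟨hu, hu1⟩
        refine ⟨Q.inv_mem hu, ?_⟩
        have := chi_inv he hm hm0 hu
        rwa [hu1, one_mul] at this }
  have hzs : Subgroup.zpowers a ≤ stabW χ := Subgroup.zpowers_le.mpr ha
  have hzn : Subgroup.zpowers a ≤ Subgroup.normalizer (Q : Set Γ) := Subgroup.zpowers_le.mpr h.haQ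
  have hle : ⁅Q, Subgroup.zpowers a⁆ ⊔ (Q ⊓ Subgroup.centralizer (Subgroup.zpowers a : Set Γ)) ≤ U := by
    apply sup_le
    · rw [Subgroup.commutator_le]
      intro u hu g hg
      have hmem : g * u⁻¹ * g⁻¹ ∈ Q :=
        (Subgroup.mem_normalizer_iff.mp (hzn hg) _).mp (Q.inv_mem hu)
      have e : ⁅u, g⁆ = u * (g * u⁻¹ * g⁻¹) := by rw [commutatorElement_def]; group
      rw [e]
      refine ⟨Q.mul_mem hu hmem, ?_⟩
      have h1 := (hzs (Subgroup.inv_mem _ hg)) u⁻¹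
      rw [inv_inv] at h1
      rw [chi_mul he hm hm0 hu hmem, h1, chi_inv he hm hm0 hu]
    · intro u hu
      rw [Subgroup.mem_inf] at hu
      have h1 : u ∈ Q ⊓ Subgroup.centralizer {a} := by
        rw [Subgroup.mem_inf, Subgroup.mem_centralizer_singleton_iff]
        refine ⟨hu.1, ?_⟩
        exact ((Subgroup.mem_centralizer_iff.mp hu.2) a (Subgroup.mem_zpowers a)).symm
      exact ⟨hu.1, chi_C0 he hm hm0 h1⟩
  rw [hsup] at hle
  intro u hu
  exact (hle hu).2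

omit hpq he [Fact p.Prime] [Fact q.Prime] [Finite Γ] in
/-- a trivial weight is `R`-invariant -/
theorem R_le_stab_of_triv (htriv : ∀ u ∈ Q, χ u = 1) : R ≤ stabW χ := by
  intro x hx u
  by_cases hu : u ∈ Q
  · have hu' : x⁻¹ * u * x ∈ Q := (Subgroup.mem_normalizer_iff''.mp (h.hRQ hx) u).mp hu
    rw [htriv u hu, htriv _ hu']
  · have hu' : x⁻¹ * u * x ∉ Q := fun h' =>
      hu ((Subgroup.mem_normalizer_iff''.mp (h.hRQ hx) u).mpr h')
    rw [chi_out hm hm0 hu, chi_out hm hm0 hu']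

variable [FiniteDimensional k M] (hss : ∀ g, (Tq ρ Q e₀ g).IsSemisimple)
  (hcomm : ∀ g g', Commute (Tq ρ Q e₀ g) (Tq ρ Q e₀ g'))
include hss hcomm

/-- (A2) -/
theorem exists_stab {x : Γ} (hx : x ∈ R) :
    a ∈ stabW χ ∨ ∃ α ∈ Subgroup.zpowers a, α * (x * b * x⁻¹) ∈ stabW χ := by
  have hp : p.Prime := Fact.out
  obtain ⟨b', hb'⟩ : ∃ b' : Γ, b' = x * b * x⁻¹ := ⟨_, rfl⟩
  rw [← hb']
  have hax : Commute a x := h.hRa x hx
  have hab' : Commute a b' := by
    rw [hb']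
    exact (hax.mul_right h.hab).mul_right hax.inv_right
  have hb'p : b' ^ p = 1 := by
    rw [hb', conj_pow, h.hbp, mul_one, mul_inv_cancel]
  -- the good subgroup
  let G₀ : Subgroup Γ := Subgroup.normalizer (Q : Set Γ) ⊓ cenOf ρ {e₀}
  have hG₀ : ∀ g, g ∈ G₀ ↔ g ∈ Subgroup.normalizer (Q : Set Γ) ∧ Commute (ρ g) e₀ := by
    intro g
    show g ∈ Subgroup.normalizer (Q : Set Γ) ⊓ cenOf ρ {e₀} ↔ _
    rw [Subgroup.mem_inf, mem_cenOf]
    simp only [Set.mem_singleton_iff, forall_eq]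
  have haG : a ∈ G₀ := (hG₀ a).mpr ⟨h.haQ, he.comma.symm⟩
  have hbG : b ∈ G₀ := (hG₀ b).mpr ⟨h.hbQ, he.commb.symm⟩
  have hxG : x ∈ G₀ := (hG₀ x).mpr ⟨h.hRQ hx, (he.commR x hx).symm⟩
  have hb'G : b' ∈ G₀ := by
    rw [hb']
    exact G₀.mul_mem (G₀.mul_mem hxG hbG) (G₀.inv_mem hxG)
  have hgG : ∀ i j : ℕ, a ^ i * b' ^ j ∈ G₀ := fun i j =>
    G₀.mul_mem (G₀.pow_mem haG i) (G₀.pow_mem hb'G j)
  -- the vanishing sum
  have hN : Nrm ρ a p * Nrm ρ b' p = 0 := by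
    have h1 : Nrm ρ b' p = ρ x * Nrm ρ b p * ρ x⁻¹ := by rw [hb', Nrm_conj]
    have h2 : Commute (ρ x) (Nrm ρ a p) := by
      apply commute_Nrm ρ _ p
      show ρ x * ρ a = ρ a * ρ x
      rw [← map_mul, ← map_mul, hax.eq]
    rw [h1]
    calc Nrm ρ a p * (ρ x * Nrm ρ b p * ρ x⁻¹)
        = (Nrm ρ a p * ρ x) * Nrm ρ b p * ρ x⁻¹ := by simp only [mul_assoc]
      _ = (ρ x * Nrm ρ a p) * Nrm ρ b p * ρ x⁻¹ := by rw [h2.eq]
      _ = ρ x * (Nrm ρ a p * Nrm ρ b p) * ρ x⁻¹ := by simp only [mul_assoc]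
      _ = 0 := by rw [h.hNA, mul_zero, zero_mul]
  have hop : ∑ ij ∈ Finset.range p ×ˢ Finset.range p, ρ (a ^ ij.1 * b' ^ ij.2) = 0 := by
    rw [Finset.sum_product]
    simp only [map_mul]
    rw [← Finset.sum_mul_sum]
    exact hN
  have hsum : ∑ ij ∈ Finset.range p ×ˢ Finset.range p, ρ (a ^ ij.1 * b' ^ ij.2) m = 0 := by
    have := congrArg (fun F : End k M => F m) hop
    simpa [LinearMap.sum_apply] using this
  have hmem00 : ((0, 0) : ℕ × ℕ) ∈ Finset.range p ×ˢ Finset.range p := by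
    rw [Finset.mem_product]
    exact ⟨Finset.mem_range.mpr hp.pos, Finset.mem_range.mpr hp.pos⟩
  obtain ⟨⟨i, j⟩, hij, hne, hχ⟩ := exists_ne_of_sum_eq_zero hss hcomm
    (Finset.range p ×ˢ Finset.range p)
    (fun ij u => χ ((a ^ ij.1 * b' ^ ij.2)⁻¹ * u * (a ^ ij.1 * b' ^ ij.2)))
    (fun ij => ρ (a ^ ij.1 * b' ^ ij.2) m)
    (fun ij _ => wt_map he ((hG₀ _).mp (hgG ij.1 ij.2)).1 ((hG₀ _).mp (hgG ij.1 ij.2)).2 hm)
    hsum hmem00
    (by
      show ρ (a ^ 0 * b' ^ 0) m ≠ 0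
      rw [pow_zero, pow_zero, mul_one, map_one, Module.End.one_apply]
      exact hm0)
  have hg : a ^ i * b' ^ j ∈ stabW χ := by
    intro u
    have := congrFun hχ u
    simp only [pow_zero, mul_one, inv_one, one_mul] at this
    exact this
  rw [Finset.mem_product, Finset.mem_range, Finset.mem_range] at hij
  by_cases hj : j = 0
  · left
    have hi : i ≠ 0 := by
      intro hi
      apply hne
      rw [hi, hj]
    have hnd : ¬ p ∣ i := Nat.not_dvd_of_pos_of_lt (Nat.pos_of_ne_zero hi) hij.1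
    obtain ⟨n, hn⟩ := exists_pow_pow_eq hp h.hap hnd
    rw [hj, pow_zero, mul_one] at hg
    rw [← hn]
    exact Subgroup.pow_mem _ hg n
  · right
    have hnd : ¬ p ∣ j := Nat.not_dvd_of_pos_of_lt (Nat.pos_of_ne_zero hj) hij.2
    have hcop : Nat.Coprime j p := ((Nat.Prime.coprime_iff_not_dvd hp).mpr hnd).symm
    obtain ⟨n, -, hn⟩ := Nat.exists_mul_mod_eq_one_of_coprime hcop hp.one_lt
    refine ⟨a ^ (i * n), Subgroup.pow_mem _ (Subgroup.mem_zpowers a) _, ?_⟩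
    have h1 : (a ^ i * b' ^ j) ^ n = a ^ (i * n) * b' := by
      rw [((hab'.pow_left i).pow_right j).mul_pow, ← pow_mul, ← pow_mul, pow_eq_pow_mod (j * n) hb'p,
        hn, pow_one]
    rw [← h1]
    exact Subgroup.pow_mem _ hg n

/-- (A3), (A4): every weight is `R`-invariant -/
theorem R_le_stab : R ≤ stabW χ := by
  have hp : p.Prime := Fact.out
  by_cases ha : a ∈ stabW χ
  · exact h.R_le_stab_of_triv hm hm0 (h.chi_triv_of_a hpq he hm hm0 ha)
  · intro x hx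
    obtain ⟨y, hy, rfl⟩ := exists_eq_comm h.hbR h.hRfix x hx
    obtain ⟨α₁, hα₁, h1⟩ := (h.exists_stab hpq he hm hm0 hss hcomm R.one_mem).resolve_left ha
    obtain ⟨α₂, hα₂, h2⟩ := (h.exists_stab hpq he hm hm0 hss hcomm hy).resolve_left ha
    rw [one_mul, inv_one, mul_one] at h1
    -- commutation facts
    have hza : ∀ α ∈ Subgroup.zpowers a, ∀ g : Γ, Commute a g → Commute α g := by
      intro α hα g hg
      obtain ⟨n, rfl⟩ := Subgroup.mem_zpowers_iff.mp hα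
      exact hg.zpow_left n
    have hw : y * b * y⁻¹ * b⁻¹ ∈ R := by
      have h3 : b * y⁻¹ * b⁻¹ ∈ R := (Subgroup.mem_normalizer_iff.mp h.hbR _).mp (R.inv_mem hy)
      have e : y * b * y⁻¹ * b⁻¹ = y * (b * y⁻¹ * b⁻¹) := by group
      rw [e]
      exact R.mul_mem hy h3
    obtain ⟨w, hwdef⟩ : ∃ w : Γ, w = y * b * y⁻¹ * b⁻¹ := ⟨_, rfl⟩
    rw [← hwdef] at hw ⊢
    have haw : Commute a w := h.hRa w hw
    have hα₁b : Commute α₁ b := hza α₁ hα₁ b h.hab
    have hα₁w : Commute α₁ w := hza α₁ hα₁ w haw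
    have hα₂w : Commute α₂ w := hza α₂ hα₂ w haw
    have key : (α₂ * α₁⁻¹) * w ∈ stabW χ := by
      have h3 := Subgroup.mul_mem _ h2 (Subgroup.inv_mem _ h1)
      have e : α₂ * (y * b * y⁻¹) * (α₁ * b)⁻¹ = (α₂ * α₁⁻¹) * w := by
        calc α₂ * (y * b * y⁻¹) * (α₁ * b)⁻¹ = α₂ * (y * b * y⁻¹ * b⁻¹) * α₁⁻¹ := by group
          _ = α₂ * (w * α₁⁻¹) := by rw [← hwdef, mul_assoc]
          _ = α₂ * (α₁⁻¹ * w) := by rw [(hα₁w.inv_left).eq]
          _ = (α₂ * α₁⁻¹) * w := by rw [mul_assoc]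
      rwa [e] at h3
    obtain ⟨α, hαdef⟩ : ∃ α : Γ, α = α₂ * α₁⁻¹ := ⟨_, rfl⟩
    rw [← hαdef] at key
    have hα : α ∈ Subgroup.zpowers a := by
      rw [hαdef]
      exact Subgroup.mul_mem _ hα₂ (Subgroup.inv_mem _ hα₁)
    have hαw : Commute α w := hza α hα w haw
    by_cases hα1 : α = 1
    · rw [hα1, one_mul] at key
      exact key
    · exfalso
      apply ha
      have hpow : (α * w) ^ Nat.card R = α ^ Nat.card R := by
        rw [hαw.mul_pow]
        have : w ^ Nat.card R = 1 := by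
          have := pow_card_eq_one' (G := ↥R) (x := ⟨w, hw⟩)
          exact congrArg Subtype.val this
        rw [this, mul_one]
      have hβ : α ^ Nat.card R ∈ stabW χ := by
        rw [← hpow]
        exact Subgroup.pow_mem _ key _
      have hαp : α ^ p = 1 := by
        obtain ⟨n, rfl⟩ := Subgroup.mem_zpowers_iff.mp hα
        rw [← zpow_natCast, ← zpow_mul, mul_comm, zpow_mul, zpow_natCast, h.hap, one_zpow]
      have hord : orderOf α = p := orderOf_eq_prime hαp hα1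
      have hβ1 : α ^ Nat.card R ≠ 1 := by
        intro hcon
        have h3 : p ∣ Nat.card R := by
          rw [← hord]
          exact orderOf_dvd_of_pow_eq_one hcon
        have h4 := Nat.Coprime.eq_one_of_dvd h.hRp.symm h3
        exact hp.one_lt.ne' h4
      have h5 : a ∈ Subgroup.zpowers (α ^ Nat.card R) :=
        mem_zpowers_of_ne_one h.hap (Subgroup.pow_mem _ hα _) hβ1
      exact (Subgroup.zpowers_le.mpr hβ) h5

end WHyp

end Cfsg.Agent.Lib.H19.Ward
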