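import Mathlib
import Cfsg.Agent.Lib.H19.WardC4

/-!
# Ward's theorem, part C5: Claim W (helper19)

`claimW` : under the hypotheses `WHyp ρ p q a b R Q` (over an algebraically closed field in which
`p q ≠ 0`), `ρ(Q)` commutes with `ρ(R)`.
-/

set_option autoImplicit false
set_option linter.style.haveILetI false
set_option linter.unusedSectionVars false

namespace Cfsg.Agent.Lib.H19.Ward

open Module Cfsg.Agent.Lib.H1
open scoped commutatorElement

variable {k : Type*} [Field k] {Γ : Type*} [Group Γ] {M : Type*} [AddCommGroup M] [Module k M]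

namespace WHyp

variable {ρ : Representation k Γ M} {p q : ℕ} {a b : Γ} {R Q : Subgroup Γ}
variable [Finite Γ] [Fact p.Prime] [Fact q.Prime]

/-- `ρ(R)` commutes with `ρ(Q)` on `e₀` -/
theorem comm_on_e0 [IsAlgClosed k] [FiniteDimensional k M] (h : WHyp ρ p q a b R Q) (hpq : p ≠ q)
    (hqk : (q : k) ≠ 0) {e₀ : End k M} (he : E0Hyp ρ a b R Q e₀)
    (hZe : ∀ z ∈ ⁅Q, Q⁆, ρ z * e₀ = e₀) :
    ∀ x ∈ R, ∀ u ∈ Q, Commute (ρ x) (ρ u * e₀) := by
  have hss : ∀ g, (Tq ρ Q e₀ g).IsSemisimple := fun g =>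
    isSemisimple_of_pow_eq_one (h.card_ne_zero hqk le_rfl) (Tq_pow_card he g)
  have hcomm := Tq_comm he hZe
  intro x hx u hu
  have hTx : Tq ρ Q e₀ u * ρ x = ρ x * Tq ρ Q e₀ u := by
    apply ext_of_wtF hss hcomm
    intro χ m hm
    by_cases hm0 : m = 0
    · rw [hm0, map_zero, map_zero]
    · have hxs : x ∈ stabW χ := h.R_le_stab hpq he hm hm0 hss hcomm hx
      have h1 := wt_map he (h.hRQ hx) (he.commR x hx).symm hm
      rw [Module.End.mul_apply, Module.End.mul_apply, mem_wtF.mp h1 u, mem_wtF.mp hm u, map_smul]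
      show χ (x⁻¹ * u * x) • ρ x m = χ u • ρ x m
      rw [hxs u]
  rw [Tq_of_mem hu] at hTx
  have h1 : Commute (ρ x) (ρ u * e₀ + (1 - e₀)) := hTx.symm
  have h2 : Commute (ρ x) (1 - e₀) := (Commute.one_right _).sub_right (he.commR x hx).symm
  have h3 := h1.sub_right h2
  rwa [add_sub_cancel_right] at h3

/-- **Stage 2** -/
theorem stage2 [IsAlgClosed k] [FiniteDimensional k M] (h : WHyp ρ p q a b R Q) (hpq : p ≠ q)
    (hqk : (q : k) ≠ 0) (hQR : Q ≤ ⁅Q, R⁆) {e₀ : End k M} (he : E0Hyp ρ a b R Q e₀)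
    (hZe : ∀ z ∈ ⁅Q, Q⁆, ρ z * e₀ = e₀) : ∀ u ∈ Q, ρ u * e₀ = e₀ :=
  fix_of_comm ρ hQR he.commR (h.comm_on_e0 hpq hqk he hZe)

/-- **Stage 3**: `C_Q(a ^ i * b)` acts trivially -/
theorem stage3 (h : WHyp ρ p q a b R Q) (hqk : (q : k) ≠ 0) (hQR : Q ≤ ⁅Q, R⁆)
    (hZ : ∀ z ∈ ⁅Q, Q⁆, ∀ x ∈ R, Commute (ρ z) (ρ x))
    (hfix : ∀ u ∈ Q, ρ u * avg ρ (Q ⊓ Subgroup.centralizer {a}) =
      avg ρ (Q ⊓ Subgroup.centralizer {a})) (i : ℕ) :
    ∀ u ∈ Q ⊓ Subgroup.centralizer {a ^ i * b}, ρ u = 1 := by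
  have hp : p.Prime := Fact.out
  have he := h.e0Hyp hqk hQR hZ
  have hcentral := h.C0_central hQR hZ
  have hcard : (Nat.card (Q ⊓ Subgroup.centralizer {a} : Subgroup Γ) : k) ≠ 0 :=
    h.card_ne_zero hqk inf_le_left
  have hEs := Esum_eq_smul_avg ρ hcard
  obtain ⟨e₀, he₀⟩ : ∃ e₀ : End k M, e₀ = avg ρ (Q ⊓ Subgroup.centralizer {a}) := ⟨_, rfl⟩
  rw [← he₀] at he hfix hEs
  have hcomm_ac := h.comm_ac i
  have hcp := h.hcp i
  have hcQ := h.hcQ i
  have hcQfix := h.hcQfix i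
  have hec0 := he.commc i
  have hnil := h.Hnil i
  obtain ⟨c, hc⟩ : ∃ c : Γ, c = a ^ i * b := ⟨_, rfl⟩
  rw [← hc] at hcomm_ac hcp hcQ hcQfix hec0 hnil ⊢
  have hcC0 : c ∈ Subgroup.normalizer ((Q ⊓ Subgroup.centralizer {a} : Subgroup Γ) : Set Γ) :=
    mem_normalizer_inf_centralizer hcQ hcomm_ac.symm
  have hfixc : ∀ u ∈ Q ⊓ Subgroup.centralizer {a}, c * u = u * c → u = 1 := by
    intro u hu huc
    rw [Subgroup.mem_inf, Subgroup.mem_centralizer_singleton_iff] at hu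
    exact hcQfix u hu.1 hu.2.symm huc
  have hid := frob_id ρ hp hcC0 hcp hfixc
  obtain ⟨S', hS'⟩ : ∃ S' : End k M, S' = ∑ᶠ y : ↥(Q ⊓ Subgroup.centralizer {a} : Subgroup Γ),
      ρ (y : Γ) * Nrm ρ c p * ρ (y : Γ)⁻¹ := ⟨_, rfl⟩
  rw [← hS'] at hid
  -- `S' * (1 - e₀) = |C₀| • (1 - e₀)`
  have h1 : S' * (1 - e₀) = (Nat.card (Q ⊓ Subgroup.centralizer {a} : Subgroup Γ) : k) • (1 - e₀) := by
    have h2 : Commute e₀ (Nrm ρ c p - 1) :=
      (commute_Nrm ρ hec0 p).sub_right (Commute.one_right e₀)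
    have h3 : e₀ * ((Nrm ρ c p - 1) * (1 - e₀)) = 0 := by
      rw [← mul_assoc, h2.eq, mul_assoc, he.mul_one_sub, mul_zero]
    rw [hid, add_mul, smul_mul_assoc, one_mul, hEs, smul_mul_assoc, smul_mul_assoc, mul_assoc,
      h3, smul_zero, add_zero]
  intro u hu
  rw [Subgroup.mem_inf, Subgroup.mem_centralizer_singleton_iff] at hu
  -- `ρ u * S' = S'`
  have h3 : ρ u * S' = S' := by
    haveI := Fintype.ofFinite ↥(Q ⊓ Subgroup.centralizer {a} : Subgroup Γ)
    rw [hS', finsum_eq_sum_of_fintype, Finset.mul_sum]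
    apply Finset.sum_congr rfl
    intro y _
    have hy : Commute (ρ u) (ρ (y : Γ)) := (hcentral y y.2 u hu.1).symm
    calc ρ u * (ρ (y : Γ) * Nrm ρ c p * ρ (y : Γ)⁻¹)
        = (ρ u * ρ (y : Γ)) * Nrm ρ c p * ρ (y : Γ)⁻¹ := by simp only [mul_assoc]
      _ = (ρ (y : Γ) * ρ u) * Nrm ρ c p * ρ (y : Γ)⁻¹ := by rw [hy.eq]
      _ = ρ (y : Γ) * (ρ u * Nrm ρ c p) * ρ (y : Γ)⁻¹ := by simp only [mul_assoc]
      _ = ρ (y : Γ) * Nrm ρ c p * ρ (y : Γ)⁻¹ := by rw [hnil u hu.1 hu.2.symm]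
  have h4 : ρ u * (1 - e₀) = 1 - e₀ := by
    have h5 : ρ u * (S' * (1 - e₀)) = S' * (1 - e₀) := by rw [← mul_assoc, h3]
    rw [h1, mul_smul_comm] at h5
    exact smul_right_injective _ hcard h5
  have h6 := hfix u hu.1
  calc ρ u = ρ u * (e₀ + (1 - e₀)) := by rw [add_sub_cancel, mul_one]
    _ = ρ u * e₀ + ρ u * (1 - e₀) := mul_add _ _ _
    _ = 1 := by rw [h6, h4, add_sub_cancel]

/-- the core case `Q = [Q, R]` of Claim W -/
theorem core [IsAlgClosed k] [FiniteDimensional k M] (h : WHyp ρ p q a b R Q) (hpq : p ≠ q)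
    (hqk : (q : k) ≠ 0) (hQR : Q ≤ ⁅Q, R⁆)
    (hZ : ∀ z ∈ ⁅Q, Q⁆, ∀ x ∈ R, Commute (ρ z) (ρ x)) :
    ∀ u ∈ Q, ∀ x ∈ R, Commute (ρ u) (ρ x) := by
  have hp : p.Prime := Fact.out
  have hq : q.Prime := Fact.out
  have he := h.e0Hyp hqk hQR hZ
  have hs1 := h.stage1 hpq hqk hQR hZ
  have hs2 := h.stage2 hpq hqk hQR he hs1
  have hs3 := h.stage3 hqk hQR hZ hs2
  have hQp : (Nat.card Q).Coprime p := coprime_card_of_isPGroup hp hq hpq h.hQ
  have hact := coprimeAction_pair h.hab h.hap h.hbp hQp h.haQ h.hbQ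
  have hle : Q ≤ cenOf ρ {F | ∃ x ∈ R, F = ρ x} := by
    apply Cfsg.Agent.Lib.H9.le_of_centralizers_le_of_isPGroup hact h.hQ hQp
      (x := a) (y := b) (Subgroup.mem_sup_left (Subgroup.mem_zpowers a))
      (Subgroup.mem_sup_right (Subgroup.mem_zpowers b)) h.hab h.hap h.hbp
    · intro u hu F hF
      obtain ⟨x, hx, rfl⟩ := hF
      rw [Subgroup.mem_inf, Subgroup.mem_centralizer_singleton_iff] at hu
      show ρ u * ρ x = ρ x * ρ u
      rw [← map_mul, ← map_mul, h.H0 u hu.1 hu.2.symm x hx]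
    · intro i u hu F hF
      obtain ⟨x, hx, rfl⟩ := hF
      rw [hs3 i u hu]
      exact Commute.one_left _
  intro u hu x hx
  exact hle hu _ ⟨x, hx, rfl⟩

end WHyp

/-- **Claim W** -/
theorem claimW [IsAlgClosed k] [FiniteDimensional k M] [Finite Γ] {ρ : Representation k Γ M}
    {p q : ℕ} [Fact p.Prime] [Fact q.Prime] (hpq : p ≠ q) (hqk : (q : k) ≠ 0) {a b : Γ}
    {R : Subgroup Γ} : ∀ (n : ℕ) (Q : Subgroup Γ), Nat.card Q = n → WHyp ρ p q a b R Q →
      ∀ u ∈ Q, ∀ x ∈ R, Commute (ρ u) (ρ x) := by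
  intro n
  induction n using Nat.strong_induction_on with
  | _ n ih =>
    intro Q hn h
    have hq : q.Prime := Fact.out
    have hactRQ : CoprimeAction R Q :=
      { normalizes := h.hRQ
        coprime := by
          obtain ⟨m, hm⟩ := IsPGroup.iff_card.mp h.hQ
          rw [hm]
          exact Nat.Coprime.pow_right m h.hRq
        solvable := by
          right
          haveI := h.hQ.isNilpotent
          infer_instance }
    have hKQ : ⁅Q, R⁆ ≤ Q := hactRQ.commutator_le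
    have haR := h.haR
    by_cases hK : ⁅Q, R⁆ = Q
    · -- the core case
      by_cases hbot : Q = ⊥
      · intro u hu x hx
        rw [hbot, Subgroup.mem_bot] at hu
        rw [hu, map_one]
        exact Commute.one_left _
      · have hZlt : Nat.card (⁅Q, Q⁆ : Subgroup Γ) < n := by
          rw [← hn]
          haveI : Nontrivial ↥Q := (Subgroup.nontrivial_iff_ne_bot Q).mpr hbot
          haveI : Group.IsSolvable ↥Q := by
            haveI := h.hQ.isNilpotent
            infer_instance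
          have h1 := Group.IsSolvable.commutator_lt_top_of_nontrivial ↥Q
          have h2 := Subgroup.map_subtype_lt_map_subtype.mpr h1
          rw [Subgroup.map_subtype_commutator, ← MonoidHom.range_eq_map, Subgroup.range_subtype] at h2
          by_contra hcon
          push Not at hcon
          exact h2.ne (Subgroup.eq_of_le_of_card_ge h2.le hcon)
        have hZ : ∀ z ∈ ⁅Q, Q⁆, ∀ x ∈ R, Commute (ρ z) (ρ x) := by
          apply ih _ hZlt _ rfl
          exact h.mono h.commutator_le (mem_normalizer_commutator h.haQ h.haQ)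
            (mem_normalizer_commutator h.hbQ h.hbQ)
            (fun x hx => mem_normalizer_commutator (h.hRQ hx) (h.hRQ hx))
        exact h.core hpq hqk hK.ge hZ
    · -- `[Q, R] < Q`
      have hlt : Nat.card (⁅Q, R⁆ : Subgroup Γ) < n := by
        rw [← hn]
        by_contra hcon
        push Not at hcon
        exact hK (Subgroup.eq_of_le_of_card_ge hKQ hcon)
      have hKR : ∀ u ∈ ⁅Q, R⁆, ∀ x ∈ R, Commute (ρ u) (ρ x) := by
        apply ih _ hlt _ rfl
        exact h.mono hKQ (mem_normalizer_commutator h.haQ haR)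
          (mem_normalizer_commutator h.hbQ h.hbR)
          (fun x hx => mem_normalizer_commutator (h.hRQ hx) (Subgroup.le_normalizer hx))
      -- `[Q, R] = [[Q, R], R] ≤ ker ρ`
      have hker : ⁅Q, R⁆ ≤ fixOf ρ 1 := by
        rw [← coprime_commutator_commutator hactRQ, Subgroup.commutator_le]
        intro u hu x hx
        rw [mem_fixOf, mul_one, commutatorElement_def, map_mul, map_mul, map_mul,
          (hKR u hu x hx).eq, mul_assoc (ρ x), apply_mul_apply_inv, mul_one, apply_mul_apply_inv]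
      intro u hu x hx
      have h1 := hker (Subgroup.commutator_mem_commutator hu hx)
      rw [mem_fixOf, mul_one, commutatorElement_def, map_mul, map_mul, map_mul] at h1
      show ρ u * ρ x = ρ x * ρ u
      calc ρ u * ρ x = ρ u * ρ x * (ρ u⁻¹ * ρ x⁻¹ * (ρ x * ρ u)) := by
            rw [show ρ u⁻¹ * ρ x⁻¹ * (ρ x * ρ u) = 1 by
              rw [mul_assoc, ← mul_assoc (ρ x⁻¹), apply_inv_mul_apply, one_mul,
                apply_inv_mul_apply], mul_one]
        _ = (ρ u * ρ x * ρ u⁻¹ * ρ x⁻¹) * (ρ x * ρ u) := by simp only [mul_assoc]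
        _ = ρ x * ρ u := by rw [h1, one_mul]

end Cfsg.Agent.Lib.H19.Ward
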