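import Mathlib
import Cfsg.Agent.Lib.H19.WardG
import Cfsg.Agent.Lib.H1.CoprimeSylow
import Cfsg.Agent.Lib.H1.CharSubgroup
import Cfsg.Agent.Lib.H1.Fitting

/-!
# Ward's theorem, part D: a Schmidt-type lemma with operators (helper19)

`lemP` : if `B` acts coprimely on the solvable non-nilpotent group `L`, there are primes `q ≠ s`,
a `B`-invariant `q`-subgroup `Q` and a `B`-invariant `s`-subgroup `S` of `L` with `S ≤ N(Q)`,
`S ≰ C(Q)`. Moreover `q ≠ r` if `L` has a normal `r'`-subgroup containing all `r'`-elements.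
-/

set_option autoImplicit false
set_option linter.style.haveILetI false
set_option linter.unusedSectionVars false

namespace Cfsg.Agent.Lib.H19.Ward

open Cfsg.Agent.Lib.H1
open scoped commutatorElement

variable {Γ : Type*} [Group Γ]

theorem mem_normalizer_of_conj {H : Subgroup Γ} {b : Γ} (h1 : ∀ g ∈ H, b * g * b⁻¹ ∈ H)
    (h2 : ∀ g ∈ H, b⁻¹ * g * b ∈ H) : b ∈ Subgroup.normalizer (H : Set Γ) := by
  rw [Subgroup.mem_normalizer_iff]
  intro g
  constructor
  · exact h1 g
  · intro hg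
    have := h2 _ hg
    have e : b⁻¹ * (b * g * b⁻¹) * b = g := by group
    rwa [e] at this

variable [Finite Γ]

/-- a subgroup of `L` containing a Sylow `q`-subgroup of `L` for every prime `q` is `L` -/
theorem eq_of_forall_isSylowOf {T L : Subgroup Γ} (hTL : T ≤ L)
    (h : ∀ q : ℕ, q.Prime → ∃ P, IsSylowOf q L P ∧ P ≤ T) : T = L := by
  apply Subgroup.eq_of_le_of_card_ge hTL
  apply Nat.le_of_dvd Nat.card_pos
  rw [← Nat.factorization_prime_le_iff_dvd Nat.card_pos.ne' Nat.card_pos.ne']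
  intro q hq
  obtain ⟨P, hP, hPT⟩ := h q hq
  rw [← hq.pow_dvd_iff_le_factorization Nat.card_pos.ne', ← hP.card_eq]
  exact Subgroup.card_dvd_of_le hPT

/-- the Sylow subgroups of a nilpotent subgroup `E`, as subgroups of the ambient group -/
theorem exists_sylow_of_nilpotent {E : Subgroup Γ} (hE : Group.IsNilpotent ↥E) (q : ℕ)
    [Fact q.Prime] : ∃ Qq : Subgroup Γ, Qq ≤ E ∧ IsPGroup q Qq ∧
      Nat.card Qq = q ^ (Nat.card E).factorization q ∧
      Subgroup.normalizer (E : Set Γ) ≤ Subgroup.normalizer (Qq : Set Γ) := by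
  obtain ⟨P⟩ : Nonempty (Sylow q ↥E) := inferInstance
  have hPn : (P : Subgroup ↥E).Normal := inferInstance
  haveI hPc : (P : Subgroup ↥E).Characteristic := Sylow.characteristic_of_normal P hPn
  refine ⟨(P : Subgroup ↥E).map E.subtype, Subgroup.map_subtype_le _, P.isPGroup'.map _, ?_,
    normalizer_le_normalizer_map_of_characteristic (P : Subgroup ↥E)⟩
  rw [Subgroup.card_map_of_injective E.subtype_injective]
  exact P.card_eq_multiplicity


/-- the minimal case of Lemma P -/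
theorem lemP_min {B L D : Subgroup Γ} {r : ℕ} [Fact r.Prime] (hact : CoprimeAction B L)
    (hsol : Group.IsSolvable ↥L) (hnil : ¬ Group.IsNilpotent ↥L)
    (hLD : L ≤ Subgroup.normalizer (D : Set Γ)) (hDr : (Nat.card D).Coprime r)
    (hr' : ∀ g ∈ L, (orderOf g).Coprime r → g ∈ D)
    (hmin : ∀ K : Subgroup Γ, K ≤ L → K ≠ L → B ≤ Subgroup.normalizer (K : Set Γ) →
      Group.IsNilpotent ↥K) :
    ∃ q s : ℕ, q.Prime ∧ s.Prime ∧ q ≠ s ∧ q ≠ r ∧ ∃ Q S : Subgroup Γ, Q ≤ L ∧ S ≤ L ∧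
      IsPGroup q Q ∧ IsPGroup s S ∧ B ≤ Subgroup.normalizer (Q : Set Γ) ∧
      B ≤ Subgroup.normalizer (S : Set Γ) ∧ S ≤ Subgroup.normalizer (Q : Set Γ) ∧
      ¬ S ≤ Subgroup.centralizer (Q : Set Γ) := by
  classical
  have hr : r.Prime := Fact.out
  haveI : Nontrivial ↥L := by
    by_contra hcon
    rw [not_nontrivial_iff_subsingleton] at hcon
    exact hnil inferInstance
  -- the abelianization
  have hcomm_lt := Group.IsSolvable.commutator_lt_top_of_nontrivial ↥L
  have hcard1 : Nat.card (Abelianization ↥L) ≠ 1 := by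
    intro h
    have h2 : (commutator ↥L).index = 1 := h
    rw [Subgroup.index_eq_one] at h2
    exact hcomm_lt.ne h2
  obtain ⟨s, hs, hsdvd⟩ := Nat.exists_prime_and_dvd hcard1
  haveI : Fact s.Prime := ⟨hs⟩
  obtain ⟨e, t, hst, hcardeq⟩ :=
    Nat.exists_eq_pow_mul_and_not_dvd (Nat.card_pos (α := Abelianization ↥L)).ne' s hs.ne_one
  -- the subgroup `E`
  obtain ⟨E', hE'def⟩ : ∃ E' : Subgroup ↥L,
      E' = ((powMonoidHom t : Abelianization ↥L →* Abelianization ↥L).comp Abelianization.of).ker :=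
    ⟨_, rfl⟩
  have hmemE' : ∀ u : ↥L, u ∈ E' ↔ (Abelianization.of u) ^ t = 1 := by
    intro u
    rw [hE'def, MonoidHom.mem_ker]
    rfl
  have hE'n : E'.Normal := by rw [hE'def]; infer_instance
  obtain ⟨E, hEdef⟩ : ∃ E : Subgroup Γ, E = E'.map L.subtype := ⟨_, rfl⟩
  have hEL : E ≤ L := by rw [hEdef]; exact Subgroup.map_subtype_le E'
  have hEsub : E.subgroupOf L = E' := by
    rw [hEdef]
    exact Subgroup.comap_map_eq_self_of_injective (Subgroup.subtype_injective L) E'
  have hLE : L ≤ Subgroup.normalizer (E : Set Γ) := by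
    rw [← Subgroup.normal_subgroupOf_iff_le_normalizer hEL, hEsub]
    exact hE'n
  have hmemE : ∀ (g : Γ) (hg : g ∈ L), g ∈ E ↔ (Abelianization.of (⟨g, hg⟩ : ↥L)) ^ t = 1 := by
    intro g hg
    rw [← hmemE', ← hEsub, Subgroup.mem_subgroupOf]
  have hEne : E ≠ L := by
    intro hEq
    obtain ⟨x', hx'⟩ := exists_prime_orderOf_dvd_card' s hsdvd
    obtain ⟨x, rfl⟩ := QuotientGroup.mk_surjective x'
    have h1 : (x : Γ) ∈ E := by rw [hEq]; exact x.2
    have h2 := (hmemE x x.2).mp h1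
    have h3 : s ∣ t := by
      rw [← hx']
      exact orderOf_dvd_of_pow_eq_one h2
    exact hst h3
  have hconjE : ∀ c ∈ Subgroup.normalizer (L : Set Γ), ∀ g ∈ E, c * g * c⁻¹ ∈ E := by
    intro c hc g hg
    have hgL : g ∈ L := hEL hg
    have h1 := (hmemE g hgL).mp hg
    have hcg : c * g * c⁻¹ ∈ L := (Subgroup.mem_normalizer_iff.mp hc g).mp hgL
    rw [hmemE _ hcg]
    have h2 : (⟨c * g * c⁻¹, hcg⟩ : ↥L) =
        (conjEquivOfMemNormalizer hc).toMonoidHom ⟨g, hgL⟩ := rfl
    have h3 : Abelianization.of ((conjEquivOfMemNormalizer hc).toMonoidHom ⟨g, hgL⟩) =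
        Abelianization.map (conjEquivOfMemNormalizer hc).toMonoidHom (Abelianization.of ⟨g, hgL⟩) :=
      (Abelianization.map_of _ _).symm
    rw [h2, h3, ← map_pow, h1, map_one]
  have hBE : B ≤ Subgroup.normalizer (E : Set Γ) := by
    intro b hb
    apply mem_normalizer_of_conj
    · exact hconjE b (hact.normalizes hb)
    · intro g hg
      have := hconjE b⁻¹ (Subgroup.inv_mem _ (hact.normalizes hb)) g hg
      rwa [inv_inv] at this
  have hEnil : Group.IsNilpotent ↥E := hmin E hEL hEne hBE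
  have hpowE : ∀ g ∈ L, g ^ (s ^ e) ∈ E := by
    intro g hg
    rw [hmemE _ (L.pow_mem hg _)]
    have h1 : (⟨g ^ (s ^ e), L.pow_mem hg _⟩ : ↥L) = (⟨g, hg⟩ : ↥L) ^ (s ^ e) := rfl
    rw [h1, map_pow, ← pow_mul, ← hcardeq]
    exact pow_card_eq_one'
  -- `|L| = s ^ j * |E|`
  have hquot : IsPGroup s (↥L ⧸ E') := by
    intro x'
    obtain ⟨u, rfl⟩ := QuotientGroup.mk_surjective x'
    refine ⟨e, ?_⟩
    rw [← QuotientGroup.mk_pow, QuotientGroup.eq_one_iff, ← hEsub, Subgroup.mem_subgroupOf]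
    exact hpowE u u.2
  obtain ⟨j, hj⟩ := IsPGroup.iff_card.mp hquot
  have hcardL : Nat.card L = s ^ j * Nat.card E := by
    rw [Subgroup.card_eq_card_quotient_mul_card_subgroup E', hj, hEdef,
      Subgroup.card_map_of_injective (Subgroup.subtype_injective L)]
  -- the invariant Sylow `s`-subgroup
  obtain ⟨S, hS, hBS⟩ := coprime_exists_invariant_sylow hact s
  have hSs : IsPGroup s S := hS.isPGroup
  -- Sylow subgroups of `E` are Sylow in `L` for `q ≠ s`
  have hsylE : ∀ q : ℕ, q.Prime → q ≠ s → ∀ Qq : Subgroup Γ, Qq ≤ E →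
      Nat.card Qq = q ^ (Nat.card E).factorization q → IsSylowOf q L Qq := by
    intro q hq hqs Qq hQE hcard
    refine ⟨hQE.trans hEL, ?_⟩
    rw [hcard, hcardL, Nat.factorization_mul (pow_ne_zero j hs.ne_zero) Nat.card_pos.ne',
      Nat.Prime.factorization_pow hs]
    simp [hqs.symm]
  by_contra hcon
  push Not at hcon
  -- hence `S` centralizes all Sylow `q`-subgroups of `E`, `q ≠ s`
  have hall : ∀ q : ℕ, q.Prime → q ≠ s → ∀ Qq : Subgroup Γ, Qq ≤ E → IsPGroup q Qq →
      Subgroup.normalizer (E : Set Γ) ≤ Subgroup.normalizer (Qq : Set Γ) →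
      S ≤ Subgroup.centralizer (Qq : Set Γ) := by
    intro q hq hqs Qq hQE hQq hQn
    by_cases hqr : q = r
    · subst hqr
      intro x hx
      rw [Subgroup.mem_centralizer_iff]
      intro u hu
      have hxL : x ∈ L := hS.le hx
      have huL : u ∈ L := hEL (hQE hu)
      have hxD : x ∈ D := by
        apply hr' x hxL
        obtain ⟨m, hm⟩ := (IsPGroup.iff_orderOf.mp hSs) ⟨x, hx⟩
        rw [Subgroup.orderOf_mk] at hm
        rw [hm]
        exact Nat.Coprime.pow_left m ((Nat.coprime_primes hs hq).mpr hqs.symm)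
      have h1 : ⁅x, u⁆ ∈ D := by
        have h2 : u * x⁻¹ * u⁻¹ ∈ D :=
          (Subgroup.mem_normalizer_iff.mp (hLD huL) _).mp (D.inv_mem hxD)
        have e1 : ⁅x, u⁆ = x * (u * x⁻¹ * u⁻¹) := by rw [commutatorElement_def]; group
        rw [e1]
        exact D.mul_mem hxD h2
      have h2 : ⁅x, u⁆ ∈ Qq := by
        have h3 : x * u * x⁻¹ ∈ Qq :=
          (Subgroup.mem_normalizer_iff.mp (hQn (hLE hxL)) _).mp hu
        have e1 : ⁅x, u⁆ = (x * u * x⁻¹) * u⁻¹ := by rw [commutatorElement_def]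
        rw [e1]
        exact Qq.mul_mem h3 (Qq.inv_mem hu)
      have hdisj : Disjoint D Qq := by
        apply Subgroup.disjoint_of_coprime_natCard
        obtain ⟨m, hm⟩ := IsPGroup.iff_card.mp hQq
        rw [hm]
        exact Nat.Coprime.pow_right m hDr
      have h3 : ⁅x, u⁆ = 1 := by
        have := Subgroup.disjoint_def.mp hdisj h1 h2
        exact this
      rw [commutatorElement_def] at h3
      calc u * x = (x * u * x⁻¹ * u⁻¹)⁻¹ * (x * u) := by group
        _ = x * u := by rw [h3, inv_one, one_mul]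
    · exact hcon q s hq hs hqs hqr Qq S (hQE.trans hEL) hS.le hQq hSs (hBE.trans hQn) hBS
        (hS.le.trans (hLE.trans hQn))
  -- `L` normalizes `S` and `L = E ⊔ S`
  have hkey : ∀ T : Subgroup Γ, T ≤ L → S ≤ T →
      (∀ q : ℕ, q.Prime → q ≠ s → ∀ Qq : Subgroup Γ, Qq ≤ E → IsPGroup q Qq →
        S ≤ Subgroup.centralizer (Qq : Set Γ) → Qq ≤ T) → T = L := by
    intro T hTL hST hT
    apply eq_of_forall_isSylowOf hTL
    intro q hq
    by_cases hqs : q = s
    · subst hqs
      exact ⟨S, hS, hST⟩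
    · haveI : Fact q.Prime := ⟨hq⟩
      obtain ⟨Qq, hQE, hQq, hQcard, hQn⟩ := exists_sylow_of_nilpotent hEnil q
      exact ⟨Qq, hsylE q hq hqs Qq hQE hQcard,
        hT q hq hqs Qq hQE hQq (hall q hq hqs Qq hQE hQq hQn)⟩
  have hLS : L ≤ Subgroup.normalizer (S : Set Γ) := by
    have h1 := hkey (Subgroup.normalizer (S : Set Γ) ⊓ L) inf_le_right
      (le_inf Subgroup.le_normalizer hS.le)
      (fun q _ _ Qq hQE _ hcent => le_inf
        ((Subgroup.le_centralizer_iff.mp hcent).trans (Subgroup.centralizer_le_normalizer _))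
        (hQE.trans hEL))
    rw [← h1]
    exact inf_le_left
  have hES : E ⊔ S = L :=
    hkey (E ⊔ S) (sup_le hEL hS.le) le_sup_right (fun q _ _ Qq hQE _ _ => hQE.trans le_sup_left)
  -- Fitting's theorem
  apply hnil
  have hE'nil : Group.IsNilpotent ↥E' := by
    have e1 : ↥E' ≃* ↥E := by
      rw [hEdef]
      exact Subgroup.equivMapOfInjective E' L.subtype (Subgroup.subtype_injective L)
    exact (Group.isNilpotent_congr e1).mpr hEnil
  have hS'n : (S.subgroupOf L).Normal := (Subgroup.normal_subgroupOf_iff_le_normalizer hS.le).mpr hLS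
  have hS'nil : Group.IsNilpotent ↥(S.subgroupOf L) := by
    have e1 : ↥(S.subgroupOf L) ≃* ↥S := Subgroup.subgroupOfEquivOfLe hS.le
    have : Group.IsNilpotent ↥S := hSs.isNilpotent
    exact (Group.isNilpotent_congr e1).mpr this
  have hle1 : E' ≤ Cfsg.fittingSubgroup ↥L := le_fittingSubgroup hE'n hE'nil
  have hle2 : S.subgroupOf L ≤ Cfsg.fittingSubgroup ↥L := le_fittingSubgroup hS'n hS'nil
  have htop : Cfsg.fittingSubgroup ↥L = ⊤ := by
    rw [eq_top_iff]
    have h1 : (E ⊔ S).subgroupOf L = E.subgroupOf L ⊔ S.subgroupOf L :=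
      Subgroup.subgroupOf_sup hEL hS.le
    rw [hES, Subgroup.subgroupOf_self, hEsub] at h1
    rw [h1]
    exact sup_le hle1 hle2
  have hF := fittingSubgroup_isNilpotent (G := ↥L)
  rw [htop] at hF
  exact Group.isNilpotent_top.mp hF

/-- **Lemma P** -/
theorem lemP {B : Subgroup Γ} {r : ℕ} [Fact r.Prime] :
    ∀ (n : ℕ) (L D : Subgroup Γ), Nat.card L = n → CoprimeAction B L → Group.IsSolvable ↥L →
      ¬ Group.IsNilpotent ↥L → D ≤ L → L ≤ Subgroup.normalizer (D : Set Γ) →
      (Nat.card D).Coprime r → (∀ g ∈ L, (orderOf g).Coprime r → g ∈ D) →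
      ∃ q s : ℕ, q.Prime ∧ s.Prime ∧ q ≠ s ∧ q ≠ r ∧ ∃ Q S : Subgroup Γ, Q ≤ L ∧ S ≤ L ∧
        IsPGroup q Q ∧ IsPGroup s S ∧ B ≤ Subgroup.normalizer (Q : Set Γ) ∧
        B ≤ Subgroup.normalizer (S : Set Γ) ∧ S ≤ Subgroup.normalizer (Q : Set Γ) ∧
        ¬ S ≤ Subgroup.centralizer (Q : Set Γ) := by
  intro n
  induction n using Nat.strong_induction_on with
  | _ n ih =>
    intro L D hn hact hsol hnil hDL hLD hDr hr'
    have hr : r.Prime := Fact.out
    by_cases hex : ∃ K : Subgroup Γ, K ≤ L ∧ K ≠ L ∧ B ≤ Subgroup.normalizer (K : Set Γ) ∧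
        ¬ Group.IsNilpotent ↥K
    · -- pass to a smaller subgroup
      obtain ⟨K, hKL, hKne, hBK, hKnil⟩ := hex
      have hlt : Nat.card K < n := by
        rw [← hn]
        by_contra hcon
        push Not at hcon
        exact hKne (Subgroup.eq_of_le_of_card_ge hKL hcon)
      have hKsol : Group.IsSolvable ↥K :=
        Group.isSolvable_of_isSolvable_injective (Subgroup.inclusion_injective hKL)
      obtain ⟨q, s, hq, hs, hqs, hqr, Q, S, hQK, hSK, h1, h2, h3, h4, h5, h6⟩ :=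
        ih (Nat.card K) hlt K (D ⊓ K) rfl (hact.mono hKL hBK) hKsol hKnil inf_le_right
          ((le_inf (hKL.trans hLD) Subgroup.le_normalizer).trans
            Subgroup.inf_normalizer_le_normalizer_inf)
          (Nat.Coprime.coprime_dvd_left (Subgroup.card_dvd_of_le inf_le_left) hDr)
          (fun g hg hgr => Subgroup.mem_inf.mpr ⟨hr' g (hKL hg) hgr, hg⟩)
      exact ⟨q, s, hq, hs, hqs, hqr, Q, S, hQK.trans hKL, hSK.trans hKL, h1, h2, h3, h4, h5, h6⟩
    · -- `L` is minimal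
      push Not at hex
      have hmin : ∀ K : Subgroup Γ, K ≤ L → K ≠ L → B ≤ Subgroup.normalizer (K : Set Γ) →
          Group.IsNilpotent ↥K := hex
      exact lemP_min hact hsol hnil hLD hDr hr' hmin

end Cfsg.Agent.Lib.H19.Ward
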