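import Mathlib
import Cfsg.Agent.Lib.H19.WardC5
import Cfsg.Agent.Lib.H19.WardD
import Cfsg.Agent.Lib.H19.ModRepBC
import Cfsg.Agent.Lib.H7.FrobNil
import Cfsg.Agent.Lib.H8.Nilpotent

/-!
# Ward's theorem, part E: the core of the module argument (helper19)

`vabs_core` : in the situation of `VHyp` (a faithful `𝔽_r H`-module with commuting operators
`a, b` of order `p` without common fixed points on `H` and on `M`, the centralizers `C_H(c)` acting
"nilpotently" on `C_M(c)`), if `Q` is an `⟨a,b⟩`-invariant `q`-subgroup of `H` (`q ≠ r`) and `S` an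
invariant `s`-subgroup (`s ≠ q`) normalizing `Q`, then `C_S(a)` centralizes `Q`.
-/

set_option autoImplicit false
set_option linter.style.haveILetI false
set_option linter.unusedSectionVars false

namespace Cfsg.Agent.Lib.H19.Ward

open Module Cfsg.Agent.Lib.H1 Cfsg.Agent.Lib.H19.ModRep
open scoped commutatorElement TensorProduct

variable {Γ : Type*} [Group Γ] {r : ℕ} [Fact r.Prime] {M : Type*} [AddCommGroup M] [Module (ZMod r) M]

/-- the hypotheses on the pair `(a, b)` -/
structure VHyp (ρ : Representation (ZMod r) Γ M) (H : Subgroup Γ) (p : ℕ) (a b : Γ) : Prop where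
  hab : a * b = b * a
  hap : a ^ p = 1
  hbp : b ^ p = 1
  hfix : ∀ h ∈ H, a * h = h * a → b * h = h * b → h = 1
  hM0 : ∀ m : M, ρ a m = m → ρ b m = m → m = 0
  hnilM : ∀ c ∈ Subgroup.zpowers a ⊔ Subgroup.zpowers b, c ≠ 1 → ∀ h ∈ H,
    (orderOf h).Coprime r → c * h = h * c → ∀ m : M, ρ c m = m → ρ h m = m

namespace VHyp

variable {ρ : Representation (ZMod r) Γ M} {H : Subgroup Γ} {p : ℕ} {a b : Γ}

theorem swap (h : VHyp ρ H p a b) (i : ℕ) : VHyp ρ H p (a ^ i * b) a where
  hab := by
    have h1 : Commute (a ^ i * b) a :=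
      ((Commute.refl a).pow_left i).mul_left (Commute.symm h.hab)
    exact h1.eq
  hap := by
    have h0 : Commute a b := h.hab
    rw [(h0.pow_left i).mul_pow, ← pow_mul, mul_comm, pow_mul, h.hap, one_pow, h.hbp, one_mul]
  hbp := h.hap
  hfix := by
    intro g hg h1 h2
    apply h.hfix g hg h2
    have h3 : Commute g a := h2.symm
    have h4 : Commute g (a ^ i * b) := h1.symm
    have h5 : Commute g ((a ^ i)⁻¹ * (a ^ i * b)) := ((h3.pow_right i).inv_right).mul_right h4
    have e : (a ^ i)⁻¹ * (a ^ i * b) = b := by group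
    rw [e] at h5
    exact h5.eq.symm
  hM0 := by
    intro m h1 h2
    apply h.hM0 m h2
    have h3 : ∀ j : ℕ, ρ (a ^ j) m = m := by
      intro j
      induction j with
      | zero => rw [pow_zero, map_one, Module.End.one_apply]
      | succ j ih => rw [pow_succ, map_mul, Module.End.mul_apply, h2, ih]
    have h4 : ρ (a ^ i)⁻¹ m = m := by
      have := congrArg (ρ (a ^ i)⁻¹) (h3 i)
      rw [← Module.End.mul_apply, apply_inv_mul_apply, Module.End.one_apply] at this
      exact this.symm
    have e : b = (a ^ i)⁻¹ * (a ^ i * b) := by group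
    rw [e, map_mul, Module.End.mul_apply, h1, h4]
  hnilM := by
    intro c hc
    apply h.hnilM c
    have hle : Subgroup.zpowers (a ^ i * b) ⊔ Subgroup.zpowers a ≤
        Subgroup.zpowers a ⊔ Subgroup.zpowers b := by
      apply sup_le _ le_sup_left
      rw [Subgroup.zpowers_le]
      exact Subgroup.mul_mem _
        (Subgroup.mem_sup_left (Subgroup.pow_mem _ (Subgroup.mem_zpowers a) i))
        (Subgroup.mem_sup_right (Subgroup.mem_zpowers b))
    exact hle hc

/-- `N_a N_b = 0` -/
theorem hNA (h : VHyp ρ H p a b) : Nrm ρ a p * Nrm ρ b p = 0 := by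
  apply LinearMap.ext
  intro m
  rw [Module.End.mul_apply, LinearMap.zero_apply]
  apply h.hM0
  · exact apply_Nrm_apply ρ h.hap _
  · have h1 : Commute (ρ b) (Nrm ρ a p) := by
      apply commute_Nrm ρ _ p
      show ρ b * ρ a = ρ a * ρ b
      rw [← map_mul, ← map_mul, h.hab]
    have h2 := congrArg (fun F : End (ZMod r) M => F (Nrm ρ b p m)) h1.eq
    simp only [Module.End.mul_apply] at h2
    rw [h2, apply_Nrm_apply ρ h.hbp]

end VHyp

/-- base change of the norm operator -/
theorem Nrm_bc (k : Type*) [Field k] [Algebra (ZMod r) k] (ρ : Representation (ZMod r) Γ M)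
    (c : Γ) (p : ℕ) : Nrm (bc k ρ) c p = (Nrm ρ c p).baseChange k := by
  unfold Nrm
  have h1 : (∑ j ∈ Finset.range p, ρ (c ^ j)).baseChange k =
      ∑ j ∈ Finset.range p, (ρ (c ^ j)).baseChange k :=
    map_sum (Module.End.baseChangeHom (ZMod r) k M) _ _
  rw [h1]
  rfl


theorem orderOf_coprime_of_isPGroup {q r : ℕ} (hq : q.Prime) (hr : r.Prime) (hqr : q ≠ r)
    {Q : Subgroup Γ} (hQ : IsPGroup q Q) {u : Γ} (hu : u ∈ Q) : (orderOf u).Coprime r := by
  haveI : Fact q.Prime := ⟨hq⟩
  obtain ⟨m, hm⟩ := (IsPGroup.iff_orderOf.mp hQ) ⟨u, hu⟩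
  rw [Subgroup.orderOf_mk] at hm
  rw [hm]
  exact Nat.Coprime.pow_left m ((Nat.coprime_primes hq hr).mpr hqr)

/-- the core of the module argument -/
theorem vabs_core [Finite Γ] [Module.Finite (ZMod r) M] {p q s : ℕ} [Fact p.Prime] [Fact q.Prime]
    [Fact s.Prime] (hqr : q ≠ r) (hqs : q ≠ s)
    (ρ : Representation (ZMod r) Γ M) (H : Subgroup Γ) [H.Normal]
    (hHp : (Nat.card H).Coprime p) (hfaith : ∀ h ∈ H, ρ h = 1 → h = 1) {a b : Γ}
    (hV : VHyp ρ H p a b) {Q S : Subgroup Γ} (hQH : Q ≤ H) (hSH : S ≤ H) (hQ : IsPGroup q Q)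
    (hS : IsPGroup s S) (haQ : a ∈ Subgroup.normalizer (Q : Set Γ))
    (hbQ : b ∈ Subgroup.normalizer (Q : Set Γ))
    (hbS : b ∈ Subgroup.normalizer (S : Set Γ)) (hSQ : S ≤ Subgroup.normalizer (Q : Set Γ)) :
    S ⊓ Subgroup.centralizer {a} ≤ Subgroup.centralizer (Q : Set Γ) := by
  have hp : p.Prime := Fact.out
  have hq : q.Prime := Fact.out
  have hs : s.Prime := Fact.out
  have hr : r.Prime := Fact.out
  obtain ⟨R, hRdef⟩ : ∃ R : Subgroup Γ, R = S ⊓ Subgroup.centralizer {a} := ⟨_, rfl⟩
  rw [← hRdef]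
  have hRS : R ≤ S := by rw [hRdef]; exact inf_le_left
  have hRa : ∀ x ∈ R, a * x = x * a := by
    intro x hx
    rw [hRdef, Subgroup.mem_inf, Subgroup.mem_centralizer_singleton_iff] at hx
    exact hx.2.symm
  by_cases hR : R = ⊥
  · rw [hR]; exact bot_le
  by_cases hpq : p = q
  · -- then `Q = ⊥`
    subst hpq
    have hQbot : Q = ⊥ := by
      rw [← Subgroup.card_eq_one]
      obtain ⟨m, hm⟩ := IsPGroup.iff_card.mp hQ
      have h1 : Nat.card Q ∣ Nat.card H := Subgroup.card_dvd_of_le hQH
      have h2 : (Nat.card Q).Coprime p := Nat.Coprime.coprime_dvd_left h1 hHp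
      rw [hm] at h2 ⊢
      rcases Nat.eq_zero_or_pos m with h0 | h0
      · rw [h0, pow_zero]
      · exfalso
        have h3 := Nat.Coprime.coprime_dvd_left (dvd_pow_self p h0.ne') h2
        rw [Nat.coprime_self] at h3
        exact hp.one_lt.ne' h3
    rw [hQbot]
    intro x _
    rw [Subgroup.mem_centralizer_iff]
    intro u hu
    rw [Subgroup.coe_bot, Set.mem_singleton_iff] at hu
    rw [hu, one_mul, mul_one]
  -- the nilpotent group `C_H(a)`
  have hbH : b ∈ Subgroup.normalizer (H : Set Γ) := by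
    rw [Subgroup.normalizer_eq_top]; exact Subgroup.mem_top b
  have hKnil : Group.IsNilpotent ↥(H ⊓ Subgroup.centralizer {a} : Subgroup Γ) := by
    apply Cfsg.Agent.Lib.H7.FrobNil.isNilpotent_of_fpf hp
      (mem_normalizer_inf_centralizer hbH hV.hab.symm) hV.hbp
    intro g hg hbg
    rw [Subgroup.mem_inf, Subgroup.mem_centralizer_singleton_iff] at hg
    exact hV.hfix g hg.1 hg.2.symm hbg
  -- the field
  let k := AlgebraicClosure (ZMod r)
  haveI : CharP k r := charP_of_injective_algebraMap (algebraMap (ZMod r) k).injective r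
  have hqk : ((q : ℕ) : k) ≠ 0 := by
    rw [Ne, CharP.cast_eq_zero_iff k r q]
    intro hdvd
    exact hqr ((Nat.prime_dvd_prime_iff_eq hr hq).mp hdvd).symm
  -- the hypotheses of Claim W
  have hW : WHyp (bc k ρ) p q a b R Q :=
    { hab := hV.hab
      hap := hV.hap
      hbp := hV.hbp
      hRa := hRa
      hbR := by rw [hRdef]; exact mem_normalizer_inf_centralizer hbS hV.hab.symm
      hRfix := by
        intro x hx hbx
        exact hV.hfix x (hSH (hRS hx)) (hRa x hx) hbx
      hRq := by
        have h1 : IsPGroup s R := hS.to_le hRS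
        exact coprime_card_of_isPGroup hq hs hqs h1
      hRp := Nat.Coprime.coprime_dvd_left (Subgroup.card_dvd_of_le (hRS.trans hSH)) hHp
      hNA := by
        rw [Nrm_bc, Nrm_bc, ← LinearMap.baseChange_mul, hV.hNA, LinearMap.baseChange_zero]
      hQ := hQ
      haQ := haQ
      hbQ := hbQ
      hRQ := hRS.trans hSQ
      hQfix := fun u hu => hV.hfix u (hQH hu)
      H0 := by
        intro u hu hau x hx
        apply Cfsg.Agent.Lib.H8.mul_comm_of_coprime_of_mem_nilpotent _ hKnil
        · rw [Subgroup.mem_inf, Subgroup.mem_centralizer_singleton_iff]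
          exact ⟨hQH hu, hau.symm⟩
        · rw [Subgroup.mem_inf, Subgroup.mem_centralizer_singleton_iff]
          exact ⟨hSH (hRS hx), (hRa x hx).symm⟩
        · obtain ⟨m, hm⟩ := (IsPGroup.iff_orderOf.mp hS) ⟨x, hRS hx⟩
          rw [Subgroup.orderOf_mk] at hm
          rw [hm]
          exact Nat.Coprime.pow_right m (orderOf_coprime_of_isPGroup hq hs hqs hQ hu)
      Hnil := by
        intro i u hu hcu
        have hc1 : a ^ i * b ≠ 1 := by
          intro hc
          apply hR
          rw [eq_bot_iff]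
          intro x hx
          rw [Subgroup.mem_bot]
          apply hV.hfix x (hSH (hRS hx)) (hRa x hx)
          have hb : b = (a ^ i)⁻¹ := eq_inv_of_mul_eq_one_right hc
          rw [hb]
          have h1 : Commute a x := hRa x hx
          exact ((h1.pow_left i).inv_left).eq
        have hcmem : a ^ i * b ∈ Subgroup.zpowers a ⊔ Subgroup.zpowers b :=
          Subgroup.mul_mem _
            (Subgroup.mem_sup_left (Subgroup.pow_mem _ (Subgroup.mem_zpowers a) i))
            (Subgroup.mem_sup_right (Subgroup.mem_zpowers b))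
        have hcp : (a ^ i * b) ^ p = 1 := by
          have h0 : Commute a b := hV.hab
          rw [(h0.pow_left i).mul_pow, ← pow_mul, mul_comm, pow_mul, hV.hap, one_pow, hV.hbp,
            one_mul]
        have h1 : ρ u * Nrm ρ (a ^ i * b) p = Nrm ρ (a ^ i * b) p := by
          apply LinearMap.ext
          intro m
          rw [Module.End.mul_apply]
          exact hV.hnilM _ hcmem hc1 u (hQH hu) (orderOf_coprime_of_isPGroup hq hr hqr hQ hu) hcu _
            (apply_Nrm_apply ρ hcp m)
        rw [Nrm_bc, bc_apply, ← LinearMap.baseChange_mul, h1] }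
  have hcomm := claimW hpq hqk (Nat.card Q) Q rfl hW
  intro x hx
  rw [Subgroup.mem_centralizer_iff]
  intro u hu
  have h1 := (hcomm u hu x hx).eq
  have h2 : ρ u * ρ x = ρ x * ρ u := comm_of_bc_comm k ρ h1
  have hxH : x ∈ H := hSH (hRS hx)
  have huH : u ∈ H := hQH hu
  have h3 : ρ (u * x * u⁻¹ * x⁻¹) = 1 := by
    rw [map_mul, map_mul, map_mul, h2, mul_assoc (ρ x), apply_mul_apply_inv, mul_one,
      apply_mul_apply_inv]
  have h4 := hfaith _ (H.mul_mem (H.mul_mem (H.mul_mem huH hxH) (H.inv_mem huH)) (H.inv_mem hxH)) h3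
  calc u * x = (u * x * u⁻¹ * x⁻¹) * (x * u) := by group
    _ = x * u := by rw [h4, one_mul]

end Cfsg.Agent.Lib.H19.Ward
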