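import Mathlib
import Cfsg.Agent.Lib.H19.WardE
import Cfsg.Agent.Lib.H1.PSolvDual
import Cfsg.Agent.Lib.H1.PSolvOfSolv
import Cfsg.Agent.Lib.H9.PPrimeCore

/-!
# Ward's theorem, part E2: nilpotency of the group acting on a chief factor (helper19)

`vabs` : a solvable normal subgroup `H` acting faithfully on an `𝔽_r`-module, with `O_r`-type
condition and the hypotheses `VHyp`, is nilpotent.
-/

set_option autoImplicit false
set_option linter.style.haveILetI false
set_option linter.unusedSectionVars false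

namespace Cfsg.Agent.Lib.H19.Ward

open Module Cfsg.Agent.Lib.H1 Cfsg.Agent.Lib.H19.ModRep
open scoped commutatorElement

variable {Γ : Type*} [Group Γ] {r : ℕ} [Fact r.Prime] {M : Type*} [AddCommGroup M]
  [Module (ZMod r) M]

theorem vabs [Finite Γ] [Module.Finite (ZMod r) M] {p : ℕ} [Fact p.Prime]
    (ρ : Representation (ZMod r) Γ M) (H : Subgroup Γ) [H.Normal] (hHs : Group.IsSolvable ↥H)
    (hHp : (Nat.card H).Coprime p) (hfaith : ∀ h ∈ H, ρ h = 1 → h = 1) {x y : Γ}
    (hV : VHyp ρ H p x y)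
    (hOr : ∀ P : Subgroup Γ, P.Normal → P ≤ H → IsPGroup r P → P = ⊥) :
    Group.IsNilpotent ↥H := by
  by_contra hnil
  have hp : p.Prime := Fact.out
  have hr : r.Prime := Fact.out
  have hNH : Subgroup.normalizer (H : Set Γ) = ⊤ := Subgroup.normalizer_eq_top H
  have hxH : x ∈ Subgroup.normalizer (H : Set Γ) := by rw [hNH]; exact Subgroup.mem_top x
  have hyH : y ∈ Subgroup.normalizer (H : Set Γ) := by rw [hNH]; exact Subgroup.mem_top y
  have hact : CoprimeAction (Subgroup.zpowers x ⊔ Subgroup.zpowers y) H :=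
    coprimeAction_pair hV.hab hV.hap hV.hbp hHp hxH hyH
  have hxA : x ∈ Subgroup.zpowers x ⊔ Subgroup.zpowers y :=
    Subgroup.mem_sup_left (Subgroup.mem_zpowers x)
  have hyA : y ∈ Subgroup.zpowers x ⊔ Subgroup.zpowers y :=
    Subgroup.mem_sup_right (Subgroup.mem_zpowers y)
  -- characteristic subgroups of `H` are normal in `Γ`
  have hcharn : ∀ (C : Subgroup ↥H) [C.Characteristic], (C.map H.subtype).Normal := by
    intro C _
    have h1 := normalizer_le_normalizer_map_of_characteristic (K := H) C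
    rw [hNH, top_le_iff] at h1
    exact Subgroup.normalizer_eq_top_iff.mp h1
  -- `O_r(H) = 1`
  have hO : Cfsg.pCore r ↥H = ⊥ := by
    haveI := pCore_characteristic r ↥H
    have hP := hOr _ (hcharn (Cfsg.pCore r ↥H)) (Subgroup.map_subtype_le _)
      ((pCore_isPGroup r ↥H).map _)
    exact (Subgroup.map_eq_bot_iff_of_injective _ H.subtype_injective).mp hP
  -- `D = O_{r'}(H)`
  haveI : Group.IsSolvable ↥H := hHs
  have hcent := Cfsg.Agent.Lib.H1.PSolvDual.centralizer_pPrimeCore_le_of_isPSolvable r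
    (Cfsg.Agent.Lib.H1.PSolvOfSolv.isPSolvable_of_isSolvable r ↥H) hO
  obtain ⟨D, hDdef⟩ : ∃ D : Subgroup Γ, D = (Cfsg.pPrimeCore r ↥H).map H.subtype := ⟨_, rfl⟩
  have hDH : D ≤ H := by rw [hDdef]; exact Subgroup.map_subtype_le _
  have hDn : D.Normal := by
    haveI := Cfsg.Agent.Lib.H9.pPrimeCore_characteristic (G := ↥H) r
    rw [hDdef]
    exact hcharn (Cfsg.pPrimeCore r ↥H)
  have hDr : (Nat.card D).Coprime r := by
    rw [hDdef, Subgroup.card_map_of_injective H.subtype_injective]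
    exact Cfsg.Agent.Lib.H22.card_pPrimeCore_coprime r
  have hDcent : H ⊓ Subgroup.centralizer (D : Set Γ) ≤ D := by
    intro g hg
    rw [Subgroup.mem_inf] at hg
    have h1 : (⟨g, hg.1⟩ : ↥H) ∈ Subgroup.centralizer (Cfsg.pPrimeCore r ↥H : Set ↥H) := by
      rw [Subgroup.mem_centralizer_iff]
      intro d hd
      apply Subtype.ext
      have hdD : (d : Γ) ∈ D := by rw [hDdef]; exact Subgroup.mem_map_of_mem _ hd
      exact (Subgroup.mem_centralizer_iff.mp hg.2) d hdD
    have h2 := hcent h1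
    rw [hDdef]
    exact ⟨⟨g, hg.1⟩, h2, rfl⟩
  have hND : Subgroup.normalizer (D : Set Γ) = ⊤ := Subgroup.normalizer_eq_top D
  -- the invariant Sylow `r`-subgroup
  obtain ⟨Sr, hSr, hASr⟩ := coprime_exists_invariant_sylow hact r
  have hSrr : IsPGroup r Sr := hSr.isPGroup
  obtain ⟨L, hLdef⟩ : ∃ L : Subgroup Γ, L = D ⊔ Sr := ⟨_, rfl⟩
  have hDL : D ≤ L := by rw [hLdef]; exact le_sup_left
  have hSrL : Sr ≤ L := by rw [hLdef]; exact le_sup_right
  have hLH : L ≤ H := by rw [hLdef]; exact sup_le hDH hSr.le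
  have hAL : Subgroup.zpowers x ⊔ Subgroup.zpowers y ≤ Subgroup.normalizer (L : Set Γ) := by
    rw [hLdef]
    refine le_trans (le_inf ?_ hASr) (Subgroup.normalizer_inf_normalizer_le_normalizer_sup D Sr)
    rw [hND]; exact le_top
  have hactL : CoprimeAction (Subgroup.zpowers x ⊔ Subgroup.zpowers y) L := hact.mono hLH hAL
  have hLsol : Group.IsSolvable ↥L :=
    Group.isSolvable_of_isSolvable_injective (Subgroup.inclusion_injective hLH)
  have hLnil : ¬ Group.IsNilpotent ↥L := by
    intro hLn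
    have h1 : Sr ≤ Subgroup.centralizer (D : Set Γ) := by
      intro t ht
      rw [Subgroup.mem_centralizer_iff]
      intro d hd
      apply Cfsg.Agent.Lib.H8.mul_comm_of_coprime_of_mem_nilpotent L hLn (hDL hd) (hSrL ht)
      obtain ⟨m, hm⟩ := (IsPGroup.iff_orderOf.mp hSrr) ⟨t, ht⟩
      rw [Subgroup.orderOf_mk] at hm
      rw [hm]
      apply Nat.Coprime.pow_right
      have h2 : orderOf d ∣ Nat.card D := by
        have := orderOf_dvd_natCard (⟨d, hd⟩ : ↥D)
        rwa [Subgroup.orderOf_mk] at this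
      exact Nat.Coprime.coprime_dvd_left h2 hDr
    have h2 : Sr ≤ D := fun t ht => hDcent (Subgroup.mem_inf.mpr ⟨hSr.le ht, h1 ht⟩)
    have h3 : (Nat.card H).factorization r = 0 := by
      by_contra hne
      have h4 : r ∣ Nat.card Sr := by
        rw [hSr.card_eq]
        exact dvd_pow_self r hne
      have h5 : r ∣ Nat.card D := h4.trans (Subgroup.card_dvd_of_le h2)
      have h6 := Nat.Coprime.eq_one_of_dvd hDr.symm h5
      exact hr.one_lt.ne' h6
    have h4 : (Nat.card H).Coprime r := by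
      rcases (Nat.factorization_eq_zero_iff _ _).mp h3 with h5 | h5 | h5
      · exact absurd hr h5
      · exact ((Nat.Prime.coprime_iff_not_dvd hr).mpr h5).symm
      · exact absurd h5 Nat.card_pos.ne'
    have h5 : H ≤ D := by
      have h6 : (⊤ : Subgroup ↥H) ≤ Cfsg.pPrimeCore r ↥H := by
        apply Cfsg.Agent.Lib.H22.le_pPrimeCore r ⊤ inferInstance
        rw [Subgroup.card_top]
        exact h4
      intro g hg
      rw [hDdef]
      exact ⟨⟨g, hg⟩, h6 (Subgroup.mem_top _), rfl⟩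
    have h6 : L = H := le_antisymm hLH (h5.trans hDL)
    rw [h6] at hLn
    exact hnil hLn
  -- `r'`-elements of `L` lie in `D`
  have hr' : ∀ g ∈ L, (orderOf g).Coprime r → g ∈ D := by
    intro g hg hgr
    have h1 : (QuotientGroup.mk' D) g ∈ Sr.map (QuotientGroup.mk' D) := by
      have h2 : L.map (QuotientGroup.mk' D) = Sr.map (QuotientGroup.mk' D) := by
        rw [hLdef, Subgroup.map_sup]
        have : D.map (QuotientGroup.mk' D) = ⊥ := by
          rw [Subgroup.map_eq_bot_iff, QuotientGroup.ker_mk']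
        rw [this, bot_sup_eq]
      rw [← h2]
      exact Subgroup.mem_map_of_mem _ hg
    have h3 : IsPGroup r (Sr.map (QuotientGroup.mk' D)) := hSrr.map _
    obtain ⟨m, hm⟩ := (IsPGroup.iff_orderOf.mp h3) ⟨_, h1⟩
    rw [Subgroup.orderOf_mk] at hm
    have h4 : orderOf ((QuotientGroup.mk' D) g) ∣ orderOf g := orderOf_map_dvd _ g
    have h5 : orderOf ((QuotientGroup.mk' D) g) = 1 := by
      have h6 := Nat.Coprime.coprime_dvd_left h4 hgr
      rw [hm] at h6 ⊢
      rcases Nat.eq_zero_or_pos m with h0 | h0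
      · rw [h0, pow_zero]
      · exfalso
        have h7 := Nat.Coprime.coprime_dvd_left (dvd_pow_self r h0.ne') h6
        rw [Nat.coprime_self] at h7
        exact hr.one_lt.ne' h7
    rw [orderOf_eq_one_iff] at h5
    exact (QuotientGroup.eq_one_iff g).mp h5
  -- Lemma P
  obtain ⟨q, s, hq, hs, hqs, hqr, Q, S, hQL, hSL, hQq, hSs, hAQ, hAS, hSQ, hncent⟩ :=
    lemP (Nat.card L) L D rfl hactL hLsol hLnil hDL (by rw [hND]; exact le_top) hDr hr'
  haveI : Fact q.Prime := ⟨hq⟩
  haveI : Fact s.Prime := ⟨hs⟩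
  have hQH : Q ≤ H := hQL.trans hLH
  have hSH : S ≤ H := hSL.trans hLH
  have hSp : (Nat.card S).Coprime p :=
    Nat.Coprime.coprime_dvd_left (Subgroup.card_dvd_of_le hSH) hHp
  apply hncent
  apply Cfsg.Agent.Lib.H9.le_of_centralizers_le_of_isPGroup (hact.mono hSH hAS) hSs hSp
    (x := x) (y := y) hxA hyA hV.hab hV.hap hV.hbp
  · exact vabs_core hqr hqs ρ H hHp hfaith hV hQH hSH hQq hSs (hAQ hxA) (hAQ hyA) (hAS hyA) hSQ
  · intro i
    have hcA : x ^ i * y ∈ Subgroup.zpowers x ⊔ Subgroup.zpowers y :=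
      Subgroup.mul_mem _ (Subgroup.pow_mem _ hxA i) hyA
    exact vabs_core hqr hqs ρ H hHp hfaith (hV.swap i) hQH hSH hQq hSs (hAQ hcA) (hAQ hxA)
      (hAS hxA) hSQ

end Cfsg.Agent.Lib.H19.Ward
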