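import Mathlib
import Cfsg.Agent.Lib.H19.SG12
import Cfsg.Agent.Lib.H19.WardE2
import Cfsg.Agent.Lib.H19.ModRepExtraBridge

/-!
# Shult–Gross, part 13: the group acting on a chief factor (helper19)

`sg_vabs` : a solvable normal `p'`-subgroup `H` of `Γ` acting faithfully on an `𝔽_r`-module `M`
(`r ≠ p`, `O_r(H) = 1`), and `s ∈ Γ` with `s ^ (p ^ n) = 1`, `C_H(s) = 1`, `C_M(s) = 0`
(`p` odd, `n ≥ 1`): then `s ^ (p ^ (n - 1))` centralizes `H`.
-/

set_option autoImplicit false
set_option linter.style.haveILetI false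
set_option linter.unusedSectionVars false
set_option maxHeartbeats 1000000

namespace Cfsg.Agent.Lib.H19.SG

open Module Cfsg.Agent.Lib.H1 Cfsg.Agent.Lib.H19.ModRep Cfsg.Agent.Lib.H19.Ward
open scoped commutatorElement TensorProduct

variable {Γ : Type*} [Group Γ]

/-- conjugation by a normalizing element as an automorphism of the subgroup -/
def conjAut (s : Γ) (Q : Subgroup Γ) (hs : s ∈ Subgroup.normalizer (Q : Set Γ)) : MulAut ↥Q where
  toFun u := ⟨s * u * s⁻¹, (Subgroup.mem_normalizer_iff.mp hs u).mp u.2⟩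
  invFun u := ⟨s⁻¹ * u * s, by
    have := (Subgroup.mem_normalizer_iff.mp (Subgroup.inv_mem _ hs) u).mp u.2
    rwa [inv_inv] at this⟩
  left_inv u := by
    apply Subtype.ext
    show s⁻¹ * (s * (u : Γ) * s⁻¹) * s = u
    group
  right_inv u := by
    apply Subtype.ext
    show s * (s⁻¹ * (u : Γ) * s) * s⁻¹ = u
    group
  map_mul' u v := by
    apply Subtype.ext
    show s * ((u : Γ) * (v : Γ)) * s⁻¹ = (s * (u : Γ) * s⁻¹) * (s * (v : Γ) * s⁻¹)
    group

theorem conjAut_coe (s : Γ) (Q : Subgroup Γ) (hs : s ∈ Subgroup.normalizer (Q : Set Γ)) (u : Q) :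
    ((conjAut s Q hs u : Q) : Γ) = s * u * s⁻¹ := rfl

theorem conjAut_pow_coe (s : Γ) (Q : Subgroup Γ) (hs : s ∈ Subgroup.normalizer (Q : Set Γ))
    (i : ℕ) (u : Q) : (((conjAut s Q hs) ^ i) u : Γ) = s ^ i * u * (s ^ i)⁻¹ := by
  induction i generalizing u with
  | zero => simp
  | succ i ih =>
    rw [pow_succ, MulAut.mul_apply, ih, conjAut_coe, pow_succ]
    group

theorem isPGroup_zpowers' {p n : ℕ} (hp : p.Prime) {s : Γ} (hs : s ^ (p ^ n) = 1) :
    IsPGroup p (Subgroup.zpowers s) := by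
  haveI : Fact p.Prime := ⟨hp⟩
  obtain ⟨m, -, hm⟩ := (Nat.dvd_prime_pow hp).mp (orderOf_dvd_of_pow_eq_one hs)
  apply IsPGroup.of_card (n := m)
  rw [Nat.card_zpowers, hm]

section bc

variable {F : Type*} [Field F] (K : Type*) [Field K] [Algebra F K]
  {V : Type*} [AddCommGroup V] [Module F V]

/-- fixed-point-freeness survives base change (version with the order of the element) -/
theorem fpf_bc' {m : ℕ} (hK : (m : K) ≠ 0) (ρ : Representation F Γ V) (x : Γ) (hxm : x ^ m = 1)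
    (hfix : ∀ v : V, ρ x v = v → v = 0) : ∀ w : K ⊗[F] V, bc K ρ x w = w → w = 0 := by
  classical
  let P : Module.End F V := ∑ j ∈ Finset.range m, ρ (x ^ j)
  have hPfix : ∀ v, ρ x (P v) = P v := by
    intro v
    simp only [P, LinearMap.sum_apply, map_sum]
    have h1 : ∀ j, ρ x (ρ (x ^ j) v) = ρ (x ^ (j + 1)) v := by
      intro j
      rw [pow_succ', map_mul, Module.End.mul_apply]
    simp only [h1]
    have h2 := Finset.sum_range_succ' (fun j => ρ (x ^ j) v) m
    have h3 := Finset.sum_range_succ (fun j => ρ (x ^ j) v) m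
    rw [h3, hxm, pow_zero] at h2
    exact (add_right_cancel h2).symm
  have hP0 : P = 0 := LinearMap.ext fun v => hfix _ (hPfix v)
  have hPK : ∀ w : K ⊗[F] V, P.baseChange K w = ∑ j ∈ Finset.range m, bc K ρ (x ^ j) w := by
    intro w
    have h1 : P.baseChange K = ∑ j ∈ Finset.range m, (ρ (x ^ j)).baseChange K :=
      map_sum (Module.End.baseChangeHom F K V) _ _
    rw [h1, LinearMap.sum_apply]
    rfl
  intro w hw
  have hpow : ∀ j : ℕ, bc K ρ (x ^ j) w = w := by
    intro j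
    induction j with
    | zero => rw [pow_zero, map_one, Module.End.one_apply]
    | succ j ih => rw [pow_succ, map_mul, Module.End.mul_apply, hw, ih]
  have h1 := hPK w
  rw [hP0, LinearMap.baseChange_zero, LinearMap.zero_apply] at h1
  simp only [hpow] at h1
  rw [Finset.sum_const, Finset.card_range, ← Nat.cast_smul_eq_nsmul K] at h1
  rcases smul_eq_zero.mp h1.symm with h2 | h2
  · exact absurd h2 hK
  · exact h2

end bc

variable {r : ℕ} [Fact r.Prime] {M : Type*} [AddCommGroup M] [Module (ZMod r) M]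

theorem sg_vabs [Finite Γ] [Module.Finite (ZMod r) M] {p : ℕ} [Fact p.Prime] (hp2 : p ≠ 2)
    (hrp : r ≠ p)
    (ρ : Representation (ZMod r) Γ M) (H : Subgroup Γ) [H.Normal] (hHs : Group.IsSolvable ↥H)
    (hHp : (Nat.card H).Coprime p) (hfaith : ∀ h ∈ H, ρ h = 1 → h = 1) {s : Γ} {n : ℕ}
    (hn : 0 < n) (hs : s ^ (p ^ n) = 1)
    (hfixH : ∀ h ∈ H, s * h = h * s → h = 1) (hfixM : ∀ m : M, ρ s m = m → m = 0)
    (hOr : ∀ P : Subgroup Γ, P.Normal → P ≤ H → IsPGroup r P → P = ⊥) :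
    ∀ h ∈ H, s ^ (p ^ (n - 1)) * h = h * s ^ (p ^ (n - 1)) := by
  have hp : p.Prime := Fact.out
  have hr : r.Prime := Fact.out
  have hNH : Subgroup.normalizer (H : Set Γ) = ⊤ := Subgroup.normalizer_eq_top H
  obtain ⟨ψ, hψdef⟩ : ∃ ψ : Γ, ψ = s ^ (p ^ (n - 1)) := ⟨_, rfl⟩
  rw [← hψdef]
  have hψA : ψ ∈ Subgroup.zpowers s := by
    rw [hψdef]
    exact Subgroup.pow_mem _ (Subgroup.mem_zpowers s) _
  have hAp : IsPGroup p (Subgroup.zpowers s) := isPGroup_zpowers' hp hs
  -- characteristic subgroups of `H` are normal in `Γ`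
  have hcharn : ∀ (C : Subgroup ↥H) [C.Characteristic], (C.map H.subtype).Normal := by
    intro C _
    have h1 := normalizer_le_normalizer_map_of_characteristic (K := H) C
    rw [hNH, top_le_iff] at h1
    exact Subgroup.normalizer_eq_top_iff.mp h1
  -- `O_r(H) = 1`
  have hO : Cfsg.pCore r ↥H = ⊥ := by
    haveI := pCore_characteristic r ↥H
    have hP := hOr _ (hcharn (Cfsg.pCore r ↥H)) (Subgroup.map_subtype_le _)
      ((pCore_isPGroup r ↥H).map _)
    exact (Subgroup.map_eq_bot_iff_of_injective _ H.subtype_injective).mp hP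
  haveI : Group.IsSolvable ↥H := hHs
  have hcent := Cfsg.Agent.Lib.H1.PSolvDual.centralizer_pPrimeCore_le_of_isPSolvable r
    (Cfsg.Agent.Lib.H1.PSolvOfSolv.isPSolvable_of_isSolvable r ↥H) hO
  obtain ⟨D, hDdef⟩ : ∃ D : Subgroup Γ, D = (Cfsg.pPrimeCore r ↥H).map H.subtype := ⟨_, rfl⟩
  have hDH : D ≤ H := by rw [hDdef]; exact Subgroup.map_subtype_le _
  have hDn : D.Normal := by
    haveI := Cfsg.Agent.Lib.H9.pPrimeCore_characteristic (G := ↥H) r
    rw [hDdef]
    exact hcharn (Cfsg.pPrimeCore r ↥H)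
  have hDr : (Nat.card D).Coprime r := by
    rw [hDdef, Subgroup.card_map_of_injective H.subtype_injective]
    exact Cfsg.Agent.Lib.H22.card_pPrimeCore_coprime r
  have hDcent : H ⊓ Subgroup.centralizer (D : Set Γ) ≤ D := by
    intro g hg
    rw [Subgroup.mem_inf] at hg
    have h1 : (⟨g, hg.1⟩ : ↥H) ∈ Subgroup.centralizer (Cfsg.pPrimeCore r ↥H : Set ↥H) := by
      rw [Subgroup.mem_centralizer_iff]
      intro d hd
      apply Subtype.ext
      have hdD : (d : Γ) ∈ D := by rw [hDdef]; exact Subgroup.mem_map_of_mem _ hd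
      exact (Subgroup.mem_centralizer_iff.mp hg.2) d hdD
    have h2 := hcent h1
    rw [hDdef]
    exact ⟨⟨g, hg.1⟩, h2, rfl⟩
  have hND : Subgroup.normalizer (D : Set Γ) = ⊤ := Subgroup.normalizer_eq_top D
  have hDp : (Nat.card D).Coprime p :=
    Nat.Coprime.coprime_dvd_left (Subgroup.card_dvd_of_le hDH) hHp
  have hactD : CoprimeAction (Subgroup.zpowers s) D :=
    coprimeAction_of_isPGroup hAp hDp (by rw [hND]; exact le_top)
  -- the field
  let k := AlgebraicClosure (ZMod r)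
  haveI : CharP k r := charP_of_injective_algebraMap (algebraMap (ZMod r) k).injective r
  have hcast : ∀ q : ℕ, q.Prime → q ≠ r → ((q : ℕ) : k) ≠ 0 := by
    intro q hq hqr
    rw [Ne, CharP.cast_eq_zero_iff k r q]
    intro hdvd
    exact hqr ((Nat.prime_dvd_prime_iff_eq hr hq).mp hdvd).symm
  -- Step (1): `ψ` centralizes the invariant Sylow subgroups of `D`
  have hsyl : ∀ q : ℕ, q.Prime → ∃ Qq, IsSylowOf q D Qq ∧
      Qq ≤ D ⊓ Subgroup.centralizer {ψ} := by
    intro q hq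
    haveI : Fact q.Prime := ⟨hq⟩
    obtain ⟨Qq, hQq, hAQ⟩ := coprime_exists_invariant_sylow hactD q
    refine ⟨Qq, hQq, ?_⟩
    have hQD : Qq ≤ D := hQq.le
    have hQq' : IsPGroup q Qq := hQq.isPGroup
    intro u hu
    rw [Subgroup.mem_inf, Subgroup.mem_centralizer_singleton_iff]
    refine ⟨hQD hu, ?_⟩
    by_cases hqr : q = r ∨ q = p
    · -- then `Qq` is trivial
      have h1 : Nat.card Qq = 1 := by
        obtain ⟨b, hb⟩ := IsPGroup.iff_card.mp hQq'
        have h2 : (Nat.card Qq).Coprime q := by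
          rcases hqr with hqr | hqr
          · rw [hqr]
            exact Nat.Coprime.coprime_dvd_left (Subgroup.card_dvd_of_le hQD) hDr
          · rw [hqr]
            exact Nat.Coprime.coprime_dvd_left (Subgroup.card_dvd_of_le hQD) hDp
        rw [hb] at h2 ⊢
        rcases Nat.eq_zero_or_pos b with h0 | h0
        · rw [h0, pow_zero]
        · exfalso
          have h3 := Nat.Coprime.coprime_dvd_left (dvd_pow_self q h0.ne') h2
          rw [Nat.coprime_self] at h3
          exact hq.one_lt.ne' h3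
      have h2 : Qq = ⊥ := Subgroup.card_eq_one.mp h1
      rw [h2, Subgroup.mem_bot] at hu
      rw [hu, one_mul, mul_one]
    · -- apply the module core
      push Not at hqr
      obtain ⟨hqr, hqp⟩ := hqr
      have hsQ : s ∈ Subgroup.normalizer (Qq : Set Γ) := hAQ (Subgroup.mem_zpowers s)
      let ρ' : Representation k ↥Qq (k ⊗[ZMod r] M) := (bc k ρ).comp Qq.subtype
      have hρ' : ∀ x : Qq, ρ' x = bc k ρ (x : Γ) := fun x => rfl
      have hTw : Tw ρ' (conjAut s Qq hsQ) (bc k ρ s) (p ^ n) :=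
        { hT := by rw [← map_pow, hs, map_one]
          hφ := by
            apply MulEquiv.ext
            intro x
            apply Subtype.ext
            rw [conjAut_pow_coe, hs, one_mul, inv_one, mul_one]
            rfl
          htw := by
            intro x
            rw [hρ', hρ', conjAut_coe, ← map_mul, ← map_mul]
            congr 1
            group }
      have hfaith' : ∀ x : Qq, ρ' x = 1 → x = 1 := by
        intro x hx
        apply Subtype.ext
        apply hfaith (x : Γ) (hDH (hQD x.2))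
        apply bc_injective k
        rw [LinearMap.baseChange_one]
        exact hx
      have hfixQ' : ∀ x : Qq, conjAut s Qq hsQ x = x → x = 1 := by
        intro x hx
        apply Subtype.ext
        apply hfixH (x : Γ) (hDH (hQD x.2))
        have h1 : s * (x : Γ) * s⁻¹ = x := congrArg Subtype.val hx
        calc s * (x : Γ) = (s * (x : Γ) * s⁻¹) * s := by group
          _ = (x : Γ) * s := by rw [h1]
      have hpk : ((p : ℕ) : k) ≠ 0 := hcast p hp (Ne.symm hrp)
      have hpnk : ((p ^ n : ℕ) : k) ≠ 0 := by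
        rw [Nat.cast_pow]
        exact pow_ne_zero n hpk
      have hfpf' := fpf_bc' k hpnk ρ s hs hfixM
      have hQq'' : IsPGroup q ↥Qq := hQq'
      have h1 := sg_core hp2 (Ne.symm hqp) hpk (hcast q hq hqr) hQq'' hn hTw hfaith' hfixQ' hfpf'
        ⟨u, hu⟩
      have h2 := congrArg Subtype.val h1
      rw [conjAut_pow_coe, ← hψdef] at h2
      have h3 : ψ * u * ψ⁻¹ = u := h2
      calc u * ψ = (ψ * u * ψ⁻¹) * ψ := by rw [h3]
        _ = ψ * u := by group
  -- Step (2): `ψ` centralizes `D`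
  have hTD : D ⊓ Subgroup.centralizer {ψ} = D := eq_of_forall_isSylowOf inf_le_left hsyl
  have hψD : ∀ d ∈ D, ψ * d = d * ψ := by
    intro d hd
    rw [← hTD, Subgroup.mem_inf, Subgroup.mem_centralizer_singleton_iff] at hd
    exact hd.2.symm
  -- Step (3)
  have hψp : ψ ^ p = 1 := by
    rw [hψdef, ← pow_mul, ← pow_succ, Nat.sub_add_cancel hn, hs]
  intro h hh
  obtain ⟨c, hcdef⟩ : ∃ c : Γ, c = ψ * h * ψ⁻¹ * h⁻¹ := ⟨_, rfl⟩
  have hcH : c ∈ H := by
    rw [hcdef]
    have h1 : ψ * h * ψ⁻¹ ∈ H := ‹H.Normal›.conj_mem h hh ψ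
    exact H.mul_mem h1 (H.inv_mem hh)
  have hcD : c ∈ D := by
    apply hDcent
    rw [Subgroup.mem_inf, Subgroup.mem_centralizer_iff]
    refine ⟨hcH, ?_⟩
    intro d hd
    have h1 : h⁻¹ * d * h ∈ D := by
      have := hDn.conj_mem d hd h⁻¹
      rwa [inv_inv] at this
    have h2 := hψD _ h1
    have h3 := hψD d hd
    have h4 : ψ⁻¹ * (h⁻¹ * d * h) = (h⁻¹ * d * h) * ψ⁻¹ := by
      calc ψ⁻¹ * (h⁻¹ * d * h) = ψ⁻¹ * ((h⁻¹ * d * h) * ψ) * ψ⁻¹ := by group
        _ = ψ⁻¹ * (ψ * (h⁻¹ * d * h)) * ψ⁻¹ := by rw [h2]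
        _ = (h⁻¹ * d * h) * ψ⁻¹ := by group
    rw [hcdef]
    calc d * (ψ * h * ψ⁻¹ * h⁻¹) = (d * ψ) * h * ψ⁻¹ * h⁻¹ := by group
      _ = (ψ * d) * h * ψ⁻¹ * h⁻¹ := by rw [h3]
      _ = ψ * h * ((h⁻¹ * d * h) * ψ⁻¹) * h⁻¹ := by group
      _ = ψ * h * (ψ⁻¹ * (h⁻¹ * d * h)) * h⁻¹ := by rw [h4]
      _ = ψ * h * ψ⁻¹ * h⁻¹ * d := by group
  have hψc : ψ * c = c * ψ := hψD c hcD
  have hpow : ∀ i : ℕ, ψ ^ i * h * (ψ ^ i)⁻¹ = c ^ i * h := by
    intro i
    induction i with
    | zero => simp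
    | succ i ih =>
      have hψci : ψ * c ^ i = c ^ i * ψ := by
        have h1 : Commute ψ c := hψc
        exact (h1.pow_right i).eq
      calc ψ ^ (i + 1) * h * (ψ ^ (i + 1))⁻¹ = ψ * (ψ ^ i * h * (ψ ^ i)⁻¹) * ψ⁻¹ := by
            rw [pow_succ']
            group
        _ = ψ * (c ^ i * h) * ψ⁻¹ := by rw [ih]
        _ = (ψ * c ^ i) * h * ψ⁻¹ := by group
        _ = (c ^ i * ψ) * h * ψ⁻¹ := by rw [hψci]
        _ = c ^ i * (ψ * h * ψ⁻¹ * h⁻¹) * h := by group
        _ = c ^ (i + 1) * h := by rw [← hcdef, pow_succ]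
  have h1 := hpow p
  rw [hψp, one_mul, inv_one, mul_one] at h1
  have hcp : c ^ p = 1 := by
    have := congrArg (fun x => x * h⁻¹) h1
    simpa using this.symm
  have hc1 : c = 1 := by
    have h2 : orderOf c ∣ p := orderOf_dvd_of_pow_eq_one hcp
    have h3 : orderOf c ∣ Nat.card H := by
      have := orderOf_dvd_natCard (⟨c, hcH⟩ : ↥H)
      rwa [Subgroup.orderOf_mk] at this
    have h4 := Nat.eq_one_of_dvd_coprimes hHp h3 h2
    exact orderOf_eq_one_iff.mp h4
  rw [hc1] at hcdef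
  calc ψ * h = (ψ * h * ψ⁻¹ * h⁻¹) * (h * ψ) := by group
    _ = h * ψ := by rw [← hcdef, one_mul]

end Cfsg.Agent.Lib.H19.SG
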