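import Mathlib
import Cfsg.Agent.Lib.H19.WardG
import Cfsg.Agent.Lib.H19.WardC4
import Cfsg.Agent.Lib.H1.Complement

/-!
# Ward's theorem, part F1: group-theoretic set-up (helper19)
-/

set_option autoImplicit false
set_option linter.style.haveILetI false
set_option linter.unusedSectionVars false

namespace Cfsg.Agent.Lib.H19.Ward

open Cfsg.Agent.Lib.H1
open scoped commutatorElement

variable {X : Type*} [Group X]

/-- fixed points for a subgroup acting on a normal subgroup through a `p`-group -/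
theorem exists_fixed_of_pgroup_image [Finite X] {p : ℕ} [Fact p.Prime] (V : Subgroup X) [V.Normal]
    (hV : p ∣ Nat.card V) (T : Subgroup X)
    (hT : ∀ t ∈ T, ∃ k : ℕ, ∀ v ∈ V, t ^ (p ^ k) * v = v * t ^ (p ^ k)) :
    ∃ v ∈ V, v ≠ 1 ∧ ∀ t ∈ T, t * v = v * t := by
  let f : ↥T →* MulAut ↥V := (MulAut.conjNormal (H := V)).comp T.subtype
  have hP : IsPGroup p f.range := by
    rintro ⟨φ, ⟨t, rfl⟩⟩
    obtain ⟨k, hk⟩ := hT t t.2
    refine ⟨k, ?_⟩
    apply Subtype.ext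
    show (f t) ^ (p ^ k) = 1
    rw [← map_pow]
    apply MulEquiv.ext
    intro v
    apply Subtype.ext
    show ((MulAut.conjNormal ((t ^ (p ^ k) : ↥T) : X)) v : X) = v
    rw [MulAut.conjNormal_apply, Subgroup.coe_pow, hk v v.2]
    group
  have h1 : (1 : ↥V) ∈ MulAction.fixedPoints f.range ↥V := by
    intro φ
    exact map_one (φ : MulAut ↥V)
  obtain ⟨v, hv, hv1⟩ := hP.exists_fixed_point_of_prime_dvd_card_of_fixed_point ↥V hV h1
  refine ⟨v, v.2, ?_, ?_⟩
  · intro h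
    apply hv1
    exact (Subtype.ext h).symm
  · intro t ht
    have h2 := hv ⟨f ⟨t, ht⟩, ⟨⟨t, ht⟩, rfl⟩⟩
    have h3 : ((MulAut.conjNormal t) v : X) = v := congrArg Subtype.val h2
    rw [MulAut.conjNormal_apply] at h3
    calc t * (v : X) = (t * v * t⁻¹) * t := by group
      _ = v * t := by rw [h3]

/-- a group admitting a fixed-point-free pair of commuting elements of order `p` is a `p'`-group -/
theorem coprime_of_fpf [Finite X] {p : ℕ} [Fact p.Prime] (G : Subgroup X) [G.Normal] {x₀ y₀ : X}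
    (hxy : x₀ * y₀ = y₀ * x₀) (hx : x₀ ^ p = 1) (hy : y₀ ^ p = 1)
    (hfix : ∀ g ∈ G, x₀ * g = g * x₀ → y₀ * g = g * y₀ → g = 1) : (Nat.card G).Coprime p := by
  have hp : p.Prime := Fact.out
  rw [Nat.coprime_comm, Nat.Prime.coprime_iff_not_dvd hp]
  intro hdvd
  have hA := isPGroup_pair hp hxy hx hy
  obtain ⟨g, hg, hg1, hgfix⟩ := exists_fixed_of_pgroup_image G hdvd
    (Subgroup.zpowers x₀ ⊔ Subgroup.zpowers y₀) (by
      intro t ht
      obtain ⟨k, hk⟩ := hA ⟨t, ht⟩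
      refine ⟨k, fun v _ => ?_⟩
      have h1 : t ^ (p ^ k) = 1 := by
        have := congrArg Subtype.val hk
        simpa using this
      rw [h1, one_mul, mul_one])
  exact hg1 (hfix g hg (hgfix x₀ (Subgroup.mem_sup_left (Subgroup.mem_zpowers x₀)))
    (hgfix y₀ (Subgroup.mem_sup_right (Subgroup.mem_zpowers y₀))))

/-- elements of `⟨a⟩⟨b⟩` -/
theorem mem_pair {a b c : X} (hab : a * b = b * a)
    (hc : c ∈ Subgroup.zpowers a ⊔ Subgroup.zpowers b) : ∃ i j : ℤ, c = a ^ i * b ^ j := by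
  have h1 : Subgroup.zpowers b ≤ Subgroup.normalizer (Subgroup.zpowers a : Set X) := by
    rw [Subgroup.zpowers_le]
    exact Subgroup.centralizer_le_normalizer _ (mem_centralizer_zpowers hab.symm)
  obtain ⟨u, hu, v, hv, rfl⟩ := mem_sup_of_le_normalizer h1 hc
  obtain ⟨i, rfl⟩ := Subgroup.mem_zpowers_iff.mp hu
  obtain ⟨j, rfl⟩ := Subgroup.mem_zpowers_iff.mp hv
  exact ⟨i, j, rfl⟩

theorem pow_eq_one_of_mem_pair {p : ℕ} {a b c : X} (hab : a * b = b * a) (ha : a ^ p = 1)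
    (hb : b ^ p = 1) (hc : c ∈ Subgroup.zpowers a ⊔ Subgroup.zpowers b) : c ^ p = 1 := by
  obtain ⟨i, j, rfl⟩ := mem_pair hab hc
  have h0 : Commute a b := hab
  rw [((h0.zpow_left i).zpow_right j).mul_pow, ← zpow_natCast, ← zpow_natCast, ← zpow_mul,
    ← zpow_mul, mul_comm i, mul_comm j, zpow_mul, zpow_mul, zpow_natCast, zpow_natCast, ha, hb,
    one_zpow, one_zpow, one_mul]

theorem commute_of_mem_pair {a b c g : X} (hc : c ∈ Subgroup.zpowers a ⊔ Subgroup.zpowers b)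
    (ha : a * g = g * a) (hb : b * g = g * b) : c * g = g * c := by
  have h1 : Subgroup.zpowers a ⊔ Subgroup.zpowers b ≤ Subgroup.centralizer {g} := by
    apply sup_le
    · rw [Subgroup.zpowers_le, Subgroup.mem_centralizer_singleton_iff]
      exact ha
    · rw [Subgroup.zpowers_le, Subgroup.mem_centralizer_singleton_iff]
      exact hb
  have h2 := h1 hc
  rw [Subgroup.mem_centralizer_singleton_iff] at h2
  exact h2

/-- for `1 ≠ c ∈ ⟨a⟩⟨b⟩` there is `d ∈ {a, b}` with `C(c) ∩ C(d) ≤ C(a) ∩ C(b)` -/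
theorem exists_partner {p : ℕ} [Fact p.Prime] {a b c : X} (hab : a * b = b * a) (ha : a ^ p = 1)
    (hb : b ^ p = 1) (hc : c ∈ Subgroup.zpowers a ⊔ Subgroup.zpowers b) (hc1 : c ≠ 1) :
    ∃ d : X, (d = a ∨ d = b) ∧ ∀ g : X, c * g = g * c → d * g = g * d →
      (a * g = g * a ∧ b * g = g * b) := by
  obtain ⟨i, j, rfl⟩ := mem_pair hab hc
  by_cases hj : b ^ j = 1
  · -- `c = a ^ i`
    rw [hj, mul_one] at hc1
    refine ⟨b, Or.inr rfl, ?_⟩
    intro g hcg hbg
    refine ⟨?_, hbg⟩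
    rw [hj, mul_one] at hcg
    have h1 : a ∈ Subgroup.zpowers (a ^ i) :=
      mem_zpowers_of_ne_one ha (Subgroup.zpow_mem_zpowers a i) hc1
    obtain ⟨n, hn⟩ := Subgroup.mem_zpowers_iff.mp h1
    rw [← hn]
    have h2 : Commute (a ^ i) g := hcg
    exact (h2.zpow_left n).eq
  · refine ⟨a, Or.inl rfl, ?_⟩
    intro g hcg hag
    refine ⟨hag, ?_⟩
    have h1 : b ∈ Subgroup.zpowers (b ^ j) :=
      mem_zpowers_of_ne_one hb (Subgroup.zpow_mem_zpowers b j) hj
    obtain ⟨n, hn⟩ := Subgroup.mem_zpowers_iff.mp h1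
    rw [← hn]
    have h2 : Commute a g := hag
    have h3 : Commute (a ^ i * b ^ j) g := hcg
    have h4 : Commute ((a ^ i)⁻¹ * (a ^ i * b ^ j)) g := ((h2.zpow_left i).inv_left).mul_left h3
    have e : (a ^ i)⁻¹ * (a ^ i * b ^ j) = b ^ j := by group
    rw [e] at h4
    exact (h4.zpow_left n).eq

end Cfsg.Agent.Lib.H19.Ward
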