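import Mathlib
import Cfsg.Agent.Lib.H19.WardF1
import Cfsg.Agent.Lib.H1.QuadMul

/-!
# Ward's theorem, part F2: quotients and minimal normal subgroups (helper19)
-/

set_option autoImplicit false
set_option linter.style.haveILetI false
set_option linter.unusedSectionVars false

namespace Cfsg.Agent.Lib.H19.Ward

open Cfsg.Agent.Lib.H1 Cfsg.Agent.Lib.H1.QuadMul
open scoped commutatorElement

variable {X : Type*} [Group X] [Finite X]

/-- lifting of fixed points along a quotient by a normal subgroup `N ≤ G` -/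
theorem lift_fixed {p : ℕ} [Fact p.Prime] (G : Subgroup X) [G.Normal]
    (hGp : (Nat.card G).Coprime p) (A : Subgroup X) (hA : IsPGroup p A)
    (N : Subgroup X) [N.Normal] (hNG : N ≤ G) {g : X} (hg : g ∈ G)
    (h : ∀ a ∈ A, (QuotientGroup.mk' N) a * (QuotientGroup.mk' N) g =
      (QuotientGroup.mk' N) g * (QuotientGroup.mk' N) a) :
    ∃ c ∈ G, (∀ a ∈ A, a * c = c * a) ∧ (QuotientGroup.mk' N) c = (QuotientGroup.mk' N) g := by
  have hNG' : Subgroup.normalizer (G : Set X) = ⊤ := Subgroup.normalizer_eq_top G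
  have hNN' : Subgroup.normalizer (N : Set X) = ⊤ := Subgroup.normalizer_eq_top N
  have hact : CoprimeAction A G :=
    coprimeAction_of_isPGroup hA hGp (by rw [hNG']; exact le_top)
  have hfix : ∀ a ∈ A, a * g * a⁻¹ * g⁻¹ ∈ N := by
    intro a ha
    rw [← QuotientGroup.eq_one_iff, QuotientGroup.mk_mul, QuotientGroup.mk_mul, QuotientGroup.mk_mul,
      QuotientGroup.mk_inv, QuotientGroup.mk_inv]
    have := h a ha
    simp only [QuotientGroup.mk'_apply] at this
    rw [this]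
    group
  obtain ⟨c, hc, hcN⟩ := coprime_centralizer_quotient hact hNG (by rw [hNN']; exact le_top)
    (by rw [hNN']; exact le_top) hg hfix
  rw [Subgroup.mem_inf] at hc
  refine ⟨c, hc.1, ?_, ?_⟩
  · intro a ha
    exact (Subgroup.mem_centralizer_iff.mp hc.2 a ha)
  · simp only [QuotientGroup.mk'_apply]
    rw [eq_comm, QuotientGroup.eq]
    exact hcN

/-- the fixed-point-free condition passes to quotients -/
theorem fpf_quot {p : ℕ} [Fact p.Prime] (G : Subgroup X) [G.Normal] {x₀ y₀ : X}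
    (hxy : x₀ * y₀ = y₀ * x₀) (hx : x₀ ^ p = 1) (hy : y₀ ^ p = 1)
    (hfix : ∀ g ∈ G, x₀ * g = g * x₀ → y₀ * g = g * y₀ → g = 1)
    (N : Subgroup X) [N.Normal] (hNG : N ≤ G) :
    ∀ g' ∈ G.map (QuotientGroup.mk' N),
      (QuotientGroup.mk' N) x₀ * g' = g' * (QuotientGroup.mk' N) x₀ →
      (QuotientGroup.mk' N) y₀ * g' = g' * (QuotientGroup.mk' N) y₀ → g' = 1 := by
  have hp : p.Prime := Fact.out
  have hGp := coprime_of_fpf G hxy hx hy hfix
  rintro _ ⟨g, hg, rfl⟩ h1 h2
  have hA := isPGroup_pair hp hxy hx hy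
  have hall : ∀ a ∈ Subgroup.zpowers x₀ ⊔ Subgroup.zpowers y₀,
      (QuotientGroup.mk' N) a * (QuotientGroup.mk' N) g =
        (QuotientGroup.mk' N) g * (QuotientGroup.mk' N) a := by
    intro a ha
    have ha' : (QuotientGroup.mk' N) a ∈ Subgroup.zpowers ((QuotientGroup.mk' N) x₀) ⊔
        Subgroup.zpowers ((QuotientGroup.mk' N) y₀) := by
      rw [← MonoidHom.map_zpowers, ← MonoidHom.map_zpowers, ← Subgroup.map_sup]
      exact Subgroup.mem_map_of_mem _ ha
    exact commute_of_mem_pair ha' h1 h2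
  obtain ⟨c, hc, hcA, hcg⟩ := lift_fixed G hGp _ hA N hNG hg hall
  have hc1 : c = 1 := hfix c hc (hcA x₀ (Subgroup.mem_sup_left (Subgroup.mem_zpowers x₀)))
    (hcA y₀ (Subgroup.mem_sup_right (Subgroup.mem_zpowers y₀)))
  rw [← hcg, hc1, map_one]

/-- existence of a minimal normal subgroup inside `G` -/
theorem exists_min_normal (G : Subgroup X) [G.Normal] (hG : G ≠ ⊥) :
    ∃ V : Subgroup X, V.Normal ∧ V ≤ G ∧ V ≠ ⊥ ∧
      ∀ W : Subgroup X, W.Normal → W ≤ V → W ≠ ⊥ → W = V := by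
  obtain ⟨V, hV, hmin⟩ := WellFounded.has_min
    (measure (fun V : Subgroup X => Nat.card V)).wf
    {V : Subgroup X | V.Normal ∧ V ≤ G ∧ V ≠ ⊥} ⟨G, inferInstance, le_rfl, hG⟩
  refine ⟨V, hV.1, hV.2.1, hV.2.2, ?_⟩
  intro W hWn hWV hW
  have h1 : ¬ Nat.card W < Nat.card V := hmin W ⟨hWn, hWV.trans hV.2.1, hW⟩
  push Not at h1
  exact Subgroup.eq_of_le_of_card_ge hWV h1

/-- a minimal normal subgroup inside a solvable subgroup is elementary abelian -/
theorem isEA_min_normal {V : Subgroup X} [V.Normal] (hVs : Group.IsSolvable ↥V) (hV : V ≠ ⊥)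
    (hmin : ∀ W : Subgroup X, W.Normal → W ≤ V → W ≠ ⊥ → W = V) :
    ∃ r : ℕ, r.Prime ∧ IsEA r ↥V := by
  -- `V` is abelian
  have hcomm : ⁅V, V⁆ = ⊥ := by
    by_contra hne
    have h1 : ⁅V, V⁆ = V := hmin _ inferInstance (Subgroup.commutator_le_self V) hne
    haveI : Nontrivial ↥V := (Subgroup.nontrivial_iff_ne_bot V).mpr hV
    have h2 := Group.IsSolvable.commutator_lt_top_of_nontrivial ↥V
    have h3 := Subgroup.map_subtype_lt_map_subtype.mpr h2
    rw [Subgroup.map_subtype_commutator, ← MonoidHom.range_eq_map, Subgroup.range_subtype] at h3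
    exact h3.ne h1
  have hc : ∀ x ∈ V, ∀ y ∈ V, x * y = y * x := by
    intro x hx y hy
    have h1 := (Subgroup.commutator_eq_bot_iff_le_centralizer.mp hcomm) hx
    exact ((Subgroup.mem_centralizer_iff.mp h1) y hy).symm
  -- a prime
  have hcard1 : Nat.card V ≠ 1 := by
    intro h
    exact hV (Subgroup.card_eq_one.mp h)
  obtain ⟨r, hr, hrdvd⟩ := Nat.exists_prime_and_dvd hcard1
  haveI : Fact r.Prime := ⟨hr⟩
  let W : Subgroup X :=
    { carrier := {v | v ∈ V ∧ v ^ r = 1}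
      one_mem' := ⟨V.one_mem, one_pow r⟩
      mul_mem' := by
        rintro v w ⟨hv, hv1⟩ ⟨hw, hw1⟩
        refine ⟨V.mul_mem hv hw, ?_⟩
        have h1 : Commute v w := hc v hv w hw
        rw [h1.mul_pow, hv1, hw1, one_mul]
      inv_mem' := by
        rintro v ⟨hv, hv1⟩
        exact ⟨V.inv_mem hv, by rw [inv_pow, hv1, inv_one]⟩ }
  have hWn : W.Normal := by
    constructor
    rintro v ⟨hv, hv1⟩ g
    refine ⟨‹V.Normal›.conj_mem v hv g, ?_⟩
    rw [conj_pow, hv1, mul_one, mul_inv_cancel]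
  have hWV : W ≤ V := fun v hv => hv.1
  have hW : W ≠ ⊥ := by
    obtain ⟨v, hv⟩ := exists_prime_orderOf_dvd_card' r hrdvd
    intro hbot
    have h1 : (v : X) ∈ W := by
      refine ⟨v.2, ?_⟩
      have h2 : v ^ r = 1 := by rw [← hv]; exact pow_orderOf_eq_one v
      have := congrArg Subtype.val h2
      simpa using this
    rw [hbot, Subgroup.mem_bot] at h1
    have h2 : v = 1 := Subtype.ext h1
    rw [h2, orderOf_one] at hv
    exact hr.one_lt.ne hv
  have hWeq : W = V := hmin W hWn hWV hW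
  refine ⟨r, hr, ⟨?_, ?_⟩⟩
  · intro x y
    apply Subtype.ext
    exact hc x x.2 y y.2
  · intro v
    apply Subtype.ext
    have h1 : (v : X) ∈ W := by rw [hWeq]; exact v.2
    simpa using h1.2

end Cfsg.Agent.Lib.H19.Ward
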