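import Mathlib
import Cfsg.Agent.Lib.H19.WardF2
import Cfsg.Agent.Lib.H19.WardE2
import Cfsg.Agent.Lib.H19.ModRepBridge

/-!
# Ward's theorem, part F3: `G / C_G(V)` is nilpotent for a chief factor `V` (helper19)
-/

set_option autoImplicit false
set_option linter.style.haveILetI false
set_option linter.unusedSectionVars false

namespace Cfsg.Agent.Lib.H19.Ward

open Cfsg.Agent.Lib.H1 Cfsg.Agent.Lib.H1.QuadMul Cfsg.Agent.Lib.H19.ModRep
open scoped commutatorElement

variable {X : Type*} [Group X] [Finite X]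

/-- the conjugation representation of the whole group on a normal elementary abelian subgroup -/
noncomputable def conjRepX (r : ℕ) (V : Subgroup X) [V.Normal] [IsEA r ↥V] :
    Representation (ZMod r) X (EA r ↥V) :=
  (conjRep (⊤ : Subgroup X) V (by rw [Subgroup.normalizer_eq_top V])).comp
    (Subgroup.topEquiv.symm : X ≃* ↥(⊤ : Subgroup X)).toMonoidHom

theorem conjRepX_eq_self_iff {r : ℕ} (V : Subgroup X) [V.Normal] [IsEA r ↥V] (g : X)
    (v : EA r ↥V) : conjRepX r V g v = v ↔ g * (v.val : X) = (v.val : X) * g :=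
  conjRep_eq_self_iff (⊤ : Subgroup X) V _ ⟨g, Subgroup.mem_top g⟩ v

theorem conjRepX_eq_one_iff {r : ℕ} (V : Subgroup X) [V.Normal] [IsEA r ↥V] (g : X) :
    conjRepX r V g = 1 ↔ g ∈ Subgroup.centralizer (V : Set X) :=
  conjRep_eq_one_iff (⊤ : Subgroup X) V _ ⟨g, Subgroup.mem_top g⟩

/-- **Claim V'**: `G / C_G(V)` is nilpotent -/
theorem claimV {p : ℕ} [Fact p.Prime] (G : Subgroup X) [G.Normal] (hGs : Group.IsSolvable ↥G)
    {x₀ y₀ : X} (hxy : x₀ * y₀ = y₀ * x₀) (hx : x₀ ^ p = 1) (hy : y₀ ^ p = 1)
    (hfix : ∀ g ∈ G, x₀ * g = g * x₀ → y₀ * g = g * y₀ → g = 1)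
    (V : Subgroup X) [V.Normal] (hVG : V ≤ G) (hV : V ≠ ⊥)
    (hmin : ∀ W : Subgroup X, W.Normal → W ≤ V → W ≠ ⊥ → W = V)
    {r : ℕ} [Fact r.Prime] [IsEA r ↥V] :
    ∃ m : ℕ, G.lowerCentralSeries m ≤ Subgroup.centralizer (V : Set X) := by
  have hp : p.Prime := Fact.out
  have hr : r.Prime := Fact.out
  have hGp := coprime_of_fpf G hxy hx hy hfix
  obtain ⟨C, hCdef⟩ : ∃ C : Subgroup X, C = G ⊓ Subgroup.centralizer (V : Set X) := ⟨_, rfl⟩
  haveI hCn : C.Normal := by rw [hCdef]; infer_instance
  have hCG : C ≤ G := by rw [hCdef]; exact inf_le_left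
  have hCV : C ≤ Subgroup.centralizer (V : Set X) := by rw [hCdef]; exact inf_le_right
  have hmemC : ∀ g ∈ G, g ∈ Subgroup.centralizer (V : Set X) → g ∈ C := by
    intro g hg hgV
    rw [hCdef]; exact ⟨hg, hgV⟩
  let π : X →* X ⧸ C := QuotientGroup.mk' C
  have hπsurj : Function.Surjective π := QuotientGroup.mk'_surjective C
  have hπker : π.ker = C := QuotientGroup.ker_mk' C
  have hπ1 : ∀ g : X, π g = 1 ↔ g ∈ C := fun g => QuotientGroup.eq_one_iff g
  -- the representation
  let ρX := conjRepX r V
  have hker : C ≤ MonoidHom.ker ρX := by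
    intro c hc
    rw [MonoidHom.mem_ker]
    exact (conjRepX_eq_one_iff V c).mpr (hCV hc)
  let ρ : Representation (ZMod r) (X ⧸ C) (EA r ↥V) := QuotientGroup.lift C ρX hker
  have hρ : ∀ g : X, ρ (π g) = ρX g := fun g => QuotientGroup.lift_mk C hker g
  -- the image of `G`
  obtain ⟨H, hHdef⟩ : ∃ H : Subgroup (X ⧸ C), H = G.map π := ⟨_, rfl⟩
  haveI hHn : H.Normal := by
    rw [hHdef]
    exact Subgroup.Normal.map inferInstance π hπsurj
  have hHs : Group.IsSolvable ↥H := by
    rw [hHdef]
    haveI := hGs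
    exact Group.isSolvable_of_surjective (f := π.subgroupMap G) (π.subgroupMap_surjective G)
  have hHp : (Nat.card H).Coprime p := by
    rw [hHdef]
    exact Nat.Coprime.coprime_dvd_left (Subgroup.card_map_dvd G π) hGp
  have hfaith : ∀ h ∈ H, ρ h = 1 → h = 1 := by
    intro h hh h1
    rw [hHdef] at hh
    obtain ⟨g, hg, rfl⟩ := hh
    rw [hρ] at h1
    rw [hπ1]
    exact hmemC g hg ((conjRepX_eq_one_iff V g).mp h1)
  have hVr : IsPGroup r ↥V := fun v => ⟨1, by rw [pow_one]; exact IsEA.exp v⟩
  have hrV : r ∣ Nat.card V := by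
    obtain ⟨n, hn⟩ := IsPGroup.iff_card.mp hVr
    rw [hn]
    apply dvd_pow_self
    rintro rfl
    rw [pow_zero] at hn
    exact hV (Subgroup.card_eq_one.mp hn)
  -- the hypotheses
  have hVH : VHyp ρ H p (π x₀) (π y₀) :=
    { hab := by rw [← map_mul, ← map_mul, hxy]
      hap := by rw [← map_pow, hx, map_one]
      hbp := by rw [← map_pow, hy, map_one]
      hfix := by
        rw [hHdef]
        exact fpf_quot G hxy hx hy hfix C hCG
      hM0 := by
        intro m h1 h2
        rw [hρ, conjRepX_eq_self_iff] at h1 h2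
        have h3 := hfix _ (hVG m.val.2) h1 h2
        apply EA.ext
        rw [EA.val_zero]
        exact Subtype.ext h3
      hnilM := by
        intro c' hc' hc'1 h' hh' hord hcomm m hm
        rw [← MonoidHom.map_zpowers, ← MonoidHom.map_zpowers, ← Subgroup.map_sup] at hc'
        obtain ⟨c, hcA, rfl⟩ := hc'
        rw [hHdef] at hh'
        obtain ⟨g₀, hg₀, rfl⟩ := hh'
        have hc1 : c ≠ 1 := by
          rintro rfl
          exact hc'1 (map_one _)
        have hcp : c ^ p = 1 := pow_eq_one_of_mem_pair hxy hx hy hcA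
        -- lift `g₀` to `g` commuting with `c`
        obtain ⟨g, hg, hgc, hgg₀⟩ := lift_fixed G hGp (Subgroup.zpowers c)
          (isPGroup_zpowers hp hcp) C hCG hg₀ (by
            intro a ha
            obtain ⟨n, rfl⟩ := Subgroup.mem_zpowers_iff.mp ha
            have h1 : Commute (π c) (π g₀) := hcomm
            have h2 := h1.zpow_left n
            show π (c ^ n) * π g₀ = π g₀ * π (c ^ n)
            rw [map_zpow]
            exact h2.eq)
        have hgc' : c * g = g * c := hgc c (Subgroup.mem_zpowers c)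
        have hgg₀' : π g = π g₀ := hgg₀
        rw [← hgg₀'] at hord ⊢
        -- `C_G(c)` is nilpotent
        obtain ⟨d, hd, hdfix⟩ := exists_partner hxy hx hy hcA hc1
        have hdp : d ^ p = 1 := by
          rcases hd with rfl | rfl
          · exact hx
          · exact hy
        have hcd : c * d = d * c := by
          rcases hd with rfl | rfl
          · exact commute_of_mem_pair hcA rfl hxy.symm
          · exact commute_of_mem_pair hcA hxy rfl
        have hdG : d ∈ Subgroup.normalizer (G : Set X) := by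
          rw [Subgroup.normalizer_eq_top G]; exact Subgroup.mem_top d
        have hKnil : Group.IsNilpotent ↥(G ⊓ Subgroup.centralizer {c} : Subgroup X) := by
          apply Cfsg.Agent.Lib.H7.FrobNil.isNilpotent_of_fpf hp
            (mem_normalizer_inf_centralizer hdG hcd.symm) hdp
          intro k hk hdk
          rw [Subgroup.mem_inf, Subgroup.mem_centralizer_singleton_iff] at hk
          obtain ⟨h1, h2⟩ := hdfix k hk.2.symm hdk
          exact hfix k hk.1 h1 h2
        -- decomposition of `g`
        obtain ⟨g₁, g₂, hg₁, hg₂, hgeq, ⟨kk, hg₁r⟩, hg₂r⟩ :=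
          Cfsg.Agent.Lib.H8.exists_p_decomp g (orderOf_pos g).ne' r hr
        have hπg₁ : π g₁ = 1 := by
          have h1 : orderOf (π g₁) ∣ r ^ kk :=
            orderOf_dvd_of_pow_eq_one (by rw [← map_pow, hg₁r, map_one])
          have h2 : orderOf (π g₁) ∣ orderOf (π g) := by
            apply orderOf_dvd_of_mem_zpowers
            obtain ⟨n, rfl⟩ := Subgroup.mem_zpowers_iff.mp hg₁
            rw [map_zpow]
            exact Subgroup.zpow_mem_zpowers _ n
          have h3 : (orderOf (π g₁)).Coprime (r ^ kk) :=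
            Nat.Coprime.coprime_dvd_left h2 (Nat.Coprime.pow_right kk hord)
          have h4 := Nat.Coprime.eq_one_of_dvd h3 h1
          exact orderOf_eq_one_iff.mp h4
        have hg₁C : g₁ ∈ C := (hπ1 g₁).mp hπg₁
        have hzg : Subgroup.zpowers g ≤ G ⊓ Subgroup.centralizer {c} := by
          rw [Subgroup.zpowers_le, Subgroup.mem_inf, Subgroup.mem_centralizer_singleton_iff]
          exact ⟨hg, hgc'.symm⟩
        rw [hρ, conjRepX_eq_self_iff] at hm ⊢
        have hvV : (m.val : X) ∈ V := m.val.2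
        have hvK : (m.val : X) ∈ G ⊓ Subgroup.centralizer {c} := by
          rw [Subgroup.mem_inf, Subgroup.mem_centralizer_singleton_iff]
          exact ⟨hVG hvV, hm.symm⟩
        have hordv : orderOf (m.val : X) ∣ r := by
          apply orderOf_dvd_of_pow_eq_one
          have := IsEA.exp (p := r) m.val
          have h2 := congrArg Subtype.val this
          simpa using h2
        have hcomm2 : g₂ * (m.val : X) = (m.val : X) * g₂ :=
          Cfsg.Agent.Lib.H8.mul_comm_of_coprime_of_mem_nilpotent _ hKnil (hzg hg₂) hvK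
            (Nat.Coprime.coprime_dvd_right hordv hg₂r)
        have hcomm1 : g₁ * (m.val : X) = (m.val : X) * g₁ :=
          ((Subgroup.mem_centralizer_iff.mp (hCV hg₁C)) _ hvV).symm
        rw [hgeq, mul_assoc, hcomm2, ← mul_assoc, hcomm1, mul_assoc] }
  -- normal `r`-subgroups
  have hOr : ∀ P : Subgroup (X ⧸ C), P.Normal → P ≤ H → IsPGroup r P → P = ⊥ := by
    intro P hPn hPH hPr
    obtain ⟨P', hP'def⟩ : ∃ P' : Subgroup X, P' = P.comap π := ⟨_, rfl⟩
    haveI hP'n : P'.Normal := by rw [hP'def]; exact Subgroup.Normal.comap hPn π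
    have hP'G : P' ≤ G := by
      intro t ht
      rw [hP'def, Subgroup.mem_comap] at ht
      have h1 := hPH ht
      rw [hHdef] at h1
      obtain ⟨g, hg, hgt⟩ := h1
      have h2 : g⁻¹ * t ∈ C := by
        rw [← hπ1, map_mul, map_inv, hgt, inv_mul_cancel]
      have e : t = g * (g⁻¹ * t) := by group
      rw [e]
      exact G.mul_mem hg (hCG h2)
    have hcent : P' ≤ Subgroup.centralizer (V : Set X) := by
      obtain ⟨v, hv, hv1, hvfix⟩ := exists_fixed_of_pgroup_image V hrV P' (by
        intro t ht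
        rw [hP'def, Subgroup.mem_comap] at ht
        obtain ⟨kk, hkk⟩ := hPr ⟨π t, ht⟩
        refine ⟨kk, ?_⟩
        have h1 : π (t ^ (r ^ kk)) = 1 := by
          have := congrArg Subtype.val hkk
          rw [map_pow]
          simpa using this
        have h2 : t ^ (r ^ kk) ∈ C := (hπ1 _).mp h1
        intro v hv
        exact ((Subgroup.mem_centralizer_iff.mp (hCV h2)) v hv).symm)
      have hW : V ⊓ Subgroup.centralizer (P' : Set X) = V := by
        apply hmin _ inferInstance inf_le_left
        intro hbot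
        apply hv1
        have h1 : v ∈ V ⊓ Subgroup.centralizer (P' : Set X) := by
          rw [Subgroup.mem_inf, Subgroup.mem_centralizer_iff]
          exact ⟨hv, fun t ht => hvfix t ht⟩
        rw [hbot, Subgroup.mem_bot] at h1
        exact h1
      have h2 : V ≤ Subgroup.centralizer (P' : Set X) := by
        rw [← hW]; exact inf_le_right
      exact Subgroup.le_centralizer_iff.mp h2
    have hP'C : P' ≤ C := fun t ht => hmemC t (hP'G ht) (hcent ht)
    have h3 : P = P'.map π := by
      rw [hP'def, Subgroup.map_comap_eq_self_of_surjective hπsurj]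
    rw [h3, Subgroup.map_eq_bot_iff, hπker]
    exact hP'C
  -- conclusion
  have hnil := vabs ρ H hHs hHp hfaith hVH hOr
  obtain ⟨m, hm⟩ := (Subgroup.isNilpotent_iff_lowerCentralSeries H).mp hnil
  refine ⟨m, ?_⟩
  rw [hHdef, ← Subgroup.map_lowerCentralSeries, Subgroup.map_eq_bot_iff, hπker] at hm
  exact hm.trans hCV

end Cfsg.Agent.Lib.H19.Ward
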