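import Mathlib
import Cfsg.Agent.Lib.H19.SG13
import Cfsg.Agent.Lib.H19.WardF3

/-!
# Shult–Gross, part 14: the action on a chief factor (helper19)

`sg_claimV` : `G ⊴ X` solvable, `s ∈ X` with `s ^ (p ^ n) = 1`, `C_G(s) = 1`, `p` odd, `V ≤ G` a
minimal normal subgroup of `X`: then `[s ^ (p ^ (n-1)), G] ≤ C(V)`.
-/

set_option autoImplicit false
set_option linter.style.haveILetI false
set_option linter.unusedSectionVars false

namespace Cfsg.Agent.Lib.H19.SG

open Cfsg.Agent.Lib.H1 Cfsg.Agent.Lib.H1.QuadMul Cfsg.Agent.Lib.H19.ModRep Cfsg.Agent.Lib.H19.Ward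
open scoped commutatorElement

variable {X : Type*} [Group X] [Finite X]

/-- a group admitting a fixed-point-free element of `p`-power order is a `p'`-group -/
theorem coprime_of_fpf' {p : ℕ} [Fact p.Prime] (G : Subgroup X) [G.Normal] {s : X} {n : ℕ}
    (hs : s ^ (p ^ n) = 1) (hfix : ∀ g ∈ G, s * g = g * s → g = 1) : (Nat.card G).Coprime p := by
  have hp : p.Prime := Fact.out
  rw [Nat.coprime_comm, Nat.Prime.coprime_iff_not_dvd hp]
  intro hdvd
  have hA := isPGroup_zpowers' hp hs
  obtain ⟨g, hg, hg1, hgfix⟩ := exists_fixed_of_pgroup_image G hdvd (Subgroup.zpowers s) (by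
      intro t ht
      obtain ⟨k, hk⟩ := hA ⟨t, ht⟩
      refine ⟨k, fun v _ => ?_⟩
      have h1 : t ^ (p ^ k) = 1 := by
        have := congrArg Subtype.val hk
        simpa using this
      rw [h1, one_mul, mul_one])
  exact hg1 (hfix g hg (hgfix s (Subgroup.mem_zpowers s)))

/-- the fixed-point-free condition passes to quotients -/
theorem fpf_quot' {p : ℕ} [Fact p.Prime] (G : Subgroup X) [G.Normal] {s : X} {n : ℕ}
    (hs : s ^ (p ^ n) = 1) (hfix : ∀ g ∈ G, s * g = g * s → g = 1)
    (N : Subgroup X) [N.Normal] (hNG : N ≤ G) :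
    ∀ g' ∈ G.map (QuotientGroup.mk' N),
      (QuotientGroup.mk' N) s * g' = g' * (QuotientGroup.mk' N) s → g' = 1 := by
  have hp : p.Prime := Fact.out
  have hGp := coprime_of_fpf' G hs hfix
  rintro _ ⟨g, hg, rfl⟩ h1
  have hA := isPGroup_zpowers' hp hs
  have hall : ∀ a ∈ Subgroup.zpowers s,
      (QuotientGroup.mk' N) a * (QuotientGroup.mk' N) g =
        (QuotientGroup.mk' N) g * (QuotientGroup.mk' N) a := by
    intro a ha
    obtain ⟨i, rfl⟩ := Subgroup.mem_zpowers_iff.mp ha
    rw [map_zpow]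
    have h2 : Commute ((QuotientGroup.mk' N) s) ((QuotientGroup.mk' N) g) := h1
    exact (h2.zpow_left i).eq
  obtain ⟨c, hc, hcA, hcg⟩ := lift_fixed G hGp _ hA N hNG hg hall
  have hc1 : c = 1 := hfix c hc (hcA s (Subgroup.mem_zpowers s))
  rw [← hcg, hc1, map_one]

/-- **Claim V** for Shult–Gross -/
theorem sg_claimV {p : ℕ} [Fact p.Prime] (hp2 : p ≠ 2) (G : Subgroup X) [G.Normal]
    (hGs : Group.IsSolvable ↥G) {s : X} {n : ℕ} (hn : 0 < n) (hs : s ^ (p ^ n) = 1)
    (hfix : ∀ g ∈ G, s * g = g * s → g = 1)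
    (V : Subgroup X) [V.Normal] (hVG : V ≤ G) (hV : V ≠ ⊥)
    (hmin : ∀ W : Subgroup X, W.Normal → W ≤ V → W ≠ ⊥ → W = V)
    {r : ℕ} [Fact r.Prime] [IsEA r ↥V] :
    ∀ g ∈ G, s ^ (p ^ (n - 1)) * g * (s ^ (p ^ (n - 1)))⁻¹ * g⁻¹ ∈
      Subgroup.centralizer (V : Set X) := by
  have hp : p.Prime := Fact.out
  have hr : r.Prime := Fact.out
  have hGp := coprime_of_fpf' G hs hfix
  obtain ⟨C, hCdef⟩ : ∃ C : Subgroup X, C = G ⊓ Subgroup.centralizer (V : Set X) := ⟨_, rfl⟩
  haveI hCn : C.Normal := by rw [hCdef]; infer_instance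
  have hCG : C ≤ G := by rw [hCdef]; exact inf_le_left
  have hCV : C ≤ Subgroup.centralizer (V : Set X) := by rw [hCdef]; exact inf_le_right
  have hmemC : ∀ g ∈ G, g ∈ Subgroup.centralizer (V : Set X) → g ∈ C := by
    intro g hg hgV
    rw [hCdef]; exact ⟨hg, hgV⟩
  let π : X →* X ⧸ C := QuotientGroup.mk' C
  have hπsurj : Function.Surjective π := QuotientGroup.mk'_surjective C
  have hπker : π.ker = C := QuotientGroup.ker_mk' C
  have hπ1 : ∀ g : X, π g = 1 ↔ g ∈ C := fun g => QuotientGroup.eq_one_iff g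
  -- the representation
  let ρX := conjRepX r V
  have hker : C ≤ MonoidHom.ker ρX := by
    intro c hc
    rw [MonoidHom.mem_ker]
    exact (conjRepX_eq_one_iff V c).mpr (hCV hc)
  let ρ : Representation (ZMod r) (X ⧸ C) (EA r ↥V) := QuotientGroup.lift C ρX hker
  have hρ : ∀ g : X, ρ (π g) = ρX g := fun g => QuotientGroup.lift_mk C hker g
  -- the image of `G`
  obtain ⟨H, hHdef⟩ : ∃ H : Subgroup (X ⧸ C), H = G.map π := ⟨_, rfl⟩
  haveI hHn : H.Normal := by
    rw [hHdef]
    exact Subgroup.Normal.map inferInstance π hπsurj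
  have hHs : Group.IsSolvable ↥H := by
    rw [hHdef]
    haveI := hGs
    exact Group.isSolvable_of_surjective (f := π.subgroupMap G) (π.subgroupMap_surjective G)
  have hHp : (Nat.card H).Coprime p := by
    rw [hHdef]
    exact Nat.Coprime.coprime_dvd_left (Subgroup.card_map_dvd G π) hGp
  have hfaith : ∀ h ∈ H, ρ h = 1 → h = 1 := by
    intro h hh h1
    rw [hHdef] at hh
    obtain ⟨g, hg, rfl⟩ := hh
    rw [hρ] at h1
    rw [hπ1]
    exact hmemC g hg ((conjRepX_eq_one_iff V g).mp h1)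
  have hVr : IsPGroup r ↥V := fun v => ⟨1, by rw [pow_one]; exact IsEA.exp v⟩
  have hrV : r ∣ Nat.card V := by
    obtain ⟨n, hn⟩ := IsPGroup.iff_card.mp hVr
    rw [hn]
    apply dvd_pow_self
    rintro rfl
    rw [pow_zero] at hn
    exact hV (Subgroup.card_eq_one.mp hn)
  have hrp : r ≠ p := by
    rintro rfl
    have h1 : r ∣ Nat.card G := hrV.trans (Subgroup.card_dvd_of_le hVG)
    have h2 := Nat.Coprime.coprime_dvd_left h1 hGp
    rw [Nat.coprime_self] at h2
    exact hr.one_lt.ne' h2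
  have hfixH : ∀ h ∈ H, π s * h = h * π s → h = 1 := by
    rw [hHdef]
    exact fpf_quot' G hs hfix C hCG
  have hfixM : ∀ m : EA r ↥V, ρ (π s) m = m → m = 0 := by
    intro m h1
    rw [hρ, conjRepX_eq_self_iff] at h1
    have h3 := hfix _ (hVG m.val.2) h1
    apply EA.ext
    rw [EA.val_zero]
    exact Subtype.ext h3
  -- normal `r`-subgroups
  have hOr : ∀ P : Subgroup (X ⧸ C), P.Normal → P ≤ H → IsPGroup r P → P = ⊥ := by
    intro P hPn hPH hPr
    obtain ⟨P', hP'def⟩ : ∃ P' : Subgroup X, P' = P.comap π := ⟨_, rfl⟩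
    haveI hP'n : P'.Normal := by rw [hP'def]; exact Subgroup.Normal.comap hPn π
    have hP'G : P' ≤ G := by
      intro t ht
      rw [hP'def, Subgroup.mem_comap] at ht
      have h1 := hPH ht
      rw [hHdef] at h1
      obtain ⟨g, hg, hgt⟩ := h1
      have h2 : g⁻¹ * t ∈ C := by
        rw [← hπ1, map_mul, map_inv, hgt, inv_mul_cancel]
      have e : t = g * (g⁻¹ * t) := by group
      rw [e]
      exact G.mul_mem hg (hCG h2)
    have hcent : P' ≤ Subgroup.centralizer (V : Set X) := by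
      obtain ⟨v, hv, hv1, hvfix⟩ := exists_fixed_of_pgroup_image V hrV P' (by
        intro t ht
        rw [hP'def, Subgroup.mem_comap] at ht
        obtain ⟨kk, hkk⟩ := hPr ⟨π t, ht⟩
        refine ⟨kk, ?_⟩
        have h1 : π (t ^ (r ^ kk)) = 1 := by
          have := congrArg Subtype.val hkk
          rw [map_pow]
          simpa using this
        have h2 : t ^ (r ^ kk) ∈ C := (hπ1 _).mp h1
        intro v hv
        exact ((Subgroup.mem_centralizer_iff.mp (hCV h2)) v hv).symm)
      have hW : V ⊓ Subgroup.centralizer (P' : Set X) = V := by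
        apply hmin _ inferInstance inf_le_left
        intro hbot
        apply hv1
        have h1 : v ∈ V ⊓ Subgroup.centralizer (P' : Set X) := by
          rw [Subgroup.mem_inf, Subgroup.mem_centralizer_iff]
          exact ⟨hv, fun t ht => hvfix t ht⟩
        rw [hbot, Subgroup.mem_bot] at h1
        exact h1
      have h2 : V ≤ Subgroup.centralizer (P' : Set X) := by
        rw [← hW]; exact inf_le_right
      exact Subgroup.le_centralizer_iff.mp h2
    have hP'C : P' ≤ C := fun t ht => hmemC t (hP'G ht) (hcent ht)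
    have h3 : P = P'.map π := by
      rw [hP'def, Subgroup.map_comap_eq_self_of_surjective hπsurj]
    rw [h3, Subgroup.map_eq_bot_iff, hπker]
    exact hP'C
  -- conclusion
  have hmain := sg_vabs hp2 hrp ρ H hHs hHp hfaith hn
    (by rw [← map_pow, hs, map_one] : (π s) ^ (p ^ n) = 1) hfixH hfixM hOr
  intro g hg
  apply hCV
  rw [← hπ1]
  have h1 := hmain (π g) (by rw [hHdef]; exact Subgroup.mem_map_of_mem _ hg)
  rw [map_mul, map_mul, map_mul, map_inv, map_inv, map_pow, h1]
  group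

end Cfsg.Agent.Lib.H19.SG
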