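import Mathlib
import Cfsg.Agent.Lib.H19.WardF3

/-!
# Ward's theorem, part F4: the ambient form (helper19)

`ward_ambient` : if `G ⊴ X` is solvable and `x₀, y₀ ∈ X` are commuting elements of prime order `p`
with `C_G(x₀) ∩ C_G(y₀) = 1`, then `G` has a nilpotent normal subgroup `N` (normal in `X`) with
`G / N` nilpotent.
-/

set_option autoImplicit false
set_option linter.style.haveILetI false
set_option linter.unusedSectionVars false

namespace Cfsg.Agent.Lib.H19.Ward

open Cfsg.Agent.Lib.H1 Cfsg.Agent.Lib.H1.QuadMul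
open scoped commutatorElement

universe u

theorem card_map_lt {X : Type*} [Group X] [Finite X] (G V : Subgroup X) [V.Normal] (hVG : V ≤ G)
    (hV : V ≠ ⊥) : Nat.card (G.map (QuotientGroup.mk' V)) < Nat.card G := by
  let f : ↥G →* X ⧸ V := (QuotientGroup.mk' V).comp G.subtype
  have hrange : f.range = G.map (QuotientGroup.mk' V) := by
    rw [MonoidHom.range_eq_map, ← Subgroup.map_map, ← MonoidHom.range_eq_map, Subgroup.range_subtype]
  have h1 : Nat.card f.ker * Nat.card f.range = Nat.card ↥G := by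
    rw [← Subgroup.index_ker]
    exact Subgroup.card_mul_index f.ker
  have hker : f.ker ≠ ⊥ := by
    obtain ⟨v, hv, hv1⟩ := (Subgroup.ne_bot_iff_exists_ne_one (H := V)).mp hV |>.imp
      (fun v h => h) |> fun ⟨v, hv1⟩ => (⟨(v : X), v.2, fun h => hv1 (Subtype.ext h)⟩ :
        ∃ v : X, v ∈ V ∧ v ≠ 1)
    intro hbot
    have h2 : (⟨v, hVG hv⟩ : ↥G) ∈ f.ker := by
      rw [MonoidHom.mem_ker]
      show (QuotientGroup.mk' V) v = 1
      exact (QuotientGroup.eq_one_iff v).mpr hv
    rw [hbot, Subgroup.mem_bot] at h2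
    exact hv1 (congrArg Subtype.val h2)
  have h2 : 1 < Nat.card f.ker := by
    rw [Subgroup.one_lt_card_iff_ne_bot]
    exact hker
  rw [← hrange, ← h1]
  have h3 : 0 < Nat.card f.range := Nat.card_pos
  nlinarith

theorem ward_ambient {p : ℕ} [Fact p.Prime] :
    ∀ (n : ℕ) (X : Type u) [Group X] [Finite X] (G : Subgroup X) [G.Normal], Nat.card G = n →
      Group.IsSolvable ↥G → ∀ x₀ y₀ : X, x₀ * y₀ = y₀ * x₀ → x₀ ^ p = 1 → y₀ ^ p = 1 →
      (∀ g ∈ G, x₀ * g = g * x₀ → y₀ * g = g * y₀ → g = 1) →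
      ∃ N : Subgroup X, N ≤ G ∧ N.Normal ∧ Group.IsNilpotent ↥N ∧
        ∃ m : ℕ, G.lowerCentralSeries m ≤ N := by
  intro n
  induction n using Nat.strong_induction_on with
  | _ n ih =>
    intro X _ _ G _ hn hGs x₀ y₀ hxy hx hy hfix
    by_cases hG : G = ⊥
    · refine ⟨⊥, bot_le, inferInstance, inferInstance, 0, ?_⟩
      rw [Subgroup.lowerCentralSeries_zero, hG]
    obtain ⟨V, hVn, hVG, hV, hmin⟩ := exists_min_normal G hG
    haveI := hVn
    have hVs : Group.IsSolvable ↥V :=
      Group.isSolvable_of_isSolvable_injective (Subgroup.inclusion_injective hVG)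
    obtain ⟨r, hr, hEA⟩ := isEA_min_normal hVs hV hmin
    haveI : Fact r.Prime := ⟨hr⟩
    obtain ⟨m₁, hm₁⟩ := claimV G hGs hxy hx hy hfix V hVG hV hmin (r := r)
    -- the quotient
    obtain ⟨π, hπdef⟩ : ∃ π : X →* X ⧸ V, π = QuotientGroup.mk' V := ⟨_, rfl⟩
    have hπsurj : Function.Surjective π := by rw [hπdef]; exact QuotientGroup.mk'_surjective V
    have hπ1 : ∀ g : X, π g = 1 ↔ g ∈ V := by
      intro g; rw [hπdef]; exact QuotientGroup.eq_one_iff g
    have hlt : Nat.card (G.map π) < n := by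
      rw [← hn, hπdef]
      exact card_map_lt G V hVG hV
    haveI hGn' : (G.map π).Normal := Subgroup.Normal.map inferInstance π hπsurj
    have hGs' : Group.IsSolvable ↥(G.map π) := by
      haveI := hGs
      exact Group.isSolvable_of_surjective (f := π.subgroupMap G) (π.subgroupMap_surjective G)
    have hfix' : ∀ g' ∈ G.map π, π x₀ * g' = g' * π x₀ → π y₀ * g' = g' * π y₀ → g' = 1 := by
      rw [hπdef]
      exact fpf_quot G hxy hx hy hfix V hVG
    obtain ⟨N', hN'G, hN'n, hN'nil, m₂, hm₂⟩ := ih _ hlt (X ⧸ V) (G.map π) rfl hGs' (π x₀) (π y₀)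
      (by rw [← map_mul, ← map_mul, hxy]) (by rw [← map_pow, hx, map_one])
      (by rw [← map_pow, hy, map_one]) hfix'
    haveI := hN'n
    haveI hcn : (N'.comap π).Normal := Subgroup.Normal.comap hN'n π
    refine ⟨N'.comap π ⊓ Subgroup.centralizer (V : Set X), ?_, inferInstance, ?_,
      max m₁ m₂, ?_⟩
    · -- `N ≤ G`
      intro t ht
      rw [Subgroup.mem_inf, Subgroup.mem_comap] at ht
      obtain ⟨g, hg, hgt⟩ := hN'G ht.1
      have h2 : g⁻¹ * t ∈ V := by
        rw [← hπ1, map_mul, map_inv, hgt, inv_mul_cancel]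
      have e : t = g * (g⁻¹ * t) := by group
      rw [e]
      exact G.mul_mem hg (hVG h2)
    · -- nilpotent
      obtain ⟨N, hNdef⟩ : ∃ N : Subgroup X, N = N'.comap π ⊓ Subgroup.centralizer (V : Set X) :=
        ⟨_, rfl⟩
      rw [← hNdef]
      have hNle : N ≤ N'.comap π := by rw [hNdef]; exact inf_le_left
      have hNcent : N ≤ Subgroup.centralizer (V : Set X) := by rw [hNdef]; exact inf_le_right
      let f : ↥N →* ↥N' := (π.comp N.subtype).codRestrict N' (fun t => hNle t.2)
      haveI := hN'nil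
      apply Subgroup.isNilpotent_of_ker_le_center f
      intro t ht
      rw [MonoidHom.mem_ker] at ht
      have h1 : π (t : X) = 1 := congrArg Subtype.val ht
      have h2 : (t : X) ∈ V := (hπ1 _).mp h1
      rw [Subgroup.mem_center_iff]
      intro t'
      apply Subtype.ext
      show (t' : X) * t = t * t'
      exact ((Subgroup.mem_centralizer_iff.mp (hNcent t'.2)) _ h2).symm
    · -- the quotient is nilpotent
      apply le_inf
      · have h1 : G.lowerCentralSeries (max m₁ m₂) ≤ G.lowerCentralSeries m₂ :=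
          Subgroup.lowerCentralSeries_antitone G (le_max_right m₁ m₂)
        refine h1.trans ?_
        rw [← Subgroup.map_le_iff_le_comap, Subgroup.map_lowerCentralSeries]
        exact hm₂
      · exact (Subgroup.lowerCentralSeries_antitone G (le_max_left m₁ m₂)).trans hm₁

end Cfsg.Agent.Lib.H19.Ward
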