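import Mathlib
import Cfsg.Agent.Lib.H19.SG14
import Cfsg.Agent.Lib.H19.WardF4

/-!
# Shult–Gross, part 15: the ambient form (helper19)

`sg_ambient` : if `G ⊴ X` is solvable and `s ∈ X` satisfies `s ^ (p ^ n) = 1` (`p` odd, `n ≥ 1`)
and `C_G(s) = 1`, then `G` has a nilpotent normal subgroup `N` (normal in `X`) containing
`[s ^ (p ^ (n - 1)), G]`.
-/

set_option autoImplicit false
set_option linter.style.haveILetI false
set_option linter.unusedSectionVars false

namespace Cfsg.Agent.Lib.H19.SG

open Cfsg.Agent.Lib.H1 Cfsg.Agent.Lib.H1.QuadMul Cfsg.Agent.Lib.H19.Ward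
open scoped commutatorElement

universe u

theorem sg_ambient {p : ℕ} [Fact p.Prime] (hp2 : p ≠ 2) {n : ℕ} (hn : 0 < n) :
    ∀ (c : ℕ) (X : Type u) [Group X] [Finite X] (G : Subgroup X) [G.Normal], Nat.card G = c →
      Group.IsSolvable ↥G → ∀ s : X, s ^ (p ^ n) = 1 →
      (∀ g ∈ G, s * g = g * s → g = 1) →
      ∃ N : Subgroup X, N ≤ G ∧ N.Normal ∧ Group.IsNilpotent ↥N ∧
        ∀ g ∈ G, s ^ (p ^ (n - 1)) * g * (s ^ (p ^ (n - 1)))⁻¹ * g⁻¹ ∈ N := by
  intro c
  induction c using Nat.strong_induction_on with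
  | _ c ih =>
    intro X _ _ G _ hc hGs s hs hfix
    by_cases hG : G = ⊥
    · refine ⟨⊥, bot_le, inferInstance, inferInstance, ?_⟩
      intro g hg
      rw [hG, Subgroup.mem_bot] at hg
      rw [hg, Subgroup.mem_bot]
      group
    obtain ⟨V, hVn, hVG, hV, hmin⟩ := exists_min_normal G hG
    haveI := hVn
    have hVs : Group.IsSolvable ↥V :=
      Group.isSolvable_of_isSolvable_injective (Subgroup.inclusion_injective hVG)
    obtain ⟨r, hr, hEA⟩ := isEA_min_normal hVs hV hmin
    haveI : Fact r.Prime := ⟨hr⟩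
    have hcl := sg_claimV hp2 G hGs hn hs hfix V hVG hV hmin (r := r)
    -- the quotient
    obtain ⟨π, hπdef⟩ : ∃ π : X →* X ⧸ V, π = QuotientGroup.mk' V := ⟨_, rfl⟩
    have hπsurj : Function.Surjective π := by rw [hπdef]; exact QuotientGroup.mk'_surjective V
    have hπ1 : ∀ g : X, π g = 1 ↔ g ∈ V := by
      intro g; rw [hπdef]; exact QuotientGroup.eq_one_iff g
    have hlt : Nat.card (G.map π) < c := by
      rw [← hc, hπdef]
      exact card_map_lt G V hVG hV
    haveI hGn' : (G.map π).Normal := Subgroup.Normal.map inferInstance π hπsurj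
    have hGs' : Group.IsSolvable ↥(G.map π) := by
      haveI := hGs
      exact Group.isSolvable_of_surjective (f := π.subgroupMap G) (π.subgroupMap_surjective G)
    have hfix' : ∀ g' ∈ G.map π, π s * g' = g' * π s → g' = 1 := by
      rw [hπdef]
      exact fpf_quot' G hs hfix V hVG
    obtain ⟨N', hN'G, hN'n, hN'nil, hN'⟩ := ih _ hlt (X ⧸ V) (G.map π) rfl hGs' (π s)
      (by rw [← map_pow, hs, map_one]) hfix'
    haveI := hN'n
    haveI hcn : (N'.comap π).Normal := Subgroup.Normal.comap hN'n π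
    refine ⟨N'.comap π ⊓ Subgroup.centralizer (V : Set X), ?_, inferInstance, ?_, ?_⟩
    · -- `N ≤ G`
      intro t ht
      rw [Subgroup.mem_inf, Subgroup.mem_comap] at ht
      obtain ⟨g, hg, hgt⟩ := hN'G ht.1
      have h2 : g⁻¹ * t ∈ V := by
        rw [← hπ1, map_mul, map_inv, hgt, inv_mul_cancel]
      have e : t = g * (g⁻¹ * t) := by group
      rw [e]
      exact G.mul_mem hg (hVG h2)
    · -- nilpotent
      obtain ⟨N, hNdef⟩ : ∃ N : Subgroup X, N = N'.comap π ⊓ Subgroup.centralizer (V : Set X) :=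
        ⟨_, rfl⟩
      rw [← hNdef]
      have hNle : N ≤ N'.comap π := by rw [hNdef]; exact inf_le_left
      have hNcent : N ≤ Subgroup.centralizer (V : Set X) := by rw [hNdef]; exact inf_le_right
      let f : ↥N →* ↥N' := (π.comp N.subtype).codRestrict N' (fun t => hNle t.2)
      haveI := hN'nil
      apply Subgroup.isNilpotent_of_ker_le_center f
      intro t ht
      rw [MonoidHom.mem_ker] at ht
      have h1 : π (t : X) = 1 := congrArg Subtype.val ht
      have h2 : (t : X) ∈ V := (hπ1 _).mp h1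
      rw [Subgroup.mem_center_iff]
      intro t'
      apply Subtype.ext
      show (t' : X) * t = t * t'
      exact ((Subgroup.mem_centralizer_iff.mp (hNcent t'.2)) _ h2).symm
    · -- the commutators
      intro g hg
      rw [Subgroup.mem_inf]
      refine ⟨?_, hcl g hg⟩
      rw [Subgroup.mem_comap]
      have h1 := hN' (π g) (Subgroup.mem_map_of_mem _ hg)
      rw [map_mul, map_mul, map_mul, map_inv, map_inv, map_pow]
      exact h1

end Cfsg.Agent.Lib.H19.SG
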