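import Mathlib
import Cfsg.Agent.Lib.H19.SG15

/-!
# Shult–Gross, part 16: the abstract form and the Fitting chain (helper19)

`sg_chain` : a finite solvable group `G` with a fixed-point-free automorphism `σ`, `σ ^ (p ^ n) = 1`,
`p` odd, has a normal series of length `n` with nilpotent factors.
-/

set_option autoImplicit false
set_option linter.style.haveILetI false
set_option linter.unusedSectionVars false

namespace Cfsg.Agent.Lib.H19.SG

open Cfsg.Agent.Lib.H19.Ward

universe u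

open SemidirectProduct in
/-- one step: a nilpotent `σ`-invariant normal subgroup containing `[G, σ ^ (p ^ (n-1))]` -/
theorem sg_abstract_step {G : Type u} [Group G] [Finite G] (hG : Group.IsSolvable G) {p : ℕ}
    [Fact p.Prime] (hp2 : p ≠ 2) (σ : MulAut G) {n : ℕ} (hn : 0 < n) (hσ : σ ^ (p ^ n) = 1)
    (hfix : ∀ g : G, σ g = g → g = 1) :
    ∃ N₀ : Subgroup G, N₀.Normal ∧ Group.IsNilpotent ↥N₀ ∧ (∀ g ∈ N₀, σ g ∈ N₀) ∧
      (∀ g : G, g⁻¹ * (σ ^ (p ^ (n - 1))) g ∈ N₀) ∧ (∀ g : G, g⁻¹ * σ g ∈ N₀ → g ∈ N₀) := by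
  haveI : Finite (MulAut G) := inferInstance
  let φ : MulAut G →* MulAut G := MonoidHom.id _
  haveI : Finite (G ⋊[φ] MulAut G) := Finite.of_equiv _ (SemidirectProduct.equivProd (φ := φ)).symm
  obtain ⟨Gt, hGt⟩ : ∃ Gt : Subgroup (G ⋊[φ] MulAut G), Gt = (inl : G →* G ⋊[φ] MulAut G).range :=
    ⟨_, rfl⟩
  haveI hGtn : Gt.Normal := by
    rw [hGt, range_inl_eq_ker_rightHom]; infer_instance
  have hGts : Group.IsSolvable ↥Gt := by
    haveI := hG
    rw [hGt]
    exact Group.isSolvable_of_surjective (f := (inl : G →* G ⋊[φ] MulAut G).rangeRestrict)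
      (MonoidHom.rangeRestrict_surjective _)
  have hinl : ∀ (a : MulAut G) (g : G),
      (inl (a g) : G ⋊[φ] MulAut G) = inr a * inl g * (inr a)⁻¹ := by
    intro a g
    have h1 : (inl (φ a g) : G ⋊[φ] MulAut G) = inr a * inl g * (inr a)⁻¹ := by
      rw [inl_aut, map_inv]
    exact h1
  have hconj : ∀ (a : MulAut G) (g : G),
      (inr a : G ⋊[φ] MulAut G) * inl g = inl g * inr a → a g = g := by
    intro a g h
    have h1 := hinl a g
    rw [h, mul_assoc, mul_inv_cancel, mul_one] at h1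
    exact inl_injective h1
  have hs : (inr σ : G ⋊[φ] MulAut G) ^ (p ^ n) = 1 := by rw [← map_pow, hσ, map_one]
  have hfixX : ∀ g' ∈ Gt, (inr σ : G ⋊[φ] MulAut G) * g' = g' * inr σ → g' = 1 := by
    intro g' hg' h1
    rw [hGt] at hg'
    obtain ⟨g, rfl⟩ := hg'
    rw [hfix g (hconj σ g h1), map_one]
  obtain ⟨N, hNG, hNn, hNnil, hN⟩ := sg_ambient (p := p) hp2 hn (Nat.card Gt) (G ⋊[φ] MulAut G) Gt
    rfl hGts (inr σ) hs hfixX
  haveI := hNn
  have hN₀n : (N.comap (inl : G →* G ⋊[φ] MulAut G)).Normal := Subgroup.Normal.comap hNn _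
  refine ⟨N.comap inl, hN₀n, ?_, ?_, ?_, ?_⟩
  · let f : ↥(N.comap (inl : G →* G ⋊[φ] MulAut G)) →* ↥N :=
      ((inl : G →* G ⋊[φ] MulAut G).comp (N.comap inl).subtype).codRestrict N (fun t => t.2)
    haveI := hNnil
    apply Subgroup.isNilpotent_of_ker_le_center f
    intro t ht
    rw [MonoidHom.mem_ker] at ht
    have h1 : (inl (t : G) : G ⋊[φ] MulAut G) = 1 := congrArg Subtype.val ht
    have h2 : (t : G) = 1 := inl_injective (by rw [h1, map_one])
    have h3 : t = 1 := Subtype.ext h2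
    rw [h3]
    exact Subgroup.one_mem _
  · intro g hg
    rw [Subgroup.mem_comap] at hg ⊢
    rw [hinl]
    exact hNn.conj_mem _ hg _
  · intro g
    rw [Subgroup.mem_comap, map_mul, map_inv, hinl, map_pow]
    have h1 := hN (inl g) (by rw [hGt]; exact ⟨g, rfl⟩)
    have h2 := hNn.conj_mem _ h1 (inl g)⁻¹
    have e : (inl g : G ⋊[φ] MulAut G)⁻¹ * (inr σ ^ p ^ (n - 1) * inl g * (inr σ ^ p ^ (n - 1))⁻¹ *
        (inl g)⁻¹) * (inl g)⁻¹⁻¹ =
        (inl g)⁻¹ * (inr σ ^ p ^ (n - 1) * inl g * (inr σ ^ p ^ (n - 1))⁻¹) := by group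
    rw [e] at h2
    exact h2
  · intro g hg
    rw [Subgroup.mem_comap] at hg ⊢
    rw [map_mul, map_inv, hinl] at hg
    have hmk : (QuotientGroup.mk' N) (inl g) = 1 := by
      apply fpf_quot' Gt hs hfixX N hNG _ (Subgroup.mem_map_of_mem _ (by rw [hGt]; exact ⟨g, rfl⟩))
      have h1 : (QuotientGroup.mk' N) ((inl g : G ⋊[φ] MulAut G)⁻¹ *
          (inr σ * inl g * (inr σ)⁻¹)) = 1 := (QuotientGroup.eq_one_iff _).mpr hg
      rw [map_mul, map_mul, map_mul, map_inv, map_inv] at h1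
      have h2 := congrArg (fun t => (QuotientGroup.mk' N) (inl g) * t * (QuotientGroup.mk' N) (inr σ)) h1
      simp only [mul_one] at h2
      rw [← h2]
      group
    exact (QuotientGroup.eq_one_iff _).mp hmk

end Cfsg.Agent.Lib.H19.SG

namespace Cfsg.Agent.Lib.H19.SG

universe u

theorem congr_pow_mk {G : Type u} [Group G] (N₀ : Subgroup G) [N₀.Normal] (σ : MulAut G)
    (h : N₀.map (σ : G →* G) = N₀) (k : ℕ) (g : G) :
    ((QuotientGroup.congr N₀ N₀ σ h : MulAut (G ⧸ N₀)) ^ k) (QuotientGroup.mk g) =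
      QuotientGroup.mk ((σ ^ k) g) := by
  induction k generalizing g with
  | zero => simp
  | succ k ih =>
    rw [pow_succ, MulAut.mul_apply, pow_succ, MulAut.mul_apply, ← ih]
    rfl

/-- **Shult–Gross**, abstract form with `σ ^ (p ^ n) = 1` -/
theorem sg_chain {p : ℕ} [Fact p.Prime] (hp2 : p ≠ 2) :
    ∀ (n : ℕ) (G : Type u) [Group G] [Finite G], Group.IsSolvable G → ∀ σ : MulAut G,
      σ ^ (p ^ n) = 1 → (∀ g : G, σ g = g → g = 1) →
      ∃ F : Fin (n + 1) → Subgroup G, F 0 = ⊥ ∧ F (Fin.last n) = ⊤ ∧ Monotone F ∧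
        (∀ i, (F i).Normal) ∧
        ∀ i : Fin n, ∃ k : ℕ, (F i.succ).lowerCentralSeries k ≤ F i.castSucc := by
  intro n
  induction n with
  | zero =>
    intro G _ _ hG σ hσ hfix
    rw [pow_zero, pow_one] at hσ
    have hall : ∀ g : G, g = 1 := by
      intro g
      apply hfix
      rw [hσ]
      rfl
    refine ⟨fun _ => ⊥, rfl, ?_, fun _ _ _ => le_rfl, fun _ => inferInstance, fun i => i.elim0⟩
    ext g
    rw [hall g]
    simp
  | succ n ih =>
    intro G _ _ hG σ hσ hfix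
    obtain ⟨N₀, hN₀n, hN₀nil, hN₀σ, hN₀ψ, hN₀fix⟩ :=
      sg_abstract_step hG hp2 σ (Nat.succ_pos n) hσ hfix
    haveI := hN₀n
    have hn1 : n.succ - 1 = n := Nat.succ_sub_one n
    rw [hn1] at hN₀ψ
    have hmap : N₀.map (σ : G →* G) = N₀ := by
      have h1 : N₀.map (σ : G →* G) ≤ N₀ := by
        rintro _ ⟨g, hg, rfl⟩
        exact hN₀σ g hg
      apply Subgroup.eq_of_le_of_card_ge h1
      rw [Subgroup.card_map_of_injective (f := (σ : G →* G)) σ.injective]
    let σb : MulAut (G ⧸ N₀) := QuotientGroup.congr N₀ N₀ σ hmap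
    have hσb : σb ^ (p ^ n) = 1 := by
      apply MulEquiv.ext
      intro x
      obtain ⟨g, rfl⟩ := QuotientGroup.mk_surjective x
      rw [congr_pow_mk, MulAut.one_apply, eq_comm, QuotientGroup.eq]
      exact hN₀ψ g
    have hfixb : ∀ x : G ⧸ N₀, σb x = x → x = 1 := by
      intro x hx
      obtain ⟨g, rfl⟩ := QuotientGroup.mk_surjective x
      have h1 : (QuotientGroup.mk (σ g) : G ⧸ N₀) = QuotientGroup.mk g := hx
      rw [eq_comm, QuotientGroup.eq] at h1
      exact (QuotientGroup.eq_one_iff g).mpr (hN₀fix g h1)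
    have hGb : Group.IsSolvable (G ⧸ N₀) := by
      haveI := hG
      infer_instance
    obtain ⟨F', hF'0, hF'last, hF'mono, hF'n, hF'nil⟩ := ih (G ⧸ N₀) hGb σb hσb hfixb
    obtain ⟨π, hπdef⟩ : ∃ π : G →* G ⧸ N₀, π = QuotientGroup.mk' N₀ := ⟨_, rfl⟩
    have hπsurj : Function.Surjective π := by rw [hπdef]; exact QuotientGroup.mk'_surjective N₀
    have hπker : π.ker = N₀ := by rw [hπdef]; exact QuotientGroup.ker_mk' N₀
    refine ⟨Fin.cons ⊥ (fun i => (F' i).comap π), ?_, ?_, ?_, ?_, ?_⟩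
    · rw [Fin.cons_zero]
    · rw [← Fin.succ_last, Fin.cons_succ, hF'last, Subgroup.comap_top]
    · rw [Fin.monotone_iff_le_succ]
      intro i
      refine Fin.cases ?_ (fun j => ?_) i
      · rw [Fin.castSucc_zero, Fin.cons_zero]
        exact bot_le
      · rw [Fin.castSucc_succ, Fin.cons_succ, Fin.cons_succ]
        exact Subgroup.comap_mono (hF'mono (Fin.castSucc_le_succ j))
    · intro i
      refine Fin.cases ?_ (fun j => ?_) i
      · rw [Fin.cons_zero]
        infer_instance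
      · rw [Fin.cons_succ]
        exact Subgroup.Normal.comap (hF'n j) π
    · intro i
      refine Fin.cases ?_ (fun j => ?_) i
      · rw [Fin.castSucc_zero, Fin.cons_zero, Fin.cons_succ, hF'0, MonoidHom.comap_bot, hπker]
        obtain ⟨k, hk⟩ := (Subgroup.isNilpotent_iff_lowerCentralSeries N₀).mp hN₀nil
        exact ⟨k, hk.le⟩
      · rw [Fin.castSucc_succ, Fin.cons_succ, Fin.cons_succ]
        obtain ⟨k, hk⟩ := hF'nil j
        refine ⟨k, ?_⟩
        rw [← Subgroup.map_le_iff_le_comap, Subgroup.map_lowerCentralSeries,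
          Subgroup.map_comap_eq_self_of_surjective hπsurj]
        exact hk

end Cfsg.Agent.Lib.H19.SG
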