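import Mathlib
import Cfsg.Agent.Lib.H19.SG16

/-!
# Gross's theorem for `p = 2` (S3795): shared definitions (helper19)

Ambient setting: a finite group `Γ` with a representation `ρ` on `W`, an element `s` with
`s ^ (2 ^ n) = 1` and `ρ s` without nonzero fixed vector, a `t`-subgroup `Q` and a `u`-subgroup `R`
(`t ≠ u` odd primes), both normalized by `s`, `R` normalizing `Q`, `R = [R, τ]` where
`τ = s ^ (2 ^ (n - 1))`, and `ρ` faithful on `Q`.  The main lemma (`cfg_centralizes`) says that `R`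
centralizes `Q`.
-/

set_option autoImplicit false

namespace Cfsg.Agent.Lib.H19.SGT

variable {k : Type*} [Field k] {Γ : Type*} [Group Γ] {W : Type*} [AddCommGroup W] [Module k W]

/-- the involution `τ = s ^ (2 ^ (n - 1))` -/
def tau (s : Γ) (n : ℕ) : Γ := s ^ 2 ^ (n - 1)

/-- the generators `x⁻¹ τ x τ⁻¹`, `x ∈ R`, of `[R, τ]` -/
def commSet (R : Subgroup Γ) (τ : Γ) : Set Γ := {y | ∃ x ∈ R, y = x⁻¹ * τ * x * τ⁻¹}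

/-- the configuration of the main lemma -/
structure Cfg (ρ : Representation k Γ W) (s : Γ) (n : ℕ) (Q R : Subgroup Γ) (t u : ℕ) : Prop where
  hs : s ^ 2 ^ n = 1
  hfpf : ∀ w, ρ s w = w → w = 0
  hQ : IsPGroup t Q
  hR : IsPGroup u R
  hsQ : ∀ q ∈ Q, s * q * s⁻¹ ∈ Q
  hsR : ∀ x ∈ R, s * x * s⁻¹ ∈ R
  hRQ : ∀ x ∈ R, ∀ q ∈ Q, x * q * x⁻¹ ∈ Q
  hgen : R ≤ Subgroup.closure (commSet R (tau s n))
  hfaith : ∀ q ∈ Q, ρ q = 1 → q = 1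

/-- `R` centralizes `Q` -/
def Cent (R Q : Subgroup Γ) : Prop := ∀ x ∈ R, ∀ q ∈ Q, x * q = q * x

/-- `Q` is a minimal `s`- and `R`-invariant subgroup not centralized by `R` -/
def IsMin (s : Γ) (Q R : Subgroup Γ) : Prop :=
  ¬ Cent R Q ∧ ∀ Q₀ : Subgroup Γ, Q₀ ≤ Q → Q₀ ≠ Q → (∀ q ∈ Q₀, s * q * s⁻¹ ∈ Q₀) →
    (∀ x ∈ R, ∀ q ∈ Q₀, x * q * x⁻¹ ∈ Q₀) → Cent R Q₀

theorem Cfg.mono {ρ : Representation k Γ W} {s : Γ} {n : ℕ} {Q R : Subgroup Γ} {t u : ℕ}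
    (h : Cfg ρ s n Q R t u) {Q₀ : Subgroup Γ} (hle : Q₀ ≤ Q) (hs₀ : ∀ q ∈ Q₀, s * q * s⁻¹ ∈ Q₀)
    (hR₀ : ∀ x ∈ R, ∀ q ∈ Q₀, x * q * x⁻¹ ∈ Q₀) : Cfg ρ s n Q₀ R t u where
  hs := h.hs
  hfpf := h.hfpf
  hQ := h.hQ.to_le hle
  hR := h.hR
  hsQ := hs₀
  hsR := h.hsR
  hRQ := hR₀
  hgen := h.hgen
  hfaith := fun q hq => h.hfaith q (hle hq)

/-- the output of the two-stage weight analysis: a weight space `W'` of the radical `N` of a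
weight `λ` of `Z(Q)`, stabilized by `g' = s ^ (2 ^ j)` -/
structure WData (ρ : Representation k Γ W) (s : Γ) (n : ℕ) (Q R N : Subgroup Γ) (j : ℕ)
    (W' : Submodule k W) (μ : Γ → k) : Prop where
  hj : j < n
  hZN : ∀ z ∈ Q, (∀ q ∈ Q, z * q = q * z) → z ∈ N
  hNQ : N ≤ Q
  hNne : N ≠ Q
  hgN : ∀ z ∈ N, s ^ 2 ^ j * z * (s ^ 2 ^ j)⁻¹ ∈ N
  hRN : ∀ x ∈ R, ∀ z ∈ N, x * z * x⁻¹ ∈ N
  hW' : W' ≠ ⊥
  hQW : ∀ q ∈ Q, ∀ w ∈ W', ρ q w ∈ W'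
  hRW : ∀ x ∈ R, ∀ w ∈ W', ρ x w ∈ W'
  hgW : ∀ w ∈ W', ρ (s ^ 2 ^ j) w ∈ W'
  hμ : ∀ z ∈ N, ∀ w ∈ W', ρ z w = μ z • w
  hnd : ∀ a ∈ Q, (∀ b ∈ Q, μ (b * a * b⁻¹ * a⁻¹) = 1) → a ∈ N
  hfpf' : ∀ w ∈ W', ρ (s ^ 2 ^ j) w = w → w = 0

end Cfsg.Agent.Lib.H19.SGT
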