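import Cfsg.Agent.Lib.H19.SimsODD

/-!
S3685 / S3385 pieces (2a) and (2c) (blueprint `tools/blueprints/S3685.md`, section 2), in
hypothesis form (`prim`, `idx` = the two outputs of (RED)):
(2a) `T = P ⊓ P^h ≠ 1` is not normal in `P`;  (2c) `h` can be replaced by a "bent" `h' = h p`.
-/

set_option autoImplicit false
open scoped Pointwise

namespace Cfsg.Agent.Lib.H19.Sims

variable {G : Type*} [Group G]

theorem conj_smul_eq_self_of_mem (P : Subgroup G) (p : G) (hp : p ∈ P) :
    MulAut.conj p • P = P := by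
  ext x
  rw [mem_conj_smul_iff]
  constructor
  · intro hx
    have := P.mul_mem (P.mul_mem hp hx) (P.inv_mem hp)
    have e : p * (p⁻¹ * x * p) * p⁻¹ = x := by group
    rwa [e] at this
  · intro hx
    exact P.mul_mem (P.mul_mem (P.inv_mem hp) hx) hp

theorem le_normalizer_of_conj_smul_eq (N H : Subgroup G)
    (h : ∀ n ∈ N, MulAut.conj n • H = H) : N ≤ Subgroup.normalizer (H : Set G) := by
  intro n hn
  rw [Subgroup.mem_normalizer_iff]
  intro x
  have h1 := h n hn
  constructor
  · intro hx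
    rw [← h1, mem_conj_smul_iff]
    have e : n⁻¹ * (n * x * n⁻¹) * n = x := by group
    rwa [e]
  · intro hx
    rw [← h1, mem_conj_smul_iff] at hx
    have e : n⁻¹ * (n * x * n⁻¹) * n = x := by group
    rwa [e] at hx

theorem conj_smul_eq_of_mem_normalizer (H : Subgroup G) (n : G)
    (hn : n ∈ Subgroup.normalizer (H : Set G)) : MulAut.conj n • H = H := by
  ext x
  rw [mem_conj_smul_iff]
  have hn' : n⁻¹ ∈ Subgroup.normalizer (H : Set G) := Subgroup.inv_mem _ hn
  rw [Subgroup.mem_normalizer_iff] at hn'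
  have := (hn' x)
  rw [inv_inv] at this
  exact this.symm

/-- `idx` forces `h ∉ P`. -/
theorem not_mem_of_idx [Finite G] (P : Subgroup G) (h : G)
    (idx : Nat.card P = 3 * Nat.card ↥(P ⊓ MulAut.conj h • P)) : h ∉ P := by
  intro hh
  rw [conj_smul_eq_self_of_mem P h hh, inf_idem] at idx
  have hpos : 0 < Nat.card P := Nat.card_pos
  omega

/-- (2a), conjugation form: some `p ∈ P` moves `T = P ⊓ P^h`. -/
theorem exists_conj_ne_T [Finite G] (P : Subgroup G) (h : G)
    (prim : ∀ X : Subgroup G, X ≤ P → X ≠ ⊥ → P ≤ Subgroup.normalizer (X : Set G) →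
      Subgroup.normalizer (X : Set G) ≤ P)
    (idx : Nat.card P = 3 * Nat.card ↥(P ⊓ MulAut.conj h • P))
    (hT : P ⊓ MulAut.conj h • P ≠ ⊥) :
    ∃ p ∈ P, MulAut.conj p • (P ⊓ MulAut.conj h • P) ≠ P ⊓ MulAut.conj h • P := by
  by_contra hcon
  push Not at hcon
  set T : Subgroup G := P ⊓ MulAut.conj h • P with hTdef
  set P' : Subgroup G := MulAut.conj h • P with hP'
  set T' : Subgroup G := MulAut.conj h • T with hT'
  have h2 : IsPGroup 2 T := isPGroup_two_of_prim P h prim idx
  have hTP : T ≤ P := inf_le_left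
  have hTP' : T ≤ P' := inf_le_right
  have hT'P' : T' ≤ P' := by
    rw [hT', hP']
    exact Subgroup.pointwise_smul_le_pointwise_smul_iff.mpr hTP
  -- P' normalizes T'
  have hnorm' : ∀ q ∈ P', MulAut.conj q • T' = T' := by
    intro q hq
    rw [hP', mem_conj_smul_iff] at hq
    have h1 := hcon _ hq
    have e : MulAut.conj q * MulAut.conj h = MulAut.conj h * MulAut.conj (h⁻¹ * q * h) := by
      rw [← map_mul, ← map_mul]
      congr 1
      group
    rw [hT', ← mul_smul, e, mul_smul, h1]
  have hN' : P' ≤ Subgroup.normalizer (T' : Set G) := le_normalizer_of_conj_smul_eq P' T' hnorm'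
  -- T ≤ T'
  have hcardP' : Nat.card P' = 3 * Nat.card T' := by
    rw [hP', hT', card_conj_smul, card_conj_smul]; exact idx
  have hle : T ≤ T' := by
    intro t ht
    have htP' : t ∈ P' := hTP' ht
    -- (T'.subgroupOf P') is normal of index 3
    have : (T'.subgroupOf P').Normal := by
      rw [← Subgroup.normalizer_eq_top_iff]
      rw [eq_top_iff]
      intro x _
      have hx : (x : G) ∈ Subgroup.normalizer (T' : Set G) := hN' x.2
      rw [Subgroup.mem_normalizer_iff] at hx ⊢
      intro y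
      rw [Subgroup.mem_subgroupOf, Subgroup.mem_subgroupOf]
      simpa using hx (y : G)
    have hidx : (T'.subgroupOf P').index = 3 := by
      have h1 := Subgroup.card_mul_index (T'.subgroupOf P')
      have h2' : Nat.card ↥(T'.subgroupOf P') = Nat.card T' :=
        Nat.card_congr (Subgroup.subgroupOfEquivOfLe hT'P').toEquiv
      rw [h2', hcardP'] at h1
      have hpos : 0 < Nat.card T' := Nat.card_pos
      have : Nat.card ↥T' * (T'.subgroupOf P').index = Nat.card ↥T' * 3 := by rw [h1]; ring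
      exact Nat.eq_of_mul_eq_mul_left hpos this
    have h3 : (⟨t, htP'⟩ : P') ^ 3 ∈ T'.subgroupOf P' := by
      have := Subgroup.pow_index_mem (T'.subgroupOf P') (⟨t, htP'⟩ : P')
      rwa [hidx] at this
    rw [Subgroup.mem_subgroupOf] at h3
    have h3' : t ^ 3 ∈ T' := by simpa using h3
    obtain ⟨k, hk⟩ := h2 ⟨t, ht⟩
    have hk' : t ^ (2 ^ k) = 1 := by
      have := congrArg (Subtype.val) hk
      simpa using this
    have hdvd : orderOf t ∣ 2 ^ k := orderOf_dvd_of_pow_eq_one hk'
    have hcop : Nat.Coprime 3 (orderOf t) := by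
      apply Nat.Coprime.coprime_dvd_right hdvd
      exact Nat.Coprime.pow_right k (by decide)
    obtain ⟨m, hm⟩ := exists_pow_eq_self_of_coprime hcop
    rw [← hm]
    exact T'.pow_mem h3' m
  have heq : T = T' :=
    Subgroup.eq_of_le_of_card_ge hle (by rw [hT', card_conj_smul])
  have hN1 : P ≤ Subgroup.normalizer (T : Set G) := le_normalizer_of_conj_smul_eq P T hcon
  have hN2 : P' ≤ Subgroup.normalizer (T : Set G) := by
    rw [heq]; exact hN'
  exact not_mem_of_idx P h idx (mem_of_prim_of_normalizes P prim T hTP hT hN1 h hN2)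

/-- (2a) `T = P ⊓ P^h` is not normal in `P`. -/
theorem not_normal_T [Finite G] (P : Subgroup G) (h : G)
    (prim : ∀ X : Subgroup G, X ≤ P → X ≠ ⊥ → P ≤ Subgroup.normalizer (X : Set G) →
      Subgroup.normalizer (X : Set G) ≤ P)
    (idx : Nat.card P = 3 * Nat.card ↥(P ⊓ MulAut.conj h • P))
    (hT : P ⊓ MulAut.conj h • P ≠ ⊥) :
    ¬ ((P ⊓ MulAut.conj h • P).subgroupOf P).Normal := by
  intro hn
  obtain ⟨p, hp, hne⟩ := exists_conj_ne_T P h prim idx hT
  apply hne
  have hN : P ≤ Subgroup.normalizer ((P ⊓ MulAut.conj h • P : Subgroup G) : Set G) := by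
    rw [← Subgroup.normalizer_eq_top_iff] at hn
    intro x hx
    have hx' : (⟨x, hx⟩ : P) ∈ Subgroup.normalizer
        (((P ⊓ MulAut.conj h • P).subgroupOf P : Subgroup P) : Set P) := by
      rw [hn]; trivial
    rw [Subgroup.mem_normalizer_iff] at hx' ⊢
    intro y
    constructor
    · intro hy
      have hyP : y ∈ P := (Subgroup.mem_inf.mp hy).1
      have := (hx' ⟨y, hyP⟩).mp (by rw [Subgroup.mem_subgroupOf]; exact hy)
      rw [Subgroup.mem_subgroupOf] at this
      simpa using this
    · intro hy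
      have hyP : y ∈ P := by
        have h1 : x * y * x⁻¹ ∈ P := (Subgroup.mem_inf.mp hy).1
        have := P.mul_mem (P.mul_mem (P.inv_mem hx) h1) hx
        have e : x⁻¹ * (x * y * x⁻¹) * x = y := by group
        rwa [e] at this
      have := (hx' ⟨y, hyP⟩).mpr (by rw [Subgroup.mem_subgroupOf]; simpa using hy)
      rw [Subgroup.mem_subgroupOf] at this
      exact this
  exact conj_smul_eq_of_mem_normalizer _ p (hN hp)

/-- (2c) BENT `h`: there is `h'` with `P^h' = P^h` (so `T`, `prim`, `idx` are unchanged) and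
`T_(-1) = P^(h'⁻¹) ⊓ P ≠ P ⊓ P^h' = T_0`. -/
theorem exists_bent [Finite G] (P : Subgroup G) (h : G)
    (prim : ∀ X : Subgroup G, X ≤ P → X ≠ ⊥ → P ≤ Subgroup.normalizer (X : Set G) →
      Subgroup.normalizer (X : Set G) ≤ P)
    (idx : Nat.card P = 3 * Nat.card ↥(P ⊓ MulAut.conj h • P))
    (hT : P ⊓ MulAut.conj h • P ≠ ⊥) :
    ∃ h' : G, MulAut.conj h' • P = MulAut.conj h • P ∧
      MulAut.conj h'⁻¹ • P ⊓ P ≠ P ⊓ MulAut.conj h' • P := by
  by_contra hcon
  push Not at hcon
  obtain ⟨p0, hp0, hne⟩ := exists_conj_ne_T P h prim idx hT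
  have key : ∀ p ∈ P, MulAut.conj p⁻¹ • (MulAut.conj h⁻¹ • P ⊓ P) = P ⊓ MulAut.conj h • P := by
    intro p hp
    have e1 : MulAut.conj (h * p) • P = MulAut.conj h • P := by
      rw [map_mul, mul_smul, conj_smul_eq_self_of_mem P p hp]
    have := hcon (h * p) e1
    rw [e1] at this
    rw [← this, mul_inv_rev, map_mul, mul_smul, Subgroup.smul_inf,
      conj_smul_eq_self_of_mem P p⁻¹ (P.inv_mem hp)]
  have h1 : MulAut.conj h⁻¹ • P ⊓ P = P ⊓ MulAut.conj h • P := by
    have := key 1 P.one_mem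
    simpa using this
  apply hne
  have := key p0⁻¹ (P.inv_mem hp0)
  rw [inv_inv, h1] at this
  exact this

end Cfsg.Agent.Lib.H19.Sims
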