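import Cfsg.Agent.Lib.H5.Sims.Defs
import Cfsg.Agent.Lib.H19.SimsBENT

/-!
S3685 / S3385: pieces (ODD) and (BENT) with the EXACT signatures of
`tools/blueprints/S3685_sigs2.lean` (adapters over `H19.SimsODD` / `H19.SimsBENT`).
-/

set_option autoImplicit false
open scoped Pointwise
open Cfsg.Agent.Lib.H5.Sims

namespace Cfsg.Agent.Lib.H19.SimsAd

variable {G : Type*} [Group G] [Finite G]

omit [Finite G] in
theorem Tj_zero_eq (S : Setup G) : S.Tj 0 = S.P ⊓ MulAut.conj S.h • S.P := by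
  rw [Setup.Tj, S.Pj_zero, zero_add, S.Pj_one]

omit [Finite G] in
theorem Tj_neg_one_eq (S : Setup G) : S.Tj (-1) = MulAut.conj S.h⁻¹ • S.P ⊓ S.P := by
  rw [Setup.Tj, neg_add_cancel, S.Pj_zero, Setup.Pj, zpow_neg_one]

/-- (ODD) section 1 -/
theorem odd (S : Setup G) : IsPGroup 2 ↥(S.Tj 0) := by
  rw [Tj_zero_eq]
  exact Cfsg.Agent.Lib.H19.Sims.isPGroup_two_of_prim S.P S.h S.prim S.idx

/-- (BENT) (2a)-(2c): replace `h` by `h * p` -/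
theorem exists_bent (S : Setup G) (h2 : IsPGroup 2 ↥(S.Tj 0)) (hne : S.Tj 0 ≠ ⊥) :
    ∃ S' : Setup G, S'.P = S.P ∧ S'.Bent := by
  have hne' : S.P ⊓ MulAut.conj S.h • S.P ≠ ⊥ := by rw [← Tj_zero_eq]; exact hne
  obtain ⟨h', he, hb⟩ := Cfsg.Agent.Lib.H19.Sims.exists_bent S.P S.h S.prim S.idx hne'
  have idx' : Nat.card S.P = 3 * Nat.card ↥(S.P ⊓ MulAut.conj h' • S.P) := by
    rw [he]; exact S.idx
  refine ⟨⟨S.P, h', S.prim, idx'⟩, rfl, ?_⟩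
  set S' : Setup G := ⟨S.P, h', S.prim, idx'⟩ with hS'
  have e0 : S'.Tj 0 = S.Tj 0 := by
    rw [Tj_zero_eq, Tj_zero_eq]
    show S.P ⊓ MulAut.conj h' • S.P = S.P ⊓ MulAut.conj S.h • S.P
    rw [he]
  refine ⟨?_, ?_, ?_⟩
  · rw [e0]; exact h2
  · rw [e0]; exact hne
  · rw [Tj_neg_one_eq, Tj_zero_eq]
    exact hb

end Cfsg.Agent.Lib.H19.SimsAd
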