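import Mathlib
import Cfsg.Prelude.Def_Solvable
import Cfsg.Prelude.Def_CaseTheorems
import Cfsg.Agent.Lib.H22.PPrimeCore

/-!
# S4385 piece (ABS): the quotient by the odd core

`K` finite, `Q` a normal abelian 2-subgroup, `P ≥ Q` a Sylow 2-subgroup with `C_K(Q) ∩ P ≤ Q`.
Then `|K / O(K)| = |K : C_K(Q)| * |Q|`, the image of `Q` in `K / O(K)` is self-centralizing, and
`P` embeds in `K / O(K)`.  Route: `Q` is a central Sylow 2-subgroup of `C = C_K(Q)`; Schur-Zassenhaus gives a
complement, which is the set of odd-order elements of `C`, hence normal in `K`, hence equal to `O(K)`.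
-/

set_option autoImplicit false

namespace Cfsg.Agent.Lib.H19.G85

open scoped Pointwise

section aux

variable {K : Type*} [Group K] [Finite K]

/-- for a normal subgroup `C` and a subgroup `P` of odd index, `C ∩ P` has odd index in `C` -/
theorem odd_relIndex (C P : Subgroup K) [C.Normal] (hPs : ¬ 2 ∣ P.index) :
    ¬ 2 ∣ (C ⊓ P).relIndex C := by
  have h1 : (C ⊓ P).relIndex C * C.index = (C ⊓ P).index := Subgroup.relIndex_mul_index inf_le_left
  have h2 : (C ⊓ P).relIndex P * P.index = (C ⊓ P).index := Subgroup.relIndex_mul_index inf_le_right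
  have h3 : (C ⊓ P).relIndex P = C.relIndex P := Subgroup.inf_relIndex_right C P
  obtain ⟨e, he⟩ : C.relIndex P ∣ C.index := Subgroup.relIndex_dvd_index_of_normal C P
  have hC0 : C.index ≠ 0 := Subgroup.index_ne_zero_of_finite
  have hb0 : C.relIndex P ≠ 0 := by
    intro h0
    rw [h0, zero_mul] at he
    exact hC0 he
  rw [h3] at h2
  have h4 : C.relIndex P * ((C ⊓ P).relIndex C * e) = C.relIndex P * P.index := by
    calc C.relIndex P * ((C ⊓ P).relIndex C * e)
        = (C ⊓ P).relIndex C * (C.relIndex P * e) := by ring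
      _ = (C ⊓ P).relIndex C * C.index := by rw [he]
      _ = (C ⊓ P).index := h1
      _ = C.relIndex P * P.index := h2.symm
  have h5 : (C ⊓ P).relIndex C * e = P.index := Nat.eq_of_mul_eq_mul_left (Nat.pos_of_ne_zero hb0) h4
  intro h2d
  exact hPs (h5 ▸ Dvd.dvd.mul_right h2d e)

/-- the abstract statement with a generic "odd core" `O` -/
theorem quot_facts_aux (O : Subgroup K) [hOn : O.Normal] (hOodd : (Nat.card O).Coprime 2)
    (hOmax : ∀ N : Subgroup K, N.Normal → (Nat.card N).Coprime 2 → N ≤ O)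
    (Q P : Subgroup K) [hQn : Q.Normal] (hQP : Q ≤ P)
    (hP : IsPGroup 2 P) (hPs : ¬ 2 ∣ P.index) (hQc : ∀ a ∈ Q, ∀ b ∈ Q, a * b = b * a)
    (hC : Subgroup.centralizer (Q : Set K) ⊓ P ≤ Q) :
    Nat.card (K ⧸ O) = (Subgroup.centralizer (Q : Set K)).index * Nat.card Q ∧
    Subgroup.centralizer ((Q.map (QuotientGroup.mk' O) : Subgroup (K ⧸ O)) : Set (K ⧸ O)) ≤
      Q.map (QuotientGroup.mk' O) ∧
    (∀ g ∈ P, (QuotientGroup.mk' O) g = 1 → g = 1) := by
  classical
  have : Fact (Nat.Prime 2) := ⟨Nat.prime_two⟩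
  set C : Subgroup K := Subgroup.centralizer (Q : Set K) with hCdef
  have hCn : C.Normal := by rw [hCdef]; infer_instance
  have hQC : Q ≤ C := by
    intro a ha
    rw [hCdef, Subgroup.mem_centralizer_iff]
    intro b hb
    exact hQc b hb a ha
  have hCPQ : C ⊓ P = Q := le_antisymm hC (le_inf hQC hQP)
  have hQ2 : IsPGroup 2 Q := hP.to_le hQP
  have hodd : ¬ 2 ∣ Q.relIndex C := by
    have := odd_relIndex C P hPs
    rwa [hCPQ] at this
  obtain ⟨kQ, hkQ⟩ := hQ2.exists_card_eq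
  obtain ⟨kP, hkP⟩ := hP.exists_card_eq
  -- `O ∩ Q = 1`, `O ∩ P = 1`
  have hOQ : O ⊓ Q = ⊥ := by
    apply Disjoint.eq_bot
    apply Subgroup.disjoint_of_coprime_natCard
    rw [hkQ]
    exact Nat.Coprime.pow_right kQ hOodd
  have hOP : O ⊓ P = ⊥ := by
    apply Disjoint.eq_bot
    apply Subgroup.disjoint_of_coprime_natCard
    rw [hkP]
    exact Nat.Coprime.pow_right kP hOodd
  -- work inside `C`
  set Q' : Subgroup ↥C := Q.subgroupOf C with hQ'def
  have hQ'n : Q'.Normal := by rw [hQ'def]; infer_instance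
  have hQ'card : Nat.card Q' = Nat.card Q :=
    Nat.card_congr (Subgroup.subgroupOfEquivOfLe hQC).toEquiv
  have hQ'idx : Q'.index = Q.relIndex C := rfl
  have hcop : (Nat.card Q').Coprime Q'.index := by
    rw [hQ'card, hkQ, hQ'idx]
    exact Nat.Coprime.pow_left kQ ((Nat.Prime.coprime_iff_not_dvd Nat.prime_two).2 hodd)
  obtain ⟨H', hH'⟩ := Subgroup.exists_right_complement'_of_coprime hcop
  have hcard1 : Nat.card Q' * Nat.card H' = Nat.card ↥C := hH'.card_mul_card
  have hcard2 : Nat.card Q' * Q'.index = Nat.card ↥C := Subgroup.card_mul_index Q'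
  have hQ'pos : 0 < Nat.card Q' := Nat.card_pos
  have hH'card : Nat.card H' = Q.relIndex C := by
    rw [← hQ'idx]
    exact Nat.eq_of_mul_eq_mul_left hQ'pos (hcard1.trans hcard2.symm)
  have hH'odd : (Nat.card H').Coprime 2 := by
    rw [hH'card]
    exact ((Nat.Prime.coprime_iff_not_dvd Nat.prime_two).2 hodd).symm
  -- elements of `Q'` are central in `C`
  have hQ'central : ∀ q ∈ Q', ∀ c : ↥C, q * c = c * q := by
    intro q hq c
    have hqQ : (q : K) ∈ Q := Subgroup.mem_subgroupOf.1 hq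
    have hc : (c : K) ∈ Subgroup.centralizer (Q : Set K) := c.2
    rw [Subgroup.mem_centralizer_iff] at hc
    exact Subtype.ext (hc _ hqQ)
  have hdisj : Q' ⊓ H' = ⊥ := hH'.disjoint.eq_bot
  -- every element of `C` of odd order lies in `H'`
  have claim1 : ∀ x : ↥C, ∀ m : ℕ, m.Coprime 2 → x ^ m = 1 → x ∈ H' := by
    intro x m hm hxm
    obtain ⟨⟨⟨q, hq⟩, ⟨h, hh⟩⟩, hqh, -⟩ := hH'.existsUnique x
    simp only at hqh
    have hq' : q ∈ Q' := hq
    have hh' : h ∈ H' := hh
    have hcomm : Commute q h := hQ'central q hq' h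
    have hpow : q ^ m * h ^ m = 1 := by rw [← hcomm.mul_pow, hqh, hxm]
    have hqm : q ^ m ∈ Q' ⊓ H' := by
      refine ⟨Subgroup.pow_mem _ hq' m, ?_⟩
      have : q ^ m = (h ^ m)⁻¹ := eq_inv_of_mul_eq_one_left hpow
      rw [this]
      exact Subgroup.inv_mem _ (Subgroup.pow_mem _ hh' m)
    rw [hdisj, Subgroup.mem_bot] at hqm
    -- `q` is a 2-element
    have hQ'2 : IsPGroup 2 Q' := by
      rw [hQ'def]
      exact hQ2.comap_subtype
    obtain ⟨k, hk⟩ := hQ'2 ⟨q, hq'⟩
    have hk' : q ^ 2 ^ k = 1 := by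
      have := congrArg Subtype.val hk
      simpa using this
    have hq1 : q = 1 := by
      have h1 : orderOf q ∣ m := orderOf_dvd_of_pow_eq_one hqm
      have h2 : orderOf q ∣ 2 ^ k := orderOf_dvd_of_pow_eq_one hk'
      have h3 : (2 ^ k).Coprime m := Nat.Coprime.pow_left k hm.symm
      have h4 : orderOf q = 1 := Nat.eq_one_of_dvd_coprimes h3 h2 h1
      exact orderOf_eq_one_iff.1 h4
    rw [hq1, one_mul] at hqh
    rw [← hqh]
    exact hh'
  -- elements of `H'` have odd order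
  have claim2 : ∀ h ∈ H', h ^ Nat.card H' = 1 := by
    intro h hh
    have h0 : (⟨h, hh⟩ : ↥H') ^ Nat.card H' = 1 := pow_card_eq_one'
    have h1 := congrArg Subtype.val h0
    rw [SubmonoidClass.coe_pow] at h1
    exact h1
  -- the normal subgroup `N`
  set N : Subgroup K := H'.map C.subtype with hNdef
  have hNcard : Nat.card N = Nat.card H' :=
    Subgroup.card_map_of_injective (Subgroup.subtype_injective C)
  have hNn : N.Normal := by
    constructor
    intro n hn k
    obtain ⟨h, hh, rfl⟩ := hn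
    have hmem : k * (C.subtype h) * k⁻¹ ∈ C := hCn.conj_mem _ h.2 k
    refine ⟨⟨_, hmem⟩, claim1 ⟨_, hmem⟩ (Nat.card H') hH'odd ?_, rfl⟩
    apply Subtype.ext
    have h1 : (h : K) ^ Nat.card H' = 1 := by
      have := congrArg Subtype.val (claim2 h hh)
      simpa using this
    simp only [Subgroup.coe_subtype, SubmonoidClass.mk_pow, OneMemClass.coe_one]
    rw [conj_pow, h1, mul_one, mul_inv_cancel]
  have hNO : N ≤ O := hOmax N hNn (by rw [hNcard]; exact hH'odd)
  -- `O ≤ C`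
  have hOC : O ≤ C := by
    intro o ho
    rw [hCdef, Subgroup.mem_centralizer_iff]
    intro q hq
    have hw : o * q * o⁻¹ * q⁻¹ ∈ O ⊓ Q := by
      constructor
      · have : o * q * o⁻¹ * q⁻¹ = o * (q * o⁻¹ * q⁻¹) := by group
        rw [this]
        exact Subgroup.mul_mem _ ho (hOn.conj_mem _ (Subgroup.inv_mem _ ho) q)
      · exact Subgroup.mul_mem _ (hQn.conj_mem _ hq o) (Subgroup.inv_mem _ hq)
    rw [hOQ, Subgroup.mem_bot] at hw
    calc q * o = (o * q * o⁻¹ * q⁻¹)⁻¹ * (o * q) := by group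
      _ = o * q := by rw [hw]; group
  have hON : O ≤ N := by
    intro o ho
    have hoC : o ∈ C := hOC ho
    have hpow : (⟨o, hoC⟩ : ↥C) ^ Nat.card O = 1 := by
      apply Subtype.ext
      have h0 : (⟨o, ho⟩ : ↥O) ^ Nat.card O = 1 := pow_card_eq_one'
      have h1 := congrArg Subtype.val h0
      rw [SubmonoidClass.coe_pow] at h1
      exact h1
    exact ⟨⟨o, hoC⟩, claim1 ⟨o, hoC⟩ (Nat.card O) hOodd hpow, rfl⟩
  have hOeq : O = N := le_antisymm hON hNO
  have hOcard : Nat.card O = Nat.card H' := by rw [hOeq, hNcard]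
  refine ⟨?_, ?_, ?_⟩
  · -- cardinality
    have h1 : O.index * Nat.card O = Nat.card K := Subgroup.index_mul_card O
    have h2 : C.index * Nat.card ↥C = Nat.card K := Subgroup.index_mul_card C
    have h3 : Nat.card ↥C = Nat.card Q * Nat.card O := by rw [← hcard1, hQ'card, hOcard]
    have hOpos : 0 < Nat.card O := Nat.card_pos
    have h4 : O.index * Nat.card O = (C.index * Nat.card Q) * Nat.card O := by
      rw [h1, ← h2, h3]; ring
    rw [← Subgroup.index_eq_card]
    exact Nat.eq_of_mul_eq_mul_right hOpos h4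
  · -- self-centralizing
    intro gbar hg
    obtain ⟨g, rfl⟩ := QuotientGroup.mk'_surjective O gbar
    rw [Subgroup.mem_centralizer_iff] at hg
    have hgC : g ∈ C := by
      rw [hCdef, Subgroup.mem_centralizer_iff]
      intro q hq
      have hq' : (QuotientGroup.mk' O) q ∈ ((Q.map (QuotientGroup.mk' O) : Subgroup (K ⧸ O)) : Set (K ⧸ O)) :=
        Subgroup.mem_map_of_mem _ hq
      have h1 := hg _ hq'
      rw [← map_mul, ← map_mul] at h1
      have h2 : (g * q)⁻¹ * (q * g) ∈ O := by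
        have := (QuotientGroup.eq (s := O) (a := g * q) (b := q * g)).1 h1.symm
        exact this
      have h3 : (g * q)⁻¹ * (q * g) ∈ Q := by
        have : (g * q)⁻¹ * (q * g) = q⁻¹ * (g⁻¹ * q * g⁻¹⁻¹) := by group
        rw [this]
        exact Subgroup.mul_mem _ (Subgroup.inv_mem _ hq) (hQn.conj_mem _ hq g⁻¹)
      have h4 : (g * q)⁻¹ * (q * g) ∈ O ⊓ Q := ⟨h2, h3⟩
      rw [hOQ, Subgroup.mem_bot] at h4
      calc q * g = (g * q) * ((g * q)⁻¹ * (q * g)) := by group
        _ = g * q := by rw [h4, mul_one]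
    obtain ⟨⟨⟨q, hq⟩, ⟨h, hh⟩⟩, hqh, -⟩ := hH'.existsUnique (⟨g, hgC⟩ : ↥C)
    simp only at hqh
    have hq' : q ∈ Q' := hq
    have hh' : h ∈ H' := hh
    have hgeq : g = (q : K) * (h : K) := by
      have := congrArg Subtype.val hqh
      simpa using this.symm
    have hhO : (h : K) ∈ O := by
      rw [hOeq]
      exact ⟨h, hh', rfl⟩
    have hqQ : (q : K) ∈ Q := Subgroup.mem_subgroupOf.1 hq'
    refine ⟨(q : K), hqQ, ?_⟩
    rw [hgeq, map_mul]
    have : (QuotientGroup.mk' O) (h : K) = 1 := (QuotientGroup.eq_one_iff _).2 hhO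
    rw [this, mul_one]
  · intro g hg h1
    have hgO : g ∈ O := (QuotientGroup.eq_one_iff g).1 h1
    have : g ∈ O ⊓ P := ⟨hgO, hg⟩
    rw [hOP, Subgroup.mem_bot] at this
    exact this

end aux

/-- (ABS) abstract core of the cases `(2,3)`, `(3,4)`: the quotient by the odd core. -/
theorem quot_facts {K : Type*} [Group K] [Finite K] (Q P : Subgroup K) [Q.Normal] (hQP : Q ≤ P)
    (hP : IsPGroup 2 P) (hPs : ¬ 2 ∣ P.index) (hQc : ∀ a ∈ Q, ∀ b ∈ Q, a * b = b * a)
    (hC : Subgroup.centralizer (Q : Set K) ⊓ P ≤ Q) :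
    Nat.card (K ⧸ Cfsg.oddCore K) = (Subgroup.centralizer (Q : Set K)).index * Nat.card Q ∧
    Subgroup.centralizer ((Q.map (QuotientGroup.mk' (Cfsg.oddCore K)) : Subgroup (K ⧸ Cfsg.oddCore K)) :
      Set (K ⧸ Cfsg.oddCore K)) ≤ Q.map (QuotientGroup.mk' (Cfsg.oddCore K)) ∧
    (∀ g ∈ P, (QuotientGroup.mk' (Cfsg.oddCore K)) g = 1 → g = 1) :=
  quot_facts_aux (Cfsg.oddCore K) (Cfsg.Agent.Lib.H22.card_pPrimeCore_coprime 2)
    (fun N hN hc => Cfsg.Agent.Lib.H22.le_pPrimeCore 2 N hN hc) Q P hQP hP hPs hQc hC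

end Cfsg.Agent.Lib.H19.G85
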