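import Mathlib
import Cfsg.Agent.Lib.H9.S3776Defs
import Cfsg.Agent.Lib.H19.S3776MLAct

/-!
# S3776, piece (13) R1: `G ⧸ J` has no proper `E`-invariant subgroup

`G1 ≥ J` proper and `E`-invariant: the internal induction hypothesis at `G1` gives either `G1` abelian
(so `G1 ≤ C_G(K) = J`) or all squares of `G1` in `V`; then the main lemma for the action (`ml_act`, with
`K := G1`, normal because `G' ≤ J ≤ G1`) gives `[G1, G] ≤ V`, so `G1 ≤ K ≤ J`.
-/

set_option autoImplicit false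

namespace Cfsg.Agent.Lib.H19.S3776R1

universe u

open Cfsg.Agent.Lib.H9.S3776

/-- (R1) -/
theorem r1 : R1Stmt.{u} := by
  intro G E _ _ _ _ φ V K J res jd G1 hJG1 hinv
  by_cases htop : G1 = ⊤
  · exact Or.inr htop
  left
  refine le_antisymm ?_ hJG1
  have hVG1 : V ≤ G1 := res.kd.VK.trans (jd.KJ.trans hJG1)
  have hKG1 : K ≤ G1 := jd.KJ.trans hJG1
  rcases res.sub G1 htop hinv hVG1 with hab | ⟨hsq, _, _⟩
  · -- `G1` abelian: it centralises `K`
    intro x hx
    rw [jd.mem]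
    intro k hk
    exact hab x hx k (hKG1 hk)
  · -- squares of `G1` in `V`
    have hnor : G1.Normal := by
      constructor
      intro x hx g
      have h1 : g * x * g⁻¹ * x⁻¹ ∈ G1 := hJG1 (jd.quot g x)
      have : g * x * g⁻¹ = (g * x * g⁻¹ * x⁻¹) * x := by group
      rw [this]
      exact G1.mul_mem h1 hx
    have key := Cfsg.Agent.Lib.H19.S3776MLAct.ml_act.{u} φ res.hyp.odd res.hyp.pG V G1 res.fr.mem
      res.fr.cen hVG1 hnor hinv hsq res.fr.trans res.fr.fix
    intro x hx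
    apply jd.KJ
    rw [res.kd.mem]
    refine ⟨hsq x hx, ?_⟩
    intro g
    have h1 : g * x * g⁻¹ * x⁻¹ ∈ V := key g x hx
    have : x * g * x⁻¹ * g⁻¹ = (g * x * g⁻¹ * x⁻¹)⁻¹ := by group
    rw [this]
    exact V.inv_mem h1

example : R1Stmt.{0} := r1

end Cfsg.Agent.Lib.H19.S3776R1
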