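import Mathlib
import Cfsg.Prelude.Def_Sporadic_a
import Cfsg.Prelude.Def_SporadicCombinatorics
import Cfsg.Agent.Lib.H27.Co0Mod2
import Cfsg.Agent.Lib.H27.Leech32Shapes
import Cfsg.Agent.Lib.H27.Co0Order
import Cfsg.Agent.Lib.H18.NXDefs

/-!
helper19 library (S1572, step 3, piece CNTC): the set `TC p q` of the minimal vectors of shape
`(3, 1, ±1^22)` / `(1, 3, ±1^22)` having inner product 16 with `4 e_p + 4 e_q` has 2048 elements.
It is in bijection with the code words `c` with `c p ≠ c q`, which are in bijection with the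
code words vanishing at `p` (translate by a word separating `p` from `q`).
-/

set_option autoImplicit false

namespace Cfsg.Agent.Lib.H19.NX

open Cfsg Finset Cfsg.Agent.Lib.H27 Cfsg.Agent.Lib.H28 Cfsg.Agent.Lib.H18.NX

/-! ### Facts on `ZMod 2` -/

theorem z2_val_of_ne : ∀ b : ZMod 2, b ≠ 0 → ((b.val : ℕ) : ℤ) = 1 := by decide

theorem z2_val_of_eq : ∀ b : ZMod 2, b = 0 → ((b.val : ℕ) : ℤ) = 0 := by decide

theorem z2_add_ne : ∀ a b : ZMod 2, a ≠ 0 → b ≠ 0 → a + b = 0 := by decide

theorem z2_eq_of_ne : ∀ a b : ZMod 2, a ≠ b → a ≠ 0 → b = 0 := by decide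

theorem z2_ne_of_ne : ∀ a b : ZMod 2, a ≠ b → a = 0 → b ≠ 0 := by decide

theorem z2_add_add : ∀ a b : ZMod 2, a + b + b = a := by decide

/-! ### The code words separating `p` and `q` -/

/-- The code words with different values at `p` and `q`. -/
def DSet (p q : GolayPt) : Set (GolayPt → ZMod 2) := {c | c ∈ golayCode ∧ c p ≠ c q}

/-- The code words vanishing at `p`. -/
def ZSet (p : GolayPt) : Set (GolayPt → ZMod 2) := {c | c ∈ golayCode ∧ c p = 0}

theorem ncard_ZSet (p : GolayPt) : (ZSet p).ncard = 2048 := by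
  rw [← card_codeZero p, ← _root_.Nat.card_coe_set_eq]
  exact Nat.card_congr
    { toFun := fun c => ⟨⟨c.1, c.2.1⟩, c.2.2⟩
      invFun := fun w => ⟨w.1.1, w.1.2, w.2⟩
      left_inv := fun _ => rfl
      right_inv := fun _ => rfl }

theorem ncard_DSet (p q : GolayPt) (hpq : p ≠ q) : (DSet p q).ncard = 2048 := by
  classical
  obtain ⟨s, hs, hsp, hsq⟩ := exists_sep p q hpq
  rw [← ncard_ZSet p]
  refine Set.ncard_congr (fun c _ => if c p = 0 then c else c + s) ?_ ?_ ?_
  · rintro c ⟨hc, hne⟩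
    by_cases h0 : c p = 0
    · simp only [if_pos h0]
      exact ⟨hc, h0⟩
    · simp only [if_neg h0]
      exact ⟨golayCode.add_mem hc hs, z2_add_ne _ _ h0 hsp⟩
  · rintro c c' ⟨hc, hne⟩ ⟨hc', hne'⟩ heq
    by_cases h0 : c p = 0 <;> by_cases h0' : c' p = 0
    · rwa [if_pos h0, if_pos h0'] at heq
    · exfalso
      rw [if_pos h0, if_neg h0'] at heq
      have hq : c q = c' q + s q := by rw [heq]; rfl
      rw [hsq, add_zero] at hq
      exact z2_ne_of_ne _ _ hne h0 (hq.trans (z2_eq_of_ne _ _ hne' h0'))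
    · exfalso
      rw [if_neg h0, if_pos h0'] at heq
      have hq : c' q = c q + s q := by rw [← heq]; rfl
      rw [hsq, add_zero] at hq
      exact z2_ne_of_ne _ _ hne' h0' (hq.trans (z2_eq_of_ne _ _ hne h0))
    · rw [if_neg h0, if_neg h0'] at heq
      exact add_right_cancel heq
  · rintro b ⟨hb, hb0⟩
    by_cases hq : b q = 0
    · have hp' : (b + s) p ≠ 0 := by
        show b p + s p ≠ 0
        rw [hb0, zero_add]; exact hsp
      have hq' : (b + s) q = 0 := by
        show b q + s q = 0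
        rw [hq, hsq, add_zero]
      refine ⟨b + s, ⟨golayCode.add_mem hb hs, ?_⟩, ?_⟩
      · rw [hq']; exact hp'
      · simp only [if_neg hp']
        funext k
        exact z2_add_add _ _
    · refine ⟨b, ⟨hb, ?_⟩, ?_⟩
      · rw [hb0]; exact fun h => hq h.symm
      · simp only [if_pos hb0]

/-! ### The vectors of shape `(3, ±1^23)` attached to a code word -/

/-- The vector with `3` at `i`, and `1` or `-1` elsewhere according to `c k = 0` or `c k ≠ 0`. -/
def wC (i : GolayPt) (c : GolayPt → ZMod 2) : GolayPt → ℤ :=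
  fun k => if k = i then 3 else if c k = 0 then 1 else -1

theorem wC_apply_eq (i : GolayPt) (c : GolayPt → ZMod 2) (hi : c i ≠ 0) (k : GolayPt) :
    wC i c k = 1 - 2 * ((c k).val : ℤ) + (if k = i then 4 else 0) := by
  unfold wC
  by_cases hk : k = i
  · subst hk
    rw [if_pos rfl, if_pos rfl, z2_val_of_ne _ hi]; norm_num
  · rw [if_neg hk, if_neg hk]
    by_cases h0 : c k = 0
    · rw [if_pos h0, z2_val_of_eq _ h0]; norm_num
    · rw [if_neg h0, z2_val_of_ne _ h0]; norm_num

theorem sum_wC (i : GolayPt) (c : GolayPt → ZMod 2) (hi : c i ≠ 0) :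
    ∑ k, wC i c k = 28 - 2 * ((support₂ c).card : ℤ) := by
  rw [Finset.sum_congr rfl (fun k _ => wC_apply_eq i c hi k), Finset.sum_add_distrib,
    Finset.sum_sub_distrib, ← Finset.mul_sum, sum_val_eq_card,
    Finset.sum_ite_eq' Finset.univ i (fun _ => (4 : ℤ))]
  simp only [Finset.sum_const, Finset.card_univ, card_golayPt, Finset.mem_univ, if_true]
  norm_num
  ring

theorem wC_desc {i : GolayPt} {c : GolayPt → ZMod 2} (hc : c ∈ golayCode) (hi : c i ≠ 0) :
    LeechDesc (wC i c) 1 c := by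
  refine ⟨hc, fun k => ?_, ?_⟩
  · rw [wC_apply_eq i c hi k]
    unfold Int.ModEq
    split_ifs <;> omega
  · rw [sum_wC i c hi]
    obtain ⟨t, ht⟩ := golay_doubly_even c hc
    rw [ht]
    unfold Int.ModEq
    push_cast
    omega

theorem wC_isC (i : GolayPt) (c : GolayPt → ZMod 2) : IsC (wC i c) := by
  refine ⟨i, fun k => ?_⟩
  unfold wC
  by_cases hk : k = i
  · rw [if_pos hk, if_pos hk]; norm_num
  · rw [if_neg hk, if_neg hk]
    split_ifs <;> norm_num

theorem eq_wC {x : GolayPt → ℤ} {c : GolayPt → ZMod 2} {i : GolayPt} (hd : LeechDesc x 1 c)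
    (habs : ∀ k, |x k| = if k = i then 3 else 1) (hi : x i = 3) : wC i c = x := by
  funext k
  unfold wC
  by_cases hk : k = i
  · subst hk
    rw [if_pos rfl, hi]
  · rw [if_neg hk]
    have h1 := habs k
    rw [if_neg hk] at h1
    have h2 := hd.2.1 k
    unfold Int.ModEq at h2
    by_cases h0 : c k = 0
    · rw [if_pos h0]
      rw [z2_val_of_eq _ h0] at h2
      rcases (abs_eq (by norm_num)).1 h1 with h | h <;> omega
    · rw [if_neg h0]
      rw [z2_val_of_ne _ h0] at h2
      rcases (abs_eq (by norm_num)).1 h1 with h | h <;> omega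

theorem desc_ne_of_three {x : GolayPt → ℤ} {c : GolayPt → ZMod 2} (hd : LeechDesc x 1 c)
    {k : GolayPt} (hk : x k = 3) : c k ≠ 0 := by
  intro h0
  have h2 := hd.2.1 k
  rw [z2_val_of_eq _ h0, hk] at h2
  unfold Int.ModEq at h2
  omega

theorem desc_eq_of_one {x : GolayPt → ℤ} {c : GolayPt → ZMod 2} (hd : LeechDesc x 1 c)
    {k : GolayPt} (hk : x k = 1) : c k = 0 := by
  by_contra h0
  have h2 := hd.2.1 k
  rw [z2_val_of_ne _ h0, hk] at h2
  unfold Int.ModEq at h2
  omega

theorem dotInt_swap (x y : GolayPt → ℤ) : dotInt x y = dotInt y x := by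
  unfold dotInt
  exact Finset.sum_congr rfl (fun _ _ => mul_comm _ _)

/-- The position of the coordinate `3`. -/
def pos (p q : GolayPt) (c : GolayPt → ZMod 2) : GolayPt := if c p = 0 then q else p

theorem pos_ne {p q : GolayPt} {c : GolayPt → ZMod 2} (h : c p ≠ c q) : c (pos p q c) ≠ 0 := by
  unfold pos
  by_cases h0 : c p = 0
  · rw [if_pos h0]; exact z2_ne_of_ne _ _ h h0
  · rw [if_neg h0]; exact h0

/-- The vector of `TC p q` attached to a code word separating `p` and `q`. -/
def mkC (p q : GolayPt) (c : GolayPt → ZMod 2) (hc : c ∈ DSet p q) : leechLattice :=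
  ⟨wC (pos p q c) c, mem_leechLattice_of_leechDesc (wC_desc hc.1 (pos_ne hc.2))⟩

theorem mkC_mem (p q : GolayPt) (hpq : p ≠ q) (c : GolayPt → ZMod 2) (hc : c ∈ DSet p q) :
    mkC p q c hc ∈ TC p q := by
  refine ⟨wC_isC _ _, ?_⟩
  show dotInt (wC (pos p q c) c) (vecA p q 4 4) = 16
  rw [dotInt_swap, dotInt_vecA]
  unfold pos wC
  by_cases h0 : c p = 0
  · have hq : c q ≠ 0 := z2_ne_of_ne _ _ hc.2 h0
    rw [if_pos h0, if_neg hpq, if_pos h0, if_pos rfl]
    norm_num
  · have hq : c q = 0 := z2_eq_of_ne _ _ hc.2 h0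
    rw [if_neg h0, if_pos rfl, if_neg hpq.symm, if_pos hq]
    norm_num

theorem mkC_inj (p q : GolayPt) (c c' : GolayPt → ZMod 2) (hc : c ∈ DSet p q)
    (hc' : c' ∈ DSet p q) (h : mkC p q c hc = mkC p q c' hc') : c = c' := by
  have h1 : wC (pos p q c) c = wC (pos p q c') c' := congrArg Subtype.val h
  have d1 := wC_desc hc.1 (pos_ne hc.2)
  have d2 := wC_desc hc'.1 (pos_ne hc'.2)
  rw [h1] at d1
  exact leechDesc_unique d1 d2

theorem mkC_surj (p q : GolayPt) (hpq : p ≠ q) (w : leechLattice) (hw : w ∈ TC p q) :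
    ∃ c, ∃ hc : c ∈ DSet p q, mkC p q c hc = w := by
  obtain ⟨⟨i0, habs⟩, hdot⟩ := hw
  rw [dotInt_swap, dotInt_vecA] at hdot
  obtain ⟨m, c, hm, hd⟩ := exists_leechDesc_normal w.2
  have hval : ∀ k, (k = i0 → ((w : GolayPt → ℤ) k = 3 ∨ (w : GolayPt → ℤ) k = -3)) ∧
      (k ≠ i0 → ((w : GolayPt → ℤ) k = 1 ∨ (w : GolayPt → ℤ) k = -1)) := by
    intro k
    have h1 := habs k
    constructor
    · intro hk
      rw [if_pos hk] at h1
      exact (abs_eq (by norm_num)).1 h1
    · intro hk
      rw [if_neg hk] at h1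
      exact (abs_eq (by norm_num)).1 h1
  have hm1 : m = 1 := by
    rcases hm with rfl | rfl
    · exfalso
      have h2 := hd.2.1 p
      unfold Int.ModEq at h2
      have hv := val_zero_or_one (c p)
      by_cases hk : p = i0
      · rcases (hval p).1 hk with h | h <;> rcases hv with hv | hv <;> omega
      · rcases (hval p).2 hk with h | h <;> rcases hv with hv | hv <;> omega
    · rfl
  subst hm1
  by_cases hp : p = i0
  · -- the `3` sits at `p`
    have hq : q ≠ i0 := fun h => hpq (hp.trans h.symm)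
    have hp3 : (w : GolayPt → ℤ) p = 3 := by
      rcases (hval p).1 hp with h | h <;> rcases (hval q).2 hq with h' | h' <;> omega
    have hq1 : (w : GolayPt → ℤ) q = 1 := by omega
    have hcp : c p ≠ 0 := desc_ne_of_three hd hp3
    have hcq : c q = 0 := desc_eq_of_one hd hq1
    have hc : c ∈ DSet p q := ⟨hd.1, by rw [hcq]; exact hcp⟩
    refine ⟨c, hc, Subtype.ext ?_⟩
    show wC (pos p q c) c = (w : GolayPt → ℤ)
    have hpos : pos p q c = p := by unfold pos; rw [if_neg hcp]
    rw [hpos]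
    apply eq_wC hd _ hp3
    intro k
    rw [habs k, hp]
  · by_cases hq : q = i0
    · have hq3 : (w : GolayPt → ℤ) q = 3 := by
        rcases (hval q).1 hq with h | h <;> rcases (hval p).2 hp with h' | h' <;> omega
      have hp1 : (w : GolayPt → ℤ) p = 1 := by omega
      have hcq : c q ≠ 0 := desc_ne_of_three hd hq3
      have hcp : c p = 0 := desc_eq_of_one hd hp1
      have hc : c ∈ DSet p q := ⟨hd.1, by rw [hcp]; exact fun h => hcq h.symm⟩
      refine ⟨c, hc, Subtype.ext ?_⟩
      show wC (pos p q c) c = (w : GolayPt → ℤ)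
      have hpos : pos p q c = q := by unfold pos; rw [if_pos hcp]
      rw [hpos]
      apply eq_wC hd _ hq3
      intro k
      rw [habs k, hq]
    · exfalso
      rcases (hval p).2 hp with h | h <;> rcases (hval q).2 hq with h' | h' <;> omega

/-- (CNTC) `(3_p, 1_q, ...)` or `(1_p, 3_q, ...)`: 2048 vectors. -/
theorem ncard_TC (p q : GolayPt) (hpq : p ≠ q) : (TC p q).ncard = 2048 := by
  rw [← ncard_DSet p q hpq]
  symm
  exact Set.ncard_congr (fun c hc => mkC p q c hc) (mkC_mem p q hpq) (mkC_inj p q)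
    (mkC_surj p q hpq)

end Cfsg.Agent.Lib.H19.NX
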