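import Mathlib
import Cfsg.Agent.Lib.H1.FpfAction

/-!
# Nonabelian groups of order `pq` (helper19)

`FrobPQ A p q e a b` : the subgroup `A` is `⟨a⟩ ⋊ ⟨b⟩` with `a ^ p = 1`, `b ^ q = 1`,
`b a b⁻¹ = a ^ e ≠ a`.  Basic structure: every nontrivial element generates `⟨a⟩` or a conjugate
of `⟨b⟩` under `⟨a⟩`; generation by two distinct complements; existence for a nonabelian group
of order `pq`.
-/

set_option autoImplicit false
set_option linter.unusedSectionVars false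

namespace Cfsg.Agent.Lib.H19.PQ

variable {Γ : Type*} [Group Γ]

structure FrobPQ (A : Subgroup Γ) (p q e : ℕ) (a b : Γ) : Prop where
  hp : p.Prime
  hq : q.Prime
  ha : a ∈ A
  hb : b ∈ A
  hap : a ^ p = 1
  hbq : b ^ q = 1
  ha1 : a ≠ 1
  hrel : b * a * b⁻¹ = a ^ e
  he1 : a ^ e ≠ a
  hgen : ∀ x ∈ A, ∃ i j : ℕ, x = a ^ i * b ^ j

namespace FrobPQ

variable {A : Subgroup Γ} {p q e : ℕ} {a b : Γ}

theorem orderOf_a (h : FrobPQ A p q e a b) : orderOf a = p := by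
  have h1 : orderOf a ∣ p := orderOf_dvd_of_pow_eq_one h.hap
  rcases (Nat.dvd_prime h.hp).mp h1 with h2 | h2
  · exact absurd (orderOf_eq_one_iff.mp h2) h.ha1
  · exact h2

/-- a nontrivial element of `⟨a⟩` generates `⟨a⟩` -/
theorem a_mem_zpowers (h : FrobPQ A p q e a b) {g : Γ} (hg : g ∈ Subgroup.zpowers a)
    (hg1 : g ≠ 1) : a ∈ Subgroup.zpowers g := by
  rw [Cfsg.Agent.Lib.H1.zpowers_eq_of_prime_order h.hp h.orderOf_a hg hg1]
  exact Subgroup.mem_zpowers a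

theorem conj_zpow (h : FrobPQ A p q e a b) (z : ℤ) : b * a ^ z * b⁻¹ = (a ^ z) ^ e := by
  have h1 : b * a ^ z * b⁻¹ = (b * a * b⁻¹) ^ z := by
    rw [_root_.conj_zpow]
  rw [h1, h.hrel, ← zpow_natCast, ← zpow_natCast, ← zpow_mul, ← zpow_mul, mul_comm]

/-- `b` normalizes `⟨a⟩`, acting as the `e`-th power -/
theorem conj_mem (h : FrobPQ A p q e a b) {g : Γ} (hg : g ∈ Subgroup.zpowers a) :
    b * g * b⁻¹ = g ^ e := by
  obtain ⟨z, rfl⟩ := Subgroup.mem_zpowers_iff.mp hg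
  exact h.conj_zpow z

theorem conj_mem_zpowers (h : FrobPQ A p q e a b) {g : Γ} (hg : g ∈ Subgroup.zpowers a) :
    b * g * b⁻¹ ∈ Subgroup.zpowers a := by
  rw [h.conj_mem hg]
  exact Subgroup.pow_mem _ hg e

theorem pow_conj_mem_zpowers (h : FrobPQ A p q e a b) (j : ℕ) :
    ∀ g ∈ Subgroup.zpowers a, b ^ j * g * (b ^ j)⁻¹ ∈ Subgroup.zpowers a := by
  induction j with
  | zero => intro g hg; simpa using hg
  | succ j ih =>
    intro g hg
    have := h.conj_mem_zpowers (ih g hg)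
    have e1 : b ^ (j + 1) * g * (b ^ (j + 1))⁻¹ = b * (b ^ j * g * (b ^ j)⁻¹) * b⁻¹ := by
      rw [pow_succ']; group
    rw [e1]
    exact this

theorem conj_inv_mem_zpowers (h : FrobPQ A p q e a b) {g : Γ} (hg : g ∈ Subgroup.zpowers a) :
    b⁻¹ * g * b ∈ Subgroup.zpowers a := by
  -- conjugation by `b` is an injective self-map of the finite set `⟨a⟩`
  have hfin : Finite (Subgroup.zpowers a) := by
    apply Nat.finite_of_card_ne_zero
    rw [Nat.card_zpowers, h.orderOf_a]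
    exact h.hp.pos.ne'
  let f : Subgroup.zpowers a → Subgroup.zpowers a :=
    fun x => ⟨b * (x : Γ) * b⁻¹, h.conj_mem_zpowers x.2⟩
  have hinj : Function.Injective f := by
    intro x y hxy
    have h1 : b * (x : Γ) * b⁻¹ = b * (y : Γ) * b⁻¹ := congrArg Subtype.val hxy
    apply Subtype.ext
    have h2 := congrArg (fun t => b⁻¹ * t * b) h1
    simpa [mul_assoc] using h2
  obtain ⟨x, hx⟩ := Finite.surjective_of_injective hinj ⟨g, hg⟩
  have h1 : b * (x : Γ) * b⁻¹ = g := congrArg Subtype.val hx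
  rw [← h1]
  have e1 : b⁻¹ * (b * (x : Γ) * b⁻¹) * b = x := by group
  rw [e1]
  exact x.2

/-- `b` acts without fixed points on `⟨a⟩` -/
theorem eq_one_of_comm (h : FrobPQ A p q e a b) {g : Γ} (hg : g ∈ Subgroup.zpowers a)
    (hc : b * g = g * b) : g = 1 := by
  by_contra hg1
  have h1 : b * g * b⁻¹ = g := by rw [hc]; group
  -- `b` centralizes `⟨g⟩ = ⟨a⟩`
  have h2 : ∀ x ∈ Subgroup.zpowers g, b * x * b⁻¹ = x := by
    intro x hx
    obtain ⟨z, rfl⟩ := Subgroup.mem_zpowers_iff.mp hx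
    rw [← _root_.conj_zpow, h1]
  have h3 := h2 a (h.a_mem_zpowers hg hg1)
  rw [h.hrel] at h3
  exact h.he1 h3

/-- conjugating `b` by an element of `⟨a⟩` gives another admissible pair -/
theorem conj_b (h : FrobPQ A p q e a b) {g : Γ} (hg : g ∈ Subgroup.zpowers a) :
    FrobPQ A p q e a (g * b * g⁻¹) := by
  have hgA : g ∈ A := (Subgroup.zpowers_le.mpr h.ha) hg
  have hga : g * a = a * g := by
    obtain ⟨z, rfl⟩ := Subgroup.mem_zpowers_iff.mp hg
    exact ((Commute.refl a).zpow_left z).eq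
  refine
    { hp := h.hp
      hq := h.hq
      ha := h.ha
      hb := A.mul_mem (A.mul_mem hgA h.hb) (A.inv_mem hgA)
      hap := h.hap
      hbq := by rw [conj_pow, h.hbq, mul_one, mul_inv_cancel]
      ha1 := h.ha1
      hrel := ?_
      he1 := h.he1
      hgen := ?_ }
  · have h1 : g⁻¹ * a * g = a := by
      calc g⁻¹ * a * g = g⁻¹ * (a * g) := by group
        _ = g⁻¹ * (g * a) := by rw [hga]
        _ = a := by group
    have h2 : g * a ^ e * g⁻¹ = a ^ e := by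
      have h3 : Commute g (a ^ e) := (show Commute g a from hga).pow_right e
      rw [h3.eq, mul_assoc, mul_inv_cancel, mul_one]
    calc g * b * g⁻¹ * a * (g * b * g⁻¹)⁻¹ = g * (b * (g⁻¹ * a * g) * b⁻¹) * g⁻¹ := by group
      _ = g * (b * a * b⁻¹) * g⁻¹ := by rw [h1]
      _ = a ^ e := by rw [h.hrel, h2]
  · intro x hx
    -- `x = a^i b^j`, and `(g b g⁻¹)^j = g b^j g⁻¹ = g (b^j g⁻¹ b^-j) b^j`
    obtain ⟨i, j, rfl⟩ := h.hgen x hx
    have hbj := h.pow_conj_mem_zpowers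
    have h1 : (g * b * g⁻¹) ^ j = (g * (b ^ j * g⁻¹ * (b ^ j)⁻¹)) * b ^ j := by
      rw [conj_pow]; group
    have h2 : g * (b ^ j * g⁻¹ * (b ^ j)⁻¹) ∈ Subgroup.zpowers a :=
      Subgroup.mul_mem _ hg (hbj j _ (Subgroup.inv_mem _ hg))
    -- `a^i = y * (g (b^j g⁻¹ b^-j))` for a suitable `y ∈ ⟨a⟩`
    have h3 : a ^ i * (g * (b ^ j * g⁻¹ * (b ^ j)⁻¹))⁻¹ ∈ Subgroup.zpowers a :=
      Subgroup.mul_mem _ (Subgroup.pow_mem _ (Subgroup.mem_zpowers a) i) (Subgroup.inv_mem _ h2)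
    obtain ⟨z, hz⟩ := Subgroup.mem_zpowers_iff.mp h3
    -- make the exponent natural
    have hz' : a ^ (z % (p : ℤ)).toNat = a ^ z := by
      have hpz : (0 : ℤ) < p := by exact_mod_cast h.hp.pos
      have h4 : ((z % (p : ℤ)).toNat : ℤ) = z % p := Int.toNat_of_nonneg (Int.emod_nonneg z hpz.ne')
      rw [← zpow_natCast, h4]
      have h5 : z = z % p + p * (z / p) := (Int.emod_add_mul_ediv z p).symm
      conv_rhs => rw [h5]
      rw [zpow_add, zpow_mul, zpow_natCast, h.hap, one_zpow, mul_one]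
    refine ⟨(z % (p : ℤ)).toNat, j, ?_⟩
    rw [hz', hz, h1]
    group

/-- `A ≤ ⟨a, b⟩` in the form of an induction principle -/
theorem induction (h : FrobPQ A p q e a b) {P : Γ → Prop} (h1 : P 1) (hmul : ∀ x y, P x → P y → P (x * y))
    (ha : P a) (hb : P b) : ∀ x ∈ A, P x := by
  have hpow : ∀ (g : Γ), P g → ∀ n : ℕ, P (g ^ n) := by
    intro g hg n
    induction n with
    | zero => rw [pow_zero]; exact h1
    | succ n ih => rw [pow_succ]; exact hmul _ _ ih hg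
  intro x hx
  obtain ⟨i, j, rfl⟩ := h.hgen x hx
  exact hmul _ _ (hpow a ha i) (hpow b hb j)

/-- for `g ∈ ⟨a⟩`, `g ≠ 1`, the element `g b g⁻¹ b⁻¹` is a nontrivial element of `⟨a⟩` -/
theorem comm_mem (h : FrobPQ A p q e a b) {g : Γ} (hg : g ∈ Subgroup.zpowers a) :
    g * b * g⁻¹ * b⁻¹ ∈ Subgroup.zpowers a := by
  have e1 : g * b * g⁻¹ * b⁻¹ = g * (b * g⁻¹ * b⁻¹) := by group
  rw [e1]
  exact Subgroup.mul_mem _ hg (h.conj_mem_zpowers (Subgroup.inv_mem _ hg))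

theorem comm_ne_one (h : FrobPQ A p q e a b) {g : Γ} (hg : g ∈ Subgroup.zpowers a) (hg1 : g ≠ 1) :
    g * b * g⁻¹ * b⁻¹ ≠ 1 := by
  intro h1
  apply hg1
  apply h.eq_one_of_comm hg
  have h2 : g * b * g⁻¹ = b := by
    calc g * b * g⁻¹ = (g * b * g⁻¹ * b⁻¹) * b := by group
      _ = b := by rw [h1, one_mul]
  calc b * g = (g * b * g⁻¹) * g := by rw [h2]
    _ = g * b := by group

/-- every nontrivial element of `A` has a power equal to `a`, or to a conjugate of `b` under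
`⟨a⟩` -/
theorem cases (h : FrobPQ A p q e a b) {x : Γ} (hx : x ∈ A) (hx1 : x ≠ 1) :
    a ∈ Subgroup.zpowers x ∨ ∃ g ∈ Subgroup.zpowers a, g * b * g⁻¹ ∈ Subgroup.zpowers x := by
  obtain ⟨i, j, rfl⟩ := h.hgen x hx
  obtain ⟨y, hydef⟩ : ∃ y : Γ, y = b ^ j := ⟨_, rfl⟩
  rw [← hydef] at hx1 ⊢
  by_cases hy1 : y = 1
  · left
    rw [hy1, mul_one] at hx1 ⊢
    exact h.a_mem_zpowers (Subgroup.pow_mem _ (Subgroup.mem_zpowers a) i) hx1
  right
  -- `b` is a power of `y`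
  have hbord : orderOf b = q := by
    have h1 : orderOf b ∣ q := orderOf_dvd_of_pow_eq_one h.hbq
    rcases (Nat.dvd_prime h.hq).mp h1 with h2 | h2
    · exfalso
      apply hy1
      rw [hydef, orderOf_eq_one_iff.mp h2, one_pow]
    · exact h2
  have hby : b ∈ Subgroup.zpowers y := by
    have hyb : y ∈ Subgroup.zpowers b := by rw [hydef]; exact Subgroup.pow_mem _ (Subgroup.mem_zpowers b) j
    rw [Cfsg.Agent.Lib.H1.zpowers_eq_of_prime_order h.hq hbord hyb hy1]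
    exact Subgroup.mem_zpowers b
  obtain ⟨m, hm⟩ := Subgroup.mem_zpowers_iff.mp hby
  -- `y` normalizes `⟨a⟩`
  have hyn : ∀ g ∈ Subgroup.zpowers a, y * g * y⁻¹ ∈ Subgroup.zpowers a := by
    rw [hydef]
    exact h.pow_conj_mem_zpowers j
  have hfin : Finite (Subgroup.zpowers a) := by
    apply Nat.finite_of_card_ne_zero
    rw [Nat.card_zpowers, h.orderOf_a]
    exact h.hp.pos.ne'
  let f : Subgroup.zpowers a → Subgroup.zpowers a :=
    fun g => ⟨(g : Γ) * (y * (g : Γ)⁻¹ * y⁻¹),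
      Subgroup.mul_mem _ g.2 (hyn _ (Subgroup.inv_mem _ g.2))⟩
  have hcomm : ∀ g g' : Γ, g ∈ Subgroup.zpowers a → g' ∈ Subgroup.zpowers a → g * g' = g' * g := by
    intro g g' hg hg'
    obtain ⟨z, rfl⟩ := Subgroup.mem_zpowers_iff.mp hg
    obtain ⟨z', rfl⟩ := Subgroup.mem_zpowers_iff.mp hg'
    rw [← zpow_add, ← zpow_add, add_comm]
  have hinj : Function.Injective f := by
    intro g g' hgg
    have h1 : (g : Γ) * (y * (g : Γ)⁻¹ * y⁻¹) = (g' : Γ) * (y * (g' : Γ)⁻¹ * y⁻¹) :=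
      congrArg Subtype.val hgg
    -- `u = g'⁻¹ g` commutes with `y`
    obtain ⟨u, hudef⟩ : ∃ u : Γ, u = (g' : Γ)⁻¹ * g := ⟨_, rfl⟩
    have hu : u ∈ Subgroup.zpowers a := by
      rw [hudef]; exact Subgroup.mul_mem _ (Subgroup.inv_mem _ g'.2) g.2
    have h2 : y * u⁻¹ * y⁻¹ ∈ Subgroup.zpowers a := hyn _ (Subgroup.inv_mem _ hu)
    have h3 : u * (y * u⁻¹ * y⁻¹) = 1 := by
      have e1 : y * u⁻¹ * y⁻¹ = (y * (g : Γ)⁻¹ * y⁻¹) * (y * (g' : Γ) * y⁻¹) := by
        rw [hudef]; group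
      have hc1 := hcomm _ _ (hyn _ (Subgroup.inv_mem _ g.2)) (hyn _ g'.2)
      have hc2 := hcomm _ _ g.2 (hyn _ g'.2)
      calc u * (y * u⁻¹ * y⁻¹)
          = (g' : Γ)⁻¹ * ((g : Γ) * (y * (g : Γ)⁻¹ * y⁻¹)) * (y * (g' : Γ) * y⁻¹) := by
            rw [e1, hudef]; group
        _ = (g' : Γ)⁻¹ * ((g' : Γ) * (y * (g' : Γ)⁻¹ * y⁻¹)) * (y * (g' : Γ) * y⁻¹) := by rw [h1]
        _ = 1 := by group
    have h4 : y * u = u * y := by
      have := congrArg (fun t => t * y * u) h3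
      simp only [one_mul] at this
      rw [← this]
      group
    have h5 : b * u = u * b := by
      rw [← hm]
      exact ((show Commute y u from h4).zpow_left m).eq
    have h6 := h.eq_one_of_comm hu h5
    apply Subtype.ext
    rw [hudef] at h6
    exact (inv_mul_eq_one.mp h6).symm
  obtain ⟨g, hg⟩ := Finite.surjective_of_injective hinj
    ⟨a ^ i, Subgroup.pow_mem _ (Subgroup.mem_zpowers a) i⟩
  have h1 : (g : Γ) * (y * (g : Γ)⁻¹ * y⁻¹) = a ^ i := congrArg Subtype.val hg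
  refine ⟨g, g.2, ?_⟩
  have h2 : a ^ i * y = (g : Γ) * y * (g : Γ)⁻¹ := by rw [← h1]; group
  rw [h2]
  obtain ⟨m, rfl⟩ := Subgroup.mem_zpowers_iff.mp hby
  rw [← _root_.conj_zpow]
  exact Subgroup.zpow_mem_zpowers _ m

end FrobPQ

end Cfsg.Agent.Lib.H19.PQ
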