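import Mathlib

/-!
# A fixed-point-free operator on a finite abelian section (helper19)

`surj_of_fpf_section` : if `T / T₀` is abelian and `g` normalizes `T`, `T₀` and has no fixed points
on `T / T₀`, then every element of `T` is `≡ g y g⁻¹ y⁻¹` modulo `T₀`.
-/

set_option autoImplicit false
set_option linter.unusedSectionVars false
set_option linter.style.haveILetI false

namespace Cfsg.Agent.Lib.H19.PQ

variable {Γ : Type*} [Group Γ]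

theorem conj_mem_of_comm {T T₀ : Subgroup Γ}
    (hcomm : ∀ x ∈ T, ∀ y ∈ T, x * y * x⁻¹ * y⁻¹ ∈ T₀) (hT₀T : T₀ ≤ T) {x z : Γ} (hx : x ∈ T)
    (hz : z ∈ T₀) : x * z * x⁻¹ ∈ T₀ := by
  have h1 := hcomm x hx z (hT₀T hz)
  have e : x * z * x⁻¹ = (x * z * x⁻¹ * z⁻¹) * z := by group
  rw [e]
  exact T₀.mul_mem h1 hz

theorem surj_of_fpf_section [Finite Γ] {T T₀ : Subgroup Γ} (hT₀T : T₀ ≤ T)
    (hcomm : ∀ x ∈ T, ∀ y ∈ T, x * y * x⁻¹ * y⁻¹ ∈ T₀) {g : Γ}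
    (hgT : g ∈ Subgroup.normalizer (T : Set Γ)) (hgT₀ : g ∈ Subgroup.normalizer (T₀ : Set Γ))
    (hfpf : ∀ x ∈ T, g * x * g⁻¹ * x⁻¹ ∈ T₀ → x ∈ T₀) :
    ∀ d ∈ T, ∃ y ∈ T, g * y * g⁻¹ * y⁻¹ * d⁻¹ ∈ T₀ := by
  classical
  have hconjT : ∀ x ∈ T, g * x * g⁻¹ ∈ T := fun x hx =>
    (Subgroup.mem_normalizer_iff.mp hgT x).mp hx
  have hconjT₀ : ∀ x ∈ T₀, g * x * g⁻¹ ∈ T₀ := fun x hx =>
    (Subgroup.mem_normalizer_iff.mp hgT₀ x).mp hx
  have hcT : ∀ x ∈ T, g * x * g⁻¹ * x⁻¹ ∈ T := fun x hx => T.mul_mem (hconjT x hx) (T.inv_mem hx)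
  obtain ⟨N₀, hN₀def⟩ : ∃ N₀ : Subgroup ↥T, N₀ = T₀.subgroupOf T := ⟨_, rfl⟩
  have hmemN : ∀ x : ↥T, x ∈ N₀ ↔ (x : Γ) ∈ T₀ := by
    intro x; rw [hN₀def]; exact Subgroup.mem_subgroupOf
  haveI hN₀n : N₀.Normal := by
    constructor
    intro z hz x
    rw [hmemN] at hz ⊢
    exact conj_mem_of_comm hcomm hT₀T x.2 hz
  -- the quotient is commutative
  have hQcomm : ∀ u v : ↥T ⧸ N₀, u * v = v * u := by
    intro u v
    induction u using QuotientGroup.induction_on with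
    | H x =>
      induction v using QuotientGroup.induction_on with
      | H y =>
        rw [← QuotientGroup.mk_mul, ← QuotientGroup.mk_mul, eq_comm, QuotientGroup.eq, hmemN]
        have := hcomm _ (T.inv_mem x.2) _ (T.inv_mem y.2)
        have e : (((y * x)⁻¹ * (x * y) : ↥T) : Γ) = (x : Γ)⁻¹ * (y : Γ)⁻¹ * (x : Γ)⁻¹⁻¹ * (y : Γ)⁻¹⁻¹ := by
          push_cast
          group
        rw [e]
        exact this
  -- the map
  let φ₀ : ↥T → ↥T ⧸ N₀ := fun y => QuotientGroup.mk ⟨g * (y : Γ) * g⁻¹ * (y : Γ)⁻¹, hcT y y.2⟩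
  have hφmul : ∀ y y' : ↥T, φ₀ (y * y') = φ₀ y * φ₀ y' := by
    intro y y'
    show (QuotientGroup.mk _ : ↥T ⧸ N₀) = QuotientGroup.mk _ * QuotientGroup.mk _
    have e : (⟨g * ((y * y' : ↥T) : Γ) * g⁻¹ * ((y * y' : ↥T) : Γ)⁻¹, hcT _ (y * y').2⟩ : ↥T) =
        ⟨g * (y : Γ) * g⁻¹ * (y : Γ)⁻¹, hcT y y.2⟩ *
          (y * ⟨g * (y' : Γ) * g⁻¹ * (y' : Γ)⁻¹, hcT y' y'.2⟩ * y⁻¹) := by
      apply Subtype.ext
      push_cast
      group
    rw [e, QuotientGroup.mk_mul, QuotientGroup.mk_mul, QuotientGroup.mk_mul, QuotientGroup.mk_inv]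
    congr 1
    rw [hQcomm (QuotientGroup.mk y), mul_assoc, mul_inv_cancel, mul_one]
  let φ : ↥T →* ↥T ⧸ N₀ :=
    { toFun := φ₀
      map_one' := by
        show (QuotientGroup.mk _ : ↥T ⧸ N₀) = 1
        rw [QuotientGroup.eq_one_iff, hmemN]
        simp
      map_mul' := hφmul }
  have hker : N₀ ≤ φ.ker := by
    intro z hz
    rw [hmemN] at hz
    rw [MonoidHom.mem_ker]
    show (QuotientGroup.mk _ : ↥T ⧸ N₀) = 1
    rw [QuotientGroup.eq_one_iff, hmemN]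
    exact T₀.mul_mem (hconjT₀ _ hz) (T₀.inv_mem hz)
  let φ' : ↥T ⧸ N₀ →* ↥T ⧸ N₀ := QuotientGroup.lift N₀ φ hker
  have hinj : Function.Injective φ' := by
    rw [injective_iff_map_eq_one]
    intro u hu
    induction u using QuotientGroup.induction_on with
    | H x =>
      have h1 : φ x = 1 := hu
      have h2 : (QuotientGroup.mk ⟨g * (x : Γ) * g⁻¹ * (x : Γ)⁻¹, hcT x x.2⟩ : ↥T ⧸ N₀) = 1 := h1
      rw [QuotientGroup.eq_one_iff, hmemN] at h2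
      rw [QuotientGroup.eq_one_iff, hmemN]
      exact hfpf x x.2 h2
  have hsurj : Function.Surjective φ' := Finite.surjective_of_injective hinj
  intro d hd
  obtain ⟨u, hu⟩ := hsurj (QuotientGroup.mk ⟨d, hd⟩)
  induction u using QuotientGroup.induction_on with
  | H y =>
    refine ⟨y, y.2, ?_⟩
    have h1 : (QuotientGroup.mk ⟨g * (y : Γ) * g⁻¹ * (y : Γ)⁻¹, hcT y y.2⟩ : ↥T ⧸ N₀) =
        QuotientGroup.mk ⟨d, hd⟩ := hu
    rw [QuotientGroup.eq, hmemN] at h1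
    have h2 : (g * (y : Γ) * g⁻¹ * (y : Γ)⁻¹)⁻¹ * d ∈ T₀ := by
      simpa using h1
    have h3 := T₀.inv_mem h2
    have h4 := conj_mem_of_comm hcomm hT₀T hd h3
    have e : d * ((g * (y : Γ) * g⁻¹ * (y : Γ)⁻¹)⁻¹ * d)⁻¹ * d⁻¹ =
        g * (y : Γ) * g⁻¹ * (y : Γ)⁻¹ * d⁻¹ := by group
    rwa [e] at h4

end Cfsg.Agent.Lib.H19.PQ
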