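import Mathlib
import Cfsg.Agent.Lib.H19.PQ1
import Cfsg.Agent.Lib.H19.PQ2
import Cfsg.Agent.Lib.H19.WardD

/-!
# The dual abelian core, part 1: hypotheses and the independence lemma (helper19)

A finite group `𝔊` acts on an abelian group `X` (through `act : 𝔊 →* MulAut X`), `X₀ ≤ X` is a
subgroup invariant under `T` and `A`, where `A = ⟨a⟩ ⋊ ⟨b⟩` (`FrobPQ`) normalizes `T` and `T₀`,
`T / T₀` is abelian, `T₀` acts trivially on `X₀`, `C_{X₀}(A) = C_{X₀}(T) = 1`.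

`ABHyp.ind` : if `a` has no fixed points on `T / T₀`, an element `χ ∈ X₀` fixed by `b` and by all
`b⁻¹ y⁻¹ b y` (`y ∈ T`) is trivial.
-/

set_option autoImplicit false
set_option linter.unusedSectionVars false
set_option linter.style.haveILetI false
set_option maxHeartbeats 1000000

namespace Cfsg.Agent.Lib.H19.PQ

variable {𝔊 : Type*} [Group 𝔊] {X : Type*} [CommGroup X]

/-- the stabilizer of a point for an action given by a homomorphism to `MulAut` -/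
def Stab (act : 𝔊 →* MulAut X) (χ : X) : Subgroup 𝔊 where
  carrier := {x | act x χ = χ}
  one_mem' := by simp
  mul_mem' := by
    intro x y hx hy
    change act x χ = χ at hx
    change act y χ = χ at hy
    change act (x * y) χ = χ
    rw [map_mul, MulAut.mul_apply, hy, hx]
  inv_mem' := by
    intro x hx
    change act x χ = χ at hx
    change act x⁻¹ χ = χ
    rw [map_inv]
    conv_lhs => rw [← hx]
    exact MulAut.inv_apply_self X (act x) χ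

theorem mem_Stab {act : 𝔊 →* MulAut X} {χ : X} {x : 𝔊} : x ∈ Stab act χ ↔ act x χ = χ := Iff.rfl

theorem Stab_act (act : 𝔊 →* MulAut X) (χ : X) (g x : 𝔊) :
    g * x * g⁻¹ ∈ Stab act (act g χ) ↔ x ∈ Stab act χ := by
  rw [mem_Stab, mem_Stab, map_mul, map_mul, MulAut.mul_apply, MulAut.mul_apply, map_inv,
    MulAut.inv_apply_self]
  constructor
  · intro h
    exact (act g).injective h
  · intro h
    rw [h]

structure ABHyp (act : 𝔊 →* MulAut X) (X₀ : Subgroup X) (A T T₀ : Subgroup 𝔊) (p q e : ℕ)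
    (a b : 𝔊) (N : ℕ) : Prop where
  frob : FrobPQ A p q e a b
  hT₀T : T₀ ≤ T
  hcomm : ∀ x ∈ T, ∀ y ∈ T, x * y * x⁻¹ * y⁻¹ ∈ T₀
  hAT : A ≤ Subgroup.normalizer (T : Set 𝔊)
  hAT₀ : A ≤ Subgroup.normalizer (T₀ : Set 𝔊)
  htriv : ∀ z ∈ T₀, ∀ χ ∈ X₀, act z χ = χ
  hinvT : ∀ x ∈ T, ∀ χ ∈ X₀, act x χ ∈ X₀
  hinvA : ∀ x ∈ A, ∀ χ ∈ X₀, act x χ ∈ X₀
  hexp : ∀ χ ∈ X₀, χ ^ N = 1
  hNT : N.Coprime (Nat.card T)
  hCA : ∀ χ ∈ X₀, (∀ x ∈ A, act x χ = χ) → χ = 1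
  hCT : ∀ χ ∈ X₀, (∀ x ∈ T, act x χ = χ) → χ = 1

namespace ABHyp

variable {act : 𝔊 →* MulAut X} {X₀ : Subgroup X} {A T T₀ : Subgroup 𝔊} {p q e : ℕ} {a b : 𝔊}
  {N : ℕ}

/-- conjugating `b` inside `⟨a⟩` -/
theorem conj_b (h : ABHyp act X₀ A T T₀ p q e a b N) {g : 𝔊} (hg : g ∈ Subgroup.zpowers a) :
    ABHyp act X₀ A T T₀ p q e a (g * b * g⁻¹) N :=
  { h with frob := h.frob.conj_b hg }

theorem conjT (h : ABHyp act X₀ A T T₀ p q e a b N) {x y : 𝔊} (hx : x ∈ A) (hy : y ∈ T) :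
    x * y * x⁻¹ ∈ T :=
  (Subgroup.mem_normalizer_iff.mp (h.hAT hx) y).mp hy

theorem conjT' (h : ABHyp act X₀ A T T₀ p q e a b N) {x y : 𝔊} (hx : x ∈ A) (hy : y ∈ T) :
    x⁻¹ * y * x ∈ T := by
  have := h.conjT (A.inv_mem hx) hy
  rwa [inv_inv] at this

theorem conjT₀ (h : ABHyp act X₀ A T T₀ p q e a b N) {x y : 𝔊} (hx : x ∈ A) (hy : y ∈ T₀) :
    x * y * x⁻¹ ∈ T₀ :=
  (Subgroup.mem_normalizer_iff.mp (h.hAT₀ hx) y).mp hy

theorem conjT₀' (h : ABHyp act X₀ A T T₀ p q e a b N) {x y : 𝔊} (hx : x ∈ A) (hy : y ∈ T₀) :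
    x⁻¹ * y * x ∈ T₀ := by
  have := h.conjT₀ (A.inv_mem hx) hy
  rwa [inv_inv] at this

theorem zpowers_le (h : ABHyp act X₀ A T T₀ p q e a b N) : Subgroup.zpowers a ≤ A :=
  Subgroup.zpowers_le.mpr h.frob.ha

/-- `T₀ ≤ Σ ≤ T` implies `Σ` is normalized by `T` -/
theorem le_normalizer (h : ABHyp act X₀ A T T₀ p q e a b N) {D₁ : Subgroup 𝔊} (h0 : T₀ ≤ D₁)
    (h1 : D₁ ≤ T) : T ≤ Subgroup.normalizer (D₁ : Set 𝔊) := by
  intro x hx
  apply Cfsg.Agent.Lib.H19.Ward.mem_normalizer_of_conj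
  · intro d hd
    have e1 : x * d * x⁻¹ = (x * d * x⁻¹ * d⁻¹) * d := by group
    rw [e1]
    exact D₁.mul_mem (h0 (h.hcomm x hx d (h1 hd))) hd
  · intro d hd
    have e1 : x⁻¹ * d * x = (x⁻¹ * d * x⁻¹⁻¹ * d⁻¹) * d := by group
    rw [e1]
    exact D₁.mul_mem (h0 (h.hcomm x⁻¹ (T.inv_mem hx) d (h1 hd))) hd

/-- `T₀` lies in every stabilizer -/
theorem T₀_le_Stab (h : ABHyp act X₀ A T T₀ p q e a b N) {χ : X} (hχ : χ ∈ X₀) :
    T₀ ≤ T ⊓ Stab act χ := fun z hz => ⟨h.hT₀T hz, h.htriv z hz χ hχ⟩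

/-- the action of `T` on `X₀` factors through the abelian group `T / T₀` -/
theorem act_comm (h : ABHyp act X₀ A T T₀ p q e a b N) {x y : 𝔊} (hx : x ∈ T) (hy : y ∈ T)
    {χ : X} (hχ : χ ∈ X₀) : act (x * y) χ = act (y * x) χ := by
  have e1 : x * y = y * x * (x⁻¹ * y⁻¹ * x⁻¹⁻¹ * y⁻¹⁻¹) := by group
  have h1 := h.hcomm x⁻¹ (T.inv_mem hx) y⁻¹ (T.inv_mem hy)
  rw [e1, map_mul, MulAut.mul_apply, h.htriv _ h1 χ hχ]

end ABHyp

end Cfsg.Agent.Lib.H19.PQ
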