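import Mathlib
import Cfsg.Agent.Lib.H19.PQ3

/-!
# The dual abelian core, part 2: the independence lemma (helper19)
-/

set_option autoImplicit false
set_option linter.unusedSectionVars false
set_option linter.style.haveILetI false
set_option maxHeartbeats 1000000

namespace Cfsg.Agent.Lib.H19.PQ

variable {𝔊 : Type*} [Group 𝔊] {X : Type*} [CommGroup X]

namespace ABHyp

variable {act : 𝔊 →* MulAut X} {X₀ : Subgroup X} {A T T₀ : Subgroup 𝔊} {p q e : ℕ} {a b : 𝔊}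
  {N : ℕ}

/-- a subgroup between `T₀` and `T` containing all `a y a⁻¹ y⁻¹` is `T` -/
theorem le_of_comm [Finite 𝔊] (h : ABHyp act X₀ A T T₀ p q e a b N)
    (hfpf : ∀ x ∈ T, a * x * a⁻¹ * x⁻¹ ∈ T₀ → x ∈ T₀) {D : Subgroup 𝔊} (h0 : T₀ ≤ D)
    (hD : ∀ y ∈ T, a * y * a⁻¹ * y⁻¹ ∈ D) : T ≤ D := by
  intro d hd
  obtain ⟨y, hy, hz⟩ := surj_of_fpf_section h.hT₀T h.hcomm (h.hAT h.frob.ha) (h.hAT₀ h.frob.ha)
    hfpf d hd
  have e1 : d = (a * y * a⁻¹ * y⁻¹ * d⁻¹)⁻¹ * (a * y * a⁻¹ * y⁻¹) := by group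
  rw [e1]
  exact D.mul_mem (D.inv_mem (h0 hz)) (hD y hy)

/-- the property "`x` centralizes `T` modulo `D`" -/
def PP (T D : Subgroup 𝔊) (x : 𝔊) : Prop := ∀ y ∈ T, x * y * x⁻¹ * y⁻¹ ∈ D

theorem PP_mul {D : Subgroup 𝔊} {x x' : 𝔊} (hx : PP T D x) (hx' : PP T D x')
    (hn : ∀ y ∈ T, x' * y * x'⁻¹ ∈ T) : PP T D (x * x') := by
  intro y hy
  have e1 : x * x' * y * (x * x')⁻¹ * y⁻¹ =
      (x * (x' * y * x'⁻¹) * x⁻¹ * (x' * y * x'⁻¹)⁻¹) * (x' * y * x'⁻¹ * y⁻¹) := by group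
  rw [e1]
  exact D.mul_mem (hx _ (hn y hy)) (hx' y hy)

theorem PP_inv {D : Subgroup 𝔊} {x : 𝔊} (hx : PP T D x) (hn : ∀ y ∈ T, x⁻¹ * y * x ∈ T) :
    PP T D x⁻¹ := by
  intro y hy
  have h1 := hx _ (hn y hy)
  have e1 : x⁻¹ * y * x⁻¹⁻¹ * y⁻¹ = (x * (x⁻¹ * y * x) * x⁻¹ * (x⁻¹ * y * x)⁻¹)⁻¹ := by group
  rw [e1]
  exact D.inv_mem h1

theorem PP_one {D : Subgroup 𝔊} : PP T D 1 := by
  intro y _
  simp

theorem PP_zpow {D : Subgroup 𝔊} {x : 𝔊} (hx : PP T D x) (hn : ∀ y ∈ T, x * y * x⁻¹ ∈ T)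
    (hn' : ∀ y ∈ T, x⁻¹ * y * x ∈ T) (z : ℤ) : PP T D (x ^ z) := by
  have hpow : ∀ n : ℕ, PP T D (x ^ n) := by
    intro n
    induction n with
    | zero => rw [pow_zero]; exact PP_one
    | succ n ih => rw [pow_succ]; exact PP_mul ih hx hn
  have hnpow : ∀ n : ℕ, ∀ y ∈ T, (x ^ n)⁻¹ * y * x ^ n ∈ T := by
    intro n
    induction n with
    | zero => intro y hy; simpa using hy
    | succ n ih =>
      intro y hy
      have := hn' _ (ih y hy)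
      have e1 : (x ^ (n + 1))⁻¹ * y * x ^ (n + 1) = x⁻¹ * ((x ^ n)⁻¹ * y * x ^ n) * x := by
        rw [pow_succ]; group
      rw [e1]
      exact this
  cases z with
  | ofNat n => rw [Int.ofNat_eq_natCast, zpow_natCast]; exact hpow n
  | negSucc n =>
    rw [zpow_negSucc]
    exact PP_inv (hpow (n + 1)) (hnpow (n + 1))

/-- **the independence lemma** -/
theorem ind [Finite 𝔊] (h : ABHyp act X₀ A T T₀ p q e a b N)
    (hfpf : ∀ x ∈ T, a * x * a⁻¹ * x⁻¹ ∈ T₀ → x ∈ T₀)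
    {χ : X} (hχ : χ ∈ X₀) (hb : act b χ = χ)
    (hby : ∀ y ∈ T, act (b⁻¹ * y⁻¹ * b * y) χ = χ) : χ = 1 := by
  classical
  have hfr := h.frob
  obtain ⟨Pa, hPadef⟩ : ∃ Pa : Subgroup 𝔊, Pa = Subgroup.zpowers a := ⟨_, rfl⟩
  have hPaA : Pa ≤ A := by rw [hPadef]; exact h.zpowers_le
  have hmemPa : ∀ x : 𝔊, x ∈ Pa ↔ x ∈ Subgroup.zpowers a := by intro x; rw [hPadef]
  haveI : Fintype ↥Pa := Fintype.ofFinite _
  have hX₀Pa : ∀ g ∈ Pa, ∀ ψ ∈ X₀, act g ψ ∈ X₀ := fun g hg ψ hψ => h.hinvA g (hPaA hg) ψ hψ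
  -- the translates of `χ`
  have hχg : ∀ g : ↥Pa, act (g : 𝔊) χ ∈ X₀ := fun g => hX₀Pa g g.2 χ hχ
  -- the norm
  obtain ⟨Nm, hNmdef⟩ : ∃ Nm : X, Nm = ∏ g : ↥Pa, act (g : 𝔊) χ := ⟨_, rfl⟩
  have hNmX : Nm ∈ X₀ := by
    rw [hNmdef]
    exact Subgroup.prod_mem _ (fun g _ => hχg g)
  have haPa : a ∈ Pa := by rw [hPadef]; exact Subgroup.mem_zpowers a
  have hNa : act a Nm = Nm := by
    rw [hNmdef, map_prod]
    have h1 : ∀ g : ↥Pa, act a (act (g : 𝔊) χ) = act (((⟨a, haPa⟩ : ↥Pa) * g : ↥Pa) : 𝔊) χ := by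
      intro g
      rw [Subgroup.coe_mul, map_mul, MulAut.mul_apply]
    simp only [h1]
    exact Equiv.prod_comp (Equiv.mulLeft (⟨a, haPa⟩ : ↥Pa)) (fun g : ↥Pa => act (g : 𝔊) χ)
  have hNb : act b Nm = Nm := by
    rw [hNmdef, map_prod]
    let cb : ↥Pa ≃ ↥Pa :=
      { toFun := fun g => ⟨b * (g : 𝔊) * b⁻¹,
          (hmemPa _).mpr (hfr.conj_mem_zpowers ((hmemPa _).mp g.2))⟩
        invFun := fun g => ⟨b⁻¹ * (g : 𝔊) * b,
          (hmemPa _).mpr (hfr.conj_inv_mem_zpowers ((hmemPa _).mp g.2))⟩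
        left_inv := by intro g; apply Subtype.ext; simp [mul_assoc]
        right_inv := by intro g; apply Subtype.ext; simp [mul_assoc] }
    have h1 : ∀ g : ↥Pa, act b (act (g : 𝔊) χ) = act ((cb g : ↥Pa) : 𝔊) χ := by
      intro g
      show act b (act (g : 𝔊) χ) = act (b * (g : 𝔊) * b⁻¹) χ
      calc act b (act (g : 𝔊) χ) = act (b * (g : 𝔊)) χ := by rw [map_mul, MulAut.mul_apply]
        _ = act (b * (g : 𝔊) * b⁻¹ * b) χ := by
            congr 2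
            group
        _ = act (b * (g : 𝔊) * b⁻¹) (act b χ) := by rw [map_mul, MulAut.mul_apply]
        _ = act (b * (g : 𝔊) * b⁻¹) χ := by rw [hb]
    simp only [h1]
    exact Equiv.prod_comp cb (fun g : ↥Pa => act (g : 𝔊) χ)
  have hNm1 : Nm = 1 := by
    apply h.hCA Nm hNmX
    apply hfr.induction (P := fun x => act x Nm = Nm)
    · simp
    · intro x y hx hy
      rw [map_mul, MulAut.mul_apply, hy, hx]
    · exact hNa
    · exact hNb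
  -- the stabilizers
  obtain ⟨S0, hS0def⟩ : ∃ S0 : Subgroup 𝔊, S0 = T ⊓ Stab act χ := ⟨_, rfl⟩
  have hS0T : S0 ≤ T := by rw [hS0def]; exact inf_le_left
  have hT₀S0 : T₀ ≤ S0 := by rw [hS0def]; exact h.T₀_le_Stab hχ
  have hS0fix : ∀ d ∈ S0, act d χ = χ := by
    intro d hd
    rw [hS0def] at hd
    exact hd.2
  -- `P(b)` for `S0`
  have hPb : PP T S0 b := by
    intro y hy
    have hy' : b * y⁻¹ * b⁻¹ ∈ T := h.conjT hfr.hb (T.inv_mem hy)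
    have h1 := hby _ hy'
    have e1 : b⁻¹ * (b * y⁻¹ * b⁻¹)⁻¹ * b * (b * y⁻¹ * b⁻¹) = (b * y * b⁻¹ * y⁻¹)⁻¹ := by group
    rw [e1] at h1
    have h2 : (b * y * b⁻¹ * y⁻¹)⁻¹ ∈ S0 := by
      rw [hS0def]
      exact ⟨T.inv_mem (T.mul_mem (h.conjT hfr.hb hy) (T.inv_mem hy)), h1⟩
    have := S0.inv_mem h2
    rwa [inv_inv] at this
  -- the map `ν₀`
  haveI : Fintype ↥S0 := Fintype.ofFinite _
  obtain ⟨ν, hνdef⟩ : ∃ ν : X →* X, ν = ∏ d : ↥S0, (act (d : 𝔊)).toMonoidHom := ⟨_, rfl⟩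
  have hν : ∀ ψ : X, ν ψ = ∏ d : ↥S0, act (d : 𝔊) ψ := by
    intro ψ
    rw [hνdef, MonoidHom.finsetProd_apply]
    rfl
  have hνX : ∀ ψ ∈ X₀, ν ψ ∈ X₀ := by
    intro ψ hψ
    rw [hν]
    exact Subgroup.prod_mem _ (fun d _ => h.hinvT d (hS0T d.2) ψ hψ)
  have hνχ : ν χ = χ ^ Nat.card S0 := by
    rw [hν]
    simp only [fun d : ↥S0 => hS0fix d d.2]
    rw [Finset.prod_const, Finset.card_univ, Nat.card_eq_fintype_card]
  -- the other translates are killed by `ν`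
  have hkill : ∀ g : ↥Pa, g ≠ 1 → ν (act (g : 𝔊) χ) = 1 := by
    intro g hg1
    have hgA : (g : 𝔊) ∈ A := hPaA g.2
    have hgz : (g : 𝔊) ∈ Subgroup.zpowers a := (hmemPa _).mp g.2
    have hg1' : (g : 𝔊) ≠ 1 := fun hh => hg1 (Subtype.ext hh)
    obtain ⟨ψ, hψdef⟩ : ∃ ψ : X, ψ = act (g : 𝔊) χ := ⟨_, rfl⟩
    have hψX : ψ ∈ X₀ := by rw [hψdef]; exact hχg g
    rw [← hψdef]
    obtain ⟨Sg, hSgdef⟩ : ∃ Sg : Subgroup 𝔊, Sg = T ⊓ Stab act ψ := ⟨_, rfl⟩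
    have hSgT : Sg ≤ T := by rw [hSgdef]; exact inf_le_left
    have hT₀Sg : T₀ ≤ Sg := by rw [hSgdef]; exact h.T₀_le_Stab hψX
    have hSgfix : ∀ d ∈ Sg, act d ψ = ψ := by
      intro d hd
      rw [hSgdef] at hd
      exact hd.2
    haveI : Fintype ↥Sg := Fintype.ofFinite _
    -- `S0 ⊔ Sg = T`
    obtain ⟨D, hDdef⟩ : ∃ D : Subgroup 𝔊, D = S0 ⊔ Sg := ⟨_, rfl⟩
    have hPb' : PP T D b := fun y hy => by
      rw [hDdef]; exact Subgroup.mem_sup_left (hPb y hy)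
    have hPbg : PP T D ((g : 𝔊) * b * (g : 𝔊)⁻¹) := by
      intro y hy
      have hy' : (g : 𝔊)⁻¹ * y * g ∈ T := h.conjT' hgA hy
      have h1 := hPb _ hy'
      rw [hS0def] at h1
      have h2 : (g : 𝔊) * (b * ((g : 𝔊)⁻¹ * y * g) * b⁻¹ * ((g : 𝔊)⁻¹ * y * g)⁻¹) * (g : 𝔊)⁻¹ ∈
          Stab act ψ := by
        rw [hψdef, Stab_act]
        exact h1.2
      have e1 : (g : 𝔊) * (b * ((g : 𝔊)⁻¹ * y * g) * b⁻¹ * ((g : 𝔊)⁻¹ * y * g)⁻¹) * (g : 𝔊)⁻¹ =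
          (g : 𝔊) * b * (g : 𝔊)⁻¹ * y * ((g : 𝔊) * b * (g : 𝔊)⁻¹)⁻¹ * y⁻¹ := by group
      rw [e1] at h2
      rw [hDdef]
      apply Subgroup.mem_sup_right
      rw [hSgdef]
      refine ⟨?_, h2⟩
      have hbgA : (g : 𝔊) * b * (g : 𝔊)⁻¹ ∈ A := A.mul_mem (A.mul_mem hgA hfr.hb) (A.inv_mem hgA)
      exact T.mul_mem (h.conjT hbgA hy) (T.inv_mem hy)
    have hPa' : PP T D a := by
      -- `a` is a power of `g b g⁻¹ b⁻¹`
      have h1 := hfr.comm_mem hgz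
      have h2 := hfr.comm_ne_one hgz hg1'
      have h3 := hfr.a_mem_zpowers h1 h2
      obtain ⟨z, hz⟩ := Subgroup.mem_zpowers_iff.mp h3
      rw [← hz]
      have hbgA : (g : 𝔊) * b * (g : 𝔊)⁻¹ ∈ A := A.mul_mem (A.mul_mem hgA hfr.hb) (A.inv_mem hgA)
      have hcA : (g : 𝔊) * b * (g : 𝔊)⁻¹ * b⁻¹ ∈ A := A.mul_mem hbgA (A.inv_mem hfr.hb)
      have hP1 : PP T D ((g : 𝔊) * b * (g : 𝔊)⁻¹ * b⁻¹) := by
        apply PP_mul hPbg
        · exact PP_inv hPb' (fun y hy => h.conjT' hfr.hb hy)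
        · intro y hy
          exact h.conjT (A.inv_mem hfr.hb) hy
      exact PP_zpow hP1 (fun y hy => h.conjT hcA hy) (fun y hy => h.conjT' hcA hy) z
    have hTD : T ≤ D := by
      apply h.le_of_comm hfpf _ hPa'
      rw [hDdef]
      exact hT₀S0.trans le_sup_left
    -- decomposition of elements of `T`
    have hdec : ∀ x ∈ T, ∃ d ∈ S0, ∃ d' ∈ Sg, x = d * d' := by
      intro x hx
      have hn : Sg ≤ Subgroup.normalizer (S0 : Set 𝔊) :=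
        hSgT.trans (h.le_normalizer hT₀S0 hS0T)
      have h1 : x ∈ ((S0 ⊔ Sg : Subgroup 𝔊) : Set 𝔊) := by
        rw [← hDdef]; exact hTD hx
      rw [Subgroup.coe_mul_of_right_le_normalizer_left S0 Sg hn] at h1
      obtain ⟨d, hd, d', hd', rfl⟩ := h1
      exact ⟨d, hd, d', hd', rfl⟩
    -- the double product
    obtain ⟨Ψ, hΨdef⟩ : ∃ Ψ : X, Ψ = ∏ d : ↥S0, ∏ d' : ↥Sg, act ((d : 𝔊) * (d' : 𝔊)) ψ := ⟨_, rfl⟩
    have hΨX : Ψ ∈ X₀ := by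
      rw [hΨdef]
      apply Subgroup.prod_mem
      intro d _
      apply Subgroup.prod_mem
      intro d' _
      exact h.hinvT _ (T.mul_mem (hS0T d.2) (hSgT d'.2)) ψ hψX
    have hΨ1 : Ψ = 1 := by
      apply h.hCT Ψ hΨX
      intro x hx
      obtain ⟨σ, hσ, σ', hσ', rfl⟩ := hdec x hx
      rw [hΨdef, map_prod]
      simp only [map_prod]
      have h1 : ∀ (d : ↥S0) (d' : ↥Sg), act (σ * σ') (act ((d : 𝔊) * (d' : 𝔊)) ψ) =
          act ((((⟨σ, hσ⟩ : ↥S0) * d : ↥S0) : 𝔊) * (((⟨σ', hσ'⟩ : ↥Sg) * d' : ↥Sg) : 𝔊)) ψ := by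
        intro d d'
        rw [Subgroup.coe_mul, Subgroup.coe_mul]
        show act (σ * σ') (act ((d : 𝔊) * (d' : 𝔊)) ψ) = act (σ * (d : 𝔊) * (σ' * (d' : 𝔊))) ψ
        have hdT : (d : 𝔊) ∈ T := hS0T d.2
        have hd'T : (d' : 𝔊) ∈ T := hSgT d'.2
        have hσT : σ ∈ T := hS0T hσ
        have hσ'T : σ' ∈ T := hSgT hσ'
        -- swap `σ'` and `d`
        have e1 : act (σ * (d : 𝔊) * (σ' * (d' : 𝔊))) ψ =
            act σ (act ((d : 𝔊) * σ') (act (d' : 𝔊) ψ)) := by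
          have e0 : σ * (d : 𝔊) * (σ' * (d' : 𝔊)) = σ * ((d : 𝔊) * σ' * (d' : 𝔊)) := by group
          rw [e0, map_mul, MulAut.mul_apply, map_mul, MulAut.mul_apply]
        have e2 : act (σ * σ') (act ((d : 𝔊) * (d' : 𝔊)) ψ) =
            act σ (act (σ' * (d : 𝔊)) (act (d' : 𝔊) ψ)) := by
          rw [map_mul (f := act) σ σ', MulAut.mul_apply, map_mul (f := act) (d : 𝔊) (d' : 𝔊),
            MulAut.mul_apply, map_mul (f := act) σ' (d : 𝔊), MulAut.mul_apply]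
        rw [e1, e2, h.act_comm hσ'T hdT (h.hinvT _ hd'T ψ hψX)]
      simp only [h1]
      rw [← Equiv.prod_comp (Equiv.mulLeft (⟨σ, hσ⟩ : ↥S0))
        (fun d : ↥S0 => ∏ d' : ↥Sg, act ((d : 𝔊) * (d' : 𝔊)) ψ)]
      apply Finset.prod_congr rfl
      intro d _
      exact Equiv.prod_comp (Equiv.mulLeft (⟨σ', hσ'⟩ : ↥Sg))
        (fun d' : ↥Sg => act ((((Equiv.mulLeft (⟨σ, hσ⟩ : ↥S0)) d : ↥S0) : 𝔊) * (d' : 𝔊)) ψ)
    -- `ν ψ ^ |Sg| = Ψ`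
    have hpow : ν ψ ^ Nat.card Sg = 1 := by
      rw [← hΨ1, hΨdef, ← map_pow, hν]
      have h1 : ψ ^ Nat.card Sg = ∏ d' : ↥Sg, act (d' : 𝔊) ψ := by
        simp only [fun d' : ↥Sg => hSgfix d' d'.2]
        rw [Finset.prod_const, Finset.card_univ, Nat.card_eq_fintype_card]
      rw [h1]
      apply Finset.prod_congr rfl
      intro d _
      rw [map_prod]
      apply Finset.prod_congr rfl
      intro d' _
      rw [map_mul, MulAut.mul_apply]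
    have hpowN : ν ψ ^ N = 1 := h.hexp _ (hνX ψ hψX)
    have hcop : N.Coprime (Nat.card Sg) :=
      Nat.Coprime.coprime_dvd_right (Subgroup.card_dvd_of_le hSgT) h.hNT
    have := pow_gcd_eq_one.mpr ⟨hpowN, hpow⟩
    rwa [hcop.gcd_eq_one, pow_one] at this
  -- conclusion
  have h1 : ν Nm = χ ^ Nat.card S0 := by
    rw [hNmdef, map_prod]
    rw [Finset.prod_eq_single (1 : ↥Pa)]
    · rw [Subgroup.coe_one, map_one, MulAut.one_apply, hνχ]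
    · intro g _ hg1
      exact hkill g hg1
    · intro hh
      exact absurd (Finset.mem_univ _) hh
  rw [hNm1, map_one] at h1
  have h2 : χ ^ N = 1 := h.hexp χ hχ
  have hcop : N.Coprime (Nat.card S0) :=
    Nat.Coprime.coprime_dvd_right (Subgroup.card_dvd_of_le hS0T) h.hNT
  have := pow_gcd_eq_one.mpr ⟨h2, h1.symm⟩
  rwa [hcop.gcd_eq_one, pow_one] at this

end ABHyp

end Cfsg.Agent.Lib.H19.PQ
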