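import Mathlib
import Cfsg.Agent.Lib.H19.PQ4

/-!
# The dual abelian core, part 3: the case where `a` is fixed-point-free on `T / T₀` (helper19)

`ABHyp.typeII` : an invariant set `Ω ⊆ X₀` all of whose elements have nontrivial stabilizers in `A`
consists of the trivial element only.
-/

set_option autoImplicit false
set_option linter.unusedSectionVars false
set_option linter.style.haveILetI false
set_option maxHeartbeats 1000000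

namespace Cfsg.Agent.Lib.H19.PQ

variable {𝔊 : Type*} [Group 𝔊] {X : Type*} [CommGroup X]

namespace ABHyp

variable {act : 𝔊 →* MulAut X} {X₀ : Subgroup X} {A T T₀ : Subgroup 𝔊} {p q e : ℕ} {a b : 𝔊}
  {N : ℕ}

theorem act_mul (act : 𝔊 →* MulAut X) (x y : 𝔊) (χ : X) : act (x * y) χ = act x (act y χ) := by
  rw [map_mul, MulAut.mul_apply]

theorem act_inv_act (act : 𝔊 →* MulAut X) (x : 𝔊) (χ : X) : act x⁻¹ (act x χ) = χ := by
  rw [← act_mul, inv_mul_cancel, map_one, MulAut.one_apply]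

theorem act_act_inv (act : 𝔊 →* MulAut X) (x : 𝔊) (χ : X) : act x (act x⁻¹ χ) = χ := by
  rw [← act_mul, mul_inv_cancel, map_one, MulAut.one_apply]

theorem fix_inv {act : 𝔊 →* MulAut X} {x : 𝔊} {χ : X} (h : act x χ = χ) : act x⁻¹ χ = χ := by
  conv_lhs => rw [← h]
  exact act_inv_act act x χ

theorem fix_zpowers {act : 𝔊 →* MulAut X} {x y : 𝔊} {χ : X} (h : act x χ = χ)
    (hy : y ∈ Subgroup.zpowers x) : act y χ = χ := by
  have h1 : Subgroup.zpowers x ≤ Stab act χ := Subgroup.zpowers_le.mpr h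
  exact h1 hy

/-- a nontrivial element of `⟨a⟩` is fixed-point-free on `T / T₀` -/
theorem fpf_of_mem (h : ABHyp act X₀ A T T₀ p q e a b N)
    (hfpf : ∀ x ∈ T, a * x * a⁻¹ * x⁻¹ ∈ T₀ → x ∈ T₀) {g : 𝔊} (hg : g ∈ Subgroup.zpowers a)
    (hg1 : g ≠ 1) : ∀ x ∈ T, g * x * g⁻¹ * x⁻¹ ∈ T₀ → x ∈ T₀ := by
  intro x hx hgx
  apply hfpf x hx
  have hgA : g ∈ A := h.zpowers_le hg
  obtain ⟨z, hz⟩ := Subgroup.mem_zpowers_iff.mp (h.frob.a_mem_zpowers hg hg1)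
  rw [← hz]
  -- closure of the property under powers
  have hmul : ∀ u v : 𝔊, u ∈ A → u * x * u⁻¹ * x⁻¹ ∈ T₀ → v * x * v⁻¹ * x⁻¹ ∈ T₀ →
      (u * v) * x * (u * v)⁻¹ * x⁻¹ ∈ T₀ := by
    intro u v hu h1 h2
    have e1 : (u * v) * x * (u * v)⁻¹ * x⁻¹ = (u * (v * x * v⁻¹ * x⁻¹) * u⁻¹) * (u * x * u⁻¹ * x⁻¹) := by
      group
    rw [e1]
    exact T₀.mul_mem (h.conjT₀ hu h2) h1
  have hinv : ∀ u : 𝔊, u ∈ A → u * x * u⁻¹ * x⁻¹ ∈ T₀ → u⁻¹ * x * u⁻¹⁻¹ * x⁻¹ ∈ T₀ := by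
    intro u hu h1
    have e1 : u⁻¹ * x * u⁻¹⁻¹ * x⁻¹ = u⁻¹ * (u * x * u⁻¹ * x⁻¹)⁻¹ * u := by group
    rw [e1]
    exact h.conjT₀' hu (T₀.inv_mem h1)
  have hpow : ∀ n : ℕ, g ^ n * x * (g ^ n)⁻¹ * x⁻¹ ∈ T₀ := by
    intro n
    induction n with
    | zero => simp
    | succ n ih =>
      rw [pow_succ']
      exact hmul g (g ^ n) hgA hgx ih
  cases z with
  | ofNat n => rw [Int.ofNat_eq_natCast, zpow_natCast]; exact hpow n
  | negSucc n =>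
    rw [zpow_negSucc]
    exact hinv _ (A.pow_mem hgA _) (hpow (n + 1))

/-- the stabilizer in `T` is the same along a `T`-orbit -/
theorem stab_orbit (h : ABHyp act X₀ A T T₀ p q e a b N) {χ : X} (hχ : χ ∈ X₀) {x y : 𝔊}
    (hx : x ∈ T) (hy : y ∈ T) : act x (act y χ) = act y χ ↔ act x χ = χ := by
  rw [← act_mul, h.act_comm hx hy hχ, act_mul]
  exact (act y).injective.eq_iff

/-- Step 1: an element of `Ω` fixed by `a` is trivial -/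
theorem step1 [Finite 𝔊] (h : ABHyp act X₀ A T T₀ p q e a b N)
    (hfpf : ∀ x ∈ T, a * x * a⁻¹ * x⁻¹ ∈ T₀ → x ∈ T₀)
    (hirr : ∀ T₁ : Subgroup 𝔊, T₁ ≤ T → T₀ ≤ T₁ → A ≤ Subgroup.normalizer (T₁ : Set 𝔊) →
      T₁ = T₀ ∨ T₁ = T)
    (Ω : Set X) (hΩX : Ω ⊆ X₀) (hΩT : ∀ x ∈ T, ∀ χ ∈ Ω, act x χ ∈ Ω)
    (hstab : ∀ χ ∈ Ω, ∃ x ∈ A, x ≠ 1 ∧ act x χ = χ) :
    ∀ χ ∈ Ω, act a χ = χ → χ = 1 := by
  intro χ hχΩ haχ
  have hχ : χ ∈ X₀ := hΩX hχΩ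
  have hfr := h.frob
  obtain ⟨S0, hS0def⟩ : ∃ S0 : Subgroup 𝔊, S0 = T ⊓ Stab act χ := ⟨_, rfl⟩
  have hS0T : S0 ≤ T := by rw [hS0def]; exact inf_le_left
  have hT₀S0 : T₀ ≤ S0 := by rw [hS0def]; exact h.T₀_le_Stab hχ
  have hS0fix : ∀ d ∈ S0, act d χ = χ := by
    intro d hd
    rw [hS0def] at hd
    exact hd.2
  have hTS0 : T ≤ S0 → χ = 1 := by
    intro hle
    apply h.hCT χ hχ
    intro x hx
    exact hS0fix x (hle hx)
  by_cases hall : ∀ y ∈ T, act a (act y χ) = act y χ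
  · -- (1b)
    apply hTS0
    apply h.le_of_comm hfpf hT₀S0
    intro y hy
    rw [hS0def, Subgroup.mem_inf]
    refine ⟨T.mul_mem (h.conjT hfr.ha hy) (T.inv_mem hy), ?_⟩
    rw [mem_Stab]
    have h1 := hall y⁻¹ (T.inv_mem hy)
    have e1 : a * y * a⁻¹ * y⁻¹ = a * (y * (a⁻¹ * y⁻¹)) := by group
    calc act (a * y * a⁻¹ * y⁻¹) χ = act a (act y (act a⁻¹ (act y⁻¹ χ))) := by
          rw [e1, act_mul act a, act_mul act y, act_mul act a⁻¹]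
      _ = act a (act y (act y⁻¹ χ)) := by rw [fix_inv h1]
      _ = act a χ := by rw [act_act_inv]
      _ = χ := haχ
  · -- (1a)
    push Not at hall
    obtain ⟨y, hy, hay⟩ := hall
    obtain ⟨ψ, hψdef⟩ : ∃ ψ : X, ψ = act y χ := ⟨_, rfl⟩
    rw [← hψdef] at hay
    have hψΩ : ψ ∈ Ω := by rw [hψdef]; exact hΩT y hy χ hχΩ
    obtain ⟨x, hxA, hx1, hxψ⟩ := hstab ψ hψΩ
    rcases hfr.cases hxA hx1 with hcase | ⟨g, hg, hcase⟩
    · exact absurd (fix_zpowers hxψ hcase) hay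
    obtain ⟨b', hb'def⟩ : ∃ b' : 𝔊, b' = g * b * g⁻¹ := ⟨_, rfl⟩
    rw [← hb'def] at hcase
    have h' : ABHyp act X₀ A T T₀ p q e a b' N := by rw [hb'def]; exact h.conj_b hg
    have hfr' := h'.frob
    have hb'ψ : act b' ψ = ψ := fix_zpowers hxψ hcase
    -- `S0` is also the stabilizer of `ψ`
    have hS0ψ : ∀ d ∈ T, d ∈ S0 ↔ act d ψ = ψ := by
      intro d hd
      rw [hψdef, h.stab_orbit hχ hd hy, hS0def, Subgroup.mem_inf, mem_Stab]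
      exact ⟨fun hh => hh.2, fun hh => ⟨hd, hh⟩⟩
    -- `A` normalizes `S0`
    have hAS0 : A ≤ Subgroup.normalizer (S0 : Set 𝔊) := by
      intro u hu
      revert u
      apply hfr'.induction (P := fun u => u ∈ Subgroup.normalizer (S0 : Set 𝔊))
      · exact Subgroup.one_mem _
      · intro u v hu hv
        exact Subgroup.mul_mem _ hu hv
      · apply Cfsg.Agent.Lib.H19.Ward.mem_normalizer_of_conj
        · intro d hd
          rw [hS0def, Subgroup.mem_inf]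
          refine ⟨h.conjT hfr.ha (hS0T hd), ?_⟩
          have := (Stab_act act χ a d).mpr (hS0fix d hd)
          rwa [haχ] at this
        · intro d hd
          rw [hS0def, Subgroup.mem_inf]
          refine ⟨h.conjT' hfr.ha (hS0T hd), ?_⟩
          have := (Stab_act act χ a⁻¹ d).mpr (hS0fix d hd)
          rwa [fix_inv haχ, inv_inv] at this
      · apply Cfsg.Agent.Lib.H19.Ward.mem_normalizer_of_conj
        · intro d hd
          have hdT := hS0T hd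
          rw [hS0ψ _ (h.conjT hfr'.hb hdT)]
          have := (Stab_act act ψ b' d).mpr ((hS0ψ d hdT).mp hd)
          rwa [hb'ψ] at this
        · intro d hd
          have hdT := hS0T hd
          rw [hS0ψ _ (h.conjT' hfr'.hb hdT)]
          have := (Stab_act act ψ b'⁻¹ d).mpr ((hS0ψ d hdT).mp hd)
          rwa [fix_inv hb'ψ, inv_inv] at this
    rcases hirr S0 hS0T hT₀S0 hAS0 with hS0 | hS0
    · -- `S0 = T₀`
      obtain ⟨β, hβdef⟩ : ∃ β : 𝔊, β = y⁻¹ * b' * y := ⟨_, rfl⟩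
      have hβχ : act β χ = χ := by
        have := (Stab_act act ψ y⁻¹ b').mpr hb'ψ
        rw [hψdef, act_inv_act, inv_inv, mem_Stab] at this
        rw [hβdef]
        exact this
      obtain ⟨d, hddef⟩ : ∃ d : 𝔊, d = b'⁻¹ * y⁻¹ * b' * y := ⟨_, rfl⟩
      have hdT : d ∈ T := by
        rw [hddef]
        exact T.mul_mem (h.conjT' hfr'.hb (T.inv_mem hy)) hy
      have hβd : β = b' * d := by rw [hβdef, hddef]; group
      -- the element `b' (a⁻¹ d a d⁻¹) b'⁻¹`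
      obtain ⟨d', hd'def⟩ : ∃ d' : 𝔊, d' = a⁻¹ * d * a * d⁻¹ := ⟨_, rfl⟩
      have hd'T : d' ∈ T := by
        rw [hd'def]
        exact T.mul_mem (h.conjT' hfr.ha hdT) (T.inv_mem hdT)
      have hkey : (a ^ e)⁻¹ * β * a * β⁻¹ = b' * d' * b'⁻¹ := by
        have h1 : (a ^ e)⁻¹ = b' * a⁻¹ * b'⁻¹ := by
          rw [← hfr'.hrel]; group
        rw [h1, hβd, hd'def]
        group
      have hfix : act (b' * d' * b'⁻¹) χ = χ := by
        rw [← hkey, act_mul, act_mul, act_mul, fix_inv hβχ, haχ, hβχ]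
        apply fix_inv
        exact fix_zpowers haχ (Subgroup.pow_mem _ (Subgroup.mem_zpowers a) e)
      have h2 : b' * d' * b'⁻¹ ∈ T₀ := by
        rw [← hS0, hS0def, Subgroup.mem_inf]
        exact ⟨h.conjT hfr'.hb hd'T, hfix⟩
      have h3 : d' ∈ T₀ := by
        have := h.conjT₀' hfr'.hb h2
        have e1 : b'⁻¹ * (b' * d' * b'⁻¹) * b' = d' := by group
        rwa [e1] at this
      have h4 : a * d * a⁻¹ * d⁻¹ ∈ T₀ := by
        have h5 := h.conjT₀ hfr.ha h3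
        have h6 := T₀.inv_mem h5
        have e1 : (a * d' * a⁻¹)⁻¹ = a * d * a⁻¹ * d⁻¹ := by rw [hd'def]; group
        rwa [e1] at h6
      have hdT₀ : d ∈ T₀ := hfpf d hdT h4
      have hb'χ : act b' χ = χ := by
        have e1 : b' = β * d⁻¹ := by rw [hβd]; group
        rw [e1, act_mul, fix_inv (h.htriv d hdT₀ χ hχ), hβχ]
      apply h.hCA χ hχ
      apply hfr'.induction (P := fun u => act u χ = χ)
      · simp
      · intro u v hu hv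
        rw [act_mul, hv, hu]
      · exact haχ
      · exact hb'χ
    · -- `S0 = T`
      exact hTS0 hS0.ge

/-- Step 2 -/
theorem step2 [Finite 𝔊] (h : ABHyp act X₀ A T T₀ p q e a b N)
    (hfpf : ∀ x ∈ T, a * x * a⁻¹ * x⁻¹ ∈ T₀ → x ∈ T₀)
    (Ω : Set X) (hΩX : Ω ⊆ X₀) (hΩT : ∀ x ∈ T, ∀ χ ∈ Ω, act x χ ∈ Ω)
    (hstab : ∀ χ ∈ Ω, ∃ x ∈ A, x ≠ 1 ∧ act x χ = χ)
    (hstep1 : ∀ χ ∈ Ω, act a χ = χ → χ = 1) :
    ∀ χ ∈ Ω, act b χ = χ → χ = 1 := by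
  intro χ hχΩ hbχ
  by_contra hχ1
  have hχ : χ ∈ X₀ := hΩX hχΩ
  have hfr := h.frob
  apply hχ1
  apply h.ind hfpf hχ hbχ
  intro y hy
  obtain ⟨ψ, hψdef⟩ : ∃ ψ : X, ψ = act y χ := ⟨_, rfl⟩
  have hψΩ : ψ ∈ Ω := by rw [hψdef]; exact hΩT y hy χ hχΩ
  have hψ1 : ψ ≠ 1 := by
    intro hh
    apply hχ1
    rw [hψdef] at hh
    have := congrArg (act y⁻¹) hh
    rwa [act_inv_act, map_one] at this
  obtain ⟨x, hxA, hx1, hxψ⟩ := hstab ψ hψΩ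
  rcases hfr.cases hxA hx1 with hcase | ⟨g, hg, hcase⟩
  · exact absurd (hstep1 ψ hψΩ (fix_zpowers hxψ hcase)) hψ1
  have hgA : g ∈ A := h.zpowers_le hg
  obtain ⟨b', hb'def⟩ : ∃ b' : 𝔊, b' = g * b * g⁻¹ := ⟨_, rfl⟩
  rw [← hb'def] at hcase
  have hb'A : b' ∈ A := by
    rw [hb'def]; exact A.mul_mem (A.mul_mem hgA hfr.hb) (A.inv_mem hgA)
  have hb'ψ : act b' ψ = ψ := fix_zpowers hxψ hcase
  obtain ⟨β, hβdef⟩ : ∃ β : 𝔊, β = y⁻¹ * b' * y := ⟨_, rfl⟩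
  have hβχ : act β χ = χ := by
    have := (Stab_act act ψ y⁻¹ b').mpr hb'ψ
    rw [hψdef, act_inv_act, inv_inv, mem_Stab] at this
    rw [hβdef]
    exact this
  by_cases hg1 : g = 1
  · -- `b' = b`
    have hb'b : b' = b := by rw [hb'def, hg1]; group
    have e1 : b⁻¹ * y⁻¹ * b * y = b⁻¹ * β := by rw [hβdef, hb'b]; group
    rw [e1, act_mul, hβχ, fix_inv hbχ]
  · -- contradiction
    exfalso
    obtain ⟨c₀, hc₀def⟩ : ∃ c₀ : 𝔊, c₀ = g * b * g⁻¹ * b⁻¹ := ⟨_, rfl⟩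
    have hc₀a : c₀ ∈ Subgroup.zpowers a := by rw [hc₀def]; exact hfr.comm_mem hg
    have hc₀1 : c₀ ≠ 1 := by rw [hc₀def]; exact hfr.comm_ne_one hg hg1
    have hc₀A : c₀ ∈ A := h.zpowers_le hc₀a
    have hb'c : b' = c₀ * b := by rw [hb'def, hc₀def]; group
    obtain ⟨d, hddef⟩ : ∃ d : 𝔊, d = b'⁻¹ * y⁻¹ * b' * y := ⟨_, rfl⟩
    have hdT : d ∈ T := by
      rw [hddef]
      exact T.mul_mem (h.conjT' hb'A (T.inv_mem hy)) hy
    obtain ⟨d₂, hd₂def⟩ : ∃ d₂ : 𝔊, d₂ = b * d * b⁻¹ := ⟨_, rfl⟩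
    have hd₂T : d₂ ∈ T := by rw [hd₂def]; exact h.conjT hfr.hb hdT
    obtain ⟨γ, hγdef⟩ : ∃ γ : 𝔊, γ = c₀ * d₂ := ⟨_, rfl⟩
    have hγβ : γ = β * b⁻¹ := by
      rw [hγdef, hd₂def, hβdef, hddef, hb'c]; group
    have hγχ : act γ χ = χ := by rw [hγβ, act_mul, fix_inv hbχ, hβχ]
    -- surjectivity
    have hc₀inv1 : c₀⁻¹ ≠ 1 := fun hh => hc₀1 (inv_eq_one.mp hh)
    have hfpf' := h.fpf_of_mem hfpf (Subgroup.inv_mem _ hc₀a) hc₀inv1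
    obtain ⟨y₂, hy₂, hz⟩ := surj_of_fpf_section h.hT₀T h.hcomm (h.hAT (A.inv_mem hc₀A))
      (h.hAT₀ (A.inv_mem hc₀A)) hfpf' d₂ hd₂T
    rw [inv_inv] at hz
    obtain ⟨z, hzdef⟩ : ∃ z : 𝔊, z = c₀⁻¹ * y₂ * c₀ * y₂⁻¹ * d₂⁻¹ := ⟨_, rfl⟩
    rw [← hzdef] at hz
    have e1 : y₂ * c₀ * y₂⁻¹ = (c₀ * z * c₀⁻¹) * γ := by rw [hzdef, hγdef]; group
    have hfix : act (y₂ * c₀ * y₂⁻¹) χ = χ := by
      rw [e1, act_mul, hγχ]
      exact h.htriv _ (h.conjT₀ hc₀A hz) χ hχ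
    have hc₀ψ₂ : act c₀ (act y₂⁻¹ χ) = act y₂⁻¹ χ := by
      have := (Stab_act act χ y₂⁻¹ (y₂ * c₀ * y₂⁻¹)).mpr hfix
      rw [mem_Stab] at this
      have e2 : y₂⁻¹ * (y₂ * c₀ * y₂⁻¹) * y₂⁻¹⁻¹ = c₀ := by group
      rwa [e2] at this
    have haψ₂ : act a (act y₂⁻¹ χ) = act y₂⁻¹ χ :=
      fix_zpowers hc₀ψ₂ (hfr.a_mem_zpowers hc₀a hc₀1)
    have hψ₂Ω : act y₂⁻¹ χ ∈ Ω := hΩT _ (T.inv_mem hy₂) χ hχΩ
    have h1 := hstep1 _ hψ₂Ω haψ₂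
    apply hχ1
    have := congrArg (act y₂) h1
    rwa [act_act_inv, map_one] at this

/-- **the dual abelian core**, fixed-point-free case -/
theorem typeII [Finite 𝔊] (h : ABHyp act X₀ A T T₀ p q e a b N)
    (hfpf : ∀ x ∈ T, a * x * a⁻¹ * x⁻¹ ∈ T₀ → x ∈ T₀)
    (hirr : ∀ T₁ : Subgroup 𝔊, T₁ ≤ T → T₀ ≤ T₁ → A ≤ Subgroup.normalizer (T₁ : Set 𝔊) →
      T₁ = T₀ ∨ T₁ = T)
    (Ω : Set X) (hΩX : Ω ⊆ X₀) (hΩT : ∀ x ∈ T, ∀ χ ∈ Ω, act x χ ∈ Ω)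
    (hstab : ∀ χ ∈ Ω, ∃ x ∈ A, x ≠ 1 ∧ act x χ = χ) :
    ∀ χ ∈ Ω, χ = 1 := by
  have hs1 := h.step1 hfpf hirr Ω hΩX hΩT hstab
  intro χ hχΩ
  obtain ⟨x, hxA, hx1, hxχ⟩ := hstab χ hχΩ
  rcases h.frob.cases hxA hx1 with hcase | ⟨g, hg, hcase⟩
  · exact hs1 χ hχΩ (fix_zpowers hxχ hcase)
  · exact (h.conj_b hg).step2 hfpf Ω hΩX hΩT hstab hs1 χ hχΩ (fix_zpowers hxχ hcase)

end ABHyp

end Cfsg.Agent.Lib.H19.PQ
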