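import Mathlib
import Cfsg.Agent.Lib.H19.PQ5

/-!
# The dual abelian core, part 4: the case where `a` centralizes `T` (helper19)
-/

set_option autoImplicit false
set_option linter.unusedSectionVars false
set_option linter.style.haveILetI false
set_option maxHeartbeats 1000000

namespace Cfsg.Agent.Lib.H19.PQ

variable {𝔊 : Type*} [Group 𝔊] {X : Type*} [CommGroup X]

namespace ABHyp

variable {act : 𝔊 →* MulAut X} {X₀ : Subgroup X} {A T T₀ : Subgroup 𝔊} {p q e : ℕ} {a b : 𝔊}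
  {N : ℕ}

theorem typeI_aux [Finite 𝔊] (h : ABHyp act X₀ A T T₀ p q e a b N)
    (hcen : ∀ x ∈ T, a * x = x * a)
    (hafpf : ∀ χ ∈ X₀, act a χ = χ → χ = 1)
    (hpT : (Nat.card T).Coprime p)
    (hgenb : ∀ D : Subgroup 𝔊, T₀ ≤ D → (∀ y ∈ T, b⁻¹ * y⁻¹ * b * y ∈ D) → T ≤ D)
    (Ω : Set X) (hΩX : Ω ⊆ X₀) (hΩT : ∀ x ∈ T, ∀ χ ∈ Ω, act x χ ∈ Ω)
    (hstab : ∀ χ ∈ Ω, ∃ x ∈ A, x ≠ 1 ∧ act x χ = χ) :
    ∀ χ ∈ Ω, act b χ = χ → χ = 1 := by
  intro χ hχΩ hbχ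
  by_contra hχ1
  have hχ : χ ∈ X₀ := hΩX hχΩ
  have hfr := h.frob
  apply hχ1
  apply h.hCT χ hχ
  have hle : T ≤ T ⊓ Stab act χ := by
    apply hgenb _ (h.T₀_le_Stab hχ)
    intro y hy
    rw [Subgroup.mem_inf]
    refine ⟨T.mul_mem (h.conjT' hfr.hb (T.inv_mem hy)) hy, ?_⟩
    rw [mem_Stab]
    obtain ⟨ψ, hψdef⟩ : ∃ ψ : X, ψ = act y χ := ⟨_, rfl⟩
    have hψΩ : ψ ∈ Ω := by rw [hψdef]; exact hΩT y hy χ hχΩ
    have hψ1 : ψ ≠ 1 := by
      intro hh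
      apply hχ1
      rw [hψdef] at hh
      have := congrArg (act y⁻¹) hh
      rwa [act_inv_act, map_one] at this
    obtain ⟨x, hxA, hx1, hxψ⟩ := hstab ψ hψΩ
    rcases hfr.cases hxA hx1 with hcase | ⟨g, hg, hcase⟩
    · exact absurd (hafpf ψ (hΩX hψΩ) (fix_zpowers hxψ hcase)) hψ1
    have hgA : g ∈ A := h.zpowers_le hg
    obtain ⟨b', hb'def⟩ : ∃ b' : 𝔊, b' = g * b * g⁻¹ := ⟨_, rfl⟩
    rw [← hb'def] at hcase
    have hb'ψ : act b' ψ = ψ := fix_zpowers hxψ hcase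
    obtain ⟨β, hβdef⟩ : ∃ β : 𝔊, β = y⁻¹ * b' * y := ⟨_, rfl⟩
    have hβχ : act β χ = χ := by
      have := (Stab_act act ψ y⁻¹ b').mpr hb'ψ
      rw [hψdef, act_inv_act, inv_inv, mem_Stab] at this
      rw [hβdef]
      exact this
    by_cases hg1 : g = 1
    · have hb'b : b' = b := by rw [hb'def, hg1]; group
      have e1 : b⁻¹ * y⁻¹ * b * y = b⁻¹ * β := by rw [hβdef, hb'b]; group
      rw [e1, act_mul, hβχ, fix_inv hbχ]
    · exfalso
      obtain ⟨c₀, hc₀def⟩ : ∃ c₀ : 𝔊, c₀ = g * b * g⁻¹ * b⁻¹ := ⟨_, rfl⟩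
      have hc₀a : c₀ ∈ Subgroup.zpowers a := by rw [hc₀def]; exact hfr.comm_mem hg
      have hc₀1 : c₀ ≠ 1 := by rw [hc₀def]; exact hfr.comm_ne_one hg hg1
      have hb'c : b' = c₀ * b := by rw [hb'def, hc₀def]; group
      -- `c₀` commutes with `T`
      have hc₀T : ∀ x ∈ T, Commute c₀ x := by
        intro x hx
        obtain ⟨z, rfl⟩ := Subgroup.mem_zpowers_iff.mp hc₀a
        exact (show Commute a x from hcen x hx).zpow_left z
      obtain ⟨d, hddef⟩ : ∃ d : 𝔊, d = y⁻¹ * (b * y * b⁻¹) := ⟨_, rfl⟩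
      have hdT : d ∈ T := by
        rw [hddef]; exact T.mul_mem (T.inv_mem hy) (h.conjT hfr.hb hy)
      have hγ : β * b⁻¹ = c₀ * d := by
        have h1 := (hc₀T y⁻¹ (T.inv_mem hy)).eq
        calc β * b⁻¹ = y⁻¹ * c₀ * (b * y * b⁻¹) := by rw [hβdef, hb'c]; group
          _ = c₀ * y⁻¹ * (b * y * b⁻¹) := by rw [h1]
          _ = c₀ * d := by rw [hddef]; group
      have hγχ : act (c₀ * d) χ = χ := by rw [← hγ, act_mul, fix_inv hbχ, hβχ]
      have hcd : Commute c₀ d := hc₀T d hdT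
      have hpow : (c₀ * d) ^ Nat.card T = c₀ ^ Nat.card T := by
        rw [hcd.mul_pow]
        have h1 : d ^ Nat.card T = 1 := by
          have h2 : (⟨d, hdT⟩ : ↥T) ^ Nat.card T = 1 := pow_card_eq_one'
          have h3 := congrArg (Subtype.val : ↥T → 𝔊) h2
          rw [Subgroup.coe_pow, Subgroup.coe_one] at h3
          exact h3
        rw [h1, mul_one]
      have hfix : act (c₀ ^ Nat.card T) χ = χ := by
        rw [← hpow]
        exact fix_zpowers hγχ (Subgroup.pow_mem _ (Subgroup.mem_zpowers _) _)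
      have hne : c₀ ^ Nat.card T ≠ 1 := by
        intro hh
        have h1 : orderOf c₀ ∣ Nat.card T := orderOf_dvd_of_pow_eq_one hh
        have h2 : orderOf c₀ = p := by
          have h3 : orderOf c₀ ∣ p := by
            apply orderOf_dvd_of_pow_eq_one
            obtain ⟨z, rfl⟩ := Subgroup.mem_zpowers_iff.mp hc₀a
            rw [← zpow_natCast, ← zpow_mul, mul_comm, zpow_mul, zpow_natCast, hfr.hap, one_zpow]
          rcases (Nat.dvd_prime hfr.hp).mp h3 with h4 | h4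
          · exact absurd (orderOf_eq_one_iff.mp h4) hc₀1
          · exact h4
        rw [h2] at h1
        have h3 := Nat.Coprime.eq_one_of_dvd hpT.symm h1
        exact hfr.hp.one_lt.ne' h3
      have haχ : act a χ = χ :=
        fix_zpowers hfix (hfr.a_mem_zpowers (Subgroup.pow_mem _ hc₀a _) hne)
      exact hχ1 (hafpf χ hχ haχ)
  intro x hx
  exact (hle hx).2

/-- **the dual abelian core**, central case -/
theorem typeI [Finite 𝔊] (h : ABHyp act X₀ A T T₀ p q e a b N)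
    (hcen : ∀ x ∈ T, a * x = x * a)
    (hafpf : ∀ χ ∈ X₀, act a χ = χ → χ = 1)
    (hpT : (Nat.card T).Coprime p)
    (hgenb : ∀ g ∈ Subgroup.zpowers a, ∀ D : Subgroup 𝔊, T₀ ≤ D →
      (∀ y ∈ T, (g * b * g⁻¹)⁻¹ * y⁻¹ * (g * b * g⁻¹) * y ∈ D) → T ≤ D)
    (Ω : Set X) (hΩX : Ω ⊆ X₀) (hΩT : ∀ x ∈ T, ∀ χ ∈ Ω, act x χ ∈ Ω)
    (hstab : ∀ χ ∈ Ω, ∃ x ∈ A, x ≠ 1 ∧ act x χ = χ) :
    ∀ χ ∈ Ω, χ = 1 := by
  intro χ hχΩ
  obtain ⟨x, hxA, hx1, hxχ⟩ := hstab χ hχΩ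
  rcases h.frob.cases hxA hx1 with hcase | ⟨g, hg, hcase⟩
  · exact hafpf χ (hΩX hχΩ) (fix_zpowers hxχ hcase)
  · exact (h.conj_b hg).typeI_aux hcen hafpf hpT (hgenb g hg) Ω hΩX hΩT hstab χ hχΩ
      (fix_zpowers hxχ hcase)

end ABHyp

end Cfsg.Agent.Lib.H19.PQ
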