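import Mathlib
import Cfsg.Agent.Lib.H19.PQ1
import Cfsg.Agent.Lib.H19.SG2

/-!
# Conjugation action on functions, characters of subgroups, weights (helper19)

* `cjAct : Γ →* MulAut (Γ → kˣ)` : `(g • χ) u = χ (g⁻¹ u g)`.
* `Chr S D` : the functions that are characters on `S`, trivial on `D` and `1` outside `S`.
* `map_wtS` : `ρ g` maps the weight space of `χ` to that of `g • χ`.
* `exists_stab_of_wt`, `fpf_wt_b`, `fpf_wt_a` : stabilizers of weights in a group `A = ⟨a⟩ ⋊ ⟨b⟩`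
  without nonzero fixed vectors.
-/

set_option autoImplicit false
set_option linter.unusedSectionVars false
set_option linter.style.haveILetI false
set_option maxHeartbeats 1000000

namespace Cfsg.Agent.Lib.H19.PQ

open Module Cfsg.Agent.Lib.H19.Ward Cfsg.Agent.Lib.H19.SG

variable {Γ : Type*} [Group Γ] {k : Type*} [Field k]

/-- the conjugation action on functions -/
def cjAct : Γ →* MulAut (Γ → kˣ) where
  toFun g :=
    { toFun := fun χ u => χ (g⁻¹ * u * g)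
      invFun := fun χ u => χ (g * u * g⁻¹)
      left_inv := by
        intro χ
        funext u
        dsimp only
        congr 1
        group
      right_inv := by
        intro χ
        funext u
        dsimp only
        congr 1
        group
      map_mul' := by
        intro χ χ'
        rfl }
  map_one' := by
    apply MulEquiv.ext
    intro χ
    funext u
    show χ (1⁻¹ * u * 1) = χ u
    congr 1
    group
  map_mul' := by
    intro g h
    apply MulEquiv.ext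
    intro χ
    funext u
    show χ ((g * h)⁻¹ * u * (g * h)) = χ (h⁻¹ * (g⁻¹ * u * g) * h)
    congr 1
    group

@[simp] theorem cjAct_apply (g : Γ) (χ : Γ → kˣ) (u : Γ) :
    (cjAct (k := k) g χ) u = χ (g⁻¹ * u * g) := rfl

/-- characters of `S` trivial on `D`, extended by `1` -/
def Chr (k : Type*) [Field k] (S D : Subgroup Γ) : Subgroup (Γ → kˣ) where
  carrier := {χ | (∀ u, u ∉ S → χ u = 1) ∧ (∀ u ∈ S, ∀ v ∈ S, χ (u * v) = χ u * χ v) ∧
    ∀ u ∈ D, χ u = 1}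
  one_mem' := by
    refine ⟨fun u _ => rfl, fun u _ v _ => ?_, fun u _ => rfl⟩
    simp
  mul_mem' := by
    rintro χ χ' ⟨h1, h2, h3⟩ ⟨h1', h2', h3'⟩
    refine ⟨fun u hu => ?_, fun u hu v hv => ?_, fun u hu => ?_⟩
    · rw [Pi.mul_apply, h1 u hu, h1' u hu, one_mul]
    · rw [Pi.mul_apply, Pi.mul_apply, Pi.mul_apply, h2 u hu v hv, h2' u hu v hv]
      exact mul_mul_mul_comm _ _ _ _
    · rw [Pi.mul_apply, h3 u hu, h3' u hu, one_mul]
  inv_mem' := by
    rintro χ ⟨h1, h2, h3⟩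
    refine ⟨fun u hu => ?_, fun u hu v hv => ?_, fun u hu => ?_⟩
    · rw [Pi.inv_apply, h1 u hu, inv_one]
    · rw [Pi.inv_apply, Pi.inv_apply, Pi.inv_apply, h2 u hu v hv, mul_inv]
    · rw [Pi.inv_apply, h3 u hu, inv_one]

theorem mem_Chr {S D : Subgroup Γ} {χ : Γ → kˣ} : χ ∈ Chr k S D ↔
    (∀ u, u ∉ S → χ u = 1) ∧ (∀ u ∈ S, ∀ v ∈ S, χ (u * v) = χ u * χ v) ∧ ∀ u ∈ D, χ u = 1 :=
  Iff.rfl

namespace Chr

variable {S D : Subgroup Γ} {χ : Γ → kˣ}

theorem map_one (h : χ ∈ Chr k S D) : χ 1 = 1 := by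
  have h1 := h.2.1 1 S.one_mem 1 S.one_mem
  rw [mul_one] at h1
  exact (mul_eq_left.mp h1.symm)

theorem map_mul (h : χ ∈ Chr k S D) {u v : Γ} (hu : u ∈ S) (hv : v ∈ S) :
    χ (u * v) = χ u * χ v := h.2.1 u hu v hv

theorem map_inv (h : χ ∈ Chr k S D) {u : Γ} (hu : u ∈ S) : χ u⁻¹ = (χ u)⁻¹ := by
  have h1 := h.2.1 u hu u⁻¹ (S.inv_mem hu)
  rw [mul_inv_cancel, map_one h] at h1
  exact (eq_inv_of_mul_eq_one_right h1.symm)

theorem map_pow (h : χ ∈ Chr k S D) {u : Γ} (hu : u ∈ S) (n : ℕ) : χ (u ^ n) = χ u ^ n := by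
  induction n with
  | zero => rw [pow_zero, pow_zero, map_one h]
  | succ n ih => rw [pow_succ, map_mul h (S.pow_mem hu n) hu, ih, pow_succ]

/-- invariance under the normalizer -/
theorem cjAct_mem (h : χ ∈ Chr k S D) {g : Γ} (hgS : g ∈ Subgroup.normalizer (S : Set Γ))
    (hgD : g ∈ Subgroup.normalizer (D : Set Γ)) : cjAct g χ ∈ Chr k S D := by
  have hS : ∀ u, g⁻¹ * u * g ∈ S ↔ u ∈ S := by
    intro u
    have := Subgroup.mem_normalizer_iff.mp (Subgroup.inv_mem _ hgS) u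
    rw [inv_inv] at this
    exact this.symm
  have hD : ∀ u, g⁻¹ * u * g ∈ D ↔ u ∈ D := by
    intro u
    have := Subgroup.mem_normalizer_iff.mp (Subgroup.inv_mem _ hgD) u
    rw [inv_inv] at this
    exact this.symm
  refine ⟨fun u hu => ?_, fun u hu v hv => ?_, fun u hu => ?_⟩
  · rw [cjAct_apply]
    exact h.1 _ (fun hh => hu ((hS u).mp hh))
  · rw [cjAct_apply, cjAct_apply, cjAct_apply, ← map_mul h ((hS u).mpr hu) ((hS v).mpr hv)]
    congr 1
    group
  · rw [cjAct_apply]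
    exact h.2.2 _ ((hD u).mpr hu)

/-- the exponent -/
theorem pow_card [Finite Γ] (h : χ ∈ Chr k S D) : χ ^ Nat.card S = 1 := by
  funext u
  rw [Pi.pow_apply, Pi.one_apply]
  by_cases hu : u ∈ S
  · rw [← map_pow h hu]
    have h2 : (⟨u, hu⟩ : ↥S) ^ Nat.card S = 1 := pow_card_eq_one'
    have h3 := congrArg (Subtype.val : ↥S → Γ) h2
    rw [Subgroup.coe_pow, Subgroup.coe_one] at h3
    rw [h3, map_one h]
  · rw [h.1 u hu, one_pow]

/-- the kernel -/
def ker (χ : Γ → kˣ) (S D : Subgroup Γ) (h : χ ∈ Chr k S D) : Subgroup Γ where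
  carrier := {u | u ∈ S ∧ χ u = 1}
  one_mem' := ⟨S.one_mem, map_one h⟩
  mul_mem' := by
    rintro u v ⟨hu, hu1⟩ ⟨hv, hv1⟩
    exact ⟨S.mul_mem hu hv, by rw [map_mul h hu hv, hu1, hv1, one_mul]⟩
  inv_mem' := by
    rintro u ⟨hu, hu1⟩
    exact ⟨S.inv_mem hu, by rw [map_inv h hu, hu1, inv_one]⟩

theorem mem_ker (h : χ ∈ Chr k S D) {u : Γ} : u ∈ ker χ S D h ↔ u ∈ S ∧ χ u = 1 := Iff.rfl

theorem eq_one_of_le_ker (h : χ ∈ Chr k S D) (hle : S ≤ ker χ S D h) : χ = 1 := by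
  funext u
  rw [Pi.one_apply]
  by_cases hu : u ∈ S
  · exact (hle hu).2
  · exact h.1 u hu

/-- a character fixed by `x` is trivial on the commutators with `x` -/
theorem comm_mem_ker (h : χ ∈ Chr k S D) {x : Γ} (hxS : x ∈ Subgroup.normalizer (S : Set Γ))
    (hx : cjAct x χ = χ) {u : Γ} (hu : u ∈ S) : u * x * u⁻¹ * x⁻¹ ∈ ker χ S D h := by
  have h1 : x * u⁻¹ * x⁻¹ ∈ S := (Subgroup.mem_normalizer_iff.mp hxS u⁻¹).mp (S.inv_mem hu)
  have e1 : u * x * u⁻¹ * x⁻¹ = u * (x * u⁻¹ * x⁻¹) := by group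
  rw [mem_ker, e1]
  refine ⟨S.mul_mem hu h1, ?_⟩
  rw [map_mul h hu h1]
  have h2 : χ (x * u⁻¹ * x⁻¹) = χ u⁻¹ := by
    have := congrFun hx (x * u⁻¹ * x⁻¹)
    rw [cjAct_apply] at this
    rw [← this]
    congr 1
    group
  rw [h2, map_inv h hu, mul_inv_cancel]

end Chr

section weights

variable {W : Type*} [AddCommGroup W] [Module k W] (ρ : Representation k Γ W)

/-- the `k`-valued function of `χ` -/
def toK (χ : Γ → kˣ) : Γ → k := fun u => (χ u : k)

theorem map_wtS {B : Subgroup Γ} {χ : Γ → k} {g : Γ} (hg : g ∈ Subgroup.normalizer (B : Set Γ))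
    {w : W} (hw : w ∈ wtS ρ B χ) : ρ g w ∈ wtS ρ B (fun u => χ (g⁻¹ * u * g)) := by
  rw [mem_wtS] at hw ⊢
  intro u hu
  have h1 : g⁻¹ * u * g ∈ B := by
    have := (Subgroup.mem_normalizer_iff.mp (Subgroup.inv_mem _ hg) u).mp hu
    rwa [inv_inv] at this
  have e1 : u * g = g * (g⁻¹ * u * g) := by group
  rw [← Module.End.mul_apply, ← _root_.map_mul, e1, _root_.map_mul, Module.End.mul_apply,
    hw _ h1, _root_.map_smul]

theorem wtS_congr {B : Subgroup Γ} {χ χ' : Γ → k} (h : ∀ u ∈ B, χ u = χ' u) :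
    wtS ρ B χ = wtS ρ B χ' := by
  ext w
  rw [mem_wtS, mem_wtS]
  constructor
  · intro hw u hu
    rw [← h u hu]; exact hw u hu
  · intro hw u hu
    rw [h u hu]; exact hw u hu

theorem toK_cjAct (g : Γ) (χ : Γ → kˣ) (u : Γ) :
    toK (cjAct g χ) u = toK χ (g⁻¹ * u * g) := by
  unfold toK
  rw [cjAct_apply]

theorem map_wtS_cj {B : Subgroup Γ} {χ : Γ → kˣ} {g : Γ}
    (hg : g ∈ Subgroup.normalizer (B : Set Γ)) {w : W} (hw : w ∈ wtS ρ B (toK χ)) :
    ρ g w ∈ wtS ρ B (toK (cjAct g χ)) := by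
  have h1 := map_wtS ρ hg hw
  rw [wtS_congr ρ (χ := toK (cjAct g χ)) (χ' := fun u => toK χ (g⁻¹ * u * g))
    (fun u _ => toK_cjAct g χ u)]
  exact h1

/-- a weight with nonzero weight space comes from a character -/
theorem exists_chr_of_wt {B : Subgroup Γ} {χ : Γ → k} (hW : wtS ρ B χ ≠ ⊥) :
    ∃ χ' ∈ Chr k B ⊥, ∀ u ∈ B, toK χ' u = χ u := by
  classical
  obtain ⟨w, hw, hw0⟩ := Submodule.exists_mem_ne_zero_of_ne_bot hW
  rw [mem_wtS] at hw
  have hne : ∀ u ∈ B, χ u ≠ 0 := by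
    intro u hu h0
    apply hw0
    have h1 := hw u hu
    rw [h0, zero_smul] at h1
    have h2 := congrArg (ρ u⁻¹) h1
    rw [← Module.End.mul_apply, ← _root_.map_mul, inv_mul_cancel, _root_.map_one,
      Module.End.one_apply, _root_.map_zero] at h2
    exact h2
  have hmul : ∀ u ∈ B, ∀ v ∈ B, χ (u * v) = χ u * χ v := by
    intro u hu v hv
    have h1 := hw (u * v) (B.mul_mem hu hv)
    rw [_root_.map_mul, Module.End.mul_apply, hw v hv, _root_.map_smul, hw u hu, smul_smul,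
      mul_comm] at h1
    exact (smul_left_injective k hw0 h1).symm
  have hone : χ 1 = 1 := by
    have h1 := hw 1 B.one_mem
    rw [_root_.map_one, Module.End.one_apply] at h1
    have h2 : (1 : k) • w = χ 1 • w := by rw [one_smul]; exact h1
    exact (smul_left_injective k hw0 h2).symm
  obtain ⟨χ', hχ'def⟩ : ∃ χ' : Γ → kˣ,
      χ' = fun u => if hu : u ∈ B then Units.mk0 (χ u) (hne u hu) else 1 := ⟨_, rfl⟩
  have hpos : ∀ u (hu : u ∈ B), χ' u = Units.mk0 (χ u) (hne u hu) := by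
    intro u hu
    rw [hχ'def]
    exact dif_pos hu
  have hneg : ∀ u, u ∉ B → χ' u = 1 := by
    intro u hu
    rw [hχ'def]
    exact dif_neg hu
  refine ⟨χ', ⟨hneg, fun u hu v hv => ?_, fun u hu => ?_⟩, ?_⟩
  · rw [hpos u hu, hpos v hv, hpos _ (B.mul_mem hu hv)]
    apply Units.ext
    rw [Units.val_mul, Units.val_mk0, Units.val_mk0, Units.val_mk0]
    exact hmul u hu v hv
  · rw [Subgroup.mem_bot] at hu
    subst hu
    rw [hpos 1 B.one_mem]
    apply Units.ext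
    rw [Units.val_mk0, Units.val_one]
    exact hone
  · intro u hu
    show ((χ' u : kˣ) : k) = χ u
    rw [hpos u hu, Units.val_mk0]

variable [FiniteDimensional k W] [Finite Γ]

/-- the operators of a subgroup of order prime to the characteristic are semisimple -/
theorem semisimple_of_mem {B : Subgroup Γ} (hBk : (Nat.card B : k) ≠ 0) (u : ↥B) :
    Module.End.IsSemisimple (ρ (u : Γ)) := by
  apply isSemisimple_of_pow_eq_one hBk
  rw [← _root_.map_pow]
  have h2 : u ^ Nat.card B = 1 := pow_card_eq_one'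
  have h3 := congrArg (Subtype.val : ↥B → Γ) h2
  rw [Subgroup.coe_pow, Subgroup.coe_one] at h3
  rw [h3, _root_.map_one]

/-- existence of a nontrivial stabilizing element -/
theorem exists_stab_of_wt {A B : Subgroup Γ} (hAB : A ≤ Subgroup.normalizer (B : Set Γ))
    (hBk : (Nat.card B : k) ≠ 0) (hBc : ∀ u ∈ B, ∀ v ∈ B, Commute (ρ u) (ρ v))
    (hfixW : ∀ w : W, (∀ x ∈ A, ρ x w = w) → w = 0) {χ : Γ → k} (hW : wtS ρ B χ ≠ ⊥) :
    ∃ x ∈ A, x ≠ 1 ∧ ∀ u ∈ B, χ (x⁻¹ * u * x) = χ u := by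
  classical
  obtain ⟨w, hw, hw0⟩ := Submodule.exists_mem_ne_zero_of_ne_bot hW
  haveI : Fintype ↥A := Fintype.ofFinite _
  have hsum : ∑ x : ↥A, ρ (x : Γ) w = 0 := by
    apply hfixW
    intro y hy
    rw [map_sum]
    have h1 : ∀ x : ↥A, ρ y (ρ (x : Γ) w) = ρ (((⟨y, hy⟩ : ↥A) * x : ↥A) : Γ) w := by
      intro x
      rw [Subgroup.coe_mul, _root_.map_mul, Module.End.mul_apply]
    simp only [h1]
    exact Equiv.sum_comp (Equiv.mulLeft (⟨y, hy⟩ : ↥A)) (fun x : ↥A => ρ (x : Γ) w)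
  have hss : ∀ u : ↥B, Module.End.IsSemisimple (ρ (u : Γ)) := semisimple_of_mem ρ hBk
  have hcomm : ∀ u v : ↥B, Commute (ρ (u : Γ)) (ρ (v : Γ)) := fun u v => hBc u u.2 v v.2
  have hmem : ∀ x ∈ (Finset.univ : Finset ↥A), ρ (x : Γ) w ∈
      wtF (fun u : ↥B => ρ (u : Γ)) (fun u : ↥B => χ ((x : Γ)⁻¹ * (u : Γ) * (x : Γ))) := by
    intro x _
    have := map_wtS ρ (hAB x.2) hw
    exact this
  have hne : ρ ((1 : ↥A) : Γ) w ≠ 0 := by
    rw [Subgroup.coe_one, _root_.map_one, Module.End.one_apply]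
    exact hw0
  obtain ⟨x, -, hx1, hxχ⟩ := exists_ne_of_sum_eq_zero hss hcomm Finset.univ
    (fun (x : ↥A) (u : ↥B) => χ ((x : Γ)⁻¹ * (u : Γ) * (x : Γ)))
    (fun x : ↥A => ρ (x : Γ) w) hmem hsum (Finset.mem_univ (1 : ↥A)) hne
  refine ⟨x, x.2, fun hh => hx1 (Subtype.ext hh), ?_⟩
  intro u hu
  have := congrFun hxχ ⟨u, hu⟩
  simp only [Subgroup.coe_one, inv_one, one_mul, mul_one] at this
  exact this

end weights

end Cfsg.Agent.Lib.H19.PQ
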