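import Mathlib
import Cfsg.Agent.Lib.H19.PQ7
import Cfsg.Agent.Lib.H19.WardA

/-!
# Fixed points on weight spaces for `A = ⟨a⟩ ⋊ ⟨b⟩` (helper19)

* `fpf_wt_b` : if `b` stabilizes the weight `χ` of `B` and no nontrivial element of `⟨a⟩` does,
  then `ρ b` has no nonzero fixed vector in the weight space.
* `fpf_wt_a` : the same for `a`, if no `b ^ j` (`0 < j < q`) stabilizes `χ`.
-/

set_option autoImplicit false
set_option linter.unusedSectionVars false
set_option linter.style.haveILetI false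
set_option maxHeartbeats 1000000

namespace Cfsg.Agent.Lib.H19.PQ

open Module Cfsg.Agent.Lib.H19.Ward Cfsg.Agent.Lib.H19.SG

variable {Γ : Type*} [Group Γ] [Finite Γ] {k : Type*} [Field k]
  {W : Type*} [AddCommGroup W] [Module k W] [FiniteDimensional k W] (ρ : Representation k Γ W)

theorem fix_of_mem_zpowers {x : Γ} {w : W} (h : ρ x w = w) {g : Γ} (hg : g ∈ Subgroup.zpowers x) :
    ρ g w = w := by
  let F : Subgroup Γ :=
    { carrier := {y | ρ y w = w}
      one_mem' := by simp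
      mul_mem' := by
        intro y z hy hz
        change ρ y w = w at hy
        change ρ z w = w at hz
        change ρ (y * z) w = w
        rw [map_mul, Module.End.mul_apply, hz, hy]
      inv_mem' := by
        intro y hy
        change ρ y w = w at hy
        change ρ y⁻¹ w = w
        conv_lhs => rw [← hy]
        rw [← Module.End.mul_apply, ← map_mul, inv_mul_cancel, map_one, Module.End.one_apply] }
  have h1 : Subgroup.zpowers x ≤ F := Subgroup.zpowers_le.mpr h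
  exact h1 hg

theorem fpf_wt_b {A B : Subgroup Γ} {p q e : ℕ} {a b : Γ} (hfr : FrobPQ A p q e a b)
    (hAB : A ≤ Subgroup.normalizer (B : Set Γ))
    (hBk : (Nat.card B : k) ≠ 0) (hBc : ∀ u ∈ B, ∀ v ∈ B, Commute (ρ u) (ρ v))
    (hfixW : ∀ w : W, (∀ x ∈ A, ρ x w = w) → w = 0) {χ : Γ → k}
    (hna : ∀ g ∈ Subgroup.zpowers a, g ≠ 1 → ∃ u ∈ B, χ (g⁻¹ * u * g) ≠ χ u) :
    ∀ w ∈ wtS ρ B χ, ρ b w = w → w = 0 := by
  classical
  intro w hw hbw
  by_contra hw0
  obtain ⟨Pa, hPadef⟩ : ∃ Pa : Subgroup Γ, Pa = Subgroup.zpowers a := ⟨_, rfl⟩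
  have hPaA : Pa ≤ A := by rw [hPadef]; exact Subgroup.zpowers_le.mpr hfr.ha
  have hmemPa : ∀ x : Γ, x ∈ Pa ↔ x ∈ Subgroup.zpowers a := by intro x; rw [hPadef]
  haveI : Fintype ↥Pa := Fintype.ofFinite _
  have haPa : a ∈ Pa := (hmemPa a).mpr (Subgroup.mem_zpowers a)
  obtain ⟨n, hndef⟩ : ∃ n : W, n = ∑ g : ↥Pa, ρ (g : Γ) w := ⟨_, rfl⟩
  have hna' : ρ a n = n := by
    rw [hndef, map_sum]
    have h1 : ∀ g : ↥Pa, ρ a (ρ (g : Γ) w) = ρ (((⟨a, haPa⟩ : ↥Pa) * g : ↥Pa) : Γ) w := by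
      intro g
      rw [Subgroup.coe_mul, map_mul, Module.End.mul_apply]
    simp only [h1]
    exact Equiv.sum_comp (Equiv.mulLeft (⟨a, haPa⟩ : ↥Pa)) (fun g : ↥Pa => ρ (g : Γ) w)
  have hnb : ρ b n = n := by
    rw [hndef, map_sum]
    let cb : ↥Pa ≃ ↥Pa :=
      { toFun := fun g => ⟨b * (g : Γ) * b⁻¹,
          (hmemPa _).mpr (hfr.conj_mem_zpowers ((hmemPa _).mp g.2))⟩
        invFun := fun g => ⟨b⁻¹ * (g : Γ) * b,
          (hmemPa _).mpr (hfr.conj_inv_mem_zpowers ((hmemPa _).mp g.2))⟩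
        left_inv := by intro g; apply Subtype.ext; simp [mul_assoc]
        right_inv := by intro g; apply Subtype.ext; simp [mul_assoc] }
    have h1 : ∀ g : ↥Pa, ρ b (ρ (g : Γ) w) = ρ ((cb g : ↥Pa) : Γ) w := by
      intro g
      show ρ b (ρ (g : Γ) w) = ρ (b * (g : Γ) * b⁻¹) w
      calc ρ b (ρ (g : Γ) w) = ρ (b * (g : Γ)) w := by rw [map_mul, Module.End.mul_apply]
        _ = ρ (b * (g : Γ) * b⁻¹ * b) w := by
            congr 2
            group
        _ = ρ (b * (g : Γ) * b⁻¹) (ρ b w) := by rw [map_mul, Module.End.mul_apply]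
        _ = ρ (b * (g : Γ) * b⁻¹) w := by rw [hbw]
    simp only [h1]
    exact Equiv.sum_comp cb (fun g : ↥Pa => ρ (g : Γ) w)
  have hn0 : n = 0 := by
    apply hfixW
    apply hfr.induction (P := fun x => ρ x n = n)
    · simp
    · intro x y hx hy
      rw [map_mul, Module.End.mul_apply, hy, hx]
    · exact hna'
    · exact hnb
  have hss : ∀ u : ↥B, Module.End.IsSemisimple (ρ (u : Γ)) := semisimple_of_mem ρ hBk
  have hcomm : ∀ u v : ↥B, Commute (ρ (u : Γ)) (ρ (v : Γ)) := fun u v => hBc u u.2 v v.2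
  have hmem : ∀ g ∈ (Finset.univ : Finset ↥Pa), ρ (g : Γ) w ∈
      wtF (fun u : ↥B => ρ (u : Γ)) (fun u : ↥B => χ ((g : Γ)⁻¹ * (u : Γ) * (g : Γ))) := by
    intro g _
    exact map_wtS ρ (hAB (hPaA g.2)) hw
  have hne : ρ ((1 : ↥Pa) : Γ) w ≠ 0 := by
    rw [Subgroup.coe_one, map_one, Module.End.one_apply]
    exact hw0
  rw [hndef] at hn0
  obtain ⟨g, -, hg1, hgχ⟩ := exists_ne_of_sum_eq_zero hss hcomm Finset.univ
    (fun (g : ↥Pa) (u : ↥B) => χ ((g : Γ)⁻¹ * (u : Γ) * (g : Γ)))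
    (fun g : ↥Pa => ρ (g : Γ) w) hmem hn0 (Finset.mem_univ (1 : ↥Pa)) hne
  obtain ⟨u, hu, hne'⟩ := hna g ((hmemPa _).mp g.2) (fun hh => hg1 (Subtype.ext hh))
  apply hne'
  have := congrFun hgχ ⟨u, hu⟩
  simp only [Subgroup.coe_one, inv_one, one_mul, mul_one] at this
  exact this

theorem fpf_wt_a {A B : Subgroup Γ} {p q e : ℕ} {a b : Γ} (hfr : FrobPQ A p q e a b)
    (hAB : A ≤ Subgroup.normalizer (B : Set Γ))
    (hBk : (Nat.card B : k) ≠ 0) (hBc : ∀ u ∈ B, ∀ v ∈ B, Commute (ρ u) (ρ v))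
    (hfixW : ∀ w : W, (∀ x ∈ A, ρ x w = w) → w = 0) {χ : Γ → k}
    (hnb : ∀ j : ℕ, 0 < j → j < q → ∃ u ∈ B, χ ((b ^ j)⁻¹ * u * b ^ j) ≠ χ u) :
    ∀ w ∈ wtS ρ B χ, ρ a w = w → w = 0 := by
  classical
  intro w hw haw
  by_contra hw0
  obtain ⟨n, hndef⟩ : ∃ n : W, n = ∑ j ∈ Finset.range q, ρ (b ^ j) w := ⟨_, rfl⟩
  have hnb' : ρ b n = n := by
    have h1 := apply_Nrm_apply ρ hfr.hbq w
    unfold Nrm at h1
    rw [LinearMap.sum_apply] at h1
    rw [hndef]
    exact h1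
  have hna' : ρ a n = n := by
    rw [hndef, map_sum]
    apply Finset.sum_congr rfl
    intro j _
    have h1 : (b ^ j)⁻¹ * a * b ^ j ∈ Subgroup.zpowers a := by
      have h2 : ∀ j : ℕ, ∀ g ∈ Subgroup.zpowers a, (b ^ j)⁻¹ * g * b ^ j ∈ Subgroup.zpowers a := by
        intro j
        induction j with
        | zero => intro g hg; simpa using hg
        | succ j ih =>
          intro g hg
          have := hfr.conj_inv_mem_zpowers (ih g hg)
          have e1 : (b ^ (j + 1))⁻¹ * g * b ^ (j + 1) = b⁻¹ * ((b ^ j)⁻¹ * g * b ^ j) * b := by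
            rw [pow_succ]; group
          rw [e1]
          exact this
      exact h2 j a (Subgroup.mem_zpowers a)
    have h2 : ρ ((b ^ j)⁻¹ * a * b ^ j) w = w := fix_of_mem_zpowers ρ haw h1
    calc ρ a (ρ (b ^ j) w) = ρ (a * b ^ j) w := by rw [map_mul, Module.End.mul_apply]
      _ = ρ (b ^ j * ((b ^ j)⁻¹ * a * b ^ j)) w := by
          congr 2
          group
      _ = ρ (b ^ j) w := by rw [map_mul, Module.End.mul_apply, h2]
  have hn0 : n = 0 := by
    apply hfixW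
    apply hfr.induction (P := fun x => ρ x n = n)
    · simp
    · intro x y hx hy
      rw [map_mul, Module.End.mul_apply, hy, hx]
    · exact hna'
    · exact hnb'
  have hss : ∀ u : ↥B, Module.End.IsSemisimple (ρ (u : Γ)) := semisimple_of_mem ρ hBk
  have hcomm : ∀ u v : ↥B, Commute (ρ (u : Γ)) (ρ (v : Γ)) := fun u v => hBc u u.2 v v.2
  have hmem : ∀ j ∈ Finset.range q, ρ (b ^ j) w ∈
      wtF (fun u : ↥B => ρ (u : Γ)) (fun u : ↥B => χ ((b ^ j)⁻¹ * (u : Γ) * b ^ j)) := by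
    intro j _
    exact map_wtS ρ (hAB (A.pow_mem hfr.hb j)) hw
  have hne : ρ (b ^ 0) w ≠ 0 := by
    rw [pow_zero, map_one, Module.End.one_apply]
    exact hw0
  rw [hndef] at hn0
  obtain ⟨j, hj, hj0, hjχ⟩ := exists_ne_of_sum_eq_zero hss hcomm (Finset.range q)
    (fun (j : ℕ) (u : ↥B) => χ ((b ^ j)⁻¹ * (u : Γ) * b ^ j))
    (fun j : ℕ => ρ (b ^ j) w) hmem hn0 (Finset.mem_range.mpr hfr.hq.pos) hne
  obtain ⟨u, hu, hne'⟩ := hnb j (Nat.pos_of_ne_zero hj0) (Finset.mem_range.mp hj)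
  apply hne'
  have := congrFun hjχ ⟨u, hu⟩
  simp only [pow_zero, inv_one, one_mul, mul_one] at this
  exact this

end Cfsg.Agent.Lib.H19.PQ
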