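import Mathlib
import Cfsg.Agent.Lib.H19.PQ8
import Cfsg.Agent.Lib.H19.PQ6
import Cfsg.Agent.Lib.H19.WardG
import Cfsg.Agent.Lib.H1.CoprimeAction
import Cfsg.Agent.Lib.H1.CoprimeAbelian
import Cfsg.Agent.Lib.H7.FrobNil
import Cfsg.Agent.Lib.H8.Nilpotent

/-!
# The core configuration and the structure of a minimal counterexample, part 1 (helper19)

`Cfg ρ A H S T p q e a b s t` : `A = ⟨a⟩ ⋊ ⟨b⟩` of order `pq` acts coprimely on `H ≥ S, T`
without fixed points on `H` and on the module `W`; `S` is an `s`-group acting faithfully on `W`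
(`s ≠ char k`), `T` a `t`-group (`t ≠ s`) normalizing `S`; both are `A`-invariant.

`MinCfg` : a counterexample to `T ≤ C(S)` all of whose proper sub-configurations are not.
-/

set_option autoImplicit false
set_option linter.unusedSectionVars false
set_option linter.style.haveILetI false
set_option maxHeartbeats 1000000

namespace Cfsg.Agent.Lib.H19.PQ

open Module Cfsg.Agent.Lib.H1 Cfsg.Agent.Lib.H19.Ward Cfsg.Agent.Lib.H19.SG
open scoped commutatorElement

variable {Γ : Type*} [Group Γ] [Finite Γ] {k : Type*} [Field k]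
  {W : Type*} [AddCommGroup W] [Module k W]

/-- an element normalizing `S` and `T` normalizes `⁅S, T⁆` -/
theorem mem_normalizer_commutator {S T : Subgroup Γ} {x : Γ}
    (hS : x ∈ Subgroup.normalizer (S : Set Γ)) (hT : x ∈ Subgroup.normalizer (T : Set Γ)) :
    x ∈ Subgroup.normalizer ((⁅S, T⁆ : Subgroup Γ) : Set Γ) := by
  have key : ∀ y : Γ, y ∈ Subgroup.normalizer (S : Set Γ) → y ∈ Subgroup.normalizer (T : Set Γ) →
      ∀ g ∈ ⁅S, T⁆, y * g * y⁻¹ ∈ ⁅S, T⁆ := by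
    intro y hyS hyT g hg
    have hmap : (⁅S, T⁆ : Subgroup Γ) ≤ (⁅S, T⁆ : Subgroup Γ).comap (MulAut.conj y).toMonoidHom := by
      rw [Subgroup.commutator_le]
      intro u hu v hv
      rw [Subgroup.mem_comap]
      have e1 : (MulAut.conj y).toMonoidHom ⁅u, v⁆ = ⁅y * u * y⁻¹, y * v * y⁻¹⁆ := by
        simp only [MulEquiv.coe_toMonoidHom, MulAut.conj_apply, commutatorElement_def]
        group
      rw [e1]
      exact Subgroup.commutator_mem_commutator ((Subgroup.mem_normalizer_iff.mp hyS u).mp hu)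
        ((Subgroup.mem_normalizer_iff.mp hyT v).mp hv)
    have := hmap hg
    rw [Subgroup.mem_comap] at this
    simpa [MulAut.conj_apply] using this
  apply Cfsg.Agent.Lib.H19.Ward.mem_normalizer_of_conj
  · exact key x hS hT
  · intro g hg
    have := key x⁻¹ (Subgroup.inv_mem _ hS) (Subgroup.inv_mem _ hT) g hg
    rwa [inv_inv] at this

structure Cfg (ρ : Representation k Γ W) (A H S T : Subgroup Γ) (p q e : ℕ) (a b : Γ)
    (s t : ℕ) : Prop where
  frob : FrobPQ A p q e a b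
  hAcard : Nat.card A = p * q
  hs : s.Prime
  ht : t.Prime
  hst : s ≠ t
  hS : IsPGroup s S
  hT : IsPGroup t T
  hSH : S ≤ H
  hTH : T ≤ H
  hHp : (Nat.card H).Coprime (p * q)
  hsk : (s : k) ≠ 0
  hpk : (p : k) ≠ 0
  hqk : (q : k) ≠ 0
  hAS : A ≤ Subgroup.normalizer (S : Set Γ)
  hAT : A ≤ Subgroup.normalizer (T : Set Γ)
  hTS : T ≤ Subgroup.normalizer (S : Set Γ)
  hfaith : ∀ u ∈ S, ρ u = 1 → u = 1
  hfixH : ∀ g ∈ H, (∀ x ∈ A, x * g = g * x) → g = 1
  hfixW : ∀ w : W, (∀ x ∈ A, ρ x w = w) → w = 0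

namespace Cfg

variable {ρ : Representation k Γ W} {A H S T : Subgroup Γ} {p q e : ℕ} {a b : Γ} {s t : ℕ}

theorem coprime_S (h : Cfg ρ A H S T p q e a b s t) : (Nat.card A).Coprime (Nat.card S) := by
  rw [h.hAcard]
  exact (Nat.Coprime.coprime_dvd_left (Subgroup.card_dvd_of_le h.hSH) h.hHp).symm

theorem coprime_T (h : Cfg ρ A H S T p q e a b s t) : (Nat.card A).Coprime (Nat.card T) := by
  rw [h.hAcard]
  exact (Nat.Coprime.coprime_dvd_left (Subgroup.card_dvd_of_le h.hTH) h.hHp).symm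

theorem actAS (h : Cfg ρ A H S T p q e a b s t) : CoprimeAction A S where
  normalizes := h.hAS
  coprime := h.coprime_S
  solvable := by
    haveI : Fact s.Prime := ⟨h.hs⟩
    haveI : Group.IsNilpotent ↥S := h.hS.isNilpotent
    exact Or.inr inferInstance

theorem actAT (h : Cfg ρ A H S T p q e a b s t) : CoprimeAction A T where
  normalizes := h.hAT
  coprime := h.coprime_T
  solvable := by
    haveI : Fact t.Prime := ⟨h.ht⟩
    haveI : Group.IsNilpotent ↥T := h.hT.isNilpotent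
    exact Or.inr inferInstance

theorem coprime_TS (h : Cfg ρ A H S T p q e a b s t) : (Nat.card T).Coprime (Nat.card S) := by
  haveI : Fact t.Prime := ⟨h.ht⟩
  haveI : Fact s.Prime := ⟨h.hs⟩
  obtain ⟨m, hm⟩ := IsPGroup.iff_card.mp h.hT
  obtain ⟨n, hn⟩ := IsPGroup.iff_card.mp h.hS
  rw [hm, hn]
  exact Nat.coprime_pow_primes m n h.ht h.hs (Ne.symm h.hst)

theorem actTS (h : Cfg ρ A H S T p q e a b s t) : CoprimeAction T S where
  normalizes := h.hTS
  coprime := h.coprime_TS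
  solvable := by
    haveI : Fact s.Prime := ⟨h.hs⟩
    haveI : Group.IsNilpotent ↥S := h.hS.isNilpotent
    exact Or.inr inferInstance

/-- sub-configurations -/
theorem mono (h : Cfg ρ A H S T p q e a b s t) {S₁ T₁ : Subgroup Γ} (hS₁ : S₁ ≤ S) (hT₁ : T₁ ≤ T)
    (hAS₁ : A ≤ Subgroup.normalizer (S₁ : Set Γ)) (hAT₁ : A ≤ Subgroup.normalizer (T₁ : Set Γ))
    (hTS₁ : T₁ ≤ Subgroup.normalizer (S₁ : Set Γ)) : Cfg ρ A H S₁ T₁ p q e a b s t :=
  { h with
    hS := h.hS.to_le hS₁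
    hT := h.hT.to_le hT₁
    hSH := hS₁.trans h.hSH
    hTH := hT₁.trans h.hTH
    hAS := hAS₁
    hAT := hAT₁
    hTS := hTS₁
    hfaith := fun u hu => h.hfaith u (hS₁ hu) }

/-- conjugating `b` inside `⟨a⟩` -/
theorem conj_b (h : Cfg ρ A H S T p q e a b s t) {g : Γ} (hg : g ∈ Subgroup.zpowers a) :
    Cfg ρ A H S T p q e a (g * b * g⁻¹) s t :=
  { h with frob := h.frob.conj_b hg }

theorem card_S_ne_zero (h : Cfg ρ A H S T p q e a b s t) : (Nat.card S : k) ≠ 0 := by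
  haveI : Fact s.Prime := ⟨h.hs⟩
  obtain ⟨n, hn⟩ := IsPGroup.iff_card.mp h.hS
  rw [hn, Nat.cast_pow]
  exact pow_ne_zero n h.hsk

theorem card_le_ne_zero (h : Cfg ρ A H S T p q e a b s t) {B : Subgroup Γ} (hB : B ≤ S) :
    (Nat.card B : k) ≠ 0 := by
  haveI : Fact s.Prime := ⟨h.hs⟩
  obtain ⟨n, hn⟩ := IsPGroup.iff_card.mp (h.hS.to_le hB)
  rw [hn, Nat.cast_pow]
  exact pow_ne_zero n h.hsk

theorem zpowers_le (h : Cfg ρ A H S T p q e a b s t) : Subgroup.zpowers a ≤ A :=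
  Subgroup.zpowers_le.mpr h.frob.ha

theorem conjS (h : Cfg ρ A H S T p q e a b s t) {x u : Γ} (hx : x ∈ A) (hu : u ∈ S) :
    x * u * x⁻¹ ∈ S :=
  (Subgroup.mem_normalizer_iff.mp (h.hAS hx) u).mp hu

theorem conjT (h : Cfg ρ A H S T p q e a b s t) {x u : Γ} (hx : x ∈ A) (hu : u ∈ T) :
    x * u * x⁻¹ ∈ T :=
  (Subgroup.mem_normalizer_iff.mp (h.hAT hx) u).mp hu

theorem conjTS (h : Cfg ρ A H S T p q e a b s t) {x u : Γ} (hx : x ∈ T) (hu : u ∈ S) :
    x * u * x⁻¹ ∈ S :=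
  (Subgroup.mem_normalizer_iff.mp (h.hTS hx) u).mp hu

end Cfg

/-- a minimal counterexample -/
structure MinCfg (ρ : Representation k Γ W) (A H S T : Subgroup Γ) (p q e : ℕ) (a b : Γ)
    (s t : ℕ) : Prop extends Cfg ρ A H S T p q e a b s t where
  hnc : ¬ T ≤ Subgroup.centralizer (S : Set Γ)
  hR1 : ∀ T₁ : Subgroup Γ, T₁ ≤ T → T₁ ≠ T → A ≤ Subgroup.normalizer (T₁ : Set Γ) →
    T₁ ≤ Subgroup.centralizer (S : Set Γ)
  hR2 : ∀ S₁ : Subgroup Γ, S₁ ≤ S → S₁ ≠ S → A ≤ Subgroup.normalizer (S₁ : Set Γ) →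
    T ≤ Subgroup.normalizer (S₁ : Set Γ) → T ≤ Subgroup.centralizer (S₁ : Set Γ)

namespace MinCfg

variable {ρ : Representation k Γ W} {A H S T : Subgroup Γ} {p q e : ℕ} {a b : Γ} {s t : ℕ}

theorem conj_b (h : MinCfg ρ A H S T p q e a b s t) {g : Γ} (hg : g ∈ Subgroup.zpowers a) :
    MinCfg ρ A H S T p q e a (g * b * g⁻¹) s t :=
  { h with toCfg := h.toCfg.conj_b hg }

/-- `[S, T] = S` -/
theorem comm_ST (h : MinCfg ρ A H S T p q e a b s t) : ⁅S, T⁆ = S := by
  by_contra hne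
  have hle : ⁅S, T⁆ ≤ S := h.actTS.commutator_le
  have hA : A ≤ Subgroup.normalizer ((⁅S, T⁆ : Subgroup Γ) : Set Γ) := by
    refine le_trans (le_inf h.hAS h.hAT) ?_
    intro x hx
    rw [Subgroup.mem_inf] at hx
    exact mem_normalizer_commutator hx.1 hx.2
  have hT : T ≤ Subgroup.normalizer ((⁅S, T⁆ : Subgroup Γ) : Set Γ) :=
    Subgroup.normalizer_commutator_ge_right S T
  have h1 := h.hR2 _ hle hne hA hT
  have h2 : ⁅⁅S, T⁆, T⁆ = ⊥ := by
    rw [Subgroup.commutator_eq_bot_iff_le_centralizer]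
    intro u hu
    rw [Subgroup.mem_centralizer_iff]
    intro x hx
    have := (Subgroup.mem_centralizer_iff.mp (h1 hx)) u hu
    exact this.symm
  rw [coprime_commutator_commutator h.actTS] at h2
  apply h.hnc
  rw [Subgroup.commutator_eq_bot_iff_le_centralizer] at h2
  intro x hx
  rw [Subgroup.mem_centralizer_iff]
  intro u hu
  have := (Subgroup.mem_centralizer_iff.mp (h2 hu)) x hx
  exact this.symm

end MinCfg

end Cfsg.Agent.Lib.H19.PQ
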