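import Mathlib
import Cfsg.Agent.Lib.H19.PQ9

/-!
# The structure of a minimal counterexample, part 2 (helper19)

For `h : MinCfg ρ A H S T p q e a b s t`, with `T₀ = C_T(S)`:
`T / T₀` is abelian and `A`-irreducible; either `a` centralizes `T` (type I) or `a` has no fixed
points on `T / T₀` (type II); `a` does not centralize both `S` and `T`; the hypotheses `ABHyp` of
the dual abelian core hold for the characters of `S` trivial on an invariant subgroup `D`.
-/

set_option autoImplicit false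
set_option linter.unusedSectionVars false
set_option linter.style.haveILetI false
set_option maxHeartbeats 1000000

namespace Cfsg.Agent.Lib.H19.PQ

open Module Cfsg.Agent.Lib.H1 Cfsg.Agent.Lib.H19.Ward Cfsg.Agent.Lib.H19.SG
open scoped commutatorElement

variable {Γ : Type*} [Group Γ] [Finite Γ] {k : Type*} [Field k]
  {W : Type*} [AddCommGroup W] [Module k W]

/-- the centralizer of `S` in `T` -/
def T0 (S T : Subgroup Γ) : Subgroup Γ := T ⊓ Subgroup.centralizer (S : Set Γ)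

theorem mem_T0 {S T : Subgroup Γ} {x : Γ} :
    x ∈ T0 S T ↔ x ∈ T ∧ ∀ u ∈ S, u * x = x * u := by
  unfold T0
  rw [Subgroup.mem_inf, Subgroup.mem_centralizer_iff]
  rfl

theorem T0_le (S T : Subgroup Γ) : T0 S T ≤ T := inf_le_left

/-- elements normalizing `S` normalize its centralizer -/
theorem mem_normalizer_centralizer {S : Subgroup Γ} {x : Γ}
    (hS : x ∈ Subgroup.normalizer (S : Set Γ)) :
    x ∈ Subgroup.normalizer ((Subgroup.centralizer (S : Set Γ) : Subgroup Γ) : Set Γ) := by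
  have key : ∀ y : Γ, y ∈ Subgroup.normalizer (S : Set Γ) →
      ∀ g ∈ Subgroup.centralizer (S : Set Γ), y * g * y⁻¹ ∈ Subgroup.centralizer (S : Set Γ) := by
    intro y hy g hg
    rw [Subgroup.mem_centralizer_iff] at hg ⊢
    intro u hu
    have h1 : y⁻¹ * u * y ∈ S := by
      have := (Subgroup.mem_normalizer_iff.mp (Subgroup.inv_mem _ hy) u).mp hu
      rwa [inv_inv] at this
    have h2 := hg _ h1
    calc u * (y * g * y⁻¹) = y * ((y⁻¹ * u * y) * g) * y⁻¹ := by group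
      _ = y * (g * (y⁻¹ * u * y)) * y⁻¹ := by rw [h2]
      _ = y * g * y⁻¹ * u := by group
  apply mem_normalizer_of_conj
  · exact key x hS
  · intro g hg
    have := key x⁻¹ (Subgroup.inv_mem _ hS) g hg
    rwa [inv_inv] at this

theorem mem_normalizer_inf {S T : Subgroup Γ} {x : Γ}
    (hS : x ∈ Subgroup.normalizer (S : Set Γ)) (hT : x ∈ Subgroup.normalizer (T : Set Γ)) :
    x ∈ Subgroup.normalizer ((S ⊓ T : Subgroup Γ) : Set Γ) := by
  rw [Subgroup.mem_normalizer_iff] at hS hT ⊢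
  intro g
  rw [Subgroup.mem_inf, Subgroup.mem_inf, ← hS g, ← hT g]

theorem mem_normalizer_T0 {S T : Subgroup Γ} {x : Γ}
    (hS : x ∈ Subgroup.normalizer (S : Set Γ)) (hT : x ∈ Subgroup.normalizer (T : Set Γ)) :
    x ∈ Subgroup.normalizer ((T0 S T : Subgroup Γ) : Set Γ) :=
  mem_normalizer_inf hT (mem_normalizer_centralizer hS)

/-- the elements normalizing `D` and commuting with `x` modulo `D` -/
def Cmod (D : Subgroup Γ) (x : Γ) : Subgroup Γ where
  carrier := {g | g ∈ Subgroup.normalizer (D : Set Γ) ∧ g * x * g⁻¹ * x⁻¹ ∈ D}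
  one_mem' := ⟨Subgroup.one_mem _, by simp⟩
  mul_mem' := by
    rintro g g' ⟨hg, hgx⟩ ⟨hg', hgx'⟩
    refine ⟨Subgroup.mul_mem _ hg hg', ?_⟩
    have e1 : g * g' * x * (g * g')⁻¹ * x⁻¹ = g * (g' * x * g'⁻¹ * x⁻¹) * g⁻¹ * (g * x * g⁻¹ * x⁻¹) := by
      group
    rw [e1]
    exact D.mul_mem ((Subgroup.mem_normalizer_iff.mp hg _).mp hgx') hgx
  inv_mem' := by
    rintro g ⟨hg, hgx⟩
    refine ⟨Subgroup.inv_mem _ hg, ?_⟩
    have e1 : g⁻¹ * x * g⁻¹⁻¹ * x⁻¹ = g⁻¹ * (g * x * g⁻¹ * x⁻¹)⁻¹ * g⁻¹⁻¹ := by group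
    rw [e1]
    exact (Subgroup.mem_normalizer_iff.mp (Subgroup.inv_mem _ hg) _).mp (D.inv_mem hgx)

theorem mem_Cmod {D : Subgroup Γ} {x g : Γ} :
    g ∈ Cmod D x ↔ g ∈ Subgroup.normalizer (D : Set Γ) ∧ g * x * g⁻¹ * x⁻¹ ∈ D := Iff.rfl

/-- `⟨a⟩` is normal in `A` -/
theorem FrobPQ.normal_zpowers {A : Subgroup Γ} {p q e : ℕ} {a b : Γ} (hfr : FrobPQ A p q e a b) :
    ∀ z ∈ A, ∀ w ∈ Subgroup.zpowers a, z * w * z⁻¹ ∈ Subgroup.zpowers a := by
  apply hfr.induction (P := fun z => ∀ w ∈ Subgroup.zpowers a,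
    z * w * z⁻¹ ∈ Subgroup.zpowers a)
  · intro w hw; simpa using hw
  · intro y z hy hz w hw
    have e2 : y * z * w * (y * z)⁻¹ = y * (z * w * z⁻¹) * y⁻¹ := by group
    rw [e2]
    exact hy _ (hz w hw)
  · intro w hw
    exact Subgroup.mul_mem _ (Subgroup.mul_mem _ (Subgroup.mem_zpowers a) hw)
      (Subgroup.inv_mem _ (Subgroup.mem_zpowers a))
  · intro w hw
    exact hfr.conj_mem_zpowers hw

theorem FrobPQ.normal_zpowers' {A : Subgroup Γ} {p q e : ℕ} {a b : Γ} (hfr : FrobPQ A p q e a b)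
    {z w : Γ} (hz : z ∈ A) (hw : w ∈ Subgroup.zpowers a) : z⁻¹ * w * z ∈ Subgroup.zpowers a := by
  have := hfr.normal_zpowers z⁻¹ (A.inv_mem hz) w hw
  rwa [inv_inv] at this

namespace MinCfg

variable {ρ : Representation k Γ W} {A H S T : Subgroup Γ} {p q e : ℕ} {a b : Γ} {s t : ℕ}

theorem A_le_normalizer_T0 (h : MinCfg ρ A H S T p q e a b s t) :
    A ≤ Subgroup.normalizer ((T0 S T : Subgroup Γ) : Set Γ) :=
  fun _ hx => mem_normalizer_T0 (h.hAS hx) (h.hAT hx)

theorem T_le_normalizer_T0 (h : MinCfg ρ A H S T p q e a b s t) :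
    T ≤ Subgroup.normalizer ((T0 S T : Subgroup Γ) : Set Γ) :=
  fun _ hx => mem_normalizer_T0 (h.hTS hx) (Subgroup.le_normalizer hx)

/-- proper `A`-invariant subgroups of `T` lie in `T₀` -/
theorem le_T0 (h : MinCfg ρ A H S T p q e a b s t) {T₁ : Subgroup Γ} (h1 : T₁ ≤ T) (h2 : T₁ ≠ T)
    (h3 : A ≤ Subgroup.normalizer (T₁ : Set Γ)) : T₁ ≤ T0 S T :=
  le_inf h1 (h.hR1 T₁ h1 h2 h3)

theorem T_ne_bot (h : MinCfg ρ A H S T p q e a b s t) : T ≠ ⊥ := by
  intro h0
  apply h.hnc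
  rw [h0]
  exact bot_le

theorem T0_ne (h : MinCfg ρ A H S T p q e a b s t) : T0 S T ≠ T := by
  intro h0
  apply h.hnc
  rw [← h0]
  exact inf_le_right

/-- `T / T₀` is abelian -/
theorem comm_T (h : MinCfg ρ A H S T p q e a b s t) :
    ∀ x ∈ T, ∀ y ∈ T, x * y * x⁻¹ * y⁻¹ ∈ T0 S T := by
  have hle : ⁅T, T⁆ ≤ T := Subgroup.commutator_le_self T
  have hne : ⁅T, T⁆ ≠ T := by
    intro heq
    haveI : Fact t.Prime := ⟨h.ht⟩
    haveI : Group.IsNilpotent ↥T := h.hT.isNilpotent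
    haveI : Nontrivial ↥T := by
      rw [Subgroup.nontrivial_iff_ne_bot]
      exact h.T_ne_bot
    have h1 := Group.IsSolvable.commutator_lt_top_of_nontrivial ↥T
    have h2 : (commutator ↥T).map T.subtype = ⁅T, T⁆ := by
      rw [commutator_def, Subgroup.map_commutator, ← MonoidHom.range_eq_map, Subgroup.range_subtype]
    have h3 : (commutator ↥T).map T.subtype = (⊤ : Subgroup ↥T).map T.subtype := by
      rw [h2, heq, ← MonoidHom.range_eq_map, Subgroup.range_subtype]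
    have h4 := Subgroup.map_injective (Subgroup.subtype_injective T) h3
    exact absurd h4 (ne_of_lt h1)
  have hA : A ≤ Subgroup.normalizer ((⁅T, T⁆ : Subgroup Γ) : Set Γ) :=
    fun x hx => mem_normalizer_commutator (h.hAT hx) (h.hAT hx)
  have h5 := h.le_T0 hle hne hA
  intro x hx y hy
  exact h5 (Subgroup.commutator_mem_commutator hx hy)

/-- `T / T₀` is `A`-irreducible -/
theorem irr_T (h : MinCfg ρ A H S T p q e a b s t) :
    ∀ T₁ : Subgroup Γ, T₁ ≤ T → T0 S T ≤ T₁ → A ≤ Subgroup.normalizer (T₁ : Set Γ) →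
      T₁ = T0 S T ∨ T₁ = T := by
  intro T₁ h1 h2 h3
  by_cases h4 : T₁ = T
  · exact Or.inr h4
  · exact Or.inl (le_antisymm (h.le_T0 h1 h4 h3) h2)

/-- the dichotomy -/
theorem dichotomy (h : MinCfg ρ A H S T p q e a b s t) :
    (∀ x ∈ T, a * x = x * a) ∨ (∀ x ∈ T, a * x * a⁻¹ * x⁻¹ ∈ T0 S T → x ∈ T0 S T) := by
  classical
  have hfr := h.frob
  have haA : a ∈ A := hfr.ha
  have haT0 := h.A_le_normalizer_T0 haA
  have hconjT0 : ∀ g ∈ A, ∀ z ∈ T0 S T, g * z * g⁻¹ ∈ T0 S T := fun g hg z hz =>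
    (Subgroup.mem_normalizer_iff.mp (h.A_le_normalizer_T0 hg) z).mp hz
  -- the subgroup `C`
  let C : Subgroup Γ :=
    { carrier := {x | x ∈ T ∧ a * x * a⁻¹ * x⁻¹ ∈ T0 S T}
      one_mem' := ⟨T.one_mem, by simp⟩
      mul_mem' := by
        rintro x y ⟨hx, hxa⟩ ⟨hy, hya⟩
        refine ⟨T.mul_mem hx hy, ?_⟩
        have e1 : a * (x * y) * a⁻¹ * (x * y)⁻¹ =
            (a * x * a⁻¹ * x⁻¹) * (x * (a * y * a⁻¹ * y⁻¹) * x⁻¹) := by group
        rw [e1]
        exact (T0 S T).mul_mem hxa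
          ((Subgroup.mem_normalizer_iff.mp (h.T_le_normalizer_T0 hx) _).mp hya)
      inv_mem' := by
        rintro x ⟨hx, hxa⟩
        refine ⟨T.inv_mem hx, ?_⟩
        have e1 : a * x⁻¹ * a⁻¹ * x⁻¹⁻¹ = x⁻¹ * (a * x * a⁻¹ * x⁻¹)⁻¹ * x⁻¹⁻¹ := by group
        rw [e1]
        exact (Subgroup.mem_normalizer_iff.mp (h.T_le_normalizer_T0 (T.inv_mem hx)) _).mp
          ((T0 S T).inv_mem hxa) }
  have hCmem : ∀ x, x ∈ C ↔ x ∈ T ∧ a * x * a⁻¹ * x⁻¹ ∈ T0 S T := fun x => Iff.rfl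
  have hCT : C ≤ T := fun x hx => hx.1
  have hT0C : T0 S T ≤ C := by
    intro z hz
    refine ⟨T0_le S T hz, ?_⟩
    exact (T0 S T).mul_mem (hconjT0 a haA z hz) ((T0 S T).inv_mem hz)
  have hCA : A ≤ Subgroup.normalizer (C : Set Γ) := by
    have key : ∀ g ∈ A, ∀ x ∈ C, g * x * g⁻¹ ∈ C := by
      intro g hg x hx
      refine ⟨h.conjT hg hx.1, ?_⟩
      -- `g⁻¹ a g ∈ ⟨a⟩` commutes with `x` modulo `T₀`
      have h1 : Subgroup.zpowers a ≤ Cmod (T0 S T) x := by
        rw [Subgroup.zpowers_le]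
        exact ⟨haT0, hx.2⟩
      have h2 : g⁻¹ * a * g ∈ Subgroup.zpowers a :=
        hfr.normal_zpowers' hg (Subgroup.mem_zpowers a)
      have h5 := (h1 h2).2
      have e3 : a * (g * x * g⁻¹) * a⁻¹ * (g * x * g⁻¹)⁻¹ =
          g * (g⁻¹ * a * g * x * (g⁻¹ * a * g)⁻¹ * x⁻¹) * g⁻¹ := by group
      rw [e3]
      exact hconjT0 g hg _ h5
    intro g hg
    apply mem_normalizer_of_conj
    · exact key g hg
    · intro x hx
      have := key g⁻¹ (A.inv_mem hg) x hx
      rwa [inv_inv] at this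
  rcases h.irr_T C hCT hT0C hCA with hC | hC
  · right
    intro x hx hxa
    rw [← hC]
    exact ⟨hx, hxa⟩
  · left
    -- `a` centralizes `T / T₀`; hence `T = T₀ C_T(a)` and `C_T(a)` is `A`-invariant
    have hact : CoprimeAction (Subgroup.zpowers a) T :=
      { normalizes := (h.zpowers_le).trans h.hAT
        coprime := Nat.Coprime.coprime_dvd_left (Subgroup.card_dvd_of_le h.zpowers_le) h.coprime_T
        solvable := Or.inl inferInstance }
    obtain ⟨CT, hCTdef⟩ : ∃ CT : Subgroup Γ,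
        CT = T ⊓ Subgroup.centralizer ((Subgroup.zpowers a : Subgroup Γ) : Set Γ) := ⟨_, rfl⟩
    have hCTmem : ∀ x, x ∈ CT ↔ x ∈ T ∧ a * x = x * a := by
      intro x
      rw [hCTdef, Subgroup.mem_inf, Subgroup.mem_centralizer_iff]
      constructor
      · rintro ⟨hx, hc⟩
        exact ⟨hx, hc a (Subgroup.mem_zpowers a)⟩
      · rintro ⟨hx, hc⟩
        refine ⟨hx, ?_⟩
        intro g hg
        obtain ⟨n, rfl⟩ := Subgroup.mem_zpowers_iff.mp hg
        exact (Commute.zpow_left (show Commute a x from hc) n).eq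
    have hCTA : A ≤ Subgroup.normalizer (CT : Set Γ) := by
      have key : ∀ g ∈ A, ∀ x ∈ CT, g * x * g⁻¹ ∈ CT := by
        intro g hg x hx
        rw [hCTdef] at hx ⊢
        rw [Subgroup.mem_inf] at hx ⊢
        refine ⟨h.conjT hg hx.1, ?_⟩
        rw [Subgroup.mem_centralizer_iff] at hx ⊢
        intro y hy
        have h2 : g⁻¹ * y * g ∈ Subgroup.zpowers a := hfr.normal_zpowers' hg hy
        have h4 := hx.2 _ h2
        calc y * (g * x * g⁻¹) = g * ((g⁻¹ * y * g) * x) * g⁻¹ := by group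
          _ = g * (x * (g⁻¹ * y * g)) * g⁻¹ := by rw [h4]
          _ = g * x * g⁻¹ * y := by group
      intro g hg
      apply mem_normalizer_of_conj
      · exact key g hg
      · intro x hx
        have := key g⁻¹ (A.inv_mem hg) x hx
        rwa [inv_inv] at this
    have hCTT : CT ≤ T := by rw [hCTdef]; exact inf_le_left
    by_cases hCTeq : CT = T
    · intro x hx
      have : x ∈ CT := by rw [hCTeq]; exact hx
      exact ((hCTmem x).mp this).2
    · exfalso
      have h6 := h.le_T0 hCTT hCTeq hCTA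
      -- `T = [T, a] C_T(a) ≤ T₀`
      have h7 := coprime_commutator_sup_centralizer hact
      have h8 : ⁅T, Subgroup.zpowers a⁆ ≤ T0 S T := by
        rw [Subgroup.commutator_le]
        intro x hx g hg
        have hxC : x ∈ C := by rw [hC]; exact hx
        have h9 : Subgroup.zpowers a ≤ Cmod (T0 S T) x := by
          rw [Subgroup.zpowers_le]
          exact ⟨haT0, hxC.2⟩
        have h10 := (h9 hg).2
        have e4 : ⁅x, g⁆ = (g * x * g⁻¹ * x⁻¹)⁻¹ := by
          rw [commutatorElement_def]; group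
        rw [e4]
        exact (T0 S T).inv_mem h10
      apply h.T0_ne
      apply le_antisymm (T0_le S T)
      have hle : ⁅T, Subgroup.zpowers a⁆ ⊔ CT ≤ T0 S T := sup_le h8 h6
      rw [hCTdef, h7] at hle
      exact hle

end MinCfg

end Cfsg.Agent.Lib.H19.PQ
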