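import Mathlib
import Cfsg.Agent.Lib.H19.PQ10

/-!
# The structure of a minimal counterexample, part 3 (helper19)

* `MinCfg.not_cen` : `a` does not centralize both `S` and `T`.
* `MinCfg.abhyp` : the hypotheses of the dual abelian core.
* `MinCfg.genb` : in type I, `T = [T, b'] T₀` for every conjugate `b'` of `b`.
-/

set_option autoImplicit false
set_option linter.unusedSectionVars false
set_option linter.style.haveILetI false
set_option maxHeartbeats 1000000

namespace Cfsg.Agent.Lib.H19.PQ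

open Module Cfsg.Agent.Lib.H1 Cfsg.Agent.Lib.H19.Ward Cfsg.Agent.Lib.H19.SG
open scoped commutatorElement

variable {Γ : Type*} [Group Γ] [Finite Γ] {k : Type*} [Field k]
  {W : Type*} [AddCommGroup W] [Module k W]

theorem mem_normalizer_sup {S T : Subgroup Γ} {x : Γ}
    (hS : x ∈ Subgroup.normalizer (S : Set Γ)) (hT : x ∈ Subgroup.normalizer (T : Set Γ)) :
    x ∈ Subgroup.normalizer ((S ⊔ T : Subgroup Γ) : Set Γ) := by
  have key : ∀ y : Γ, y ∈ Subgroup.normalizer (S : Set Γ) → y ∈ Subgroup.normalizer (T : Set Γ) →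
      ∀ g ∈ S ⊔ T, y * g * y⁻¹ ∈ S ⊔ T := by
    intro y hyS hyT g hg
    have hmap : S ⊔ T ≤ (S ⊔ T).comap (MulAut.conj y).toMonoidHom := by
      apply sup_le
      · intro u hu
        rw [Subgroup.mem_comap]
        apply (le_sup_left : S ≤ S ⊔ T)
        simpa [MulAut.conj_apply] using (Subgroup.mem_normalizer_iff.mp hyS u).mp hu
      · intro u hu
        rw [Subgroup.mem_comap]
        apply (le_sup_right : T ≤ S ⊔ T)
        simpa [MulAut.conj_apply] using (Subgroup.mem_normalizer_iff.mp hyT u).mp hu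
    have := hmap hg
    rw [Subgroup.mem_comap] at this
    simpa [MulAut.conj_apply] using this
  apply mem_normalizer_of_conj
  · exact key x hS hT
  · intro g hg
    have := key x⁻¹ (Subgroup.inv_mem _ hS) (Subgroup.inv_mem _ hT) g hg
    rwa [inv_inv] at this

namespace Cfg

variable {ρ : Representation k Γ W} {A H S T : Subgroup Γ} {p q e : ℕ} {a b : Γ} {s t : ℕ}

/-- an element of `H` commuting with `a` and `b` is trivial -/
theorem eq_one_of_comm (h : Cfg ρ A H S T p q e a b s t) {g : Γ} (hg : g ∈ H)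
    (ha : a * g = g * a) (hb : b * g = g * b) : g = 1 := by
  apply h.hfixH g hg
  apply h.frob.induction (P := fun x => x * g = g * x)
  · simp
  · intro x y hx hy
    rw [mul_assoc, hy, ← mul_assoc, hx, mul_assoc]
  · exact ha
  · exact hb

end Cfg

namespace MinCfg

variable {ρ : Representation k Γ W} {A H S T : Subgroup Γ} {p q e : ℕ} {a b : Γ} {s t : ℕ}

/-- `a` does not centralize both `S` and `T` -/
theorem not_cen (h : MinCfg ρ A H S T p q e a b s t) (hS : ∀ u ∈ S, a * u = u * a)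
    (hT : ∀ x ∈ T, a * x = x * a) : False := by
  have hfr := h.frob
  obtain ⟨K, hKdef⟩ : ∃ K : Subgroup Γ, K = S ⊔ T := ⟨_, rfl⟩
  have hSK : S ≤ K := by rw [hKdef]; exact le_sup_left
  have hTK : T ≤ K := by rw [hKdef]; exact le_sup_right
  have hKH : K ≤ H := by rw [hKdef]; exact sup_le h.hSH h.hTH
  have hbK : b ∈ Subgroup.normalizer (K : Set Γ) := by
    rw [hKdef]
    exact mem_normalizer_sup (h.hAS hfr.hb) (h.hAT hfr.hb)
  have haK : ∀ g ∈ K, a * g = g * a := by
    have h1 : K ≤ Subgroup.centralizer ({a} : Set Γ) := by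
      rw [hKdef]
      apply sup_le
      · intro u hu
        rw [Subgroup.mem_centralizer_iff]
        intro y hy
        rw [Set.mem_singleton_iff] at hy
        subst hy
        exact hS u hu
      · intro u hu
        rw [Subgroup.mem_centralizer_iff]
        intro y hy
        rw [Set.mem_singleton_iff] at hy
        subst hy
        exact hT u hu
    intro g hg
    exact (Subgroup.mem_centralizer_iff.mp (h1 hg)) a (Set.mem_singleton a)
  have hfpf : ∀ g ∈ K, b * g = g * b → g = 1 := fun g hg hbg =>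
    h.toCfg.eq_one_of_comm (hKH hg) (haK g hg) hbg
  have hnil : Group.IsNilpotent ↥K :=
    Cfsg.Agent.Lib.H7.FrobNil.isNilpotent_of_fpf hfr.hq hbK hfr.hbq hfpf
  apply h.hnc
  intro x hx
  rw [Subgroup.mem_centralizer_iff]
  intro u hu
  haveI : Fact s.Prime := ⟨h.hs⟩
  haveI : Fact t.Prime := ⟨h.ht⟩
  have hou : ∃ n, orderOf u = s ^ n := by
    obtain ⟨n, hn⟩ := (IsPGroup.iff_orderOf.mp h.hS) ⟨u, hu⟩
    exact ⟨n, by rw [← hn, Subgroup.orderOf_mk]⟩
  have hox : ∃ n, orderOf x = t ^ n := by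
    obtain ⟨n, hn⟩ := (IsPGroup.iff_orderOf.mp h.hT) ⟨x, hx⟩
    exact ⟨n, by rw [← hn, Subgroup.orderOf_mk]⟩
  obtain ⟨n, hn⟩ := hou
  obtain ⟨m, hm⟩ := hox
  apply Cfsg.Agent.Lib.H8.mul_comm_of_coprime_of_mem_nilpotent K hnil (hSK hu) (hTK hx)
  rw [hn, hm]
  exact Nat.coprime_pow_primes n m h.hs h.ht h.hst

/-- `S = [S, A]` -/
theorem comm_SA (h : MinCfg ρ A H S T p q e a b s t) : ⁅S, A⁆ = S := by
  have h1 := coprime_commutator_sup_centralizer h.actAS
  have h2 : S ⊓ Subgroup.centralizer (A : Set Γ) = ⊥ := by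
    rw [eq_bot_iff]
    intro u hu
    rw [Subgroup.mem_inf, Subgroup.mem_centralizer_iff] at hu
    rw [Subgroup.mem_bot]
    exact h.hfixH u (h.hSH hu.1) (fun x hx => hu.2 x hx)
  rw [h2, sup_bot_eq] at h1
  exact h1

/-- the hypotheses of the dual abelian core -/
theorem abhyp (h : MinCfg ρ A H S T p q e a b s t) (D : Subgroup Γ)
    (hAD : A ≤ Subgroup.normalizer (D : Set Γ)) (hTD : T ≤ Subgroup.normalizer (D : Set Γ)) :
    ABHyp (cjAct (k := k)) (Chr k S D) A T (T0 S T) p q e a b (Nat.card S) where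
  frob := h.frob
  hT₀T := T0_le S T
  hcomm := h.comm_T
  hAT := h.hAT
  hAT₀ := h.A_le_normalizer_T0
  htriv := by
    intro z hz χ hχ
    rw [mem_T0] at hz
    funext u
    rw [cjAct_apply]
    by_cases hu : u ∈ S
    · have h1 : z⁻¹ * u * z = u := by
        rw [mul_assoc, hz.2 u hu, ← mul_assoc, inv_mul_cancel, one_mul]
      rw [h1]
    · have h1 : z⁻¹ * u * z ∉ S := by
        intro h2
        apply hu
        have h3 := h.conjTS hz.1 h2
        have e1 : z * (z⁻¹ * u * z) * z⁻¹ = u := by group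
        rwa [e1] at h3
      rw [hχ.1 _ h1, hχ.1 _ hu]
  hinvT := fun x hx χ hχ => Chr.cjAct_mem hχ (h.hTS hx) (hTD hx)
  hinvA := fun x hx χ hχ => Chr.cjAct_mem hχ (h.hAS hx) (hAD hx)
  hexp := fun χ hχ => Chr.pow_card hχ
  hNT := h.coprime_TS.symm
  hCA := by
    intro χ hχ hfix
    apply Chr.eq_one_of_le_ker hχ
    have h1 : ⁅S, A⁆ ≤ Chr.ker χ S D hχ := by
      rw [Subgroup.commutator_le]
      intro u hu x hx
      exact Chr.comm_mem_ker hχ (h.hAS hx) (hfix x hx) hu
    rw [h.comm_SA] at h1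
    exact h1
  hCT := by
    intro χ hχ hfix
    apply Chr.eq_one_of_le_ker hχ
    have h1 : ⁅S, T⁆ ≤ Chr.ker χ S D hχ := by
      rw [Subgroup.commutator_le]
      intro u hu x hx
      exact Chr.comm_mem_ker hχ (h.hTS hx) (hfix x hx) hu
    rw [h.comm_ST] at h1
    exact h1

/-- in type I, `T = [T, b'] T₀` -/
theorem genb (h : MinCfg ρ A H S T p q e a b s t) (hcen : ∀ x ∈ T, a * x = x * a) :
    ∀ g ∈ Subgroup.zpowers a, ∀ D : Subgroup Γ, T0 S T ≤ D →
      (∀ y ∈ T, (g * b * g⁻¹)⁻¹ * y⁻¹ * (g * b * g⁻¹) * y ∈ D) → T ≤ D := by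
  intro g hg D h0 hD
  have h' := h.conj_b hg
  obtain ⟨b', hb'def⟩ : ∃ b' : Γ, b' = g * b * g⁻¹ := ⟨_, rfl⟩
  rw [← hb'def] at hD h'
  have hfr := h'.frob
  have hb'A : b' ∈ A := hfr.hb
  have hb'invA : b'⁻¹ ∈ A := A.inv_mem hb'A
  -- `b'⁻¹` has no fixed points on `T / T₀`
  have hfpf : ∀ x ∈ T, b'⁻¹ * x * b'⁻¹⁻¹ * x⁻¹ ∈ T0 S T → x ∈ T0 S T := by
    intro x hx hxb
    have hact : CoprimeAction (Subgroup.zpowers b') T :=
      { normalizes := (Subgroup.zpowers_le.mpr hb'A).trans h.hAT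
        coprime := Nat.Coprime.coprime_dvd_left
          (Subgroup.card_dvd_of_le (Subgroup.zpowers_le.mpr hb'A)) h.coprime_T
        solvable := Or.inl inferInstance }
    have h1 : Subgroup.zpowers b' ≤ Cmod (T0 S T) x := by
      rw [← Subgroup.zpowers_inv, Subgroup.zpowers_le]
      exact ⟨h.A_le_normalizer_T0 hb'invA, hxb⟩
    obtain ⟨c, hc, hxc⟩ := coprime_centralizer_quotient hact (T0_le S T) h.T_le_normalizer_T0
      ((Subgroup.zpowers_le.mpr hb'A).trans h.A_le_normalizer_T0) hx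
      (fun y hy => (h1 hy).2)
    rw [Subgroup.mem_inf, Subgroup.mem_centralizer_iff] at hc
    have hcb : b' * c = c * b' := hc.2 b' (Subgroup.mem_zpowers b')
    have hc1 : c = 1 := h'.toCfg.eq_one_of_comm (h.hTH hc.1) (hcen c hc.1) hcb
    rw [hc1, mul_one] at hxc
    have := (T0 S T).inv_mem hxc
    rwa [inv_inv] at this
  intro d hd
  obtain ⟨y, hy, hz⟩ := surj_of_fpf_section (T0_le S T) h.comm_T (h.hAT hb'invA)
    (h.A_le_normalizer_T0 hb'invA) hfpf d hd
  have h2 := hD y⁻¹ (T.inv_mem hy)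
  rw [inv_inv] at h2
  have e1 : d = (b'⁻¹ * y * b'⁻¹⁻¹ * y⁻¹ * d⁻¹)⁻¹ * (b'⁻¹ * y * b' * y⁻¹) := by group
  rw [e1]
  exact D.mul_mem (D.inv_mem (h0 hz)) h2

end MinCfg

end Cfsg.Agent.Lib.H19.PQ
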