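import Mathlib
import Cfsg.Agent.Lib.H19.PQ11
import Cfsg.Agent.Lib.H19.SG9

/-!
# The minimal counterexample: `S` is not abelian (helper19)
-/

set_option autoImplicit false
set_option linter.unusedSectionVars false
set_option linter.style.haveILetI false
set_option maxHeartbeats 1000000

namespace Cfsg.Agent.Lib.H19.PQ

open Module Cfsg.Agent.Lib.H1 Cfsg.Agent.Lib.H19.Ward Cfsg.Agent.Lib.H19.SG
open scoped commutatorElement

variable {Γ : Type*} [Group Γ] [Finite Γ] {k : Type*} [Field k]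
  {W : Type*} [AddCommGroup W] [Module k W]

section weights

variable [IsAlgClosed k] [FiniteDimensional k W] (ρ : Representation k Γ W)

/-- two operators agreeing on all weight spaces of `B` are equal -/
theorem ext_of_wtS {B : Subgroup Γ} (hBk : (Nat.card B : k) ≠ 0)
    (hBc : ∀ u ∈ B, ∀ v ∈ B, Commute (ρ u) (ρ v)) {F₁ F₂ : Module.End k W}
    (h : ∀ χ : Γ → k, ∀ m ∈ wtS ρ B χ, F₁ m = F₂ m) : F₁ = F₂ := by
  have hss : ∀ u : ↥B, Module.End.IsSemisimple (ρ (u : Γ)) := semisimple_of_mem ρ hBk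
  have hcomm : ∀ u v : ↥B, Commute (ρ (u : Γ)) (ρ (v : Γ)) := fun u v => hBc u u.2 v v.2
  apply ext_of_wtF hss hcomm
  intro χ m hm
  apply h (ext0 χ) m
  rw [wtS_ext0]
  exact hm

/-- if all weights of `B` are trivial then `B` acts trivially -/
theorem trivial_of_weights {B : Subgroup Γ} (hBk : (Nat.card B : k) ≠ 0)
    (hBc : ∀ u ∈ B, ∀ v ∈ B, Commute (ρ u) (ρ v))
    (h : ∀ χ : Γ → k, wtS ρ B χ ≠ ⊥ → ∀ u ∈ B, χ u = 1) : ∀ u ∈ B, ρ u = 1 := by
  intro u hu
  apply ext_of_wtS ρ hBk hBc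
  intro χ m hm
  by_cases hbot : wtS ρ B χ = ⊥
  · rw [hbot, Submodule.mem_bot] at hm
    rw [hm, map_zero, map_zero]
  · rw [mem_wtS] at hm
    rw [hm u hu, h χ hbot u hu, one_smul, Module.End.one_apply]

/-- a character stabilized on `B` by `x` (normalizing `B`) is fixed by `cjAct x` -/
theorem cjAct_eq_of_forall {B D : Subgroup Γ} {χ : Γ → kˣ} (hχ : χ ∈ Chr k B D) {x : Γ}
    (hx : x ∈ Subgroup.normalizer (B : Set Γ))
    (h : ∀ u ∈ B, toK χ (x⁻¹ * u * x) = toK χ u) : cjAct x χ = χ := by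
  funext u
  rw [cjAct_apply]
  by_cases hu : u ∈ B
  · apply Units.ext
    exact h u hu
  · have h1 : x⁻¹ * u * x ∉ B := by
      intro h2
      apply hu
      have h3 := (Subgroup.mem_normalizer_iff.mp hx _).mp h2
      have e1 : x * (x⁻¹ * u * x) * x⁻¹ = u := by group
      rwa [e1] at h3
    rw [hχ.1 _ h1, hχ.1 _ hu]

end weights

namespace MinCfg

variable {ρ : Representation k Γ W} {A H S T : Subgroup Γ} {p q e : ℕ} {a b : Γ} {s t : ℕ}

theorem coprime_T_p (h : MinCfg ρ A H S T p q e a b s t) : (Nat.card T).Coprime p := by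
  have h1 := h.coprime_T
  rw [h.hAcard] at h1
  exact (Nat.Coprime.coprime_dvd_left (Dvd.intro q rfl) h1).symm

theorem bot_normalizer (K : Subgroup Γ) : K ≤ Subgroup.normalizer (((⊥ : Subgroup Γ)) : Set Γ) := by
  rw [Subgroup.normalizer_eq_top]
  exact le_top

/-- the centralizer of `a` in `S`, in type I -/
theorem cen_a_le (h : MinCfg ρ A H S T p q e a b s t) (hcen : ∀ x ∈ T, a * x = x * a) :
    ∀ u ∈ S, a * u = u * a → ∀ x ∈ T, x * u = u * x := by
  classical
  have hfr := h.frob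
  obtain ⟨CS, hCSdef⟩ : ∃ CS : Subgroup Γ,
      CS = S ⊓ Subgroup.centralizer ((Subgroup.zpowers a : Subgroup Γ) : Set Γ) := ⟨_, rfl⟩
  have hCSmem : ∀ u, u ∈ CS ↔ u ∈ S ∧ a * u = u * a := by
    intro u
    rw [hCSdef, Subgroup.mem_inf, Subgroup.mem_centralizer_iff]
    constructor
    · rintro ⟨hu, hc⟩
      exact ⟨hu, hc a (Subgroup.mem_zpowers a)⟩
    · rintro ⟨hu, hc⟩
      refine ⟨hu, ?_⟩
      intro g hg
      obtain ⟨n, rfl⟩ := Subgroup.mem_zpowers_iff.mp hg
      exact (Commute.zpow_left (show Commute a u from hc) n).eq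
  have hCSS : CS ≤ S := by rw [hCSdef]; exact inf_le_left
  have hCSA : A ≤ Subgroup.normalizer (CS : Set Γ) := by
    have key : ∀ g ∈ A, ∀ u ∈ CS, g * u * g⁻¹ ∈ CS := by
      intro g hg u hu
      rw [hCSdef] at hu ⊢
      rw [Subgroup.mem_inf] at hu ⊢
      refine ⟨h.conjS hg hu.1, ?_⟩
      rw [Subgroup.mem_centralizer_iff] at hu ⊢
      intro y hy
      have h2 : g⁻¹ * y * g ∈ Subgroup.zpowers a := hfr.normal_zpowers' hg hy
      have h4 := hu.2 _ h2
      calc y * (g * u * g⁻¹) = g * ((g⁻¹ * y * g) * u) * g⁻¹ := by group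
        _ = g * (u * (g⁻¹ * y * g)) * g⁻¹ := by rw [h4]
        _ = g * u * g⁻¹ * y := by group
    intro g hg
    apply mem_normalizer_of_conj
    · exact key g hg
    · intro x hx
      have := key g⁻¹ (A.inv_mem hg) x hx
      rwa [inv_inv] at this
  have hCST : T ≤ Subgroup.normalizer (CS : Set Γ) := by
    have key : ∀ g ∈ T, ∀ u ∈ CS, g * u * g⁻¹ ∈ CS := by
      intro g hg u hu
      rw [hCSmem] at hu ⊢
      refine ⟨h.conjTS hg hu.1, ?_⟩
      have h1 := hcen g hg
      have h1' : a * g⁻¹ = g⁻¹ * a := by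
        have := hcen g⁻¹ (T.inv_mem hg)
        exact this
      calc a * (g * u * g⁻¹) = (a * g) * u * g⁻¹ := by group
        _ = g * (a * u) * g⁻¹ := by rw [h1]; group
        _ = g * u * (a * g⁻¹) := by rw [hu.2]; group
        _ = g * u * g⁻¹ * a := by rw [h1']; group
    intro g hg
    apply mem_normalizer_of_conj
    · exact key g hg
    · intro x hx
      have := key g⁻¹ (T.inv_mem hg) x hx
      rwa [inv_inv] at this
  have hne : CS ≠ S := by
    intro heq
    apply h.not_cen _ hcen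
    intro u hu
    have : u ∈ CS := by rw [heq]; exact hu
    exact ((hCSmem u).mp this).2
  have h5 := h.hR2 CS hCSS hne hCSA hCST
  intro u hu hau x hx
  have h6 : u ∈ CS := (hCSmem u).mpr ⟨hu, hau⟩
  exact (Subgroup.mem_centralizer_iff.mp (h5 hx) u h6).symm

/-- `S` is not abelian -/
theorem not_abelian [IsAlgClosed k] [FiniteDimensional k W] (h : MinCfg ρ A H S T p q e a b s t)
    (hab : ∀ u ∈ S, ∀ v ∈ S, u * v = v * u) : False := by
  classical
  have hfr := h.frob
  have hAB := h.abhyp ⊥ (bot_normalizer A) (bot_normalizer T)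
  have hBc : ∀ u ∈ S, ∀ v ∈ S, Commute (ρ u) (ρ v) := by
    intro u hu v hv
    show ρ u * ρ v = ρ v * ρ u
    rw [← map_mul, ← map_mul, hab u hu v hv]
  have hSk := h.card_S_ne_zero
  -- `C_S(T) = 1`
  have hCST : ∀ u ∈ S, (∀ x ∈ T, x * u = u * x) → u = 1 := by
    intro u hu hux
    haveI : IsMulCommutative ↥S := ⟨⟨fun x y => Subtype.ext (hab x x.2 y y.2)⟩⟩
    have h1 := coprime_abelian_centralizer_inf_commutator h.hTS h.coprime_TS
    rw [h.comm_ST] at h1
    have h2 : u ∈ (S ⊓ Subgroup.centralizer (T : Set Γ)) ⊓ S := by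
      rw [Subgroup.mem_inf, Subgroup.mem_inf, Subgroup.mem_centralizer_iff]
      exact ⟨⟨hu, fun x hx => hux x hx⟩, hu⟩
    rw [h1, Subgroup.mem_bot] at h2
    exact h2
  -- the set of weights
  obtain ⟨Ω, hΩdef⟩ : ∃ Ω : Set (Γ → kˣ), Ω = {χ | χ ∈ Chr k S ⊥ ∧ wtS ρ S (toK χ) ≠ ⊥} :=
    ⟨_, rfl⟩
  have hΩX : Ω ⊆ Chr k S ⊥ := by
    intro χ hχ
    rw [hΩdef] at hχ
    exact hχ.1
  have hΩT : ∀ x ∈ T, ∀ χ ∈ Ω, cjAct x χ ∈ Ω := by
    intro x hx χ hχ
    rw [hΩdef] at hχ ⊢
    refine ⟨hAB.hinvT x hx χ hχ.1, ?_⟩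
    obtain ⟨w, hw, hw0⟩ := Submodule.exists_mem_ne_zero_of_ne_bot hχ.2
    have h1 := map_wtS_cj ρ (h.hTS hx) hw
    intro hbot
    rw [hbot, Submodule.mem_bot] at h1
    apply hw0
    have h2 := congrArg (ρ x⁻¹) h1
    rw [← Module.End.mul_apply, ← map_mul, inv_mul_cancel, map_one, Module.End.one_apply,
      map_zero] at h2
    exact h2
  have hstab : ∀ χ ∈ Ω, ∃ x ∈ A, x ≠ 1 ∧ cjAct x χ = χ := by
    intro χ hχ
    rw [hΩdef] at hχ
    obtain ⟨x, hxA, hx1, hxχ⟩ := exists_stab_of_wt ρ h.hAS hSk hBc h.hfixW hχ.2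
    exact ⟨x, hxA, hx1, cjAct_eq_of_forall hχ.1 (h.hAS hxA) hxχ⟩
  -- all weights are trivial
  have hall : ∀ χ ∈ Ω, χ = 1 := by
    rcases h.dichotomy with hcen | hfpf
    · -- type I
      have hafpf : ∀ χ ∈ Chr k S ⊥, cjAct a χ = χ → χ = 1 := by
        intro χ hχ haχ
        apply Chr.eq_one_of_le_ker hχ
        have hact : CoprimeAction (Subgroup.zpowers a) S :=
          { normalizes := (h.zpowers_le).trans h.hAS
            coprime := Nat.Coprime.coprime_dvd_left (Subgroup.card_dvd_of_le h.zpowers_le)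
              h.coprime_S
            solvable := Or.inl inferInstance }
        have h1 := coprime_commutator_sup_centralizer hact
        have h2 : S ⊓ Subgroup.centralizer ((Subgroup.zpowers a : Subgroup Γ) : Set Γ) = ⊥ := by
          rw [eq_bot_iff]
          intro u hu
          rw [Subgroup.mem_inf, Subgroup.mem_centralizer_iff] at hu
          rw [Subgroup.mem_bot]
          have hau : a * u = u * a := hu.2 a (Subgroup.mem_zpowers a)
          exact hCST u hu.1 (h.cen_a_le hcen u hu.1 hau)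
        rw [h2, sup_bot_eq] at h1
        have h3 : ⁅S, Subgroup.zpowers a⁆ ≤ Chr.ker χ S ⊥ hχ := by
          rw [Subgroup.commutator_le]
          intro u hu g hg
          have hgχ : cjAct g χ = χ := ABHyp.fix_zpowers haχ hg
          exact Chr.comm_mem_ker hχ (h.hAS (h.zpowers_le hg)) hgχ hu
        intro u hu
        apply h3
        rw [h1]
        exact hu
      exact hAB.typeI hcen hafpf h.coprime_T_p (h.genb hcen) Ω hΩX hΩT hstab
    · exact hAB.typeII hfpf h.irr_T Ω hΩX hΩT hstab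
  -- hence `S` acts trivially
  have htriv : ∀ u ∈ S, ρ u = 1 := by
    apply trivial_of_weights ρ hSk hBc
    intro χ hχ u hu
    obtain ⟨χ', hχ', hχχ'⟩ := exists_chr_of_wt ρ hχ
    have h1 : χ' ∈ Ω := by
      rw [hΩdef]
      refine ⟨hχ', ?_⟩
      rw [wtS_congr ρ (χ := toK χ') (χ' := χ) hχχ']
      exact hχ
    have h2 := hall χ' h1
    rw [← hχχ' u hu, h2]
    rfl
  apply h.hnc
  intro x _
  rw [Subgroup.mem_centralizer_iff]
  intro u hu
  rw [h.hfaith u hu (htriv u hu), one_mul, mul_one]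

end MinCfg

end Cfsg.Agent.Lib.H19.PQ
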