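import Mathlib
import Cfsg.Agent.Lib.H19.PQ12

/-!
# The minimal counterexample: the structure of a nonabelian `S` (helper19)

`ZS S = Z(S)`; proper invariant normal subgroups of `S` are central; `T` centralizes `Z(S)`;
`S' ≤ Z(S)`; `S / Z(S)` has exponent `s`; `C_S(T) ≤ Z(S)`.
-/

set_option autoImplicit false
set_option linter.unusedSectionVars false
set_option linter.style.haveILetI false
set_option maxHeartbeats 1000000

namespace Cfsg.Agent.Lib.H19.PQ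

open Module Cfsg.Agent.Lib.H1 Cfsg.Agent.Lib.H19.Ward Cfsg.Agent.Lib.H19.SG
open scoped commutatorElement

variable {Γ : Type*} [Group Γ] [Finite Γ] {k : Type*} [Field k]
  {W : Type*} [AddCommGroup W] [Module k W]

/-- the centre of `S` -/
def ZS (S : Subgroup Γ) : Subgroup Γ := S ⊓ Subgroup.centralizer (S : Set Γ)

theorem mem_ZS {S : Subgroup Γ} {z : Γ} : z ∈ ZS S ↔ z ∈ S ∧ ∀ u ∈ S, u * z = z * u := by
  unfold ZS
  rw [Subgroup.mem_inf, Subgroup.mem_centralizer_iff]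
  rfl

theorem ZS_le (S : Subgroup Γ) : ZS S ≤ S := inf_le_left

theorem mem_normalizer_ZS {S : Subgroup Γ} {x : Γ} (hS : x ∈ Subgroup.normalizer (S : Set Γ)) :
    x ∈ Subgroup.normalizer ((ZS S : Subgroup Γ) : Set Γ) :=
  mem_normalizer_inf hS (mem_normalizer_centralizer hS)

theorem ZS_comm {S : Subgroup Γ} {z u : Γ} (hz : z ∈ ZS S) (hu : u ∈ S) : u * z = z * u :=
  (mem_ZS.mp hz).2 u hu

/-- powers of a product modulo a central subgroup containing the commutators -/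
theorem mul_pow_mod_ZS {S : Subgroup Γ} (hSS : ⁅S, S⁆ ≤ ZS S) {u v : Γ} (hu : u ∈ S) (hv : v ∈ S)
    (n : ℕ) : ∃ z ∈ ZS S, (u * v) ^ n = u ^ n * v ^ n * z := by
  induction n with
  | zero => exact ⟨1, Subgroup.one_mem _, by simp⟩
  | succ n ih =>
    obtain ⟨z, hz, hzn⟩ := ih
    have hc : ⁅(v ^ n)⁻¹, u⁻¹⁆ ∈ ZS S :=
      hSS (Subgroup.commutator_mem_commutator (S.inv_mem (S.pow_mem hv n)) (S.inv_mem hu))
    refine ⟨⁅(v ^ n)⁻¹, u⁻¹⁆ * z, Subgroup.mul_mem _ hc hz, ?_⟩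
    have hzu : u * z = z * u := ZS_comm hz hu
    have hzv : v * z = z * v := ZS_comm hz hv
    have hcv : v * ⁅(v ^ n)⁻¹, u⁻¹⁆ = ⁅(v ^ n)⁻¹, u⁻¹⁆ * v := ZS_comm hc hv
    have e1 : v ^ n * u = u * v ^ n * ⁅(v ^ n)⁻¹, u⁻¹⁆ := by
      rw [commutatorElement_def]; group
    calc (u * v) ^ (n + 1) = (u * v) ^ n * (u * v) := pow_succ _ _
      _ = u ^ n * v ^ n * z * (u * v) := by rw [hzn]
      _ = u ^ n * v ^ n * (z * u) * v := by group
      _ = u ^ n * v ^ n * (u * z) * v := by rw [hzu]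
      _ = u ^ n * (v ^ n * u) * (z * v) := by group
      _ = u ^ n * (u * v ^ n * ⁅(v ^ n)⁻¹, u⁻¹⁆) * (v * z) := by rw [e1, hzv]
      _ = u ^ n * u * v ^ n * (⁅(v ^ n)⁻¹, u⁻¹⁆ * v) * z := by group
      _ = u ^ n * u * v ^ n * (v * ⁅(v ^ n)⁻¹, u⁻¹⁆) * z := by rw [hcv]
      _ = u ^ (n + 1) * v ^ (n + 1) * (⁅(v ^ n)⁻¹, u⁻¹⁆ * z) := by
        rw [pow_succ, pow_succ]; group

namespace MinCfg

variable {ρ : Representation k Γ W} {A H S T : Subgroup Γ} {p q e : ℕ} {a b : Γ} {s t : ℕ}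

theorem A_le_normalizer_ZS (h : MinCfg ρ A H S T p q e a b s t) :
    A ≤ Subgroup.normalizer ((ZS S : Subgroup Γ) : Set Γ) :=
  fun _ hx => mem_normalizer_ZS (h.hAS hx)

theorem T_le_normalizer_ZS (h : MinCfg ρ A H S T p q e a b s t) :
    T ≤ Subgroup.normalizer ((ZS S : Subgroup Γ) : Set Γ) :=
  fun _ hx => mem_normalizer_ZS (h.hTS hx)

theorem ZS_ne (h : MinCfg ρ A H S T p q e a b s t)
    (hna : ¬ ∀ u ∈ S, ∀ v ∈ S, u * v = v * u) : ZS S ≠ S := by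
  intro heq
  apply hna
  intro u hu v hv
  have : v ∈ ZS S := by rw [heq]; exact hv
  exact ZS_comm this hu

/-- proper invariant normal subgroups of `S` are central -/
theorem le_ZS (h : MinCfg ρ A H S T p q e a b s t) {D : Subgroup Γ} (hDS : D ≤ S) (hne : D ≠ S)
    (hAD : A ≤ Subgroup.normalizer (D : Set Γ)) (hTD : T ≤ Subgroup.normalizer (D : Set Γ))
    (hSD : S ≤ Subgroup.normalizer (D : Set Γ)) : D ≤ ZS S := by
  have h1 := h.hR2 D hDS hne hAD hTD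
  have h2 : ⁅D, T⁆ = ⊥ := by
    rw [Subgroup.commutator_eq_bot_iff_le_centralizer]
    intro u hu
    rw [Subgroup.mem_centralizer_iff]
    intro x hx
    exact (Subgroup.mem_centralizer_iff.mp (h1 hx) u hu).symm
  have h3 : ⁅⁅D, T⁆, S⁆ = ⊥ := by
    rw [h2, Subgroup.commutator_bot_left]
  have h4 : ⁅⁅S, D⁆, T⁆ = ⊥ := by
    rw [eq_bot_iff, ← h2]
    apply Subgroup.commutator_mono _ le_rfl
    rw [Subgroup.commutator_comm]
    exact (Subgroup.le_normalizer_iff_commutator_le_left).mp hSD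
  have h5 := Subgroup.commutator_commutator_eq_bot_of_rotate h4 h3
  rw [Subgroup.commutator_comm T S, h.comm_ST, Subgroup.commutator_eq_bot_iff_le_centralizer] at h5
  intro u hu
  rw [mem_ZS]
  refine ⟨hDS hu, fun v hv => ?_⟩
  exact (Subgroup.mem_centralizer_iff.mp (h5 hv) u hu).symm

/-- `T` centralizes `Z(S)` -/
theorem T_cen_ZS (h : MinCfg ρ A H S T p q e a b s t)
    (hna : ¬ ∀ u ∈ S, ∀ v ∈ S, u * v = v * u) : ∀ x ∈ T, ∀ z ∈ ZS S, x * z = z * x := by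
  have h1 := h.hR2 (ZS S) (ZS_le S) (h.ZS_ne hna) h.A_le_normalizer_ZS h.T_le_normalizer_ZS
  intro x hx z hz
  exact (Subgroup.mem_centralizer_iff.mp (h1 hx) z hz).symm

theorem S_ne_bot (h : MinCfg ρ A H S T p q e a b s t) : S ≠ ⊥ := by
  intro h0
  apply h.hnc
  rw [h0]
  intro x _
  rw [Subgroup.mem_centralizer_iff]
  intro u hu
  rw [SetLike.mem_coe, Subgroup.mem_bot] at hu
  rw [hu, one_mul, mul_one]

/-- `S' ≤ Z(S)` -/
theorem comm_le_ZS (h : MinCfg ρ A H S T p q e a b s t) : ⁅S, S⁆ ≤ ZS S := by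
  have hle : ⁅S, S⁆ ≤ S := Subgroup.commutator_le_self S
  have hne : ⁅S, S⁆ ≠ S := by
    intro heq
    haveI : Fact s.Prime := ⟨h.hs⟩
    haveI : Group.IsNilpotent ↥S := h.hS.isNilpotent
    haveI : Nontrivial ↥S := by
      rw [Subgroup.nontrivial_iff_ne_bot]
      exact h.S_ne_bot
    have h1 := Group.IsSolvable.commutator_lt_top_of_nontrivial ↥S
    have h2 : (commutator ↥S).map S.subtype = ⁅S, S⁆ := by
      rw [commutator_def, Subgroup.map_commutator, ← MonoidHom.range_eq_map, Subgroup.range_subtype]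
    have h3 : (commutator ↥S).map S.subtype = (⊤ : Subgroup ↥S).map S.subtype := by
      rw [h2, heq, ← MonoidHom.range_eq_map, Subgroup.range_subtype]
    have h4 := Subgroup.map_injective (Subgroup.subtype_injective S) h3
    exact absurd h4 (ne_of_lt h1)
  exact h.le_ZS hle hne (fun x hx => mem_normalizer_commutator (h.hAS hx) (h.hAS hx))
    (fun x hx => mem_normalizer_commutator (h.hTS hx) (h.hTS hx))
    (fun x hx => mem_normalizer_commutator (Subgroup.le_normalizer hx) (Subgroup.le_normalizer hx))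

theorem comm_mem_ZS (h : MinCfg ρ A H S T p q e a b s t) {u v : Γ} (hu : u ∈ S) (hv : v ∈ S) :
    u * v * u⁻¹ * v⁻¹ ∈ ZS S :=
  h.comm_le_ZS (Subgroup.commutator_mem_commutator hu hv)

/-- `S / Z(S)` has exponent `s` -/
theorem pow_mem_ZS (h : MinCfg ρ A H S T p q e a b s t)
    (hna : ¬ ∀ u ∈ S, ∀ v ∈ S, u * v = v * u) : ∀ u ∈ S, u ^ s ∈ ZS S := by
  classical
  have hconjZ : ∀ g ∈ Subgroup.normalizer (S : Set Γ), ∀ z ∈ ZS S, g * z * g⁻¹ ∈ ZS S :=
    fun g hg z hz => (Subgroup.mem_normalizer_iff.mp (mem_normalizer_ZS hg) z).mp hz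
  let D : Subgroup Γ :=
    { carrier := {u | u ∈ S ∧ u ^ s ∈ ZS S}
      one_mem' := ⟨S.one_mem, by rw [one_pow]; exact Subgroup.one_mem _⟩
      mul_mem' := by
        rintro u v ⟨hu, hus⟩ ⟨hv, hvs⟩
        refine ⟨S.mul_mem hu hv, ?_⟩
        obtain ⟨z, hz, hzn⟩ := mul_pow_mod_ZS h.comm_le_ZS hu hv s
        rw [hzn]
        exact Subgroup.mul_mem _ (Subgroup.mul_mem _ hus hvs) hz
      inv_mem' := by
        rintro u ⟨hu, hus⟩
        refine ⟨S.inv_mem hu, ?_⟩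
        rw [inv_pow]
        exact Subgroup.inv_mem _ hus }
  have hDmem : ∀ u, u ∈ D ↔ u ∈ S ∧ u ^ s ∈ ZS S := fun u => Iff.rfl
  have hDS : D ≤ S := fun u hu => hu.1
  have hZD : ZS S ≤ D := fun z hz => ⟨ZS_le S hz, Subgroup.pow_mem _ hz s⟩
  have hnorm : ∀ g ∈ Subgroup.normalizer (S : Set Γ), g ∈ Subgroup.normalizer (D : Set Γ) := by
    have key : ∀ g ∈ Subgroup.normalizer (S : Set Γ), ∀ u ∈ D, g * u * g⁻¹ ∈ D := by
      intro g hg u hu
      refine ⟨(Subgroup.mem_normalizer_iff.mp hg u).mp hu.1, ?_⟩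
      rw [conj_pow]
      exact hconjZ g hg _ hu.2
    intro g hg
    apply mem_normalizer_of_conj
    · exact key g hg
    · intro x hx
      have := key g⁻¹ (Subgroup.inv_mem _ hg) x hx
      rwa [inv_inv] at this
  by_contra hcon
  push Not at hcon
  obtain ⟨u₀, hu₀, hu₀s⟩ := hcon
  have hDne : D ≠ S := by
    intro heq
    apply hu₀s
    have : u₀ ∈ D := by rw [heq]; exact hu₀
    exact this.2
  have hDZ : D ≤ ZS S := h.le_ZS hDS hDne (fun x hx => hnorm x (h.hAS hx))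
    (fun x hx => hnorm x (h.hTS hx)) (fun x hx => hnorm x (Subgroup.le_normalizer hx))
  -- an element of `S ∖ Z` with `s`-th power in `Z`
  have hu₀Z : u₀ ∉ ZS S := by
    intro hz
    exact hu₀s (Subgroup.pow_mem _ hz s)
  haveI : Fact s.Prime := ⟨h.hs⟩
  obtain ⟨n, hn⟩ := (IsPGroup.iff_orderOf.mp h.hS) ⟨u₀, hu₀⟩
  have hpow : u₀ ^ (s ^ n) = 1 := by
    have h1 : (⟨u₀, hu₀⟩ : ↥S) ^ (s ^ n) = 1 := by rw [← hn]; exact pow_orderOf_eq_one _
    have h2 := congrArg (Subtype.val : ↥S → Γ) h1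
    rwa [Subgroup.coe_pow, Subgroup.coe_one] at h2
  have hex : ∃ m, u₀ ^ (s ^ m) ∈ ZS S := ⟨n, by rw [hpow]; exact Subgroup.one_mem _⟩
  obtain ⟨m, hm, hmin⟩ : ∃ m, u₀ ^ (s ^ m) ∈ ZS S ∧ ∀ j < m, u₀ ^ (s ^ j) ∉ ZS S :=
    ⟨Nat.find hex, Nat.find_spec hex, fun j hj => Nat.find_min hex hj⟩
  have hm0 : m ≠ 0 := by
    intro h0
    rw [h0, pow_zero, pow_one] at hm
    exact hu₀Z hm
  obtain ⟨m', rfl⟩ : ∃ m', m = m' + 1 := ⟨m - 1, by omega⟩
  have h1 : u₀ ^ (s ^ m') ∈ D := by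
    refine ⟨S.pow_mem hu₀ _, ?_⟩
    rw [← pow_mul, ← pow_succ]
    exact hm
  exact hmin m' (Nat.lt_succ_self m') (hDZ h1)

/-- `C_S(T) ≤ Z(S)` -/
theorem cen_T_le_ZS (h : MinCfg ρ A H S T p q e a b s t)
    (hna : ¬ ∀ u ∈ S, ∀ v ∈ S, u * v = v * u) :
    ∀ u ∈ S, (∀ x ∈ T, x * u = u * x) → u ∈ ZS S := by
  obtain ⟨C, hCdef⟩ : ∃ C : Subgroup Γ, C = S ⊓ Subgroup.centralizer (T : Set Γ) := ⟨_, rfl⟩
  have hCS : C ≤ S := by rw [hCdef]; exact inf_le_left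
  have h2 : ⁅T, C⁆ = ⊥ := by
    rw [Subgroup.commutator_eq_bot_iff_le_centralizer]
    intro x hx
    rw [Subgroup.mem_centralizer_iff]
    intro u hu
    rw [hCdef, SetLike.mem_coe, Subgroup.mem_inf, Subgroup.mem_centralizer_iff] at hu
    exact (hu.2 x hx).symm
  have h3 : ⁅⁅T, C⁆, S⁆ = ⊥ := by
    rw [h2, Subgroup.commutator_bot_left]
  have h4 : ⁅⁅C, S⁆, T⁆ = ⊥ := by
    rw [Subgroup.commutator_eq_bot_iff_le_centralizer]
    intro z hz
    have hzZ : z ∈ ZS S := h.comm_le_ZS (Subgroup.commutator_mono hCS le_rfl hz)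
    rw [Subgroup.mem_centralizer_iff]
    intro x hx
    exact h.T_cen_ZS hna x hx z hzZ
  have h5 := Subgroup.commutator_commutator_eq_bot_of_rotate h3 h4
  rw [h.comm_ST, Subgroup.commutator_eq_bot_iff_le_centralizer] at h5
  intro u hu hux
  rw [mem_ZS]
  refine ⟨hu, fun v hv => ?_⟩
  have huC : u ∈ C := by
    rw [hCdef, Subgroup.mem_inf, Subgroup.mem_centralizer_iff]
    exact ⟨hu, fun x hx => hux x hx⟩
  exact (Subgroup.mem_centralizer_iff.mp (h5 hv) u huC).symm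

end MinCfg

end Cfsg.Agent.Lib.H19.PQ
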