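import Mathlib
import Cfsg.Agent.Lib.H19.PQ13

/-!
# The characters `χ_{ζ,u} : v ↦ ζ [u, v]` of a group of class two (helper19)

`S` is a subgroup with `S' ≤ Z(S)`, `ζ` a character of `Z(S)`.
* `chi S ζ u` : the character `v ↦ ζ (u v u⁻¹ v⁻¹)` of `S`, trivial on `Z(S)`.
* `Xz S ζ` : the group of all `chi S ζ u`, `u ∈ S`.
* `Rz S ζ` : the radical, the kernel of `u ↦ chi S ζ u`.
-/

set_option autoImplicit false
set_option linter.unusedSectionVars false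
set_option linter.style.haveILetI false
set_option maxHeartbeats 1000000

namespace Cfsg.Agent.Lib.H19.PQ

open Module Cfsg.Agent.Lib.H1 Cfsg.Agent.Lib.H19.Ward Cfsg.Agent.Lib.H19.SG
open scoped commutatorElement

variable {Γ : Type*} [Group Γ] [Finite Γ] {k : Type*} [Field k]

/-- the character `v ↦ ζ [u, v]` -/
noncomputable def chi (S : Subgroup Γ) (ζ : Γ → kˣ) (u : Γ) : Γ → kˣ := by
  classical
  exact fun v => if v ∈ S then ζ (u * v * u⁻¹ * v⁻¹) else 1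

theorem chi_apply {S : Subgroup Γ} (ζ : Γ → kˣ) (u : Γ) {v : Γ} (hv : v ∈ S) :
    chi S ζ u v = ζ (u * v * u⁻¹ * v⁻¹) := by
  unfold chi
  exact if_pos hv

theorem chi_apply_not {S : Subgroup Γ} (ζ : Γ → kˣ) (u : Γ) {v : Γ} (hv : v ∉ S) :
    chi S ζ u v = 1 := by
  unfold chi
  exact if_neg hv

section class2

variable {S : Subgroup Γ} (hSS : ⁅S, S⁆ ≤ ZS S) {ζ : Γ → kˣ} (hζ : ζ ∈ Chr k (ZS S) ⊥)

include hSS

theorem cm_mem {u v : Γ} (hu : u ∈ S) (hv : v ∈ S) : u * v * u⁻¹ * v⁻¹ ∈ ZS S :=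
  hSS (Subgroup.commutator_mem_commutator hu hv)

theorem cm_mul_right {u v v' : Γ} (hu : u ∈ S) (hv : v ∈ S) (hv' : v' ∈ S) :
    u * (v * v') * u⁻¹ * (v * v')⁻¹ = (u * v * u⁻¹ * v⁻¹) * (u * v' * u⁻¹ * v'⁻¹) := by
  have h1 := ZS_comm (cm_mem hSS hu hv') hv
  calc u * (v * v') * u⁻¹ * (v * v')⁻¹
      = (u * v * u⁻¹ * v⁻¹) * (v * (u * v' * u⁻¹ * v'⁻¹)) * v⁻¹ := by group
    _ = (u * v * u⁻¹ * v⁻¹) * ((u * v' * u⁻¹ * v'⁻¹) * v) * v⁻¹ := by rw [h1]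
    _ = (u * v * u⁻¹ * v⁻¹) * (u * v' * u⁻¹ * v'⁻¹) := by group

theorem cm_mul_left {u u' v : Γ} (hu : u ∈ S) (hu' : u' ∈ S) (hv : v ∈ S) :
    (u * u') * v * (u * u')⁻¹ * v⁻¹ = (u * v * u⁻¹ * v⁻¹) * (u' * v * u'⁻¹ * v⁻¹) := by
  have h1 := ZS_comm (cm_mem hSS hu' hv) hu
  calc (u * u') * v * (u * u')⁻¹ * v⁻¹
      = (u * (u' * v * u'⁻¹ * v⁻¹)) * u⁻¹ * (u * v * u⁻¹ * v⁻¹) := by group
    _ = ((u' * v * u'⁻¹ * v⁻¹) * u) * u⁻¹ * (u * v * u⁻¹ * v⁻¹) := by rw [h1]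
    _ = (u' * v * u'⁻¹ * v⁻¹) * (u * v * u⁻¹ * v⁻¹) := by group
    _ = (u * v * u⁻¹ * v⁻¹) * (u' * v * u'⁻¹ * v⁻¹) := by
      have h2 := ZS_comm (cm_mem hSS hu' hv) (ZS_le S (cm_mem hSS hu hv))
      exact h2.symm

include hζ

theorem chi_mem {u : Γ} (hu : u ∈ S) : chi S ζ u ∈ Chr k S (ZS S) := by
  refine ⟨fun v hv => chi_apply_not ζ u hv, fun v hv v' hv' => ?_, fun z hz => ?_⟩
  · rw [chi_apply ζ u (S.mul_mem hv hv'), chi_apply ζ u hv, chi_apply ζ u hv',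
      cm_mul_right hSS hu hv hv']
    exact Chr.map_mul hζ (cm_mem hSS hu hv) (cm_mem hSS hu hv')
  · rw [chi_apply ζ u (ZS_le S hz)]
    have h1 : u * z * u⁻¹ * z⁻¹ = 1 := by
      rw [ZS_comm hz hu]; group
    rw [h1]
    exact Chr.map_one hζ

theorem chi_mul {u u' : Γ} (hu : u ∈ S) (hu' : u' ∈ S) :
    chi S ζ (u * u') = chi S ζ u * chi S ζ u' := by
  funext v
  rw [Pi.mul_apply]
  by_cases hv : v ∈ S
  · rw [chi_apply ζ _ hv, chi_apply ζ _ hv, chi_apply ζ _ hv, cm_mul_left hSS hu hu' hv]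
    exact Chr.map_mul hζ (cm_mem hSS hu hv) (cm_mem hSS hu' hv)
  · rw [chi_apply_not ζ _ hv, chi_apply_not ζ _ hv, chi_apply_not ζ _ hv, one_mul]

theorem chi_one : chi S ζ 1 = 1 := by
  funext v
  rw [Pi.one_apply]
  by_cases hv : v ∈ S
  · rw [chi_apply ζ _ hv]
    have h1 : (1 : Γ) * v * 1⁻¹ * v⁻¹ = 1 := by group
    rw [h1]
    exact Chr.map_one hζ
  · exact chi_apply_not ζ _ hv

theorem chi_inv {u : Γ} (hu : u ∈ S) : chi S ζ u⁻¹ = (chi S ζ u)⁻¹ := by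
  have h1 := chi_mul hSS hζ hu (S.inv_mem hu)
  rw [mul_inv_cancel, chi_one hSS hζ] at h1
  exact eq_inv_of_mul_eq_one_right h1.symm

theorem chi_of_mem_ZS {z : Γ} (hz : z ∈ ZS S) : chi S ζ z = 1 := by
  funext v
  rw [Pi.one_apply]
  by_cases hv : v ∈ S
  · rw [chi_apply ζ _ hv]
    have h1 : z * v * z⁻¹ * v⁻¹ = 1 := by
      rw [← ZS_comm hz hv]; group
    rw [h1]
    exact Chr.map_one hζ
  · exact chi_apply_not ζ _ hv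

/-- the group of all `chi S ζ u` -/
def Xz (S : Subgroup Γ) (hSS : ⁅S, S⁆ ≤ ZS S) (ζ : Γ → kˣ) (hζ : ζ ∈ Chr k (ZS S) ⊥) :
    Subgroup (Γ → kˣ) where
  carrier := {χ | ∃ u ∈ S, χ = chi S ζ u}
  one_mem' := ⟨1, S.one_mem, (chi_one hSS hζ).symm⟩
  mul_mem' := by
    rintro χ χ' ⟨u, hu, rfl⟩ ⟨u', hu', rfl⟩
    exact ⟨u * u', S.mul_mem hu hu', (chi_mul hSS hζ hu hu').symm⟩
  inv_mem' := by
    rintro χ ⟨u, hu, rfl⟩
    exact ⟨u⁻¹, S.inv_mem hu, (chi_inv hSS hζ hu).symm⟩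

theorem mem_Xz {χ : Γ → kˣ} : χ ∈ Xz S hSS ζ hζ ↔ ∃ u ∈ S, χ = chi S ζ u := Iff.rfl

theorem Xz_le : Xz S hSS ζ hζ ≤ Chr k S (ZS S) := by
  rintro χ ⟨u, hu, rfl⟩
  exact chi_mem hSS hζ hu

/-- the radical -/
def Rz (S : Subgroup Γ) (hSS : ⁅S, S⁆ ≤ ZS S) (ζ : Γ → kˣ) (hζ : ζ ∈ Chr k (ZS S) ⊥) :
    Subgroup Γ where
  carrier := {u | u ∈ S ∧ chi S ζ u = 1}
  one_mem' := ⟨S.one_mem, chi_one hSS hζ⟩
  mul_mem' := by
    rintro u u' ⟨hu, hu1⟩ ⟨hu', hu1'⟩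
    exact ⟨S.mul_mem hu hu', by rw [chi_mul hSS hζ hu hu', hu1, hu1', one_mul]⟩
  inv_mem' := by
    rintro u ⟨hu, hu1⟩
    exact ⟨S.inv_mem hu, by rw [chi_inv hSS hζ hu, hu1, inv_one]⟩

theorem mem_Rz {u : Γ} : u ∈ Rz S hSS ζ hζ ↔ u ∈ S ∧ chi S ζ u = 1 := Iff.rfl

theorem mem_Rz' {u : Γ} : u ∈ Rz S hSS ζ hζ ↔ u ∈ S ∧ ∀ v ∈ S, ζ (u * v * u⁻¹ * v⁻¹) = 1 := by
  rw [mem_Rz]
  constructor
  · rintro ⟨hu, h1⟩
    refine ⟨hu, fun v hv => ?_⟩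
    rw [← chi_apply ζ u hv, h1]
    rfl
  · rintro ⟨hu, h1⟩
    refine ⟨hu, ?_⟩
    funext v
    rw [Pi.one_apply]
    by_cases hv : v ∈ S
    · rw [chi_apply ζ u hv, h1 v hv]
    · exact chi_apply_not ζ u hv

theorem Rz_le : Rz S hSS ζ hζ ≤ S := fun _ hu => hu.1

theorem ZS_le_Rz : ZS S ≤ Rz S hSS ζ hζ := fun z hz => ⟨ZS_le S hz, chi_of_mem_ZS hSS hζ hz⟩

/-- the symmetry `ζ [u, v] = (ζ [v, u])⁻¹` -/
theorem chi_symm {u v : Γ} (hu : u ∈ S) (hv : v ∈ S) :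
    chi S ζ u v = (chi S ζ v u)⁻¹ := by
  rw [chi_apply ζ u hv, chi_apply ζ v hu]
  have e1 : v * u * v⁻¹ * u⁻¹ = (u * v * u⁻¹ * v⁻¹)⁻¹ := by group
  rw [e1, Chr.map_inv hζ (cm_mem hSS hu hv), inv_inv]

/-- the action of an element normalizing `S` -/
theorem cjAct_chi {g : Γ} (hg : g ∈ Subgroup.normalizer (S : Set Γ)) (u : Γ) :
    cjAct g (chi S ζ u) = chi S (cjAct g ζ) (g * u * g⁻¹) := by
  funext v
  rw [cjAct_apply]
  have hS : g⁻¹ * v * g ∈ S ↔ v ∈ S := by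
    have := Subgroup.mem_normalizer_iff.mp (Subgroup.inv_mem _ hg) v
    rw [inv_inv] at this
    exact this.symm
  by_cases hv : v ∈ S
  · rw [chi_apply ζ u (hS.mpr hv), chi_apply _ _ hv, cjAct_apply]
    congr 1
    group
  · rw [chi_apply_not ζ u (fun hh => hv (hS.mp hh)), chi_apply_not _ _ hv]

end class2

/-- a character of `Z` is fixed by an element centralizing `Z` -/
theorem cjAct_eq_of_cen {Z : Subgroup Γ} {ζ : Γ → kˣ} (hζ : ζ ∈ Chr k Z ⊥) {x : Γ}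
    (hx : ∀ z ∈ Z, x * z = z * x) : cjAct x ζ = ζ := by
  funext z
  rw [cjAct_apply]
  by_cases hz : z ∈ Z
  · have h1 : x⁻¹ * z * x = z := by
      rw [mul_assoc, ← hx z hz, ← mul_assoc, inv_mul_cancel, one_mul]
    rw [h1]
  · have h1 : x⁻¹ * z * x ∉ Z := by
      intro h2
      apply hz
      have h3 := hx _ h2
      have e1 : z = x * (x⁻¹ * z * x) * x⁻¹ := by group
      rw [e1, h3]
      have e2 : x⁻¹ * z * x * x * x⁻¹ = x⁻¹ * z * x := by group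
      rw [e2]
      exact h2
    rw [hζ.1 _ h1, hζ.1 _ hz]

end Cfsg.Agent.Lib.H19.PQ
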