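import Mathlib
import Cfsg.Agent.Lib.H19.SG10

/-!
# A Hall–Higman type count for an automorphism of prime order acting freely modulo the radical
(helper19)

`hh_free` : `Q` a finite group with a central subgroup `Z` containing all commutators, `lam` a
weight of `Z` on `W` fixed by the automorphism `φ` (`φ ^ P = 1`, `P` an odd prime), `T` an operator
inducing `φ` without nonzero fixed vectors on the weight space.  If `φ` acts freely on `Q / R`,
`R` the radical of `lam ∘ [ , ]`, then `R = Q` or `|Q : R| = (P - 1)²`.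
-/

set_option autoImplicit false
set_option linter.unusedSectionVars false
set_option linter.style.haveILetI false
set_option maxHeartbeats 1000000

namespace Cfsg.Agent.Lib.H19.SG

open Module Cfsg.Agent.Lib.H19.Ward Cfsg.Agent.Lib.H19.ModRep

variable {k : Type*} [Field k] {Q : Type*} [Group Q] {W : Type*} [AddCommGroup W] [Module k W]

/-- restriction of a twisted operator to a subspace invariant under `Q` and `T` -/
theorem Tw.restrict {ρ : Representation k Q W} {φ : MulAut Q} {T : Module.End k W} {P : ℕ}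
    (h : Tw ρ φ T P) (U : Submodule k W) (hU : Inv ρ U) (hTU : ∀ w ∈ U, T w ∈ U) :
    Tw (ModRep.sub ρ U hU) φ (T.restrict hTU) P where
  hT := by
    apply LinearMap.ext
    intro w
    apply Subtype.ext
    rw [restrict_pow_coe hTU, h.hT]
    rfl
  hφ := h.hφ
  htw := by
    intro u
    apply LinearMap.ext
    intro w
    apply Subtype.ext
    rw [Module.End.mul_apply, Module.End.mul_apply, LinearMap.coe_restrict_apply, ModRep.sub_apply,
      ModRep.sub_apply, LinearMap.coe_restrict_apply]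
    have := congrArg (fun f : Module.End k W => f (w : W)) (h.htw u)
    simpa using this

theorem hh_free [IsAlgClosed k] [FiniteDimensional k W] [Finite Q]
    {P : ℕ} (hP : P.Prime) (hP2 : P ≠ 2) (hPk : (P : k) ≠ 0) (hk : (Nat.card Q : k) ≠ 0)
    {ρ : Representation k Q W} {φ : MulAut Q} {T : Module.End k W} (h : Tw ρ φ T P)
    (Z : Subgroup Q) (hcz : ∀ z ∈ Z, ∀ g : Q, g * z = z * g)
    (hcomZ : ∀ u v : Q, u * v * u⁻¹ * v⁻¹ ∈ Z) (hZinv : ∀ u, φ u ∈ Z ↔ u ∈ Z)
    (lam : Q → k) (hW : wtS ρ Z lam ≠ ⊥)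
    (hstab : ∀ b ∈ Z, lam (φ b) = lam b)
    (hfpf : ∀ w ∈ wtS ρ Z lam, T w = w → w = 0)
    (R : Subgroup Q) (hRchar : ∀ u, u ∈ R ↔ ∀ v : Q, lam (v * u * v⁻¹ * u⁻¹) = 1)
    (hfree : ∀ i, 0 < i → i < P → ∀ u : Q, (φ ^ i) u * u⁻¹ ∈ R → u ∈ R) :
    R = ⊤ ∨ R.index = (P - 1) ^ 2 := by
  classical
  -- the weight space of `Z`
  obtain ⟨Wl, hWldef⟩ : ∃ Wl : Submodule k W, Wl = wtS ρ Z lam := ⟨_, rfl⟩
  rw [← hWldef] at hW hfpf
  have hlam : ∀ z ∈ Z, ∀ w ∈ Wl, ρ z w = lam z • w := by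
    intro z hz w hw
    rw [hWldef, mem_wtS] at hw
    exact hw z hz
  have hWinv : Inv ρ Wl := by
    intro u w hw
    rw [hWldef, mem_wtS]
    intro z hz
    have h1 : ρ z (ρ u w) = ρ u (ρ z w) := by
      rw [← Module.End.mul_apply, ← Module.End.mul_apply, ← map_mul, ← map_mul, hcz z hz u]
    rw [h1, hlam z hz w hw, map_smul]
  obtain ⟨w₀, hw₀, hw₀0⟩ := Submodule.exists_mem_ne_zero_of_ne_bot hW
  have hlam1 : lam 1 = 1 := by
    have h1 := hlam 1 Z.one_mem w₀ hw₀
    rw [map_one, Module.End.one_apply] at h1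
    have h2 : (1 : k) • w₀ = lam 1 • w₀ := by rw [one_smul]; exact h1
    exact (smul_left_injective k hw₀0 h2).symm
  have hstab' : ∀ b ∈ Z, lam (φ⁻¹ b) = lam b := by
    intro b hb
    have h1 : φ⁻¹ b ∈ Z := by
      rw [← hZinv, MulAut.apply_inv_self]
      exact hb
    have h2 := hstab _ h1
    rw [MulAut.apply_inv_self] at h2
    exact h2.symm
  have hTmaps : ∀ w ∈ Wl, T w ∈ Wl := by
    intro w hw
    rw [hWldef] at hw ⊢
    have h1 := pow_mem_wtS h hZinv hw 1
    simp only [pow_one] at h1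
    rw [mem_wtS] at h1 ⊢
    intro b hb
    rw [h1 b hb, hstab' b hb]
  obtain ⟨ρl, hρldef⟩ : ∃ ρl : Representation k Q Wl, ρl = ModRep.sub ρ Wl hWinv := ⟨_, rfl⟩
  have hρl : ∀ (u : Q) (w : Wl), ((ρl u w : Wl) : W) = ρ u (w : W) := by
    intro u w
    rw [hρldef]
    rfl
  obtain ⟨Tl, hTldef⟩ : ∃ Tl : Module.End k Wl, Tl = T.restrict hTmaps := ⟨_, rfl⟩
  have hTl : ∀ w : Wl, ((Tl w : Wl) : W) = T (w : W) := by
    intro w
    rw [hTldef]
    rfl
  have hTwl : Tw ρl φ Tl P := by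
    rw [hρldef, hTldef]
    exact h.restrict Wl hWinv hTmaps
  have hTlfpf : ∀ w : Wl, Tl w = w → w = 0 := by
    intro w hw
    apply Subtype.ext
    apply hfpf _ w.2
    rw [← hTl, hw]
  haveI : Nontrivial Wl := Submodule.nontrivial_iff_ne_bot.mpr hW
  have hρlZ : ∀ z ∈ Z, ρl z = lam z • (1 : Module.End k Wl) := by
    intro z hz
    apply LinearMap.ext
    intro w
    apply Subtype.ext
    rw [hρl, hlam z hz _ w.2]
    rfl
  have hrel : ∀ v u : Q, ρl v * ρl u = lam (v * u * v⁻¹ * u⁻¹) • (ρl u * ρl v) := by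
    intro v u
    have h2 : ρl v * ρl u = ρl (v * u * v⁻¹ * u⁻¹) * (ρl u * ρl v) := by
      rw [← map_mul, ← map_mul, ← map_mul]
      congr 1
      group
    rw [h2, hρlZ _ (hcomZ v u), smul_mul_assoc, one_mul]
  have hRcomm : ∀ u ∈ R, ∀ v : Q, ρl v * ρl u = ρl u * ρl v := by
    intro u hu v
    rw [hrel v u, (hRchar u).mp hu v, one_smul]
  have hZR : Z ≤ R := by
    intro z hz
    rw [hRchar]
    intro v
    have e1 : v * z * v⁻¹ * z⁻¹ = 1 := by
      rw [hcz z hz v]; group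
    rw [e1, hlam1]
  have hRφ : ∀ u, φ u ∈ R ↔ u ∈ R := by
    intro u
    rw [hRchar, hRchar]
    constructor
    · intro hu v
      have h1 := hu (φ v)
      rw [← map_inv, ← map_inv, ← map_mul, ← map_mul, ← map_mul, hstab _ (hcomZ v u)] at h1
      exact h1
    · intro hu v
      have h1 := hu (φ⁻¹ v)
      have h2 := hstab _ (hcomZ (φ⁻¹ v) u)
      rw [map_mul, map_mul, map_mul, map_inv, map_inv, MulAut.apply_inv_self] at h2
      rw [h2]
      exact h1
  have hcommR : ∀ b ∈ R, ∀ b' ∈ R, Commute (ρl b) (ρl b') := by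
    intro b _ b' hb'
    exact hRcomm b' hb' b
  -- a weight of `R` on `Wl`
  have hss : ∀ b : R, Module.End.IsSemisimple (ρl (b : Q)) := fun b => isSemisimple_apply hk ρl b
  have hcomm' : ∀ b b' : R, Commute (ρl (b : Q)) (ρl (b' : Q)) :=
    fun b b' => hcommR b b.2 b' b'.2
  have htop := iSup_wtF_eq_top hss hcomm'
  obtain ⟨χ', hχ'⟩ : ∃ χ' : R → k, wtF (fun b : R => ρl (b : Q)) χ' ≠ ⊥ := by
    by_contra hcon
    push Not at hcon
    have h1 : (⨆ χ : R → k, wtF (fun b : R => ρl (b : Q)) χ) = ⊥ := by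
      rw [iSup_eq_bot]
      exact hcon
    rw [htop] at h1
    exact top_ne_bot h1
  rw [← wtS_ext0] at hχ'
  obtain ⟨mu, hmudef⟩ : ∃ mu : Q → k, mu = ext0 χ' := ⟨_, rfl⟩
  rw [← hmudef] at hχ'
  -- `φ` fixes `mu`
  have hmuφ : ∀ b ∈ R, mu (φ b) = mu b := by
    by_contra hcon
    push Not at hcon
    apply hχ'
    rw [eq_bot_iff]
    intro m hm
    rw [Submodule.mem_bot]
    have hs : ∀ b ∈ R, mu ((φ ^ (P ^ 1)) b) = mu b := by
      intro b _
      rw [pow_one, hTwl.hφ, MulAut.one_apply]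
    have hm' : ∀ l < 1, ∃ b ∈ R, mu ((φ ^ (P ^ l)) b) ≠ mu b := by
      intro l hl
      have hl0 : l = 0 := by omega
      rw [hl0, pow_zero, pow_one]
      exact hcon
    have := fpf_on_weight hk hTwl hRφ hcommR mu hP hs hm' hTlfpf m hm
    apply this
    rw [pow_one, hTwl.hT, Module.End.one_apply]
  have hmuφ' : ∀ b ∈ R, mu (φ⁻¹ b) = mu b := by
    intro b hb
    have h1 : φ⁻¹ b ∈ R := by
      rw [← hRφ, MulAut.apply_inv_self]
      exact hb
    have h2 := hmuφ _ h1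
    rw [MulAut.apply_inv_self] at h2
    exact h2.symm
  -- the weight space of `R`
  obtain ⟨Wm, hWmdef⟩ : ∃ Wm : Submodule k Wl, Wm = wtS ρl R mu := ⟨_, rfl⟩
  rw [← hWmdef] at hχ'
  have hmu : ∀ z ∈ R, ∀ w ∈ Wm, ρl z w = mu z • w := by
    intro z hz w hw
    rw [hWmdef, mem_wtS] at hw
    exact hw z hz
  have hWminv : Inv ρl Wm := by
    intro u w hw
    rw [hWmdef, mem_wtS]
    intro z hz
    have h1 : ρl z (ρl u w) = ρl u (ρl z w) := by
      rw [← Module.End.mul_apply, ← Module.End.mul_apply, ← hRcomm z hz u]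
    rw [h1, hmu z hz w hw, map_smul]
  have hTmmaps : ∀ w ∈ Wm, Tl w ∈ Wm := by
    intro w hw
    rw [hWmdef] at hw ⊢
    have h1 := pow_mem_wtS hTwl hRφ hw 1
    simp only [pow_one] at h1
    rw [mem_wtS] at h1 ⊢
    intro b hb
    rw [h1 b hb, hmuφ' b hb]
  obtain ⟨ρm, hρmdef⟩ : ∃ ρm : Representation k Q Wm, ρm = ModRep.sub ρl Wm hWminv := ⟨_, rfl⟩
  have hρm : ∀ (u : Q) (w : Wm), ((ρm u w : Wm) : Wl) = ρl u (w : Wl) := by
    intro u w
    rw [hρmdef]
    rfl
  obtain ⟨Tm, hTmdef⟩ : ∃ Tm : Module.End k Wm, Tm = Tl.restrict hTmmaps := ⟨_, rfl⟩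
  have hTm : ∀ w : Wm, ((Tm w : Wm) : Wl) = Tl (w : Wl) := by
    intro w
    rw [hTmdef]
    rfl
  have hTwm : Tw ρm φ Tm P := by
    rw [hρmdef, hTmdef]
    exact hTwl.restrict Wm hWminv hTmmaps
  have hTmfpf : ∀ w : Wm, Tm w = w → w = 0 := by
    intro w hw
    apply Subtype.ext
    apply hTlfpf
    rw [← hTm, hw]
  haveI : Nontrivial Wm := Submodule.nontrivial_iff_ne_bot.mpr hχ'
  have hρmR : ∀ z ∈ R, ρm z = mu z • (1 : Module.End k Wm) := by
    intro z hz
    apply LinearMap.ext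
    intro w
    apply Subtype.ext
    rw [hρm, hmu z hz _ w.2]
    rfl
  -- `mu = lam` on `Z`
  obtain ⟨w₁, hw₁, hw₁0⟩ := Submodule.exists_mem_ne_zero_of_ne_bot hχ'
  have hmulam : ∀ z ∈ Z, mu z = lam z := by
    intro z hz
    have h1 := hmu z (hZR hz) w₁ hw₁
    have h2 : ρl z w₁ = lam z • w₁ := by
      rw [hρlZ z hz]
      rfl
    rw [h2] at h1
    exact (smul_left_injective k hw₁0 h1).symm
  have hX : XHyp ρm R mu :=
    { hΛ := hρmR
      hQR := fun u v => hZR (hcomZ u v)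
      hnd := by
        intro u hu
        rw [hRchar]
        intro v
        rw [← hmulam _ (hcomZ v u)]
        exact hu v }
  by_cases hRne : R = ⊤
  · exact Or.inl hRne
  · right
    have hcount := extra_count hk hTwm hP hP2 (pow_one P).symm hPk hX hRφ hfree hRne hTmfpf
    rw [Subgroup.index, hcount]

end Cfsg.Agent.Lib.H19.SG
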