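import Mathlib
import Cfsg.Agent.Lib.H19.PQ14
import Cfsg.Agent.Lib.H19.PQ15

/-!
# The Hall–Higman type count inside an ambient group (helper19)

`S ≤ Γ` of class two, `ζ` a character of `Z(S)` occurring in `W`, `c ∈ N(S)` of odd prime order `P`
fixing `ζ` and acting without fixed vectors on the `ζ`-weight space.  With `R = Rz S ζ` and
`S_F = [S, c] R` : `S_F = R` or `|S_F : R| = (P - 1)²`.
-/

set_option autoImplicit false
set_option linter.unusedSectionVars false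
set_option linter.style.haveILetI false
set_option maxHeartbeats 1000000

namespace Cfsg.Agent.Lib.H19.PQ

open Module Cfsg.Agent.Lib.H1 Cfsg.Agent.Lib.H19.Ward Cfsg.Agent.Lib.H19.SG
open scoped commutatorElement

variable {Γ : Type*} [Group Γ] [Finite Γ] {k : Type*} [Field k]
  {W : Type*} [AddCommGroup W] [Module k W]

/-- conjugation by a normalizing element as an automorphism of the subgroup -/
def cjAut (K : Subgroup Γ) (c : Γ) (hc : c ∈ Subgroup.normalizer (K : Set Γ)) : MulAut ↥K where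
  toFun u := ⟨c * u * c⁻¹, (Subgroup.mem_normalizer_iff.mp hc u).mp u.2⟩
  invFun u := ⟨c⁻¹ * u * c, by
    have := (Subgroup.mem_normalizer_iff.mp (Subgroup.inv_mem _ hc) u).mp u.2
    rwa [inv_inv] at this⟩
  left_inv u := by
    apply Subtype.ext
    show c⁻¹ * (c * u * c⁻¹) * c = u
    group
  right_inv u := by
    apply Subtype.ext
    show c * (c⁻¹ * u * c) * c⁻¹ = u
    group
  map_mul' u v := by
    apply Subtype.ext
    show c * (u * v) * c⁻¹ = (c * u * c⁻¹) * (c * v * c⁻¹)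
    group

theorem cjAut_apply (K : Subgroup Γ) (c : Γ) (hc : c ∈ Subgroup.normalizer (K : Set Γ)) (u : ↥K) :
    ((cjAut K c hc u : ↥K) : Γ) = c * u * c⁻¹ := rfl

theorem cjAut_pow_apply (K : Subgroup Γ) (c : Γ) (hc : c ∈ Subgroup.normalizer (K : Set Γ)) (i : ℕ)
    (u : ↥K) : (((cjAut K c hc) ^ i) u : Γ) = c ^ i * u * (c ^ i)⁻¹ := by
  induction i generalizing u with
  | zero => simp
  | succ i ih =>
    rw [pow_succ, MulAut.mul_apply, ih, cjAut_apply, pow_succ]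
    group

theorem cjAut_inv_apply (K : Subgroup Γ) (c : Γ) (hc : c ∈ Subgroup.normalizer (K : Set Γ))
    (u : ↥K) : (((cjAut K c hc)⁻¹ u : ↥K) : Γ) = c⁻¹ * u * c := rfl

section hh

variable [IsAlgClosed k] [FiniteDimensional k W] (ρ : Representation k Γ W)
  {S : Subgroup Γ} (hSS : ⁅S, S⁆ ≤ ZS S) {ζ : Γ → kˣ} (hζ : ζ ∈ Chr k (ZS S) ⊥)

/-- the subgroup `[S, c] R` -/
def SF (S : Subgroup Γ) (hSS : ⁅S, S⁆ ≤ ZS S) (ζ : Γ → kˣ) (hζ : ζ ∈ Chr k (ZS S) ⊥) (c : Γ) :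
    Subgroup Γ := ⁅S, Subgroup.zpowers c⁆ ⊔ Rz S hSS ζ hζ

theorem Rz_le_SF (c : Γ) : Rz S hSS ζ hζ ≤ SF S hSS ζ hζ c := le_sup_right

theorem comm_le_SF (c : Γ) : ⁅S, Subgroup.zpowers c⁆ ≤ SF S hSS ζ hζ c := le_sup_left

theorem SF_le {c : Γ} (hcS : c ∈ Subgroup.normalizer (S : Set Γ)) : SF S hSS ζ hζ c ≤ S := by
  apply sup_le
  · exact (Subgroup.le_normalizer_iff_commutator_le_left).mp (Subgroup.zpowers_le.mpr hcS)
  · exact Rz_le hSS hζ

/-- `ζ` is fixed by the powers of `c` -/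
theorem cjAct_zpowers_eq {c : Γ} (hcζ : cjAct c ζ = ζ) {g : Γ} (hg : g ∈ Subgroup.zpowers c) :
    cjAct g ζ = ζ := ABHyp.fix_zpowers hcζ hg

/-- elements normalizing `S` and fixing `ζ` normalize the radical -/
theorem mem_normalizer_Rz {g : Γ} (hgS : g ∈ Subgroup.normalizer (S : Set Γ))
    (hgζ : cjAct g ζ = ζ) : g ∈ Subgroup.normalizer ((Rz S hSS ζ hζ : Subgroup Γ) : Set Γ) := by
  have key : ∀ y : Γ, y ∈ Subgroup.normalizer (S : Set Γ) → cjAct y ζ = ζ →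
      ∀ u ∈ Rz S hSS ζ hζ, y * u * y⁻¹ ∈ Rz S hSS ζ hζ := by
    intro y hy hyζ u hu
    rw [mem_Rz] at hu ⊢
    refine ⟨(Subgroup.mem_normalizer_iff.mp hy u).mp hu.1, ?_⟩
    have h1 := cjAct_chi hSS hζ hy u
    rw [hyζ, hu.2, map_one] at h1
    exact h1.symm
  apply mem_normalizer_of_conj
  · exact key g hgS hgζ
  · intro u hu
    have h2 : cjAct g⁻¹ ζ = ζ := ABHyp.fix_inv hgζ
    have := key g⁻¹ (Subgroup.inv_mem _ hgS) h2 u hu
    rwa [inv_inv] at this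

theorem S_le_normalizer_Rz : S ≤ Subgroup.normalizer ((Rz S hSS ζ hζ : Subgroup Γ) : Set Γ) := by
  intro v hv
  apply mem_normalizer_of_conj
  · intro u hu
    have e1 : v * u * v⁻¹ = (v * u * v⁻¹ * u⁻¹) * u := by group
    rw [e1]
    exact Subgroup.mul_mem _ (ZS_le_Rz hSS hζ (cm_mem hSS hv (Rz_le hSS hζ hu))) hu
  · intro u hu
    have e1 : v⁻¹ * u * v = (v⁻¹ * u * v⁻¹⁻¹ * u⁻¹) * u := by group
    rw [e1]
    exact Subgroup.mul_mem _
      (ZS_le_Rz hSS hζ (cm_mem hSS (S.inv_mem hv) (Rz_le hSS hζ hu))) hu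

variable {c : Γ} (hcS : c ∈ Subgroup.normalizer (S : Set Γ)) (hcζ : cjAct c ζ = ζ)

include hcS hcζ

/-- the characters `chi y`, `y ∈ C_S(c)`, are trivial on `S_F` -/
theorem SF_le_ker {y : Γ} (hy : y ∈ S)
    (hyc : y ∈ Subgroup.centralizer ((Subgroup.zpowers c : Subgroup Γ) : Set Γ)) :
    SF S hSS ζ hζ c ≤ Chr.ker (chi S ζ y) S (ZS S) (chi_mem hSS hζ hy) := by
  have hχ := chi_mem hSS hζ hy
  apply sup_le
  · rw [Subgroup.commutator_le]
    intro u hu g hg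
    have hgS : g ∈ Subgroup.normalizer (S : Set Γ) := (Subgroup.zpowers_le.mpr hcS) hg
    have hgy : g * y * g⁻¹ = y := by
      have := (Subgroup.mem_centralizer_iff.mp hyc) g hg
      rw [this]; group
    have hfix : cjAct g (chi S ζ y) = chi S ζ y := by
      rw [cjAct_chi hSS hζ hgS y, cjAct_zpowers_eq hcζ hg, hgy]
    exact Chr.comm_mem_ker hχ hgS hfix hu
  · intro r hr
    rw [Chr.mem_ker]
    refine ⟨Rz_le hSS hζ hr, ?_⟩
    rw [chi_symm hSS hζ hy (Rz_le hSS hζ hr), (mem_Rz hSS hζ).mp hr |>.2]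
    simp

/-- non-degeneracy of `S_F` -/
theorem SF_nd (hcop : (Nat.card (Subgroup.zpowers c)).Coprime (Nat.card S))
    {u : Γ} (hu : u ∈ SF S hSS ζ hζ c)
    (h : ∀ v ∈ SF S hSS ζ hζ c, ζ (v * u * v⁻¹ * u⁻¹) = 1) : u ∈ Rz S hSS ζ hζ := by
  have huS : u ∈ S := SF_le hSS hζ hcS hu
  have hχ := chi_mem hSS hζ huS
  rw [mem_Rz]
  refine ⟨huS, ?_⟩
  apply Chr.eq_one_of_le_ker hχ
  have hact : CoprimeAction (Subgroup.zpowers c) S :=
    { normalizes := Subgroup.zpowers_le.mpr hcS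
      coprime := hcop
      solvable := Or.inl inferInstance }
  have h1 := coprime_commutator_sup_centralizer hact
  have h2 : ∀ v ∈ SF S hSS ζ hζ c, chi S ζ u v = 1 := by
    intro v hv
    have hvS : v ∈ S := SF_le hSS hζ hcS hv
    rw [chi_symm hSS hζ huS hvS, chi_apply ζ v huS, h v hv, inv_one]
  have h6 : ⁅S, Subgroup.zpowers c⁆ ⊔ S ⊓ Subgroup.centralizer
      ((Subgroup.zpowers c : Subgroup Γ) : Set Γ) ≤ Chr.ker (chi S ζ u) S (ZS S) hχ := by
    apply sup_le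
    · intro v hv
      rw [Chr.mem_ker]
      exact ⟨hact.commutator_le hv, h2 v (comm_le_SF hSS hζ c hv)⟩
    · intro y hy
      rw [Subgroup.mem_inf] at hy
      rw [Chr.mem_ker]
      refine ⟨hy.1, ?_⟩
      have h3 := SF_le_ker hSS hζ hcS hcζ hy.1 hy.2 hu
      rw [Chr.mem_ker] at h3
      rw [chi_symm hSS hζ huS hy.1, h3.2, inv_one]
  intro v hv
  apply h6
  rw [h1]
  exact hv

/-- freeness of the action on `S_F / R` -/
theorem SF_free {P : ℕ} (hP : P.Prime) (hcP : orderOf c = P)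
    (hcop : (Nat.card (Subgroup.zpowers c)).Coprime (Nat.card S))
    {g : Γ} (hg : g ∈ Subgroup.zpowers c) (hg1 : g ≠ 1) {u : Γ} (hu : u ∈ SF S hSS ζ hζ c)
    (h : g * u * g⁻¹ * u⁻¹ ∈ Rz S hSS ζ hζ) : u ∈ Rz S hSS ζ hζ := by
  have huS : u ∈ S := SF_le hSS hζ hcS hu
  have hact : CoprimeAction (Subgroup.zpowers c) S :=
    { normalizes := Subgroup.zpowers_le.mpr hcS
      coprime := hcop
      solvable := Or.inl inferInstance }
  have hAcR : Subgroup.zpowers c ≤ Subgroup.normalizer ((Rz S hSS ζ hζ : Subgroup Γ) : Set Γ) := by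
    intro g' hg'
    exact mem_normalizer_Rz hSS hζ ((Subgroup.zpowers_le.mpr hcS) hg') (cjAct_zpowers_eq hcζ hg')
  have h1 : Subgroup.zpowers c ≤ Cmod (Rz S hSS ζ hζ) u := by
    rw [← zpowers_eq_of_prime_order hP hcP hg hg1, Subgroup.zpowers_le]
    exact ⟨hAcR hg, h⟩
  obtain ⟨y, hy, huy⟩ := coprime_centralizer_quotient hact (Rz_le hSS hζ)
    (S_le_normalizer_Rz hSS hζ) hAcR huS (fun g' hg' => (h1 hg').2)
  rw [Subgroup.mem_inf] at hy
  -- `chi u = chi y`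
  have h2 : chi S ζ u = chi S ζ y := by
    have h3 := chi_mul hSS hζ (S.inv_mem huS) hy.1
    rw [((mem_Rz hSS hζ).mp huy).2, chi_inv hSS hζ huS] at h3
    exact (inv_mul_eq_one.mp h3.symm)
  apply SF_nd hSS hζ hcS hcζ hcop hu
  intro v hv
  have hvS : v ∈ S := SF_le hSS hζ hcS hv
  have h4 := SF_le_ker hSS hζ hcS hcζ hy.1 hy.2 hv
  rw [Chr.mem_ker] at h4
  have h5 : chi S ζ u v = 1 := by rw [h2]; exact h4.2
  rw [chi_symm hSS hζ huS hvS, chi_apply ζ v huS] at h5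
  exact inv_eq_one.mp h5

end hh

end Cfsg.Agent.Lib.H19.PQ
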