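import Mathlib
import Cfsg.Agent.Lib.H19.PQ16

/-!
# The Hall–Higman type count inside an ambient group, part 2 (helper19)

`hh_gamma` : `S_F ≤ R` or `|S_F : R| = (P - 1)²`.
-/

set_option autoImplicit false
set_option linter.unusedSectionVars false
set_option linter.style.haveILetI false
set_option maxHeartbeats 1000000

namespace Cfsg.Agent.Lib.H19.PQ

open Module Cfsg.Agent.Lib.H1 Cfsg.Agent.Lib.H19.Ward Cfsg.Agent.Lib.H19.SG
open scoped commutatorElement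

variable {Γ : Type*} [Group Γ] [Finite Γ] {k : Type*} [Field k]
  {W : Type*} [AddCommGroup W] [Module k W]

theorem toK_eq_one_iff {ζ : Γ → kˣ} {x : Γ} : toK ζ x = 1 ↔ ζ x = 1 := by
  unfold toK
  exact Units.val_eq_one

theorem hh_gamma [IsAlgClosed k] [FiniteDimensional k W] (ρ : Representation k Γ W)
    {S : Subgroup Γ} (hSS : ⁅S, S⁆ ≤ ZS S) {ζ : Γ → kˣ} (hζ : ζ ∈ Chr k (ZS S) ⊥)
    {c : Γ} (hcS : c ∈ Subgroup.normalizer (S : Set Γ)) (hcζ : cjAct c ζ = ζ)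
    {P : ℕ} (hP : P.Prime) (hP2 : P ≠ 2) (hPk : (P : k) ≠ 0) (hcP : orderOf c = P)
    (hSk : (Nat.card S : k) ≠ 0)
    (hcop : (Nat.card (Subgroup.zpowers c)).Coprime (Nat.card S))
    (hW : wtS ρ (ZS S) (toK ζ) ≠ ⊥)
    (hfpf : ∀ w ∈ wtS ρ (ZS S) (toK ζ), ρ c w = w → w = 0) :
    SF S hSS ζ hζ c ≤ Rz S hSS ζ hζ ∨
      (Rz S hSS ζ hζ).relIndex (SF S hSS ζ hζ c) = (P - 1) ^ 2 := by
  classical
  obtain ⟨F, hFdef⟩ : ∃ F : Subgroup Γ, F = SF S hSS ζ hζ c := ⟨_, rfl⟩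
  obtain ⟨R, hRdef⟩ : ∃ R : Subgroup Γ, R = Rz S hSS ζ hζ := ⟨_, rfl⟩
  rw [← hFdef, ← hRdef]
  have hFS : F ≤ S := by rw [hFdef]; exact SF_le hSS hζ hcS
  have hRF : R ≤ F := by rw [hFdef, hRdef]; exact Rz_le_SF hSS hζ c
  have hZR : ZS S ≤ R := by rw [hRdef]; exact ZS_le_Rz hSS hζ
  have hcpow : c ^ P = 1 := by rw [← hcP]; exact pow_orderOf_eq_one c
  have hcF : c ∈ Subgroup.normalizer (F : Set Γ) := by
    rw [hFdef]
    unfold SF
    apply mem_normalizer_sup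
    · exact mem_normalizer_commutator hcS (Subgroup.le_normalizer (Subgroup.mem_zpowers c))
    · exact mem_normalizer_Rz hSS hζ hcS hcζ
  obtain ⟨ρF, hρFdef⟩ : ∃ ρF : Representation k ↥F W, ρF = ρ.comp F.subtype := ⟨_, rfl⟩
  have hρF : ∀ u : ↥F, ρF u = ρ (u : Γ) := by
    intro u
    rw [hρFdef]
    rfl
  obtain ⟨φ, hφdef⟩ : ∃ φ : MulAut ↥F, φ = cjAut F c hcF := ⟨_, rfl⟩
  have hφ : ∀ u : ↥F, ((φ u : ↥F) : Γ) = c * u * c⁻¹ := by
    intro u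
    rw [hφdef]
    rfl
  have hφpow : ∀ (i : ℕ) (u : ↥F), (((φ ^ i) u : ↥F) : Γ) = c ^ i * u * (c ^ i)⁻¹ := by
    intro i u
    rw [hφdef]
    exact cjAut_pow_apply F c hcF i u
  have hTw : Tw ρF φ (ρ c) P :=
    { hT := by rw [← map_pow, hcpow, map_one]
      hφ := by
        apply MulEquiv.ext
        intro u
        apply Subtype.ext
        rw [hφpow, hcpow]
        simp
      htw := by
        intro u
        rw [hρF, hρF, hφ, ← map_mul, ← map_mul]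
        congr 1
        group }
  have hk : (Nat.card ↥F : k) ≠ 0 := by
    intro h0
    apply hSk
    obtain ⟨m, hm⟩ := Subgroup.card_dvd_of_le hFS
    rw [hm, Nat.cast_mul, h0, zero_mul]
  obtain ⟨ZF, hZFdef⟩ : ∃ ZF : Subgroup ↥F, ZF = (ZS S).subgroupOf F := ⟨_, rfl⟩
  have hZFmem : ∀ z : ↥F, z ∈ ZF ↔ (z : Γ) ∈ ZS S := by
    intro z
    rw [hZFdef, Subgroup.mem_subgroupOf]
  obtain ⟨RF, hRFdef⟩ : ∃ RF : Subgroup ↥F, RF = R.subgroupOf F := ⟨_, rfl⟩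
  have hRFmem : ∀ z : ↥F, z ∈ RF ↔ (z : Γ) ∈ R := by
    intro z
    rw [hRFdef, Subgroup.mem_subgroupOf]
  have hcz : ∀ z ∈ ZF, ∀ g : ↥F, g * z = z * g := by
    intro z hz g
    apply Subtype.ext
    rw [Subgroup.coe_mul, Subgroup.coe_mul]
    exact ZS_comm ((hZFmem z).mp hz) (hFS g.2)
  have hcomZ : ∀ u v : ↥F, u * v * u⁻¹ * v⁻¹ ∈ ZF := by
    intro u v
    rw [hZFmem]
    simp only [Subgroup.coe_mul, Subgroup.coe_inv]
    exact cm_mem hSS (hFS u.2) (hFS v.2)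
  have hcZ := mem_normalizer_ZS hcS
  have hZinv : ∀ u : ↥F, φ u ∈ ZF ↔ u ∈ ZF := by
    intro u
    rw [hZFmem, hZFmem, hφ]
    exact (Subgroup.mem_normalizer_iff.mp hcZ (u : Γ)).symm
  obtain ⟨lam, hlamdef⟩ : ∃ lam : ↥F → k, lam = fun u : ↥F => toK ζ (u : Γ) := ⟨_, rfl⟩
  have hlam : ∀ u : ↥F, lam u = toK ζ (u : Γ) := by
    intro u
    rw [hlamdef]
  have hWeq : wtS ρF ZF lam = wtS ρ (ZS S) (toK ζ) := by
    ext w
    rw [mem_wtS, mem_wtS]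
    constructor
    · intro hw z hz
      have hzF : z ∈ F := hRF (hZR hz)
      have := hw ⟨z, hzF⟩ ((hZFmem _).mpr hz)
      rw [hρF, hlam] at this
      exact this
    · intro hw b hb
      rw [hρF, hlam]
      exact hw _ ((hZFmem b).mp hb)
  have hstab : ∀ b ∈ ZF, lam (φ b) = lam b := by
    intro b _
    rw [hlam, hlam, hφ]
    have h1 := congrFun hcζ (c * (b : Γ) * c⁻¹)
    rw [cjAct_apply] at h1
    have e1 : c⁻¹ * (c * (b : Γ) * c⁻¹) * c = (b : Γ) := by group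
    rw [e1] at h1
    unfold toK
    rw [h1]
  have hRchar : ∀ u : ↥F, u ∈ RF ↔ ∀ v : ↥F, lam (v * u * v⁻¹ * u⁻¹) = 1 := by
    intro u
    rw [hRFmem]
    constructor
    · intro hu v
      rw [hlam, toK_eq_one_iff]
      simp only [Subgroup.coe_mul, Subgroup.coe_inv]
      rw [hRdef] at hu
      have h1 := ((mem_Rz' hSS hζ).mp hu).2 (v : Γ) (hFS v.2)
      have e1 : (v : Γ) * u * (v : Γ)⁻¹ * (u : Γ)⁻¹ = ((u : Γ) * v * (u : Γ)⁻¹ * (v : Γ)⁻¹)⁻¹ := by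
        group
      rw [e1, Chr.map_inv hζ (cm_mem hSS (hFS u.2) (hFS v.2)), h1, inv_one]
    · intro hu
      rw [hRdef]
      have huF : (u : Γ) ∈ SF S hSS ζ hζ c := by rw [← hFdef]; exact u.2
      apply SF_nd hSS hζ hcS hcζ hcop huF
      intro v hv
      have hvF : v ∈ F := by rw [hFdef]; exact hv
      have h1 := hu ⟨v, hvF⟩
      rw [hlam, toK_eq_one_iff] at h1
      simpa using h1
  have hfree : ∀ i, 0 < i → i < P → ∀ u : ↥F, (φ ^ i) u * u⁻¹ ∈ RF → u ∈ RF := by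
    intro i hi0 hiP u hu
    rw [hRFmem] at hu ⊢
    rw [Subgroup.coe_mul, hφpow, Subgroup.coe_inv, hRdef] at hu
    rw [hRdef]
    have huF : (u : Γ) ∈ SF S hSS ζ hζ c := by rw [← hFdef]; exact u.2
    have hg1 : c ^ i ≠ 1 := pow_ne_one_of_lt_orderOf hi0.ne' (by rw [hcP]; exact hiP)
    exact SF_free hSS hζ hcS hcζ hP hcP hcop (Subgroup.pow_mem _ (Subgroup.mem_zpowers c) i) hg1
      huF hu
  have hW' : wtS ρF ZF lam ≠ ⊥ := by rw [hWeq]; exact hW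
  have hfpf' : ∀ w ∈ wtS ρF ZF lam, ρ c w = w → w = 0 := by rw [hWeq]; exact hfpf
  rcases hh_free hP hP2 hPk hk hTw ZF hcz hcomZ hZinv lam hW' hstab hfpf' RF hRchar hfree with
    h1 | h1
  · left
    rw [hRFdef, Subgroup.subgroupOf_eq_top] at h1
    exact h1
  · right
    rw [hRFdef] at h1
    exact h1

end Cfsg.Agent.Lib.H19.PQ
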