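import Mathlib
import Cfsg.Agent.Lib.H19.PQ17

/-!
# The minimal counterexample: the stabilizers of the weights of `Z(S)` (helper19)

* `FrobPQ.q_dvd` : `q ∣ p - 1`.
* `MinCfg.trivial_of_fixed` : an `A`-fixed character of `Z(S)` is trivial.
* `MinCfg.good_of_a`, `MinCfg.good_of_b` : the Hall–Higman analysis of a weight of `Z(S)` fixed by
  `a` resp. by `b`.
-/

set_option autoImplicit false
set_option linter.unusedSectionVars false
set_option linter.style.haveILetI false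
set_option maxHeartbeats 1000000

namespace Cfsg.Agent.Lib.H19.PQ

open Module Cfsg.Agent.Lib.H1 Cfsg.Agent.Lib.H19.Ward Cfsg.Agent.Lib.H19.SG
open scoped commutatorElement

variable {Γ : Type*} [Group Γ] [Finite Γ] {k : Type*} [Field k]
  {W : Type*} [AddCommGroup W] [Module k W]

namespace FrobPQ

variable {A : Subgroup Γ} {p q e : ℕ} {a b : Γ}

theorem pow_conj (h : FrobPQ A p q e a b) (j : ℕ) : b ^ j * a * (b ^ j)⁻¹ = a ^ (e ^ j) := by
  induction j with
  | zero => simp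
  | succ j ih =>
    have h1 : b ^ (j + 1) * a * (b ^ (j + 1))⁻¹ = b * (b ^ j * a * (b ^ j)⁻¹) * b⁻¹ := by
      rw [pow_succ']; group
    rw [h1, ih, h.conj_mem (Subgroup.pow_mem _ (Subgroup.mem_zpowers a) _), ← pow_mul, pow_succ]

theorem q_dvd (h : FrobPQ A p q e a b) : q ∣ p - 1 := by
  haveI : Fact p.Prime := ⟨h.hp⟩
  have h1 := h.pow_conj q
  rw [h.hbq, one_mul, inv_one, mul_one] at h1
  have h2 : a ^ 1 = a ^ (e ^ q) := by rw [pow_one]; exact h1
  have h3 := pow_eq_pow_iff_modEq.mp h2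
  rw [h.orderOf_a] at h3
  have h4 : ¬ e ≡ 1 [MOD p] := by
    intro h5
    apply h.he1
    have : a ^ e = a ^ 1 := by
      rw [pow_eq_pow_iff_modEq, h.orderOf_a]
      exact h5
    rw [this, pow_one]
  have h5 : ((e : ZMod p)) ^ q = 1 := by
    have := (ZMod.natCast_eq_natCast_iff _ _ _).mpr h3
    rw [Nat.cast_one, Nat.cast_pow] at this
    exact this.symm
  have h6 : (e : ZMod p) ≠ 1 := by
    intro h7
    apply h4
    have : ((e : ℕ) : ZMod p) = ((1 : ℕ) : ZMod p) := by rw [h7, Nat.cast_one]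
    exact (ZMod.natCast_eq_natCast_iff _ _ _).mp this
  have h7 : (e : ZMod p) ≠ 0 := by
    intro h8
    rw [h8, zero_pow h.hq.ne_zero] at h5
    exact zero_ne_one h5
  have h8 : (e : ZMod p) ^ (p - 1) = 1 := ZMod.pow_card_sub_one_eq_one h7
  by_contra hnd
  have hcop : Nat.Coprime q (p - 1) := (Nat.Prime.coprime_iff_not_dvd h.hq).mpr hnd
  have h9 : (e : ZMod p) ^ (Nat.gcd q (p - 1)) = 1 := pow_gcd_eq_one.mpr ⟨h5, h8⟩
  rw [hcop.gcd_eq_one, pow_one] at h9
  exact h6 h9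

theorem p_ne_two (h : FrobPQ A p q e a b) : p ≠ 2 := by
  intro h2
  have h1 := h.q_dvd
  rw [h2] at h1
  have := Nat.le_of_dvd (by norm_num) h1
  have := h.hq.two_le
  omega

theorem orderOf_b (h : FrobPQ A p q e a b) : orderOf b = q := by
  have h1 : orderOf b ∣ q := orderOf_dvd_of_pow_eq_one h.hbq
  rcases (Nat.dvd_prime h.hq).mp h1 with h2 | h2
  · exfalso
    have hb1 : b = 1 := orderOf_eq_one_iff.mp h2
    apply h.he1
    rw [← h.hrel, hb1]
    group
  · exact h2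

end FrobPQ

namespace MinCfg

variable {ρ : Representation k Γ W} {A H S T : Subgroup Γ} {p q e : ℕ} {a b : Γ} {s t : ℕ}

theorem coprime_S_p (h : MinCfg ρ A H S T p q e a b s t) : (Nat.card S).Coprime p := by
  have h1 := h.coprime_S
  rw [h.hAcard] at h1
  exact (Nat.Coprime.coprime_dvd_left (Dvd.intro q rfl) h1).symm

theorem coprime_S_q (h : MinCfg ρ A H S T p q e a b s t) : (Nat.card S).Coprime q := by
  have h1 := h.coprime_S
  rw [h.hAcard] at h1
  exact (Nat.Coprime.coprime_dvd_left (Dvd.intro_left p rfl) h1).symm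

theorem coprime_T_q (h : MinCfg ρ A H S T p q e a b s t) : (Nat.card T).Coprime q := by
  have h1 := h.coprime_T
  rw [h.hAcard] at h1
  exact (Nat.Coprime.coprime_dvd_left (Dvd.intro_left p rfl) h1).symm

/-- an `A`-fixed character of `Z(S)` is trivial -/
theorem trivial_of_fixed (h : MinCfg ρ A H S T p q e a b s t) {ζ : Γ → kˣ}
    (hζ : ζ ∈ Chr k (ZS S) ⊥) (hfix : ∀ x ∈ A, cjAct x ζ = ζ) : ζ = 1 := by
  apply Chr.eq_one_of_le_ker hζ
  have hact : CoprimeAction A (ZS S) := h.actAS.mono (ZS_le S) h.A_le_normalizer_ZS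
  have h1 := coprime_commutator_sup_centralizer hact
  have h2 : ZS S ⊓ Subgroup.centralizer (A : Set Γ) = ⊥ := by
    rw [eq_bot_iff]
    intro u hu
    rw [Subgroup.mem_inf, Subgroup.mem_centralizer_iff] at hu
    rw [Subgroup.mem_bot]
    exact h.hfixH u (h.hSH (ZS_le S hu.1)) (fun x hx => hu.2 x hx)
  rw [h2, sup_bot_eq] at h1
  have h3 : ⁅ZS S, A⁆ ≤ Chr.ker ζ (ZS S) ⊥ hζ := by
    rw [Subgroup.commutator_le]
    intro u hu x hx
    exact Chr.comm_mem_ker hζ (h.A_le_normalizer_ZS hx) (hfix x hx) hu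
  intro u hu
  apply h3
  rw [h1]
  exact hu

/-- if `ζ = 1` then all `chi S ζ u` are trivial -/
theorem chi_one_left (S : Subgroup Γ) (u : Γ) : chi S (1 : Γ → kˣ) u = 1 := by
  funext v
  by_cases hv : v ∈ S
  · rw [chi_apply _ _ hv]
    rfl
  · exact chi_apply_not _ _ hv

/-- a character of `Z(S)` fixed by `a` and `b` is fixed by `A` -/
theorem fixed_of_ab (h : MinCfg ρ A H S T p q e a b s t) {ζ : Γ → kˣ}
    (ha : cjAct a ζ = ζ) (hb : cjAct b ζ = ζ) : ∀ x ∈ A, cjAct x ζ = ζ := by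
  apply h.frob.induction (P := fun x => cjAct x ζ = ζ)
  · rw [map_one]; rfl
  · intro x y hx hy
    rw [map_mul, MulAut.mul_apply, hy, hx]
  · exact ha
  · exact hb

/-- the action on `Xz` of an element fixing `ζ`, in terms of the radical -/
theorem fix_Xz_of_comm_mem_Rz (h : MinCfg ρ A H S T p q e a b s t) {ζ : Γ → kˣ}
    (hζ : ζ ∈ Chr k (ZS S) ⊥) {c : Γ} (hcS : c ∈ Subgroup.normalizer (S : Set Γ))
    (hcζ : cjAct c ζ = ζ)
    (hc : ∀ u ∈ S, c * u * c⁻¹ * u⁻¹ ∈ Rz S h.comm_le_ZS ζ hζ) :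
    ∀ χ ∈ Xz S h.comm_le_ZS ζ hζ, cjAct c χ = χ := by
  have hSS := h.comm_le_ZS
  rintro χ ⟨u, hu, rfl⟩
  rw [cjAct_chi hSS hζ hcS u, hcζ]
  have h1 := (mem_Rz hSS hζ).mp (hc u hu)
  have hcu : c * u * c⁻¹ ∈ S := (Subgroup.mem_normalizer_iff.mp hcS u).mp hu
  have e1 : c * u * c⁻¹ = (c * u * c⁻¹ * u⁻¹) * u := by group
  rw [e1, chi_mul hSS hζ h1.1 hu, h1.2, one_mul]

end MinCfg

end Cfsg.Agent.Lib.H19.PQ
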