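import Mathlib
import Cfsg.Agent.Lib.H19.PQ18

/-!
# The minimal counterexample: good weights and the Fermat case (helper19)

For a weight `ζ` of `Z(S)` on `W`: either some nontrivial element of `A` acts trivially on
`Xz ζ` (`GoodZ`), or we are in the Fermat case (`BetaZ`).
-/

set_option autoImplicit false
set_option linter.unusedSectionVars false
set_option linter.style.haveILetI false
set_option maxHeartbeats 1000000

namespace Cfsg.Agent.Lib.H19.PQ

open Module Cfsg.Agent.Lib.H1 Cfsg.Agent.Lib.H19.Ward Cfsg.Agent.Lib.H19.SG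
open scoped commutatorElement

variable {Γ : Type*} [Group Γ] [Finite Γ] {k : Type*} [Field k]
  {W : Type*} [AddCommGroup W] [Module k W]

/-- some nontrivial element of `A` acts trivially on `Xz ζ` -/
def GoodZ (A S : Subgroup Γ) (hSS : ⁅S, S⁆ ≤ ZS S) (ζ : Γ → kˣ) (hζ : ζ ∈ Chr k (ZS S) ⊥) : Prop :=
  ∃ x ∈ A, x ≠ 1 ∧ ∀ χ ∈ Xz S hSS ζ hζ, cjAct x χ = χ

/-- the Fermat case -/
def BetaZ (S : Subgroup Γ) (hSS : ⁅S, S⁆ ≤ ZS S) (ζ : Γ → kˣ) (hζ : ζ ∈ Chr k (ZS S) ⊥)
    (q s : ℕ) (c : Γ) : Prop :=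
  s = 2 ∧ ∃ m : ℕ, q = 2 ^ m + 1 ∧
    (Rz S hSS ζ hζ).relIndex (SF S hSS ζ hζ c) = 2 ^ (2 * m)

/-- the weight spaces of a central subgroup are invariant -/
theorem wtS_central_inv (ρ : Representation k Γ W) {S Z : Subgroup Γ}
    (hZ : ∀ z ∈ Z, ∀ u ∈ S, u * z = z * u) (χ : Γ → k) {u : Γ} (hu : u ∈ S) {w : W}
    (hw : w ∈ wtS ρ Z χ) : ρ u w ∈ wtS ρ Z χ := by
  rw [mem_wtS] at hw ⊢
  intro z hz
  rw [← Module.End.mul_apply, ← map_mul, ← hZ z hz u hu, map_mul, Module.End.mul_apply,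
    hw z hz, map_smul]

namespace MinCfg

variable {ρ : Representation k Γ W} {A H S T : Subgroup Γ} {p q e : ℕ} {a b : Γ} {s t : ℕ}

theorem ZS_commute (h : MinCfg ρ A H S T p q e a b s t) :
    ∀ u ∈ ZS S, ∀ v ∈ ZS S, Commute (ρ u) (ρ v) := by
  intro u hu v hv
  show ρ u * ρ v = ρ v * ρ u
  rw [← map_mul, ← map_mul, ZS_comm hv (ZS_le S hu)]

theorem good_of_trivial (h : MinCfg ρ A H S T p q e a b s t) {ζ : Γ → kˣ}
    (hζ : ζ ∈ Chr k (ZS S) ⊥) (hfix : ∀ x ∈ A, cjAct x ζ = ζ) :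
    GoodZ A S h.comm_le_ZS ζ hζ := by
  have h1 := h.trivial_of_fixed hζ hfix
  refine ⟨a, h.frob.ha, h.frob.ha1, ?_⟩
  rintro χ ⟨u, _, rfl⟩
  rw [h1, chi_one_left, map_one]

/-- non-fixed characters of `Z(S)` -/
theorem exists_ne_of_not_fixed [IsAlgClosed k] (h : MinCfg ρ A H S T p q e a b s t) {ζ : Γ → kˣ}
    (hζ : ζ ∈ Chr k (ZS S) ⊥) {g : Γ} (hg : g ∈ A) (hne : cjAct g ζ ≠ ζ) :
    ∃ u ∈ ZS S, toK ζ (g⁻¹ * u * g) ≠ toK ζ u := by
  by_contra hcon
  push Not at hcon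
  exact hne (cjAct_eq_of_forall hζ (h.A_le_normalizer_ZS hg) hcon)

theorem good_of_a [IsAlgClosed k] [FiniteDimensional k W] (h : MinCfg ρ A H S T p q e a b s t)
    {ζ : Γ → kˣ} (hζ : ζ ∈ Chr k (ZS S) ⊥) (hW : wtS ρ (ZS S) (toK ζ) ≠ ⊥)
    (haζ : cjAct a ζ = ζ) : GoodZ A S h.comm_le_ZS ζ hζ := by
  classical
  have hfr := h.frob
  have hSS := h.comm_le_ZS
  by_cases hb : ∃ j, 0 < j ∧ j < q ∧ cjAct (b ^ j) ζ = ζ
  · obtain ⟨j, hj0, hjq, hjζ⟩ := hb
    have hbj1 : b ^ j ≠ 1 := pow_ne_one_of_lt_orderOf hj0.ne' (by rw [hfr.orderOf_b]; exact hjq)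
    have h1 := zpowers_eq_of_prime_order hfr.hq hfr.orderOf_b
      (Subgroup.pow_mem _ (Subgroup.mem_zpowers b) j) hbj1
    have hbz : b ∈ Subgroup.zpowers (b ^ j) := by rw [h1]; exact Subgroup.mem_zpowers b
    have hbζ : cjAct b ζ = ζ := ABHyp.fix_zpowers hjζ hbz
    exact h.good_of_trivial hζ (h.fixed_of_ab haζ hbζ)
  · push Not at hb
    have hnb : ∀ j : ℕ, 0 < j → j < q → ∃ u ∈ ZS S,
        toK ζ ((b ^ j)⁻¹ * u * b ^ j) ≠ toK ζ u := by
      intro j hj0 hjq
      exact h.exists_ne_of_not_fixed hζ (A.pow_mem hfr.hb j) (hb j hj0 hjq)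
    have hfpf := fpf_wt_a ρ hfr h.A_le_normalizer_ZS (h.card_le_ne_zero (ZS_le S)) h.ZS_commute
      h.hfixW hnb
    have hcop : (Nat.card (Subgroup.zpowers a)).Coprime (Nat.card S) := by
      rw [Nat.card_zpowers, hfr.orderOf_a]
      exact h.coprime_S_p.symm
    rcases hh_gamma ρ hSS hζ (h.hAS hfr.ha) haζ hfr.hp hfr.p_ne_two h.hpk hfr.orderOf_a
      h.card_S_ne_zero hcop hW hfpf with h1 | h1
    · refine ⟨a, hfr.ha, hfr.ha1, ?_⟩
      apply h.fix_Xz_of_comm_mem_Rz hζ (h.hAS hfr.ha) haζ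
      intro u hu
      apply h1
      apply comm_le_SF hSS hζ a
      have e1 : a * u * a⁻¹ * u⁻¹ = ⁅u, a⁆⁻¹ := by
        rw [commutatorElement_def]; group
      rw [e1]
      exact Subgroup.inv_mem _ (Subgroup.commutator_mem_commutator hu (Subgroup.mem_zpowers a))
    · exfalso
      have h2 : (Rz S hSS ζ hζ).relIndex (SF S hSS ζ hζ a) ∣ Nat.card S :=
        (Subgroup.relIndex_dvd_card _ _).trans
          (Subgroup.card_dvd_of_le (SF_le hSS hζ (h.hAS hfr.ha)))
      rw [h1] at h2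
      have h3 : q ∣ Nat.card S :=
        (hfr.q_dvd.trans (Dvd.intro_left (p - 1) (sq (p - 1)).symm)).trans h2
      have h4 := Nat.eq_one_of_dvd_coprimes h.coprime_S_q.symm (dvd_refl q) h3
      exact hfr.hq.ne_one h4

theorem good_of_b [IsAlgClosed k] [FiniteDimensional k W] (h : MinCfg ρ A H S T p q e a b s t)
    {ζ : Γ → kˣ} (hζ : ζ ∈ Chr k (ZS S) ⊥) (hW : wtS ρ (ZS S) (toK ζ) ≠ ⊥)
    (hbζ : cjAct b ζ = ζ) :
    GoodZ A S h.comm_le_ZS ζ hζ ∨ BetaZ S h.comm_le_ZS ζ hζ q s b := by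
  classical
  have hfr := h.frob
  have hSS := h.comm_le_ZS
  have hb1 : b ≠ 1 := by
    intro hb1
    have := hfr.orderOf_b
    rw [hb1, orderOf_one] at this
    exact hfr.hq.ne_one this.symm
  by_cases ha : ∃ g ∈ Subgroup.zpowers a, g ≠ 1 ∧ cjAct g ζ = ζ
  · obtain ⟨g, hg, hg1, hgζ⟩ := ha
    have haζ : cjAct a ζ = ζ := ABHyp.fix_zpowers hgζ (hfr.a_mem_zpowers hg hg1)
    exact Or.inl (h.good_of_trivial hζ (h.fixed_of_ab haζ hbζ))
  · push Not at ha
    have hna' : ∀ g ∈ Subgroup.zpowers a, g ≠ 1 → ∃ u ∈ ZS S,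
        toK ζ (g⁻¹ * u * g) ≠ toK ζ u := by
      intro g hg hg1
      exact h.exists_ne_of_not_fixed hζ (h.zpowers_le hg) (ha g hg hg1)
    have hfpf := fpf_wt_b ρ hfr h.A_le_normalizer_ZS (h.card_le_ne_zero (ZS_le S)) h.ZS_commute
      h.hfixW hna'
    have hcop : (Nat.card (Subgroup.zpowers b)).Coprime (Nat.card S) := by
      rw [Nat.card_zpowers, hfr.orderOf_b]
      exact h.coprime_S_q.symm
    have hgood_of_le : SF S hSS ζ hζ b ≤ Rz S hSS ζ hζ → GoodZ A S hSS ζ hζ := by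
      intro h1
      refine ⟨b, hfr.hb, hb1, ?_⟩
      apply h.fix_Xz_of_comm_mem_Rz hζ (h.hAS hfr.hb) hbζ
      intro u hu
      apply h1
      apply comm_le_SF hSS hζ b
      have e1 : b * u * b⁻¹ * u⁻¹ = ⁅u, b⁆⁻¹ := by
        rw [commutatorElement_def]; group
      rw [e1]
      exact Subgroup.inv_mem _ (Subgroup.commutator_mem_commutator hu (Subgroup.mem_zpowers b))
    by_cases hq2 : q = 2
    · -- `b` acts as `-1` on the weight space
      left
      have hbb : b * b = 1 := by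
        have := hfr.hbq
        rw [hq2, sq] at this
        exact this
      have hbinv : b⁻¹ = b := inv_eq_of_mul_eq_one_right hbb
      have hWb : ∀ w ∈ wtS ρ (ZS S) (toK ζ), ρ b w ∈ wtS ρ (ZS S) (toK ζ) := by
        intro w hw
        have := map_wtS_cj ρ (h.A_le_normalizer_ZS hfr.hb) hw
        rwa [hbζ] at this
      have hWS : ∀ u ∈ S, ∀ w ∈ wtS ρ (ZS S) (toK ζ), ρ u w ∈ wtS ρ (ZS S) (toK ζ) :=
        fun u hu w hw => wtS_central_inv ρ (fun z hz u hu => ZS_comm hz hu) _ hu hw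
      have hneg : ∀ w ∈ wtS ρ (ZS S) (toK ζ), ρ b w = -w := by
        intro w hw
        have h1 : ρ b (w + ρ b w) = w + ρ b w := by
          rw [map_add, ← Module.End.mul_apply, ← map_mul, hbb, map_one, Module.End.one_apply,
            add_comm]
        have h2 := hfpf _ (Submodule.add_mem _ hw (hWb w hw)) h1
        exact (eq_neg_of_add_eq_zero_right h2)
      -- commutators with `b` act trivially
      have hcomm1 : ∀ u ∈ S, ∀ w ∈ wtS ρ (ZS S) (toK ζ), ρ (b * u * b⁻¹ * u⁻¹) w = w := by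
        intro u hu w hw
        rw [hbinv, map_mul, map_mul, map_mul, Module.End.mul_apply, Module.End.mul_apply,
          Module.End.mul_apply]
        have h1 := hWS u⁻¹ (S.inv_mem hu) w hw
        rw [hneg _ h1, map_neg, ← Module.End.mul_apply (ρ u), ← map_mul, mul_inv_cancel, map_one,
          Module.End.one_apply, map_neg, hneg w hw, neg_neg]
      apply hgood_of_le
      apply sup_le _ le_rfl
      rw [Subgroup.commutator_le]
      intro u hu g hg
      -- `g ∈ ⟨b⟩ = {1, b}`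
      have hg' : g = 1 ∨ g = b := by
        obtain ⟨n, rfl⟩ := Subgroup.mem_zpowers_iff.mp hg
        rcases Int.even_or_odd n with ⟨m, hm⟩ | ⟨m, hm⟩
        · left
          rw [hm, ← two_mul, zpow_mul, zpow_two, hbb, one_zpow]
        · right
          rw [hm, zpow_add, zpow_mul, zpow_two, hbb, one_zpow, one_mul, zpow_one]
      rcases hg' with rfl | rfl
      · rw [commutatorElement_def]
        have e1 : u * 1 * u⁻¹ * 1⁻¹ = (1 : Γ) := by group
        rw [e1]
        exact Subgroup.one_mem _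
      · have hg₀S : g * u * g⁻¹ * u⁻¹ ∈ S :=
          S.mul_mem (h.conjS hfr.hb hu) (S.inv_mem hu)
        have hmem : g * u * g⁻¹ * u⁻¹ ∈ Rz S hSS ζ hζ := by
          rw [mem_Rz']
          refine ⟨hg₀S, fun v hv => ?_⟩
          obtain ⟨w, hw, hw0⟩ := Submodule.exists_mem_ne_zero_of_ne_bot hW
          obtain ⟨g₀, hg₀def⟩ : ∃ g₀ : Γ, g₀ = g * u * g⁻¹ * u⁻¹ := ⟨_, rfl⟩
          rw [← hg₀def] at hg₀S ⊢
          have hact : ∀ w' ∈ wtS ρ (ZS S) (toK ζ), ρ g₀ w' = w' := by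
            intro w' hw'
            rw [hg₀def]
            exact hcomm1 u hu w' hw'
          have hact' : ∀ w' ∈ wtS ρ (ZS S) (toK ζ), ρ g₀⁻¹ w' = w' := by
            intro w' hw'
            conv_lhs => rw [← hact w' hw']
            rw [← Module.End.mul_apply, ← map_mul, inv_mul_cancel, map_one, Module.End.one_apply]
          have hz : g₀ * v * g₀⁻¹ * v⁻¹ ∈ ZS S := cm_mem hSS hg₀S hv
          have h1 : ρ (g₀ * v * g₀⁻¹ * v⁻¹) w = w := by
            rw [map_mul, map_mul, map_mul, Module.End.mul_apply, Module.End.mul_apply,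
              Module.End.mul_apply]
            have h2 := hWS v⁻¹ (S.inv_mem hv) w hw
            rw [hact' _ h2, ← Module.End.mul_apply (ρ v), ← map_mul, mul_inv_cancel, map_one,
              Module.End.one_apply, hact w hw]
          have h3 := (mem_wtS.mp hw) _ hz
          rw [h1] at h3
          have h4 : (1 : k) • w = toK ζ (g₀ * v * g₀⁻¹ * v⁻¹) • w := by rw [one_smul]; exact h3
          have h5 := smul_left_injective k hw0 h4
          exact toK_eq_one_iff.mp h5.symm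
        have e1 : ⁅u, g⁆ = (g * u * g⁻¹ * u⁻¹)⁻¹ := by
          rw [commutatorElement_def]; group
        rw [e1]
        exact Subgroup.inv_mem _ hmem
    · rcases hh_gamma ρ hSS hζ (h.hAS hfr.hb) hbζ hfr.hq hq2 h.hqk hfr.orderOf_b
        h.card_S_ne_zero hcop hW hfpf with h1 | h1
      · exact Or.inl (hgood_of_le h1)
      · right
        have h2 : (Rz S hSS ζ hζ).relIndex (SF S hSS ζ hζ b) ∣ Nat.card S :=
          (Subgroup.relIndex_dvd_card _ _).trans
            (Subgroup.card_dvd_of_le (SF_le hSS hζ (h.hAS hfr.hb)))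
        rw [h1] at h2
        haveI : Fact s.Prime := ⟨h.hs⟩
        obtain ⟨n, hn⟩ := IsPGroup.iff_card.mp h.hS
        rw [hn] at h2
        have hqodd : Odd q := hfr.hq.odd_of_ne_two hq2
        have h2q : 2 ∣ q - 1 := by
          obtain ⟨m, hm⟩ := hqodd
          exact ⟨m, by omega⟩
        have h3 : q - 1 ∣ s ^ n := (Dvd.intro_left (q - 1) (sq (q - 1)).symm).trans h2
        have hs2 : s = 2 := by
          have h4 : 2 ∣ s ^ n := h2q.trans h3
          have h5 := Nat.Prime.dvd_of_dvd_pow Nat.prime_two h4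
          exact ((Nat.prime_dvd_prime_iff_eq Nat.prime_two h.hs).mp h5).symm
        rw [hs2] at h3
        obtain ⟨m, -, hm⟩ := (Nat.dvd_prime_pow Nat.prime_two).mp h3
        refine ⟨hs2, m, ?_, ?_⟩
        · have := hfr.hq.one_le
          omega
        · rw [h1, hm, ← pow_mul, mul_comm]

end MinCfg

end Cfsg.Agent.Lib.H19.PQ
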