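import Mathlib
import Cfsg.Agent.Lib.H19.PQ19

/-!
# The minimal counterexample: good weights are harmless; assembly modulo the Fermat case
(helper19)
-/

set_option autoImplicit false
set_option linter.unusedSectionVars false
set_option linter.style.haveILetI false
set_option maxHeartbeats 1000000

namespace Cfsg.Agent.Lib.H19.PQ

open Module Cfsg.Agent.Lib.H1 Cfsg.Agent.Lib.H19.Ward Cfsg.Agent.Lib.H19.SG
open scoped commutatorElement

variable {Γ : Type*} [Group Γ] [Finite Γ] {k : Type*} [Field k]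
  {W : Type*} [AddCommGroup W] [Module k W]

namespace MinCfg

variable {ρ : Representation k Γ W} {A H S T : Subgroup Γ} {p q e : ℕ} {a b : Γ} {s t : ℕ}

/-- the action of `T` on `Xz ζ` -/
theorem T_act_chi (h : MinCfg ρ A H S T p q e a b s t)
    (hna : ¬ ∀ u ∈ S, ∀ v ∈ S, u * v = v * u) {ζ : Γ → kˣ} (hζ : ζ ∈ Chr k (ZS S) ⊥)
    {x : Γ} (hx : x ∈ T) (u : Γ) : cjAct x (chi S ζ u) = chi S ζ (x * u * x⁻¹) := by
  rw [cjAct_chi h.comm_le_ZS hζ (h.hTS hx) u,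
    cjAct_eq_of_cen hζ (fun z hz => h.T_cen_ZS hna x hx z hz)]

/-- in type I, a character of `S / Z(S)` fixed by `a` is trivial -/
theorem afpf_of_cen (h : MinCfg ρ A H S T p q e a b s t)
    (hna : ¬ ∀ u ∈ S, ∀ v ∈ S, u * v = v * u) (hcen : ∀ x ∈ T, a * x = x * a) :
    ∀ χ ∈ Chr k S (ZS S), cjAct a χ = χ → χ = 1 := by
  intro χ hχ haχ
  apply Chr.eq_one_of_le_ker hχ
  have hact : CoprimeAction (Subgroup.zpowers a) S :=
    { normalizes := (h.zpowers_le).trans h.hAS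
      coprime := Nat.Coprime.coprime_dvd_left (Subgroup.card_dvd_of_le h.zpowers_le) h.coprime_S
      solvable := Or.inl inferInstance }
  have h1 := coprime_commutator_sup_centralizer hact
  have h3 : ⁅S, Subgroup.zpowers a⁆ ⊔ S ⊓ Subgroup.centralizer
      ((Subgroup.zpowers a : Subgroup Γ) : Set Γ) ≤ Chr.ker χ S (ZS S) hχ := by
    apply sup_le
    · rw [Subgroup.commutator_le]
      intro u hu g hg
      have hgχ : cjAct g χ = χ := ABHyp.fix_zpowers haχ hg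
      exact Chr.comm_mem_ker hχ (h.hAS (h.zpowers_le hg)) hgχ hu
    · intro u hu
      rw [Subgroup.mem_inf, Subgroup.mem_centralizer_iff] at hu
      have hau : a * u = u * a := hu.2 a (Subgroup.mem_zpowers a)
      have huZ : u ∈ ZS S := h.cen_T_le_ZS hna u hu.1 (h.cen_a_le hcen u hu.1 hau)
      rw [Chr.mem_ker]
      exact ⟨hu.1, hχ.2.2 u huZ⟩
  intro u hu
  apply h3
  rw [h1]
  exact hu

/-- good weights give trivial characters -/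
theorem good_trivial (h : MinCfg ρ A H S T p q e a b s t)
    (hna : ¬ ∀ u ∈ S, ∀ v ∈ S, u * v = v * u) {ζ : Γ → kˣ} (hζ : ζ ∈ Chr k (ZS S) ⊥)
    (hgood : GoodZ A S h.comm_le_ZS ζ hζ) : ∀ χ ∈ Xz S h.comm_le_ZS ζ hζ, χ = 1 := by
  classical
  have hSS := h.comm_le_ZS
  have hAB := h.abhyp (ZS S) h.A_le_normalizer_ZS h.T_le_normalizer_ZS
  obtain ⟨Ω, hΩdef⟩ : ∃ Ω : Set (Γ → kˣ), Ω = {χ | ∃ ζ' : Γ → kˣ,
      ∃ hζ' : ζ' ∈ Chr k (ZS S) ⊥, GoodZ A S hSS ζ' hζ' ∧ χ ∈ Xz S hSS ζ' hζ'} := ⟨_, rfl⟩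
  have hΩX : Ω ⊆ Chr k S (ZS S) := by
    intro χ hχ
    rw [hΩdef] at hχ
    obtain ⟨ζ', hζ', -, hχ'⟩ := hχ
    exact Xz_le hSS hζ' hχ'
  have hΩT : ∀ x ∈ T, ∀ χ ∈ Ω, cjAct x χ ∈ Ω := by
    intro x hx χ hχ
    rw [hΩdef] at hχ ⊢
    obtain ⟨ζ', hζ', hg', u, hu, rfl⟩ := hχ
    refine ⟨ζ', hζ', hg', x * u * x⁻¹, h.conjTS hx hu, ?_⟩
    exact h.T_act_chi hna hζ' hx u
  have hstab : ∀ χ ∈ Ω, ∃ x ∈ A, x ≠ 1 ∧ cjAct x χ = χ := by
    intro χ hχ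
    rw [hΩdef] at hχ
    obtain ⟨ζ', hζ', ⟨x, hxA, hx1, hx⟩, hχ'⟩ := hχ
    exact ⟨x, hxA, hx1, hx χ hχ'⟩
  have hall : ∀ χ ∈ Ω, χ = 1 := by
    rcases h.dichotomy with hcen | hfpf
    · exact hAB.typeI hcen (h.afpf_of_cen hna hcen) h.coprime_T_p (h.genb hcen) Ω hΩX hΩT hstab
    · exact hAB.typeII hfpf h.irr_T Ω hΩX hΩT hstab
  intro χ hχ
  apply hall
  rw [hΩdef]
  exact ⟨ζ, hζ, hgood, hχ⟩

/-- **assembly**: if `T` acts trivially on `Xz ζ` in the Fermat case, a minimal counterexample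
has `S` abelian. -/
theorem abelian_of_beta [IsAlgClosed k] [FiniteDimensional k W]
    (h : MinCfg ρ A H S T p q e a b s t)
    (hβ : ∀ (ζ : Γ → kˣ) (hζ : ζ ∈ Chr k (ZS S) ⊥) (g : Γ), g ∈ Subgroup.zpowers a →
      wtS ρ (ZS S) (toK ζ) ≠ ⊥ → cjAct (g * b * g⁻¹) ζ = ζ →
      BetaZ S h.comm_le_ZS ζ hζ q s (g * b * g⁻¹) →
      ∀ χ ∈ Xz S h.comm_le_ZS ζ hζ, ∀ x ∈ T, cjAct x χ = χ) :
    ∀ u ∈ S, ∀ v ∈ S, u * v = v * u := by
  classical
  by_contra hna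
  have hfr := h.frob
  have hSS := h.comm_le_ZS
  have hZk := h.card_le_ne_zero (ZS_le S)
  -- `T` acts trivially on every `Xz ζ`
  have key : ∀ (ζ : Γ → kˣ) (hζ : ζ ∈ Chr k (ZS S) ⊥), wtS ρ (ZS S) (toK ζ) ≠ ⊥ →
      ∀ χ ∈ Xz S hSS ζ hζ, ∀ x ∈ T, cjAct x χ = χ := by
    intro ζ hζ hW
    have htriv : GoodZ A S hSS ζ hζ → ∀ χ ∈ Xz S hSS ζ hζ, ∀ x ∈ T, cjAct x χ = χ := by
      intro hgood χ hχ x _
      rw [h.good_trivial hna hζ hgood χ hχ, map_one]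
    obtain ⟨x, hxA, hx1, hxζ⟩ := exists_stab_of_wt ρ h.A_le_normalizer_ZS hZk h.ZS_commute
      h.hfixW hW
    have hxζ' : cjAct x ζ = ζ := cjAct_eq_of_forall hζ (h.A_le_normalizer_ZS hxA) hxζ
    rcases hfr.cases hxA hx1 with hcase | ⟨g, hg, hcase⟩
    · exact htriv (h.good_of_a hζ hW (ABHyp.fix_zpowers hxζ' hcase))
    · have hb'ζ : cjAct (g * b * g⁻¹) ζ = ζ := ABHyp.fix_zpowers hxζ' hcase
      rcases (h.conj_b hg).good_of_b hζ hW hb'ζ with hgood | hbeta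
      · exact htriv hgood
      · exact hβ ζ hζ g hg hW hb'ζ hbeta
  -- hence `[T, S] ≤ Z(S)`
  have hTS : ∀ x ∈ T, ∀ u ∈ S, x * u * x⁻¹ * u⁻¹ ∈ ZS S := by
    intro x hx u hu
    have hyS : x * u * x⁻¹ * u⁻¹ ∈ S := S.mul_mem (h.conjTS hx hu) (S.inv_mem hu)
    rw [mem_ZS]
    refine ⟨hyS, fun v hv => ?_⟩
    obtain ⟨y, hydef⟩ : ∃ y : Γ, y = x * u * x⁻¹ * u⁻¹ := ⟨_, rfl⟩
    rw [← hydef] at hyS ⊢
    have hz : y * v * y⁻¹ * v⁻¹ ∈ ZS S := cm_mem hSS hyS hv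
    have h1 : ρ (y * v * y⁻¹ * v⁻¹) = 1 := by
      apply ext_of_wtS ρ hZk h.ZS_commute
      intro χ m hm
      by_cases hbot : wtS ρ (ZS S) χ = ⊥
      · rw [hbot, Submodule.mem_bot] at hm
        rw [hm, map_zero, map_zero]
      · obtain ⟨ζ, hζ, hζχ⟩ := exists_chr_of_wt ρ hbot
        have hW : wtS ρ (ZS S) (toK ζ) ≠ ⊥ := by
          rw [wtS_congr ρ (χ := toK ζ) (χ' := χ) hζχ]
          exact hbot
        have h2 := key ζ hζ hW (chi S ζ u) ⟨u, hu, rfl⟩ x hx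
        rw [h.T_act_chi hna hζ hx u] at h2
        -- `chi ζ y = 1`
        have h3 : chi S ζ y = 1 := by
          rw [hydef, chi_mul hSS hζ (h.conjTS hx hu) (S.inv_mem hu), h2, chi_inv hSS hζ hu,
            mul_inv_cancel]
        have h4 : ζ (y * v * y⁻¹ * v⁻¹) = 1 := by
          rw [← chi_apply ζ y hv, h3]
          rfl
        rw [mem_wtS] at hm
        rw [hm _ hz, ← hζχ _ hz, toK_eq_one_iff.mpr h4, one_smul, Module.End.one_apply]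
    have h5 := h.hfaith _ (ZS_le S hz) h1
    calc v * y = (y * v * y⁻¹ * v⁻¹)⁻¹ * (y * v) := by group
      _ = y * v := by rw [h5, inv_one, one_mul]
  -- `S = [S, T] ≤ Z(S)`
  have hle : ⁅S, T⁆ ≤ ZS S := by
    rw [Subgroup.commutator_le]
    intro u hu x hx
    have e1 : ⁅u, x⁆ = (x * u * x⁻¹ * u⁻¹)⁻¹ := by
      rw [commutatorElement_def]; group
    rw [e1]
    exact Subgroup.inv_mem _ (hTS x hx u hu)
  rw [h.comm_ST] at hle
  apply hna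
  intro u hu v hv
  exact ZS_comm (hle hv) hu

end MinCfg

end Cfsg.Agent.Lib.H19.PQ
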