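import Mathlib
import Cfsg.Agent.Lib.H20.S3F4
import Cfsg.Agent.Lib.H1.FFM
import Cfsg.Agent.Lib.H21.SympSq

/-!
# The Fermat case, abstract part 1: pairings on elementary abelian 2-groups (helper19)

`V` is a finite elementary abelian `2`-group with a nondegenerate alternating pairing `B` with
values in `{1, t}`.  Basic facts on such pairings and on the commutator group `[T, c]` of an abelian
group `T` of automorphisms normalized by `c`.
-/

set_option autoImplicit false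
set_option linter.unusedSectionVars false
set_option linter.style.haveILetI false
set_option maxHeartbeats 1000000

namespace Cfsg.Agent.Lib.H19.PQ

open Cfsg.Agent.Lib.H20.S3F

/-- a nondegenerate alternating pairing with values in `{1, t}` on a group of exponent two -/
structure Pairing {V : Type*} [CommGroup V] {Y : Type*} [CommGroup Y] (B : V → V → Y) (t : Y) :
    Prop where
  hexp : ∀ v : V, v ^ 2 = 1
  hBl : ∀ u v w, B (u * v) w = B u w * B v w
  hBr : ∀ u v w, B u (v * w) = B u v * B u w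
  halt : ∀ v, B v v = 1
  hnd : ∀ u, (∀ v, B u v = 1) → u = 1
  hval : ∀ u v, B u v = 1 ∨ B u v = t

namespace Pairing

variable {V : Type*} [CommGroup V] {Y : Type*} [CommGroup Y] {B : V → V → Y} {t : Y}

theorem one_left (h : Pairing B t) (w : V) : B 1 w = 1 := by
  have h1 := h.hBl 1 1 w
  rw [one_mul] at h1
  have h2 : B 1 w * 1 = B 1 w * B 1 w := by rw [mul_one]; exact h1
  exact (mul_left_cancel h2).symm

theorem one_right (h : Pairing B t) (w : V) : B w 1 = 1 := by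
  have h1 := h.hBr w 1 1
  rw [one_mul] at h1
  have h2 : B w 1 * 1 = B w 1 * B w 1 := by rw [mul_one]; exact h1
  exact (mul_left_cancel h2).symm

theorem sq (h : Pairing B t) (u v : V) : B u v ^ 2 = 1 := by
  rw [pow_two, ← h.hBl, ← pow_two, h.hexp, h.one_left]

theorem symm (h : Pairing B t) (u v : V) : B u v = B v u := by
  have h1 := h.halt (u * v)
  rw [h.hBl, h.hBr, h.hBr, h.halt, h.halt, one_mul, mul_one] at h1
  have h2 : B v u = (B u v)⁻¹ := (eq_inv_of_mul_eq_one_right h1)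
  have h3 : (B u v)⁻¹ = B u v := by
    have := h.sq u v
    rw [pow_two] at this
    exact (eq_inv_of_mul_eq_one_left this).symm
  rw [h2, h3]

/-- the homomorphism `B u ·` -/
def homR (h : Pairing B t) (u : V) : V →* Y where
  toFun := B u
  map_one' := h.one_right u
  map_mul' := h.hBr u

theorem homR_apply (h : Pairing B t) (u v : V) : h.homR u v = B u v := rfl

theorem eq_one_of_pow (h : Pairing B t) {u v : V} {n : ℕ} (hn : n.Coprime 2)
    (hpow : B u v ^ n = 1) : B u v = 1 := by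
  have h1 : B u v ^ (Nat.gcd n 2) = 1 := pow_gcd_eq_one.mpr ⟨hpow, h.sq u v⟩
  rw [Nat.Coprime] at hn
  rwa [hn, pow_one] at h1

theorem prod_right (h : Pairing B t) (u : V) {ι : Type*} (s : Finset ι) (f : ι → V) :
    B u (∏ i ∈ s, f i) = ∏ i ∈ s, B u (f i) := by
  have := map_prod (h.homR u) f s
  exact this

end Pairing

section Comm

variable {M : Type*} [Group M]

/-- iterated conjugation stays in an invariant subgroup -/
theorem conj_pow_mem' {Tg : Subgroup M} {c : M} (hcT : ∀ y ∈ Tg, c * y * c⁻¹ ∈ Tg) (i : ℕ) :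
    ∀ y ∈ Tg, c ^ i * y * (c ^ i)⁻¹ ∈ Tg := by
  induction i with
  | zero => intro y hy; simpa using hy
  | succ i ih =>
    intro y hy
    have e : c ^ (i + 1) * y * (c ^ (i + 1))⁻¹ = c * (c ^ i * y * (c ^ i)⁻¹) * c⁻¹ := by
      rw [pow_succ']; group
    rw [e]
    exact hcT _ (ih y hy)

theorem conj_inv_mem' {Tg : Subgroup M} {c : M} {q : ℕ} (hq : 0 < q) (hc : c ^ q = 1)
    (hcT : ∀ y ∈ Tg, c * y * c⁻¹ ∈ Tg) : ∀ y ∈ Tg, c⁻¹ * y * c ∈ Tg := by
  intro y hy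
  have h1 : c ^ (q - 1) = c⁻¹ := by
    have h2 : c ^ (q - 1) * c = 1 := by
      rw [← pow_succ, Nat.sub_add_cancel hq, hc]
    exact eq_inv_of_mul_eq_one_left h2
  have := conj_pow_mem' hcT (q - 1) y hy
  rwa [h1, inv_inv] at this

/-- `c` has no fixed points on `[T, c]` -/
theorem comm_fpf [Finite M] {Tg : Subgroup M} {c : M} {q : ℕ} (hc : c ^ q = 1)
    (hTq : (Nat.card Tg).Coprime q) {y : M} (hy : y ∈ Tg) (hz : c * y * c⁻¹ * y⁻¹ ∈ Tg)
    (hcz : c * (c * y * c⁻¹ * y⁻¹) = (c * y * c⁻¹ * y⁻¹) * c) : c * y * c⁻¹ * y⁻¹ = 1 := by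
  obtain ⟨z, hzdef⟩ : ∃ z : M, z = c * y * c⁻¹ * y⁻¹ := ⟨_, rfl⟩
  rw [← hzdef] at hz hcz ⊢
  have hcy : c * y * c⁻¹ = z * y := by rw [hzdef]; group
  have hczc : c * z * c⁻¹ = z := by rw [hcz]; group
  have key : ∀ i : ℕ, c ^ i * y * (c ^ i)⁻¹ = z ^ i * y := by
    intro i
    induction i with
    | zero => simp
    | succ i ih =>
      have e : c ^ (i + 1) * y * (c ^ (i + 1))⁻¹ = c * (c ^ i * y * (c ^ i)⁻¹) * c⁻¹ := by
        rw [pow_succ']; group
      rw [e, ih]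
      have e2 : c * (z ^ i * y) * c⁻¹ = (c * z * c⁻¹) ^ i * (c * y * c⁻¹) := by
        rw [conj_pow]; group
      rw [e2, hczc, hcy, pow_succ, mul_assoc]
  have h1 := key q
  rw [hc, one_mul, inv_one, mul_one] at h1
  have hzq : z ^ q = 1 := by
    have : z ^ q * y = 1 * y := by rw [one_mul]; exact h1.symm
    exact mul_right_cancel this
  have hzT : z ^ Nat.card Tg = 1 := by
    have := pow_card_eq_one' (G := ↥Tg) (x := ⟨z, hz⟩)
    have h2 := congrArg Subtype.val this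
    rw [Subgroup.coe_pow, Subgroup.coe_one] at h2
    exact h2
  have h3 : z ^ (Nat.gcd (Nat.card Tg) q) = 1 := pow_gcd_eq_one.mpr ⟨hzT, hzq⟩
  rw [Nat.Coprime] at hTq
  rwa [hTq, pow_one] at h3

/-- the commutator map `y ↦ [c, y]` on an abelian subgroup normalized by `c` -/
def commHom (Tg : Subgroup M) (c : M) (hTab : ∀ x ∈ Tg, ∀ y ∈ Tg, x * y = y * x)
    (hcT : ∀ y ∈ Tg, c * y * c⁻¹ ∈ Tg) : ↥Tg →* M :=
  MonoidHom.mk' (fun y => c * (y : M) * c⁻¹ * (y : M)⁻¹) (by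
    intro x y
    have h1 : (x : M)⁻¹ * (c * (y : M) * c⁻¹) = (c * (y : M) * c⁻¹) * (x : M)⁻¹ :=
      hTab _ (Tg.inv_mem x.2) _ (hcT _ y.2)
    calc c * ((x * y : ↥Tg) : M) * c⁻¹ * ((x * y : ↥Tg) : M)⁻¹
        = c * (x : M) * c⁻¹ * (c * (y : M) * c⁻¹ * ((y : M)⁻¹ * (x : M)⁻¹)) := by
          rw [Subgroup.coe_mul]; group
      _ = c * (x : M) * c⁻¹ * (c * (y : M) * c⁻¹ * ((x : M)⁻¹ * (y : M)⁻¹)) := by
          rw [hTab _ (Tg.inv_mem y.2) _ (Tg.inv_mem x.2)]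
      _ = c * (x : M) * c⁻¹ * (((x : M)⁻¹ * (c * (y : M) * c⁻¹)) * (y : M)⁻¹) := by
          rw [h1]; group
      _ = c * (x : M) * c⁻¹ * (x : M)⁻¹ * (c * (y : M) * c⁻¹ * (y : M)⁻¹) := by group)

theorem commHom_apply (Tg : Subgroup M) (c : M) (hTab : ∀ x ∈ Tg, ∀ y ∈ Tg, x * y = y * x)
    (hcT : ∀ y ∈ Tg, c * y * c⁻¹ ∈ Tg) (y : ↥Tg) :
    commHom Tg c hTab hcT y = c * (y : M) * c⁻¹ * (y : M)⁻¹ := rfl

/-- the commutator group `[T, c]` -/
def commK (Tg : Subgroup M) (c : M) (hTab : ∀ x ∈ Tg, ∀ y ∈ Tg, x * y = y * x)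
    (hcT : ∀ y ∈ Tg, c * y * c⁻¹ ∈ Tg) : Subgroup M :=
  (commHom Tg c hTab hcT).range

variable {Tg : Subgroup M} {c : M} (hTab : ∀ x ∈ Tg, ∀ y ∈ Tg, x * y = y * x)
  (hcT : ∀ y ∈ Tg, c * y * c⁻¹ ∈ Tg)

theorem mem_commK {z : M} : z ∈ commK Tg c hTab hcT ↔ ∃ y ∈ Tg, z = c * y * c⁻¹ * y⁻¹ := by
  unfold commK
  rw [MonoidHom.mem_range]
  constructor
  · rintro ⟨y, rfl⟩
    exact ⟨y, y.2, rfl⟩
  · rintro ⟨y, hy, rfl⟩
    exact ⟨⟨y, hy⟩, rfl⟩

theorem commK_le : commK Tg c hTab hcT ≤ Tg := by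
  intro z hz
  obtain ⟨y, hy, rfl⟩ := (mem_commK hTab hcT).mp hz
  exact Tg.mul_mem (hcT y hy) (Tg.inv_mem hy)

theorem comm_mem_commK {y : M} (hy : y ∈ Tg) : c * y * c⁻¹ * y⁻¹ ∈ commK Tg c hTab hcT :=
  (mem_commK hTab hcT).mpr ⟨y, hy, rfl⟩

theorem commK_conj {z : M} (hz : z ∈ commK Tg c hTab hcT) :
    c * z * c⁻¹ ∈ commK Tg c hTab hcT := by
  obtain ⟨y, hy, rfl⟩ := (mem_commK hTab hcT).mp hz
  rw [mem_commK]
  refine ⟨c * y * c⁻¹, hcT y hy, ?_⟩
  group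

theorem commK_fpf [Finite M] {q : ℕ} (hc : c ^ q = 1) (hTq : (Nat.card Tg).Coprime q)
    {z : M} (hz : z ∈ commK Tg c hTab hcT) (hcz : c * z = z * c) : z = 1 := by
  have hzT := commK_le hTab hcT hz
  obtain ⟨y, hy, rfl⟩ := (mem_commK hTab hcT).mp hz
  exact comm_fpf hc hTq hy hzT hcz

end Comm

end Cfsg.Agent.Lib.H19.PQ
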