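import Mathlib
import Cfsg.Agent.Lib.H19.PQ21

/-!
# The Fermat case, abstract part 2: `c` centralizes `T` (helper19)

`fermat_comm` : `V` elementary abelian `2`-group with a nondegenerate alternating pairing,
`q = 2^m + 1` an odd prime, `c` an isometry of order dividing `q` with `|[V, c]| = 2^(2m)`,
`Tg` an abelian group of isometries of odd order prime to `q` normalized by `c`.  Then `c`
centralizes `Tg`.
-/

set_option autoImplicit false
set_option linter.unusedSectionVars false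
set_option linter.style.haveILetI false
set_option maxHeartbeats 1000000

namespace Cfsg.Agent.Lib.H19.PQ

open Cfsg.Agent.Lib.H20.S3F

variable {V : Type*} [CommGroup V] [Finite V] {Y : Type*} [CommGroup Y] {B : V → V → Y} {t : Y}

/-- the cardinality of a group of exponent two is prime to every odd number -/
theorem card_coprime_of_exp_two (hexp : ∀ v : V, v ^ 2 = 1) {n : ℕ} (hn : n.Coprime 2) :
    (Nat.card V).Coprime n := by
  haveI : Fact (Nat.Prime 2) := ⟨Nat.prime_two⟩
  have hP : IsPGroup 2 V := fun v => ⟨1, by rw [pow_one]; exact hexp v⟩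
  obtain ⟨j, hj⟩ := IsPGroup.iff_card.mp hP
  rw [hj]
  exact Nat.Coprime.pow_left j hn.symm

/-- orthogonality of the fixed points and the trace kernel -/
theorem Pairing.orth (h : Pairing B t) {K : Subgroup (MulAut V)}
    (hKB : ∀ x ∈ K, ∀ u v, B (x u) (x v) = B u v) (hK2 : (Nat.card K).Coprime 2)
    {f w : V} (hf : f ∈ fixG K) (hw : w ∈ (trK K).ker) : B f w = 1 := by
  classical
  letI := Fintype.ofFinite K
  apply h.eq_one_of_pow hK2
  have h1 : trK K w = 1 := MonoidHom.mem_ker.mp hw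
  have h2 : B f (trK K w) = B f w ^ Nat.card K := by
    rw [trK_apply, h.prod_right]
    have h3 : ∀ x : K, B f ((x : MulAut V) w) = B f w := by
      intro x
      have := hKB x x.2 f w
      rw [hf x x.2] at this
      exact this
    simp only [h3, Finset.prod_const, Finset.card_univ, Nat.card_eq_fintype_card]
  rw [← h2, h1, h.one_right]

/-- the norm identity -/
theorem Pairing.nrm_right (h : Pairing B t) {c : MulAut V}
    (hcB : ∀ u v, B (c u) (c v) = B u v) {u : V} (hu : c u = u) (n : ℕ) (w : V) :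
    B u (nrm c n w) = B u w ^ n := by
  unfold nrm
  rw [h.prod_right]
  have h1 : ∀ i : ℕ, ∀ v : V, B u ((c ^ i) v) = B u v := by
    intro i
    induction i with
    | zero => intro v; rfl
    | succ i ih =>
      intro v
      rw [pow_succ', MulAut.mul_apply]
      have := hcB u ((c ^ i) v)
      rw [hu] at this
      rw [this, ih]
  simp only [h1, Finset.prod_const, Finset.card_range]

theorem pow_apply_mem {U : Subgroup V} {c : MulAut V} (hc : ∀ v ∈ U, c v ∈ U) (i : ℕ) :
    ∀ v ∈ U, (c ^ i) v ∈ U := by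
  induction i with
  | zero => intro v hv; exact hv
  | succ i ih =>
    intro v hv
    rw [pow_succ', MulAut.mul_apply]
    exact hc _ (ih v hv)

theorem nrm_mem {U : Subgroup V} {c : MulAut V} (hc : ∀ v ∈ U, c v ∈ U) (n : ℕ) {v : V}
    (hv : v ∈ U) : nrm c n v ∈ U := by
  unfold nrm
  apply Subgroup.prod_mem
  intro i _
  exact pow_apply_mem hc i v hv

/-- the map `v ↦ c v / v` -/
def dHom (c : MulAut V) : V →* V := (c : V ≃* V).toMonoidHom / MonoidHom.id V

theorem dHom_apply (c : MulAut V) (v : V) : dHom c v = c v / v := rfl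

theorem dHom_ker (c : MulAut V) : (dHom c).ker = fix1 c := by
  ext v
  rw [MonoidHom.mem_ker, dHom_apply, div_eq_one, mem_fix1]

theorem card_fix_mul_range (c : MulAut V) :
    Nat.card (fix1 c) * Nat.card (dHom c).range = Nat.card V := by
  rw [← dHom_ker, ← Subgroup.index_ker]
  exact Subgroup.card_mul_index _

/-- the restricted count -/
theorem card_inf_mul_le (c : MulAut V) (U : Subgroup V) :
    ∃ R : Subgroup V, R ≤ (dHom c).range ∧
      Nat.card (U ⊓ fix1 c : Subgroup V) * Nat.card R = Nat.card U := by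
  let f : ↥U →* V := (dHom c).comp U.subtype
  refine ⟨f.range, ?_, ?_⟩
  · rintro _ ⟨u, rfl⟩
    exact ⟨(u : V), rfl⟩
  · have h1 : Nat.card f.ker * Nat.card f.range = Nat.card ↥U := by
      rw [← Subgroup.index_ker]
      exact Subgroup.card_mul_index _
    have h2 : Nat.card f.ker = Nat.card (U ⊓ fix1 c : Subgroup V) := by
      apply Nat.card_congr
      exact
        { toFun := fun u => ⟨((u : ↥U) : V), by
            have hu := u.2
            rw [MonoidHom.mem_ker] at hu
            have h3 : dHom c ((u : ↥U) : V) = 1 := hu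
            rw [dHom_apply, div_eq_one] at h3
            exact Subgroup.mem_inf.mpr ⟨(u : ↥U).2, h3⟩⟩
          invFun := fun u => ⟨⟨(u : V), (Subgroup.mem_inf.mp u.2).1⟩, by
            rw [MonoidHom.mem_ker]
            show dHom c (u : V) = 1
            rw [dHom_apply, div_eq_one]
            exact (Subgroup.mem_inf.mp u.2).2⟩
          left_inv := fun u => rfl
          right_inv := fun u => rfl }
    rw [← h2]
    exact h1

/-- **`c` centralizes `Tg`** -/
theorem fermat_comm (h : Pairing B t) {m : ℕ} (hm : m ≠ 0) (hq : (2 ^ m + 1).Prime)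
    (c : MulAut V) (hc : c ^ (2 ^ m + 1) = 1) (hcB : ∀ u v, B (c u) (c v) = B u v)
    (hcard : Nat.card V = 2 ^ (2 * m) * Nat.card {v : V // c v = v})
    (Tg : Subgroup (MulAut V)) (hTab : ∀ x ∈ Tg, ∀ y ∈ Tg, x * y = y * x)
    (hTB : ∀ x ∈ Tg, ∀ u v, B (x u) (x v) = B u v)
    (hT2 : (Nat.card Tg).Coprime 2) (hTq : (Nat.card Tg).Coprime (2 ^ m + 1))
    (hcT : ∀ y ∈ Tg, c * y * c⁻¹ ∈ Tg) : ∀ y ∈ Tg, c * y = y * c := by
  classical
  haveI : Finite (MulAut V) := inferInstance
  obtain ⟨q, hqdef⟩ : ∃ q : ℕ, q = 2 ^ m + 1 := ⟨_, rfl⟩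
  rw [← hqdef] at hq hc hTq
  have hq0 : 0 < q := hq.pos
  have hq2 : q.Coprime 2 := by
    rw [hqdef]
    have h1 : 2 ∣ 2 ^ m := dvd_pow_self 2 hm
    rw [Nat.coprime_two_right]
    obtain ⟨j, hj⟩ := h1
    exact ⟨j, by omega⟩
  obtain ⟨K, hKdef⟩ : ∃ K : Subgroup (MulAut V), K = commK Tg c hTab hcT := ⟨_, rfl⟩
  have hKT : K ≤ Tg := by rw [hKdef]; exact commK_le hTab hcT
  have hKmem : ∀ y ∈ Tg, c * y * c⁻¹ * y⁻¹ ∈ K := by
    intro y hy; rw [hKdef]; exact comm_mem_commK hTab hcT hy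
  have hKc : ∀ z ∈ K, c * z * c⁻¹ ∈ K := by
    intro z hz; rw [hKdef] at hz ⊢; exact commK_conj hTab hcT hz
  have hKc' : ∀ z ∈ K, c⁻¹ * z * c ∈ K := conj_inv_mem' hq0 hc hKc
  have hKfpf : ∀ z ∈ K, c * z = z * c → z = 1 := by
    intro z hz hcz; rw [hKdef] at hz; exact commK_fpf hTab hcT hc hTq hz hcz
  have hKab : ∀ x ∈ K, ∀ y ∈ K, x * y = y * x := fun x hx y hy => hTab x (hKT hx) y (hKT hy)
  have hKB : ∀ x ∈ K, ∀ u v, B (x u) (x v) = B u v := fun x hx => hTB x (hKT hx)
  have hK2 : (Nat.card K).Coprime 2 :=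
    Nat.Coprime.coprime_dvd_left (Subgroup.card_dvd_of_le hKT) hT2
  have hVK : (Nat.card V).Coprime (Nat.card K) := card_coprime_of_exp_two h.hexp hK2
  -- the decomposition
  obtain ⟨V₁, hV₁def⟩ : ∃ V₁ : Subgroup V, V₁ = (trK K).ker := ⟨_, rfl⟩
  have hdec : ∀ v : V, ∃ f ∈ fixG K, ∃ w ∈ V₁, v = f * w := by
    intro v; rw [hV₁def]; exact exists_mul_of_coprime K hVK v
  have hinf : fixG K ⊓ V₁ = ⊥ := by rw [hV₁def]; exact fixG_inf_ker_trK K hVK
  have hcV₁ : ∀ v ∈ V₁, c v ∈ V₁ := by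
    intro v hv
    rw [hV₁def, MonoidHom.mem_ker] at hv ⊢
    rw [← apply_trK_of_normalizes K hKc hKc', hv, map_one]
  have hKV₁ : ∀ y ∈ K, ∀ v ∈ V₁, y v ∈ V₁ := by
    intro y hy v hv
    rw [hV₁def, MonoidHom.mem_ker] at hv ⊢
    rw [← apply_trK_comm K (fun k hk => hKab y hy k hk), hv, map_one]
  have hcU : c ∈ stabU V₁ := mem_stabU_of_forall hcV₁
  have hKU : K ≤ stabU V₁ := fun y hy => mem_stabU_of_forall (hKV₁ y hy)
  -- an element of `K` trivial on `V₁` is trivial
  have htrivK : ∀ z ∈ K, (∀ v ∈ V₁, z v = v) → z = 1 := by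
    intro z hz hzv
    apply eq_one_of_forall_apply
    intro v
    obtain ⟨f, hf, w, hw, rfl⟩ := hdec v
    rw [map_mul, hf z hz, hzv w hw]
  -- `ffm` on `V₁`
  obtain ⟨c₁, hc₁def⟩ : ∃ c₁ : MulAut ↥V₁, c₁ = resU V₁ ⟨c, hcU⟩ := ⟨_, rfl⟩
  have hc₁ : ∀ v : ↥V₁, ((c₁ v : ↥V₁) : V) = c (v : V) := by
    intro v; rw [hc₁def]; rfl
  have hcinv : ∀ v ∈ V₁, c⁻¹ v ∈ V₁ := by
    intro v hv
    exact ((stabU V₁).inv_mem hcU v).mpr hv
  have hffm : Nat.card ↥V₁ = Nat.card {v : ↥V₁ // c₁ v = v} ^ q := by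
    apply Cfsg.Agent.Lib.H1.FFM.ffm Nat.prime_two hq (fun h2 => by
        rw [h2] at hq2; exact absurd hq2 (by decide))
      (fun v => Subtype.ext (by rw [Subgroup.coe_pow, h.hexp]; rfl)) (resQ V₁ K)
    · -- abelian
      intro x hx y hy
      obtain ⟨gx, hgxU, hgx, rfl⟩ := mem_resQ hx
      obtain ⟨gy, hgyU, hgy, rfl⟩ := mem_resQ hy
      rw [← map_mul, ← map_mul]
      congr 1
      exact Subtype.ext (hKab gx hgx gy hgy)
    · -- coprime
      have h1 : Nat.card (resQ V₁ K) ∣ Nat.card (K.subgroupOf (stabU V₁)) :=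
        Subgroup.card_map_dvd _ _
      rw [Nat.card_congr (Subgroup.subgroupOfEquivOfLe hKU).toEquiv] at h1
      exact Nat.Coprime.coprime_dvd_left h1 hK2
    · -- order of `c₁`
      rw [hc₁def, ← map_pow]
      have : (⟨c, hcU⟩ : ↥(stabU V₁)) ^ q = 1 := Subtype.ext (by rw [Subgroup.coe_pow, hc]; rfl)
      rw [this, map_one]
    · -- normalizes
      rw [hc₁def]
      exact res_normalizes hcU hKc
    · -- fixed point free on `K₁`
      intro y₁ hy₁ hcomm
      obtain ⟨y, hyU, hy, rfl⟩ := mem_resQ hy₁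
      have hz : c * y * c⁻¹ * y⁻¹ ∈ K := hKmem y (hKT hy)
      have hcy : ∀ v ∈ V₁, c (y v) = y (c v) := by
        intro v hv
        have h1 := congrArg (fun e : MulAut ↥V₁ => ((e ⟨v, hv⟩ : ↥V₁) : V)) hcomm
        simp only [MulAut.mul_apply] at h1
        rw [hc₁] at h1
        rw [hc₁def] at h1
        exact h1
      have hz1 : c * y * c⁻¹ * y⁻¹ = 1 := by
        apply htrivK _ hz
        intro v hv
        have hyinv : y⁻¹ v ∈ V₁ := ((stabU V₁).inv_mem hyU v).mpr hv
        have h2 := hcy (c⁻¹ (y⁻¹ v)) (hcinv _ hyinv)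
        simp only [MulAut.mul_apply]
        rw [h2, MulAut.apply_inv_self, MulAut.apply_inv_self]
      have hcy' : c * y = y * c := by
        calc c * y = (c * y * c⁻¹ * y⁻¹) * (y * c) := by group
          _ = y * c := by rw [hz1, one_mul]
      have hy1 := hKfpf y hy hcy'
      have : (⟨y, hyU⟩ : ↥(stabU V₁)) = 1 := Subtype.ext hy1
      rw [this, map_one]
    · -- no fixed points of `K₁`
      intro v hv
      have h1 : (v : V) ∈ fixG K ⊓ V₁ := by
        refine Subgroup.mem_inf.mpr ⟨?_, v.2⟩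
        intro y hy
        have h2 := hv _ (resU_mem_resQ hy (hKU hy))
        exact congrArg Subtype.val h2
      rw [hinf, Subgroup.mem_bot] at h1
      exact Subtype.ext h1
  -- the fixed points of `c` on `V₁`
  obtain ⟨U, hUdef⟩ : ∃ U : Subgroup V, U = V₁ ⊓ fix1 c := ⟨_, rfl⟩
  have hUV₁ : U ≤ V₁ := by rw [hUdef]; exact inf_le_left
  have hUc : ∀ u ∈ U, c u = u := by
    intro u hu; rw [hUdef] at hu; exact (Subgroup.mem_inf.mp hu).2
  have hcardU : Nat.card {v : ↥V₁ // c₁ v = v} = Nat.card ↥U := by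
    apply Nat.card_congr
    exact
      { toFun := fun v => ⟨((v : ↥V₁) : V), by
          rw [hUdef]
          refine Subgroup.mem_inf.mpr ⟨(v : ↥V₁).2, ?_⟩
          have := congrArg Subtype.val v.2
          rw [hc₁] at this
          exact this⟩
        invFun := fun u => ⟨⟨(u : V), hUV₁ u.2⟩, Subtype.ext (by rw [hc₁]; exact hUc _ u.2)⟩
        left_inv := fun v => rfl
        right_inv := fun u => rfl }
  -- the pairing on `U`
  have hPU : Pairing (fun u v : ↥U => B (u : V) (v : V)) t :=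
    { hexp := fun v => Subtype.ext (by rw [Subgroup.coe_pow, h.hexp]; rfl)
      hBl := fun u v w => h.hBl _ _ _
      hBr := fun u v w => h.hBr _ _ _
      halt := fun v => h.halt _
      hval := fun u v => h.hval _ _
      hnd := by
        intro u hu
        apply Subtype.ext
        apply h.hnd
        intro v
        obtain ⟨f, hf, w, hw, rfl⟩ := hdec v
        have hw' : w ∈ (trK K).ker := by rw [← hV₁def]; exact hw
        have hu' : (u : V) ∈ (trK K).ker := by rw [← hV₁def]; exact hUV₁ u.2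
        rw [h.hBr, h.symm (u : V) f, h.orth hKB hK2 hf hu', one_mul]
        apply h.eq_one_of_pow hq2
        rw [← h.nrm_right hcB (hUc _ u.2) q w]
        have hn : nrm c q w ∈ U := by
          rw [hUdef]
          exact Subgroup.mem_inf.mpr ⟨nrm_mem hcV₁ q hw, apply_nrm hc w⟩
        exact hu ⟨_, hn⟩ }
  obtain ⟨d, hd⟩ := Cfsg.Agent.Lib.H21.Symp.sq_val hPU.hexp _ hPU.hBl hPU.hBr hPU.halt hPU.hnd t
    hPU.hval
  -- counting
  have hrange : Nat.card (dHom c).range = 2 ^ (2 * m) := by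
    have h1 := card_fix_mul_range c
    have h2 : Nat.card {v : V // c v = v} = Nat.card (fix1 c) := rfl
    rw [hcard, h2, mul_comm] at h1
    exact Nat.eq_of_mul_eq_mul_right Nat.card_pos h1
  obtain ⟨R, hR, hRcard⟩ := card_inf_mul_le c V₁
  rw [← hUdef, hd, hffm, hcardU, hd] at hRcard
  have hRdvd : Nat.card R ∣ 2 ^ (2 * m) := by
    rw [← hrange]; exact Subgroup.card_dvd_of_le hR
  have hd0 : d = 0 := by
    by_contra hd0
    have hRc : Nat.card R = 2 ^ (2 * d * 2 ^ m) := by
      have e1 : (2 ^ (2 * d)) ^ q = 2 ^ (2 * d) * 2 ^ (2 * d * 2 ^ m) := by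
        rw [hqdef, ← pow_mul, ← pow_add]
        congr 1
        ring
      rw [e1] at hRcard
      exact Nat.eq_of_mul_eq_mul_left (by positivity) hRcard
    rw [hRc, Nat.pow_dvd_pow_iff_le_right (by norm_num)] at hRdvd
    have h3 : m < 2 ^ m := Nat.lt_two_pow_self
    have h4 : 1 ≤ d := Nat.one_le_iff_ne_zero.mpr hd0
    nlinarith
  have hV₁1 : Nat.card ↥V₁ = 1 := by
    rw [hffm, hcardU, hd, hd0, mul_zero, pow_zero, one_pow]
  have hV₁bot : V₁ = ⊥ := Subgroup.card_eq_one.mp hV₁1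
  intro y hy
  have hz1 : c * y * c⁻¹ * y⁻¹ = 1 := by
    apply htrivK _ (hKmem y hy)
    intro v hv
    rw [hV₁bot, Subgroup.mem_bot] at hv
    rw [hv, map_one]
  calc c * y = (c * y * c⁻¹ * y⁻¹) * (y * c) := by group
    _ = y * c := by rw [hz1, one_mul]

end Cfsg.Agent.Lib.H19.PQ
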