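import Mathlib
import Cfsg.Agent.Lib.H19.PQ20
import Cfsg.Agent.Lib.H19.PQ22

/-!
# The Fermat case: the group `Xz ζ` as a symplectic space with automorphisms (helper19)

* `NZ S ζ` : the elements normalizing `S` and fixing `ζ`.
* `PhiX` : the action of `NZ S ζ` on `Xz ζ`.
* `BX` : the pairing `(chi u, chi u') ↦ ζ [u, u']` on `Xz ζ`.
* `card_range_dHom` : `|[Xz, c]| = |S_F : R|`.
-/

set_option autoImplicit false
set_option linter.unusedSectionVars false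
set_option linter.style.haveILetI false
set_option maxHeartbeats 1000000

namespace Cfsg.Agent.Lib.H19.PQ

open Module Cfsg.Agent.Lib.H1 Cfsg.Agent.Lib.H19.Ward Cfsg.Agent.Lib.H19.SG
  Cfsg.Agent.Lib.H20.S3F
open scoped commutatorElement

variable {Γ : Type*} [Group Γ] [Finite Γ] {k : Type*} [Field k]

/-- the elements normalizing `S` and fixing `ζ` -/
def NZ (S : Subgroup Γ) (ζ : Γ → kˣ) : Subgroup Γ where
  carrier := {g | g ∈ Subgroup.normalizer (S : Set Γ) ∧ cjAct g ζ = ζ}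
  one_mem' := ⟨Subgroup.one_mem _, by rw [map_one]; rfl⟩
  mul_mem' := by
    rintro g g' ⟨h1, h2⟩ ⟨h1', h2'⟩
    exact ⟨Subgroup.mul_mem _ h1 h1', by rw [map_mul, MulAut.mul_apply, h2', h2]⟩
  inv_mem' := by
    rintro g ⟨h1, h2⟩
    exact ⟨Subgroup.inv_mem _ h1, ABHyp.fix_inv h2⟩

theorem mem_NZ {S : Subgroup Γ} {ζ : Γ → kˣ} {g : Γ} :
    g ∈ NZ S ζ ↔ g ∈ Subgroup.normalizer (S : Set Γ) ∧ cjAct g ζ = ζ := Iff.rfl

section class2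

variable {S : Subgroup Γ} (hSS : ⁅S, S⁆ ≤ ZS S) {ζ : Γ → kˣ} (hζ : ζ ∈ Chr k (ZS S) ⊥)

theorem conj_mem_of_NZ {g : Γ} (hg : g ∈ NZ S ζ) {u : Γ} (hu : u ∈ S) : g * u * g⁻¹ ∈ S :=
  (Subgroup.mem_normalizer_iff.mp hg.1 u).mp hu

include hSS hζ

/-- the action on the characters `chi u` -/
theorem cjAct_chi_NZ {g : Γ} (hg : g ∈ NZ S ζ) (u : Γ) :
    cjAct g (chi S ζ u) = chi S ζ (g * u * g⁻¹) := by
  rw [cjAct_chi hSS hζ hg.1 u, hg.2]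

theorem cjAct_mem_stabU {g : Γ} (hg : g ∈ NZ S ζ) :
    cjAct g ∈ stabU (Xz S hSS ζ hζ) := by
  have key : ∀ g : Γ, g ∈ NZ S ζ → ∀ χ ∈ Xz S hSS ζ hζ, cjAct g χ ∈ Xz S hSS ζ hζ := by
    rintro g hg χ ⟨u, hu, rfl⟩
    exact ⟨g * u * g⁻¹, conj_mem_of_NZ hg hu, cjAct_chi_NZ hSS hζ hg u⟩
  intro χ
  constructor
  · intro h1
    have h2 := key g⁻¹ ((NZ S ζ).inv_mem hg) _ h1
    rwa [← MulAut.mul_apply, ← map_mul, inv_mul_cancel, map_one, MulAut.one_apply] at h2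
  · exact key g hg χ

/-- the action of `NZ S ζ` on `Xz ζ` -/
def PhiX (S : Subgroup Γ) (hSS : ⁅S, S⁆ ≤ ZS S) (ζ : Γ → kˣ) (hζ : ζ ∈ Chr k (ZS S) ⊥) :
    ↥(NZ S ζ) →* MulAut ↥(Xz S hSS ζ hζ) :=
  (resU (Xz S hSS ζ hζ)).comp
    (((cjAct (k := k)).comp (NZ S ζ).subtype).codRestrict (stabU (Xz S hSS ζ hζ))
      (fun g => cjAct_mem_stabU hSS hζ g.2))

theorem PhiX_apply (g : ↥(NZ S ζ)) (χ : ↥(Xz S hSS ζ hζ)) :
    ((PhiX S hSS ζ hζ g χ : ↥(Xz S hSS ζ hζ)) : Γ → kˣ) = cjAct (g : Γ) (χ : Γ → kˣ) := rfl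

/-- the element `chi u` of `Xz` -/
noncomputable def chiX (S : Subgroup Γ) (hSS : ⁅S, S⁆ ≤ ZS S) (ζ : Γ → kˣ) (hζ : ζ ∈ Chr k (ZS S) ⊥)
    (u : ↥S) : ↥(Xz S hSS ζ hζ) := ⟨chi S ζ (u : Γ), ⟨u, u.2, rfl⟩⟩

theorem chiX_val (u : ↥S) : ((chiX S hSS ζ hζ u : ↥(Xz S hSS ζ hζ)) : Γ → kˣ) = chi S ζ (u : Γ) :=
  rfl

theorem chiX_surj : Function.Surjective (chiX S hSS ζ hζ) := by
  rintro ⟨χ, u, hu, rfl⟩
  exact ⟨⟨u, hu⟩, rfl⟩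

instance finite_Xz : Finite ↥(Xz S hSS ζ hζ) :=
  Finite.of_surjective _ (chiX_surj hSS hζ)

theorem chiX_mul (u v : ↥S) :
    chiX S hSS ζ hζ (u * v) = chiX S hSS ζ hζ u * chiX S hSS ζ hζ v := by
  apply Subtype.ext
  rw [Subgroup.coe_mul, chiX_val, chiX_val, chiX_val, Subgroup.coe_mul]
  exact chi_mul hSS hζ u.2 v.2

/-- `chiX` as a homomorphism -/
noncomputable def chiHom (S : Subgroup Γ) (hSS : ⁅S, S⁆ ≤ ZS S) (ζ : Γ → kˣ) (hζ : ζ ∈ Chr k (ZS S) ⊥) :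
    ↥S →* ↥(Xz S hSS ζ hζ) :=
  MonoidHom.mk' (chiX S hSS ζ hζ) (chiX_mul hSS hζ)

theorem chiHom_apply (u : ↥S) : chiHom S hSS ζ hζ u = chiX S hSS ζ hζ u := rfl

theorem PhiX_chiX (g : ↥(NZ S ζ)) (u : ↥S) :
    PhiX S hSS ζ hζ g (chiX S hSS ζ hζ u) =
      chiX S hSS ζ hζ ⟨(g : Γ) * u * (g : Γ)⁻¹, conj_mem_of_NZ g.2 u.2⟩ := by
  apply Subtype.ext
  rw [PhiX_apply, chiX_val, chiX_val]
  exact cjAct_chi_NZ hSS hζ g.2 u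

/-- the pairing -/
noncomputable def BX (S : Subgroup Γ) (hSS : ⁅S, S⁆ ≤ ZS S) (ζ : Γ → kˣ)
    (hζ : ζ ∈ Chr k (ZS S) ⊥) (χ χ' : ↥(Xz S hSS ζ hζ)) : kˣ :=
  (χ : Γ → kˣ) (Classical.choose ((mem_Xz hSS hζ).mp χ'.2))

theorem BX_eq (χ : ↥(Xz S hSS ζ hζ)) (u : ↥S) :
    BX S hSS ζ hζ (chiX S hSS ζ hζ u) χ = ((χ : Γ → kˣ) (u : Γ))⁻¹ := by
  unfold BX
  obtain ⟨hv, hχ⟩ := Classical.choose_spec ((mem_Xz hSS hζ).mp χ.2)
  rw [chiX_val, chi_symm hSS hζ u.2 hv, ← hχ]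

theorem BX_chi (u v : ↥S) :
    BX S hSS ζ hζ (chiX S hSS ζ hζ u) (chiX S hSS ζ hζ v) =
      ζ ((u : Γ) * v * (u : Γ)⁻¹ * (v : Γ)⁻¹) := by
  rw [BX_eq, chiX_val, ← chi_symm hSS hζ u.2 v.2, chi_apply ζ _ v.2]

/-- `BX` is a pairing when squares are central -/
theorem pairing_BX (hsq : ∀ u ∈ S, u ^ 2 ∈ ZS S) : Pairing (BX S hSS ζ hζ) (-1) where
  hexp := by
    intro χ
    obtain ⟨u, rfl⟩ := chiX_surj hSS hζ χ
    rw [pow_two, ← chiX_mul]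
    apply Subtype.ext
    rw [chiX_val, Subgroup.coe_mul, ← pow_two, chi_of_mem_ZS hSS hζ (hsq _ u.2)]
    rfl
  hBl := by
    intro χ₁ χ₂ χ'
    unfold BX
    rfl
  hBr := by
    intro χ χ₁ χ₂
    obtain ⟨u, rfl⟩ := chiX_surj hSS hζ χ
    rw [BX_eq, BX_eq, BX_eq, Subgroup.coe_mul, Pi.mul_apply, mul_inv]
  halt := by
    intro χ
    obtain ⟨u, rfl⟩ := chiX_surj hSS hζ χ
    rw [BX_chi]
    have e : (u : Γ) * u * (u : Γ)⁻¹ * (u : Γ)⁻¹ = 1 := by group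
    rw [e]
    exact Chr.map_one hζ
  hnd := by
    intro χ hχ
    obtain ⟨u, rfl⟩ := chiX_surj hSS hζ χ
    apply Subtype.ext
    rw [chiX_val, Subgroup.coe_one]
    funext v
    rw [Pi.one_apply]
    by_cases hv : v ∈ S
    · have := hχ (chiX S hSS ζ hζ ⟨v, hv⟩)
      rw [BX_chi] at this
      rw [chi_apply ζ _ hv]
      exact this
    · exact chi_apply_not ζ _ hv
  hval := by
    intro χ χ'
    obtain ⟨u, rfl⟩ := chiX_surj hSS hζ χ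
    have h1 : BX S hSS ζ hζ (chiX S hSS ζ hζ u) χ' ^ 2 = 1 := by
      rw [pow_two]
      have h2 : ∀ χ₁ χ₂ χ₃ : ↥(Xz S hSS ζ hζ), BX S hSS ζ hζ (χ₁ * χ₂) χ₃ =
          BX S hSS ζ hζ χ₁ χ₃ * BX S hSS ζ hζ χ₂ χ₃ := fun _ _ _ => rfl
      rw [← h2, ← chiX_mul]
      rw [BX_eq]
      have h3 : ((u * u : ↥S) : Γ) ∈ ZS S := by
        rw [Subgroup.coe_mul, ← pow_two]; exact hsq _ u.2
      have h4 := Xz_le hSS hζ χ'.2
      rw [h4.2.2 _ h3, inv_one]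
    obtain ⟨x, hx⟩ : ∃ x : kˣ, x = BX S hSS ζ hζ (chiX S hSS ζ hζ u) χ' := ⟨_, rfl⟩
    rw [← hx] at h1 ⊢
    have h5 : (x : k) * (x : k) = 1 := by
      have := congrArg Units.val h1
      rw [pow_two, Units.val_mul, Units.val_one] at this
      exact this
    rcases mul_self_eq_one_iff.mp h5 with h6 | h6
    · left; exact Units.ext h6
    · right; exact Units.ext (by rw [h6]; rfl)

/-- invariance of the pairing -/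
theorem BX_inv (g : ↥(NZ S ζ)) (χ χ' : ↥(Xz S hSS ζ hζ)) :
    BX S hSS ζ hζ (PhiX S hSS ζ hζ g χ) (PhiX S hSS ζ hζ g χ') = BX S hSS ζ hζ χ χ' := by
  obtain ⟨u, rfl⟩ := chiX_surj hSS hζ χ
  obtain ⟨v, rfl⟩ := chiX_surj hSS hζ χ'
  rw [PhiX_chiX, PhiX_chiX, BX_chi, BX_chi]
  have h1 : cjAct (g : Γ)⁻¹ ζ = ζ := ((NZ S ζ).inv_mem g.2).2
  have h2 := congrFun h1 ((u : Γ) * v * (u : Γ)⁻¹ * (v : Γ)⁻¹)
  rw [cjAct_apply, inv_inv] at h2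
  rw [← h2]
  congr 1
  simp only []
  group

end class2

end Cfsg.Agent.Lib.H19.PQ
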