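import Mathlib
import Cfsg.Agent.Lib.H19.PQ23

/-!
# The Fermat case: `|[Xz, c]| = |S_F : R|` (helper19)
-/

set_option autoImplicit false
set_option linter.unusedSectionVars false
set_option linter.style.haveILetI false
set_option maxHeartbeats 1000000

namespace Cfsg.Agent.Lib.H19.PQ

open Module Cfsg.Agent.Lib.H1 Cfsg.Agent.Lib.H19.Ward Cfsg.Agent.Lib.H19.SG
  Cfsg.Agent.Lib.H20.S3F
open scoped commutatorElement

variable {Γ : Type*} [Group Γ] [Finite Γ] {k : Type*} [Field k] [IsAlgClosed k]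

section class2

variable {S : Subgroup Γ} (hSS : ⁅S, S⁆ ≤ ZS S) {ζ : Γ → kˣ} (hζ : ζ ∈ Chr k (ZS S) ⊥)

include hSS hζ

theorem chiX_eq_one_iff (u : ↥S) : chiX S hSS ζ hζ u = 1 ↔ (u : Γ) ∈ Rz S hSS ζ hζ := by
  rw [mem_Rz]
  constructor
  · intro h
    refine ⟨u.2, ?_⟩
    have := congrArg Subtype.val h
    rw [chiX_val] at this
    exact this
  · intro h
    apply Subtype.ext
    rw [chiX_val, h.2]
    rfl

theorem chiX_inv (u : ↥S) : chiX S hSS ζ hζ u⁻¹ = (chiX S hSS ζ hζ u)⁻¹ :=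
  map_inv (chiHom S hSS ζ hζ) u

/-- the elements of `NZ` acting trivially on `Xz` modulo a subgroup `D` -/
def trivMod (S : Subgroup Γ) (hSS : ⁅S, S⁆ ≤ ZS S) (ζ : Γ → kˣ) (hζ : ζ ∈ Chr k (ZS S) ⊥)
    (D : Subgroup ↥(Xz S hSS ζ hζ)) : Subgroup ↥(NZ S ζ) where
  carrier := {g | ∀ χ, PhiX S hSS ζ hζ g χ / χ ∈ D}
  one_mem' := by
    intro χ
    rw [map_one, MulAut.one_apply, div_self']
    exact D.one_mem
  mul_mem' := by
    intro g g' hg hg' χ
    have e : PhiX S hSS ζ hζ (g * g') χ / χ =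
        (PhiX S hSS ζ hζ g (PhiX S hSS ζ hζ g' χ) / PhiX S hSS ζ hζ g' χ) *
          (PhiX S hSS ζ hζ g' χ / χ) := by
      rw [map_mul, MulAut.mul_apply, div_mul_div_cancel]
    rw [e]
    exact D.mul_mem (hg _) (hg' χ)
  inv_mem' := by
    intro g hg χ
    have h1 := hg (PhiX S hSS ζ hζ g⁻¹ χ)
    rw [← MulAut.mul_apply, ← map_mul, mul_inv_cancel, map_one, MulAut.one_apply] at h1
    have h2 := D.inv_mem h1
    rwa [inv_div] at h2

theorem card_range_dHom (c : ↥(NZ S ζ)) :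
    Nat.card (dHom (PhiX S hSS ζ hζ c)).range =
      (Rz S hSS ζ hζ).relIndex (SF S hSS ζ hζ (c : Γ)) := by
  classical
  obtain ⟨F, hFdef⟩ : ∃ F : Subgroup Γ, F = SF S hSS ζ hζ (c : Γ) := ⟨_, rfl⟩
  rw [← hFdef]
  have hcS : (c : Γ) ∈ Subgroup.normalizer (S : Set Γ) := c.2.1
  have hFS : F ≤ S := by rw [hFdef]; exact SF_le hSS hζ hcS
  obtain ⟨D, hDdef⟩ : ∃ D : Subgroup ↥(Xz S hSS ζ hζ), D = (dHom (PhiX S hSS ζ hζ c)).range :=
    ⟨_, rfl⟩
  rw [← hDdef]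
  let ψ : ↥F →* ↥(Xz S hSS ζ hζ) := (chiHom S hSS ζ hζ).comp (Subgroup.inclusion hFS)
  have hψ : ∀ w : ↥F, ψ w = chiX S hSS ζ hζ ⟨(w : Γ), hFS w.2⟩ := fun w => rfl
  have hker : ψ.ker = (Rz S hSS ζ hζ).subgroupOf F := by
    ext w
    rw [MonoidHom.mem_ker, hψ, chiX_eq_one_iff, Subgroup.mem_subgroupOf]
  have h1 : Nat.card ψ.range = (Rz S hSS ζ hζ).relIndex F := by
    rw [← Subgroup.index_ker, hker]
    rfl
  rw [← h1]
  suffices hD : D = ψ.range by rw [hD]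
  apply le_antisymm
  · -- `[Xz, c] ≤ ψ(F)`
    rw [hDdef]
    rintro _ ⟨χ, rfl⟩
    obtain ⟨u, rfl⟩ := chiX_surj hSS hζ χ
    rw [dHom_apply, PhiX_chiX, div_eq_mul_inv, ← chiX_inv, ← chiX_mul]
    have hw : (c : Γ) * u * (c : Γ)⁻¹ * (u : Γ)⁻¹ ∈ F := by
      rw [hFdef]
      apply comm_le_SF hSS hζ
      rw [Subgroup.commutator_comm]
      have := Subgroup.commutator_mem_commutator (H₁ := Subgroup.zpowers (c : Γ)) (H₂ := S)
        (Subgroup.mem_zpowers (c : Γ)) u.2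
      rwa [commutatorElement_def] at this
    refine ⟨⟨_, hw⟩, ?_⟩
    rw [hψ]
    congr 1
  · -- `ψ(F) ≤ [Xz, c]`
    obtain ⟨P, hPdef⟩ : ∃ P : Subgroup Γ, P = (D.comap (chiHom S hSS ζ hζ)).map S.subtype :=
      ⟨_, rfl⟩
    have hPmem : ∀ u : ↥S, chiX S hSS ζ hζ u ∈ D → (u : Γ) ∈ P := by
      intro u hu
      rw [hPdef]
      exact ⟨u, hu, rfl⟩
    have hPmem' : ∀ w ∈ P, ∃ hw : w ∈ S, chiX S hSS ζ hζ ⟨w, hw⟩ ∈ D := by
      intro w hw
      rw [hPdef] at hw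
      obtain ⟨u, hu, rfl⟩ := hw
      exact ⟨u.2, hu⟩
    have hcD : c ∈ trivMod S hSS ζ hζ D := by
      intro χ
      rw [hDdef]
      exact ⟨χ, rfl⟩
    have hzD : ∀ g : ↥(NZ S ζ), (g : Γ) ∈ Subgroup.zpowers (c : Γ) → g ∈ trivMod S hSS ζ hζ D := by
      intro g hg
      have h2 : Subgroup.zpowers c ≤ trivMod S hSS ζ hζ D := Subgroup.zpowers_le.mpr hcD
      apply h2
      obtain ⟨n, hn⟩ := Subgroup.mem_zpowers_iff.mp hg
      rw [Subgroup.mem_zpowers_iff]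
      refine ⟨n, Subtype.ext ?_⟩
      rw [Subgroup.coe_zpow]
      exact hn
    have hFP : F ≤ P := by
      rw [hFdef]
      apply sup_le
      · rw [Subgroup.commutator_le]
        intro u hu g hg
        have hgN : g ∈ NZ S ζ := by
          have hle : Subgroup.zpowers (c : Γ) ≤ NZ S ζ := Subgroup.zpowers_le.mpr c.2
          exact hle hg
        have h3 := hzD ⟨g, hgN⟩ hg (chiX S hSS ζ hζ ⟨u, hu⟩)
        rw [PhiX_chiX] at h3
        have h4 := D.inv_mem h3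
        rw [inv_div, div_eq_mul_inv, ← chiX_inv, ← chiX_mul] at h4
        have h5 := hPmem _ h4
        have e : ⁅u, g⁆ = u * (g * u * g⁻¹)⁻¹ := by
          rw [commutatorElement_def]; group
        rw [e]
        exact h5
      · intro u hu
        have huS : u ∈ S := Rz_le hSS hζ hu
        have h3 : chiX S hSS ζ hζ ⟨u, huS⟩ = 1 := (chiX_eq_one_iff hSS hζ _).mpr hu
        have h4 := hPmem ⟨u, huS⟩ (by rw [h3]; exact D.one_mem)
        exact h4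
    rintro _ ⟨w, rfl⟩
    obtain ⟨hw, h3⟩ := hPmem' _ (hFP w.2)
    rw [hψ]
    exact h3

end class2

end Cfsg.Agent.Lib.H19.PQ
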