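import Mathlib
import Cfsg.Agent.Lib.H19.PQ24
import Cfsg.Agent.Lib.H21.SympSd

/-!
# The Fermat case in a minimal counterexample: `T` acts trivially on `Xz ζ` (helper19)
-/

set_option autoImplicit false
set_option linter.unusedSectionVars false
set_option linter.style.haveILetI false
set_option maxHeartbeats 2000000

namespace Cfsg.Agent.Lib.H19.PQ

open Module Cfsg.Agent.Lib.H1 Cfsg.Agent.Lib.H19.Ward Cfsg.Agent.Lib.H19.SG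
  Cfsg.Agent.Lib.H20.S3F
open scoped commutatorElement

variable {Γ : Type*} [Group Γ] [Finite Γ] {k : Type*} [Field k] [IsAlgClosed k]
  {W : Type*} [AddCommGroup W] [Module k W]

namespace MinCfg

variable {ρ : Representation k Γ W} {A H S T : Subgroup Γ} {p q e : ℕ} {a b : Γ} {s t : ℕ}

theorem T_le_NZ (h : MinCfg ρ A H S T p q e a b s t)
    (hna : ¬ ∀ u ∈ S, ∀ v ∈ S, u * v = v * u) {ζ : Γ → kˣ} (hζ : ζ ∈ Chr k (ZS S) ⊥) :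
    T ≤ NZ S ζ := fun x hx =>
  ⟨h.hTS hx, cjAct_eq_of_cen hζ (fun z hz => h.T_cen_ZS hna x hx z hz)⟩

/-- elements of `T₀` act trivially on `Xz` -/
theorem T0_triv (h : MinCfg ρ A H S T p q e a b s t) {ζ : Γ → kˣ} (hζ : ζ ∈ Chr k (ZS S) ⊥)
    {z : Γ} (hz : z ∈ T0 S T) : ∀ χ ∈ Xz S h.comm_le_ZS ζ hζ, cjAct z χ = χ := by
  have hAB := h.abhyp (ZS S) h.A_le_normalizer_ZS h.T_le_normalizer_ZS
  intro χ hχ
  exact hAB.htriv z hz χ (Xz_le h.comm_le_ZS hζ hχ)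

/-- **the Fermat case** -/
theorem beta_trivial (h : MinCfg ρ A H S T p q e a b s t)
    (hna : ¬ ∀ u ∈ S, ∀ v ∈ S, u * v = v * u) {ζ : Γ → kˣ} (hζ : ζ ∈ Chr k (ZS S) ⊥)
    (hbζ : cjAct b ζ = ζ) (hbeta : BetaZ S h.comm_le_ZS ζ hζ q s b) :
    ∀ χ ∈ Xz S h.comm_le_ZS ζ hζ, ∀ x ∈ T, cjAct x χ = χ := by
  classical
  have hSS := h.comm_le_ZS
  have hfr := h.frob
  obtain ⟨hs2, m, hqm, hrel⟩ := hbeta
  have hTN := h.T_le_NZ hna hζ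
  have hbN : b ∈ NZ S ζ := ⟨h.hAS hfr.hb, hbζ⟩
  have hsq : ∀ u ∈ S, u ^ 2 ∈ ZS S := by
    have := h.pow_mem_ZS hna
    rwa [hs2] at this
  have hP := pairing_BX hSS hζ hsq
  obtain ⟨Φ, hΦdef⟩ : ∃ Φ : ↥(NZ S ζ) →* MulAut ↥(Xz S hSS ζ hζ), Φ = PhiX S hSS ζ hζ := ⟨_, rfl⟩
  have hΦapp : ∀ (g : ↥(NZ S ζ)) (χ : ↥(Xz S hSS ζ hζ)),
      ((Φ g χ : ↥(Xz S hSS ζ hζ)) : Γ → kˣ) = cjAct (g : Γ) (χ : Γ → kˣ) := by
    intro g χ; rw [hΦdef]; rfl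
  have hΦB : ∀ (g : ↥(NZ S ζ)) (χ χ' : ↥(Xz S hSS ζ hζ)),
      BX S hSS ζ hζ (Φ g χ) (Φ g χ') = BX S hSS ζ hζ χ χ' := by
    intro g χ χ'; rw [hΦdef]; exact BX_inv hSS hζ g χ χ'
  -- triviality criterion
  have hΦ1 : ∀ g : ↥(NZ S ζ), (∀ χ ∈ Xz S hSS ζ hζ, cjAct (g : Γ) χ = χ) → Φ g = 1 := by
    intro g hg
    apply eq_one_of_forall_apply
    intro χ
    apply Subtype.ext
    rw [hΦapp]
    exact hg _ χ.2
  have hΦ1' : ∀ g : ↥(NZ S ζ), Φ g = 1 → ∀ χ ∈ Xz S hSS ζ hζ, cjAct (g : Γ) χ = χ := by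
    intro g hg χ hχ
    have := hΦapp g ⟨χ, hχ⟩
    rw [hg] at this
    exact this.symm
  obtain ⟨c, hcdef⟩ : ∃ c : MulAut ↥(Xz S hSS ζ hζ), c = Φ ⟨b, hbN⟩ := ⟨_, rfl⟩
  obtain ⟨Tg, hTgdef⟩ : ∃ Tg : Subgroup (MulAut ↥(Xz S hSS ζ hζ)),
      Tg = (Φ.comp (Subgroup.inclusion hTN)).range := ⟨_, rfl⟩
  have hTgmem : ∀ x (hx : x ∈ T), Φ ⟨x, hTN hx⟩ ∈ Tg := by
    intro x hx
    rw [hTgdef]
    exact ⟨⟨x, hx⟩, rfl⟩
  have hTgmem' : ∀ y ∈ Tg, ∃ x, ∃ hx : x ∈ T, y = Φ ⟨x, hTN hx⟩ := by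
    intro y hy
    rw [hTgdef] at hy
    obtain ⟨x, rfl⟩ := hy
    exact ⟨x, x.2, rfl⟩
  -- numerical facts
  have hqprime : (2 ^ m + 1).Prime := by rw [← hqm]; exact hfr.hq
  have hm : m ≠ 0 := by
    rintro rfl
    have hq2 : q = 2 := by rw [hqm]; norm_num
    have h1 := h.coprime_S_q
    rw [hq2] at h1
    haveI : Fact (Nat.Prime 2) := ⟨Nat.prime_two⟩
    have hS2 : IsPGroup 2 S := by have := h.hS; rwa [hs2] at this
    obtain ⟨n, hn⟩ := IsPGroup.iff_card.mp hS2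
    rcases Nat.eq_zero_or_pos n with h0 | h0
    · rw [h0, pow_zero] at hn
      exact h.S_ne_bot (Subgroup.card_eq_one.mp hn)
    · rw [hn] at h1
      have h2 : (2 : ℕ) ∣ 2 ^ n := dvd_pow_self 2 h0.ne'
      have h3 := Nat.Coprime.eq_one_of_dvd h1.symm h2
      omega
  have hcpow : c ^ (2 ^ m + 1) = 1 := by
    rw [hcdef, ← map_pow, ← hqm]
    have : (⟨b, hbN⟩ : ↥(NZ S ζ)) ^ q = 1 := Subtype.ext (by rw [Subgroup.coe_pow]; exact hfr.hbq)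
    rw [this, map_one]
  have hcB : ∀ u v, BX S hSS ζ hζ (c u) (c v) = BX S hSS ζ hζ u v := by
    intro u v; rw [hcdef]; exact hΦB _ u v
  have hrange : Nat.card (dHom c).range = 2 ^ (2 * m) := by
    rw [hcdef, hΦdef, card_range_dHom hSS hζ ⟨b, hbN⟩]
    exact hrel
  have hcard : Nat.card ↥(Xz S hSS ζ hζ) = 2 ^ (2 * m) * Nat.card {v : ↥(Xz S hSS ζ hζ) // c v = v} := by
    have h1 := card_fix_mul_range c
    rw [hrange, mul_comm] at h1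
    rw [← h1]
    rfl
  have hTab : ∀ x ∈ Tg, ∀ y ∈ Tg, x * y = y * x := by
    intro x' hx' y' hy'
    obtain ⟨x, hx, rfl⟩ := hTgmem' x' hx'
    obtain ⟨y, hy, rfl⟩ := hTgmem' y' hy'
    have hz : x * y * x⁻¹ * y⁻¹ ∈ T0 S T := h.comm_T x hx y hy
    have hzT : x * y * x⁻¹ * y⁻¹ ∈ T := T0_le S T hz
    have h1 : Φ ⟨x * y * x⁻¹ * y⁻¹, hTN hzT⟩ = 1 := hΦ1 _ (h.T0_triv hζ hz)
    have e : (⟨x, hTN hx⟩ : ↥(NZ S ζ)) * ⟨y, hTN hy⟩ =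
        ⟨x * y * x⁻¹ * y⁻¹, hTN hzT⟩ * (⟨y, hTN hy⟩ * ⟨x, hTN hx⟩) := by
      apply Subtype.ext
      simp only [Subgroup.coe_mul]
      group
    rw [← map_mul, e, map_mul, h1, one_mul, map_mul]
  have hTB : ∀ x ∈ Tg, ∀ u v, BX S hSS ζ hζ (x u) (x v) = BX S hSS ζ hζ u v := by
    intro x' hx' u v
    obtain ⟨x, hx, rfl⟩ := hTgmem' x' hx'
    exact hΦB _ u v
  have hTgdvd : Nat.card Tg ∣ Nat.card T := by
    rw [hTgdef]
    exact Subgroup.card_range_dvd _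
  have hT2 : (Nat.card Tg).Coprime 2 := by
    apply Nat.Coprime.coprime_dvd_left hTgdvd
    haveI : Fact t.Prime := ⟨h.ht⟩
    obtain ⟨n, hn⟩ := IsPGroup.iff_card.mp h.hT
    rw [hn]
    apply Nat.Coprime.pow_left
    rw [Nat.coprime_primes h.ht Nat.prime_two]
    intro ht2
    exact h.hst (by rw [hs2, ht2])
  have hTq : (Nat.card Tg).Coprime (2 ^ m + 1) := by
    rw [← hqm]
    exact Nat.Coprime.coprime_dvd_left hTgdvd h.coprime_T_q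
  have hcT : ∀ y ∈ Tg, c * y * c⁻¹ ∈ Tg := by
    intro y' hy'
    obtain ⟨y, hy, rfl⟩ := hTgmem' y' hy'
    have hby : b * y * b⁻¹ ∈ T := h.conjT hfr.hb hy
    have e : c * Φ ⟨y, hTN hy⟩ * c⁻¹ = Φ ⟨b * y * b⁻¹, hTN hby⟩ := by
      rw [hcdef, ← map_inv, ← map_mul, ← map_mul]
      congr 1
    rw [e]
    exact hTgmem _ hby
  have hcomm := fermat_comm hP hm hqprime c hcpow hcB hcard Tg hTab hTB hT2 hTq hcT
  -- commutators `[b, y]` act trivially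
  have hby : ∀ y ∈ T, ∀ χ ∈ Xz S hSS ζ hζ, cjAct (b⁻¹ * y⁻¹ * b * y) χ = χ := by
    intro y hy
    have hyN := hTN hy
    have hmem : b⁻¹ * y⁻¹ * b * y ∈ NZ S ζ :=
      (NZ S ζ).mul_mem ((NZ S ζ).mul_mem ((NZ S ζ).mul_mem ((NZ S ζ).inv_mem hbN)
        ((NZ S ζ).inv_mem hyN)) hbN) hyN
    apply hΦ1' ⟨_, hmem⟩
    have e : (⟨b⁻¹ * y⁻¹ * b * y, hmem⟩ : ↥(NZ S ζ)) =
        (⟨b, hbN⟩ : ↥(NZ S ζ))⁻¹ * (⟨y, hyN⟩ : ↥(NZ S ζ))⁻¹ * ⟨b, hbN⟩ * ⟨y, hyN⟩ := by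
      apply Subtype.ext
      simp only [Subgroup.coe_mul, Subgroup.coe_inv]
    rw [e, map_mul, map_mul, map_mul, map_inv, map_inv, ← hcdef]
    have h1 := hcomm _ (hTgmem y hy)
    calc c⁻¹ * (Φ ⟨y, hyN⟩)⁻¹ * c * Φ ⟨y, hyN⟩
        = c⁻¹ * (Φ ⟨y, hyN⟩)⁻¹ * (c * Φ ⟨y, hyN⟩) := by group
      _ = c⁻¹ * (Φ ⟨y, hyN⟩)⁻¹ * (Φ ⟨y, hyN⟩ * c) := by rw [h1]
      _ = 1 := by group
  rcases h.dichotomy with hcen | hfpf
  · -- type I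
    let D : Subgroup Γ :=
      { carrier := {x | x ∈ T ∧ ∀ χ ∈ Xz S hSS ζ hζ, cjAct x χ = χ}
        one_mem' := ⟨T.one_mem, fun χ _ => by rw [map_one]; rfl⟩
        mul_mem' := by
          rintro x y ⟨hx, hx'⟩ ⟨hy, hy'⟩
          refine ⟨T.mul_mem hx hy, fun χ hχ => ?_⟩
          rw [map_mul, MulAut.mul_apply, hy' χ hχ, hx' χ hχ]
        inv_mem' := by
          rintro x ⟨hx, hx'⟩
          exact ⟨T.inv_mem hx, fun χ hχ => ABHyp.fix_inv (hx' χ hχ)⟩ }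
    have hT0D : T0 S T ≤ D := fun z hz => ⟨T0_le S T hz, h.T0_triv hζ hz⟩
    have hD : ∀ y ∈ T, (1 * b * 1⁻¹)⁻¹ * y⁻¹ * (1 * b * 1⁻¹) * y ∈ D := by
      intro y hy
      have e : (1 * b * 1⁻¹)⁻¹ * y⁻¹ * (1 * b * 1⁻¹) * y = b⁻¹ * y⁻¹ * b * y := by group
      rw [e]
      refine ⟨?_, hby y hy⟩
      have h1 : b⁻¹ * y⁻¹ * b⁻¹⁻¹ ∈ T := h.conjT (A.inv_mem hfr.hb) (T.inv_mem hy)
      rw [inv_inv] at h1
      exact T.mul_mem h1 hy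
    have hTD := h.genb hcen 1 (Subgroup.one_mem _) D hT0D hD
    intro χ hχ x hx
    exact (hTD hx).2 χ hχ
  · -- type II
    have hAB := h.abhyp (ZS S) h.A_le_normalizer_ZS h.T_le_normalizer_ZS
    have hcfpf : ∀ v : ↥(Xz S hSS ζ hζ), c v = v → v = 1 := by
      intro v hv
      apply Subtype.ext
      rw [Subgroup.coe_one]
      apply hAB.ind hfpf (Xz_le hSS hζ v.2)
      · have := congrArg Subtype.val hv
        rw [hcdef, hΦapp] at this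
        exact this
      · intro y hy
        exact hby y hy _ v.2
    have hcard' : Nat.card ↥(Xz S hSS ζ hζ) = 2 ^ (2 * m) := by
      rw [hcard]
      have : Nat.card {v : ↥(Xz S hSS ζ hζ) // c v = v} = 1 := by
        rw [Nat.card_eq_one_iff_unique]
        refine ⟨⟨fun x y => Subtype.ext ?_⟩, ⟨⟨1, map_one c⟩⟩⟩
        rw [hcfpf x.1 x.2, hcfpf y.1 y.2]
      rw [this, mul_one]
    intro χ hχ x hx
    have hx1 : Φ ⟨x, hTN hx⟩ = 1 := by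
      apply Cfsg.Agent.Lib.H21.Symp.sd hqprime hP.hexp hcard' (BX S hSS ζ hζ) hP.hBl hP.hBr
        hP.symm hP.hnd c (Φ ⟨x, hTN hx⟩) hcpow hcfpf hcB (fun u v => hΦB _ u v)
        (hcomm _ (hTgmem x hx)).symm (n := Nat.card T)
      · rw [← map_pow]
        have : (⟨x, hTN hx⟩ : ↥(NZ S ζ)) ^ Nat.card T = 1 := by
          apply Subtype.ext
          rw [Subgroup.coe_pow, Subgroup.coe_one]
          have h1 : (⟨x, hx⟩ : ↥T) ^ Nat.card T = 1 := pow_card_eq_one'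
          have h2 := congrArg Subtype.val h1
          rw [Subgroup.coe_pow, Subgroup.coe_one] at h2
          exact h2
        rw [this, map_one]
      · rw [← hqm]
        exact h.coprime_T_q
    exact hΦ1' _ hx1 χ hχ

end MinCfg

end Cfsg.Agent.Lib.H19.PQ
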