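import Mathlib
import Cfsg.Agent.Lib.H19.PQ25

/-!
# The module core of the fixed-point-free `pq` theorem (helper19)

`core` : in a configuration `Cfg` (a Frobenius group `A` of order `pq` acting without fixed points
on `H ≥ S, T` and on the module `W`, `S` an `s`-group faithful on `W`, `T` a `t`-group normalizing
`S`, `s ≠ t`, `s ≠ char k`), the group `T` centralizes `S`.
-/

set_option autoImplicit false
set_option linter.unusedSectionVars false
set_option linter.style.haveILetI false
set_option maxHeartbeats 1000000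

namespace Cfsg.Agent.Lib.H19.PQ

open Module Cfsg.Agent.Lib.H1 Cfsg.Agent.Lib.H19.Ward Cfsg.Agent.Lib.H19.SG
open scoped commutatorElement

theorem core_aux {Γ : Type*} [Group Γ] [Finite Γ] {k : Type*} [Field k] [IsAlgClosed k]
    {W : Type*} [AddCommGroup W] [Module k W] [FiniteDimensional k W]
    {ρ : Representation k Γ W} {A H : Subgroup Γ} {p q e : ℕ} {a b : Γ} {s t : ℕ} :
    ∀ (n : ℕ) (S T : Subgroup Γ), Nat.card S + Nat.card T = n →
      Cfg ρ A H S T p q e a b s t → T ≤ Subgroup.centralizer (S : Set Γ) := by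
  intro n
  induction n using Nat.strong_induction_on with
  | _ n ih =>
    intro S T hn h
    by_contra hnc
    have hmin : MinCfg ρ A H S T p q e a b s t :=
      { h with
        hnc := hnc
        hR1 := by
          intro T₁ hT₁ hne hAT₁
          have hlt : Nat.card T₁ < Nat.card T :=
            Cfsg.Agent.Lib.H20.S3F.card_lt_of_le_of_ne hT₁ hne
          exact ih (Nat.card S + Nat.card T₁) (by omega) S T₁ rfl
            (h.mono le_rfl hT₁ h.hAS hAT₁ (hT₁.trans h.hTS))
        hR2 := by
          intro S₁ hS₁ hne hAS₁ hTS₁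
          have hlt : Nat.card S₁ < Nat.card S :=
            Cfsg.Agent.Lib.H20.S3F.card_lt_of_le_of_ne hS₁ hne
          exact ih (Nat.card S₁ + Nat.card T) (by omega) S₁ T rfl
            (h.mono hS₁ le_rfl hAS₁ h.hAT hTS₁) }
    apply hmin.not_abelian
    apply hmin.abelian_of_beta
    intro ζ hζ g hg _ hbζ hbeta
    by_cases hna : ∀ u ∈ S, ∀ v ∈ S, u * v = v * u
    · exact (hmin.not_abelian hna).elim
    · exact (hmin.conj_b hg).beta_trivial hna hζ hbζ hbeta

/-- **the core theorem** -/
theorem core {Γ : Type*} [Group Γ] [Finite Γ] {k : Type*} [Field k] [IsAlgClosed k]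
    {W : Type*} [AddCommGroup W] [Module k W] [FiniteDimensional k W]
    {ρ : Representation k Γ W} {A H S T : Subgroup Γ} {p q e : ℕ} {a b : Γ} {s t : ℕ}
    (h : Cfg ρ A H S T p q e a b s t) : T ≤ Subgroup.centralizer (S : Set Γ) :=
  core_aux _ S T rfl h

end Cfsg.Agent.Lib.H19.PQ
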