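import Mathlib
import Cfsg.Agent.Lib.H19.PQ1

/-!
# Nonabelian groups of order `pq`: existence of the structure (helper19)
-/

set_option autoImplicit false
set_option linter.unusedSectionVars false

namespace Cfsg.Agent.Lib.H19.PQ

/-- transport along an injective homomorphism -/
theorem FrobPQ.map {A X : Type*} [Group A] [Group X] (f : A →* X) (hf : Function.Injective f)
    {p q e : ℕ} {a b : A} (h : FrobPQ (⊤ : Subgroup A) p q e a b) :
    FrobPQ f.range p q e (f a) (f b) where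
  hp := h.hp
  hq := h.hq
  ha := ⟨a, rfl⟩
  hb := ⟨b, rfl⟩
  hap := by rw [← map_pow, h.hap, map_one]
  hbq := by rw [← map_pow, h.hbq, map_one]
  ha1 := by
    intro h1
    apply h.ha1
    apply hf
    rw [h1, map_one]
  hrel := by rw [← map_inv, ← map_mul, ← map_mul, h.hrel, map_pow]
  he1 := by
    intro h1
    apply h.he1
    apply hf
    rw [map_pow, h1]
  hgen := by
    rintro _ ⟨x, rfl⟩
    obtain ⟨i, j, hx⟩ := h.hgen x (Subgroup.mem_top x)
    exact ⟨i, j, by rw [hx, map_mul, map_pow, map_pow]⟩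

theorem exists_frobPQ_aux {A : Type*} [Group A] [Finite A] {p q : ℕ} (hp : p.Prime) (hq : q.Prime)
    (hlt : q < p) (hA : Nat.card A = p * q) (hna : ¬ IsMulCommutative A) :
    ∃ (e : ℕ) (a b : A), FrobPQ (⊤ : Subgroup A) p q e a b := by
  classical
  haveI : Fact p.Prime := ⟨hp⟩
  haveI : Fact q.Prime := ⟨hq⟩
  obtain ⟨a, ha⟩ := exists_prime_orderOf_dvd_card' (G := A) p (hA ▸ dvd_mul_right p q)
  obtain ⟨b, hb⟩ := exists_prime_orderOf_dvd_card' (G := A) q (hA ▸ dvd_mul_left q p)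
  have ha1 : a ≠ 1 := by
    intro h; rw [h, orderOf_one] at ha; exact hp.one_lt.ne ha
  have hap : a ^ p = 1 := by rw [← ha]; exact pow_orderOf_eq_one a
  have hbq : b ^ q = 1 := by rw [← hb]; exact pow_orderOf_eq_one b
  set P : Subgroup A := Subgroup.zpowers a with hP
  have hPcard : Nat.card P = p := by rw [hP, Nat.card_zpowers, ha]
  have hPidx : P.index = q := by
    have h1 := P.card_mul_index
    rw [hPcard, hA] at h1
    exact Nat.eq_of_mul_eq_mul_left hp.pos h1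
  have hminFac : (Nat.card A).minFac = q := by
    have hne1 : Nat.card A ≠ 1 := by
      rw [hA]
      have := hp.two_le
      have := hq.two_le
      nlinarith
    have hmp : (Nat.card A).minFac.Prime := Nat.minFac_prime hne1
    have hle : (Nat.card A).minFac ≤ q := Nat.minFac_le_of_dvd hq.two_le (hA ▸ dvd_mul_left q p)
    have hdvd : (Nat.card A).minFac ∣ p * q := hA ▸ Nat.minFac_dvd _
    rcases (Nat.Prime.dvd_mul hmp).mp hdvd with h | h
    · have := (Nat.prime_dvd_prime_iff_eq hmp hp).mp h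
      omega
    · exact (Nat.prime_dvd_prime_iff_eq hmp hq).mp h
  haveI hPn : P.Normal := Subgroup.normal_of_index_eq_minFac_card (hPidx.trans hminFac.symm)
  -- `b a b⁻¹ = a ^ e`
  have hconj : b * a * b⁻¹ ∈ P := hPn.conj_mem a (Subgroup.mem_zpowers a) b
  obtain ⟨z, hz⟩ := Subgroup.mem_zpowers_iff.mp hconj
  have hpz : (0 : ℤ) < p := by exact_mod_cast hp.pos
  have hz' : a ^ (z % (p : ℤ)).toNat = a ^ z := by
    have h4 : ((z % (p : ℤ)).toNat : ℤ) = z % p := Int.toNat_of_nonneg (Int.emod_nonneg z hpz.ne')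
    rw [← zpow_natCast, h4]
    have h5 : z = z % p + p * (z / p) := (Int.emod_add_mul_ediv z p).symm
    conv_rhs => rw [h5]
    rw [zpow_add, zpow_mul, zpow_natCast, hap, one_zpow, mul_one]
  obtain ⟨e, hedef⟩ : ∃ e : ℕ, e = (z % (p : ℤ)).toNat := ⟨_, rfl⟩
  have hrel : b * a * b⁻¹ = a ^ e := by rw [hedef, hz', hz]
  -- `P ∩ ⟨b⟩ = 1`
  have hdisj : ∀ x : A, x ∈ P → x ∈ Subgroup.zpowers b → x = 1 := by
    intro x hxP hxb
    have h1 : orderOf x ∣ p := by
      have := orderOf_dvd_natCard (⟨x, hxP⟩ : ↥P)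
      rwa [Subgroup.orderOf_mk, hPcard] at this
    have h2 : orderOf x ∣ q := by
      have := orderOf_dvd_natCard (⟨x, hxb⟩ : ↥(Subgroup.zpowers b))
      rwa [Subgroup.orderOf_mk, Nat.card_zpowers, hb] at this
    have h3 : orderOf x ∣ Nat.gcd p q := Nat.dvd_gcd h1 h2
    rw [(Nat.coprime_primes hp hq).mpr hlt.ne'] at h3
    exact orderOf_eq_one_iff.mp (Nat.dvd_one.mp h3)
  -- the product map is injective
  let f : Fin p × Fin q → A := fun x => a ^ (x.1 : ℕ) * b ^ (x.2 : ℕ)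
  have hinj : Function.Injective f := by
    rintro ⟨i, j⟩ ⟨i', j'⟩ hxy
    have h1 : a ^ (i : ℕ) * b ^ (j : ℕ) = a ^ (i' : ℕ) * b ^ (j' : ℕ) := hxy
    have h2 : (a ^ (i' : ℕ))⁻¹ * a ^ (i : ℕ) = b ^ (j' : ℕ) * (b ^ (j : ℕ))⁻¹ := by
      calc (a ^ (i' : ℕ))⁻¹ * a ^ (i : ℕ) = (a ^ (i' : ℕ))⁻¹ * (a ^ (i : ℕ) * b ^ (j : ℕ)) *
            (b ^ (j : ℕ))⁻¹ := by group
        _ = (a ^ (i' : ℕ))⁻¹ * (a ^ (i' : ℕ) * b ^ (j' : ℕ)) * (b ^ (j : ℕ))⁻¹ := by rw [h1]
        _ = b ^ (j' : ℕ) * (b ^ (j : ℕ))⁻¹ := by group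
    have h3 : (a ^ (i' : ℕ))⁻¹ * a ^ (i : ℕ) = 1 := by
      apply hdisj
      · exact Subgroup.mul_mem _ (Subgroup.inv_mem _ (Subgroup.pow_mem _ (Subgroup.mem_zpowers a) _))
          (Subgroup.pow_mem _ (Subgroup.mem_zpowers a) _)
      · rw [h2]
        exact Subgroup.mul_mem _ (Subgroup.pow_mem _ (Subgroup.mem_zpowers b) _)
          (Subgroup.inv_mem _ (Subgroup.pow_mem _ (Subgroup.mem_zpowers b) _))
    have h4 : a ^ (i : ℕ) = a ^ (i' : ℕ) := (inv_mul_eq_one.mp h3).symm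
    have h5 : b ^ (j' : ℕ) = b ^ (j : ℕ) := by
      rw [h3] at h2
      exact (mul_inv_eq_one.mp h2.symm)
    have h6 : (i : ℕ) = i' := by
      have := pow_injOn_Iio_orderOf (x := a) (by rw [ha]; exact i.2) (by rw [ha]; exact i'.2) h4
      exact this
    have h7 : (j' : ℕ) = j := by
      have := pow_injOn_Iio_orderOf (x := b) (by rw [hb]; exact j'.2) (by rw [hb]; exact j.2) h5
      exact this
    exact Prod.ext (Fin.ext h6) (Fin.ext h7.symm)
  have hsurj : Function.Surjective f := by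
    haveI : Fintype A := Fintype.ofFinite A
    apply (Fintype.bijective_iff_injective_and_card f).mpr ⟨hinj, ?_⟩ |>.2
    rw [Fintype.card_prod, Fintype.card_fin, Fintype.card_fin, ← Nat.card_eq_fintype_card, hA]
  have hgen : ∀ x : A, ∃ i j : ℕ, x = a ^ i * b ^ j := by
    intro x
    obtain ⟨⟨i, j⟩, hx⟩ := hsurj x
    exact ⟨i, j, hx.symm⟩
  refine ⟨e, a, b, ⟨hp, hq, Subgroup.mem_top a, Subgroup.mem_top b, hap, hbq, ha1, hrel, ?_,
    fun x _ => hgen x⟩⟩
  -- nonabelian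
  intro he
  apply hna
  have hab : Commute b a := by
    have h1 : b * a * b⁻¹ = a := by rw [hrel, he]
    show b * a = a * b
    calc b * a = (b * a * b⁻¹) * b := by group
      _ = a * b := by rw [h1]
  refine ⟨⟨fun x y => ?_⟩⟩
  obtain ⟨i, j, rfl⟩ := hgen x
  obtain ⟨i', j', rfl⟩ := hgen y
  have c1 : Commute (a ^ i) (a ^ i') := (Commute.refl a).pow_pow i i'
  have c2 : Commute (b ^ j) (b ^ j') := (Commute.refl b).pow_pow j j'
  have c3 : Commute (b ^ j) (a ^ i') := hab.pow_pow j i'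
  have c4 : Commute (a ^ i) (b ^ j') := (hab.pow_pow j' i).symm
  exact ((c1.mul_left c3).mul_right (c4.mul_left c2)).eq

theorem exists_frobPQ {A : Type*} [Group A] [Finite A] {p q : ℕ} (hp : p.Prime) (hq : q.Prime)
    (hpq : p ≠ q) (hA : Nat.card A = p * q) (hna : ¬ IsMulCommutative A) :
    ∃ (p' q' e : ℕ) (a b : A), p' * q' = p * q ∧ FrobPQ (⊤ : Subgroup A) p' q' e a b := by
  rcases lt_or_gt_of_ne hpq with hlt | hlt
  · obtain ⟨e, a, b, h⟩ := exists_frobPQ_aux hq hp hlt (by rw [hA, mul_comm]) hna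
    exact ⟨q, p, e, a, b, mul_comm q p, h⟩
  · obtain ⟨e, a, b, h⟩ := exists_frobPQ_aux hp hq hlt hA hna
    exact ⟨p, q, e, a, b, rfl, h⟩

end Cfsg.Agent.Lib.H19.PQ
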