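import Mathlib

/-!
# Groups with many conjugacy classes (helper19)

* `sum_card_centralizer` : `∑_x |C(x)| = k(P)|P|`
* `two_mul_card_conjClasses_le` : `2 k(P) ≤ |P| + |Z(P)|`
* `card_commutator_le_two` : a finite `2`-group with `|P| < 2 k(P)` has `|P'| ≤ 2`.
-/

set_option autoImplicit false

namespace Cfsg.Agent.Lib.H19.CommProb

open scoped commutatorElement

variable {P : Type*} [Group P]

/-- centralizer of an element -/
abbrev Cz (x : P) : Subgroup P := Subgroup.centralizer ({x} : Set P)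

theorem mem_Cz {x g : P} : g ∈ Cz x ↔ g * x = x * g := Subgroup.mem_centralizer_singleton_iff

theorem mem_Cz_comm {x g : P} : g ∈ Cz x ↔ x ∈ Cz g := by
  rw [mem_Cz, mem_Cz]; exact eq_comm

theorem self_mem_Cz (x : P) : x ∈ Cz x := mem_Cz.mpr rfl

theorem Cz_eq_top_iff {x : P} : Cz x = ⊤ ↔ x ∈ Subgroup.center P := by
  rw [Subgroup.mem_center_iff, Subgroup.eq_top_iff']
  exact forall_congr' fun g => mem_Cz

theorem center_le_Cz (x : P) : Subgroup.center P ≤ Cz x := by
  intro z hz
  rw [mem_Cz]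
  exact (Subgroup.mem_center_iff.mp hz x).symm

theorem commutator_eq_one_iff {x g : P} : ⁅x, g⁆ = 1 ↔ g ∈ Cz x := by
  rw [commutatorElement_eq_one_iff_mul_comm, mem_Cz]; exact eq_comm

/-- `∑_x |C(x)| = k(P) |P|`. -/
theorem sum_card_centralizer [Fintype P] :
    ∑ x : P, Nat.card (Cz x) = Nat.card (ConjClasses P) * Nat.card P := by
  classical
  rw [← card_comm_eq_card_conjClasses_mul_card]
  have e : {p : P × P // Commute p.1 p.2} ≃ Σ x : P, Cz x :=
    { toFun := fun p => ⟨p.1.1, ⟨p.1.2, mem_Cz.mpr p.2.eq.symm⟩⟩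
      invFun := fun s => ⟨(s.1, s.2.1), (mem_Cz.mp s.2.2).symm⟩
      left_inv := fun p => rfl
      right_inv := fun s => rfl }
  rw [Nat.card_congr e, Nat.card_sigma]

/-- a proper subgroup has at most half the elements -/
theorem two_mul_card_le_of_ne_top [Finite P] {H : Subgroup P} (hH : H ≠ ⊤) :
    2 * Nat.card H ≤ Nat.card P := by
  have h1 := Subgroup.card_mul_index H
  have h2 : H.index ≠ 1 := fun h => hH (Subgroup.index_eq_one.mp h)
  have h3 : H.index ≠ 0 := Subgroup.index_ne_zero_of_finite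
  have h4 : 2 ≤ H.index := by omega
  calc 2 * Nat.card H = Nat.card H * 2 := mul_comm _ _
    _ ≤ Nat.card H * H.index := Nat.mul_le_mul_left _ h4
    _ = Nat.card P := h1

/-- `2 k(P) ≤ |P| + |Z(P)|`. -/
theorem two_mul_card_conjClasses_le [Finite P] :
    2 * Nat.card (ConjClasses P) ≤ Nat.card P + Nat.card (Subgroup.center P) := by
  classical
  have : Fintype P := Fintype.ofFinite P
  have hpos : 0 < Nat.card P := Nat.card_pos
  have hsum := sum_card_centralizer (P := P)
  have hb : ∀ x : P, 2 * Nat.card (Cz x) ≤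
      Nat.card P + (if x ∈ Subgroup.center P then Nat.card P else 0) := by
    intro x
    by_cases hx : x ∈ Subgroup.center P
    · rw [if_pos hx, Cz_eq_top_iff.mpr hx, Subgroup.card_top]; omega
    · rw [if_neg hx, add_zero]
      exact two_mul_card_le_of_ne_top (fun h => hx (Cz_eq_top_iff.mp h))
  have htot : ∑ x : P, (Nat.card P + (if x ∈ Subgroup.center P then Nat.card P else 0)) =
      (Nat.card P + Nat.card (Subgroup.center P)) * Nat.card P := by
    rw [Finset.sum_add_distrib, Finset.sum_const, Finset.card_univ, ← Finset.sum_filter,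
      Finset.sum_const, smul_eq_mul, smul_eq_mul, ← Nat.card_eq_fintype_card]
    have : (Finset.univ.filter (fun x : P => x ∈ Subgroup.center P)).card =
        Nat.card (Subgroup.center P) := by
      rw [Nat.card_eq_fintype_card, Fintype.card_subtype]
    rw [this]; ring
  have h1 : (2 * Nat.card (ConjClasses P)) * Nat.card P ≤
      (Nat.card P + Nat.card (Subgroup.center P)) * Nat.card P := by
    rw [← htot, mul_assoc, ← hsum, Finset.mul_sum]
    exact Finset.sum_le_sum (fun x _ => hb x)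
  exact Nat.le_of_mul_le_mul_right h1 hpos

/-- the noncentral classes have at least two elements each -/
theorem two_mul_card_noncenter_le [Finite P] :
    2 * Nat.card (ConjClasses.noncenter P) + Nat.card (Subgroup.center P) ≤ Nat.card P := by
  classical
  have : Fintype P := Fintype.ofFinite P
  have : Fintype (ConjClasses P) := Fintype.ofFinite _
  have h := Group.card_center_add_sum_card_noncenter_eq_card P
  have h2 : ∀ x ∈ (ConjClasses.noncenter P).toFinset, 2 ≤ x.carrier.toFinset.card := by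
    intro x hx
    rw [Set.mem_toFinset, ConjClasses.mem_noncenter] at hx
    have := Finset.one_lt_card_iff_nontrivial.mpr (Set.toFinset_nontrivial.mpr hx)
    omega
  have h3 := Finset.card_nsmul_le_sum _ _ 2 h2
  rw [smul_eq_mul, Set.toFinset_card] at h3
  simp only [Nat.card_eq_fintype_card]
  omega

/-- the class of a noncentral element is a noncentral class -/
theorem mk_mem_noncenter {x : P} (hx : x ∉ Subgroup.center P) :
    ConjClasses.mk x ∈ ConjClasses.noncenter P := by
  by_contra h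
  obtain ⟨z, hz, hzx⟩ := (ConjClasses.mk_bijOn P).surjOn h
  rw [ConjClasses.mk_eq_mk_iff_isConj, isConj_iff] at hzx
  obtain ⟨c, hc⟩ := hzx
  apply hx
  rw [← hc]
  have hz' : z ∈ Subgroup.center P := hz
  have : c * z = z * c := Subgroup.mem_center_iff.mp hz' c
  rw [this, mul_inv_cancel_right]
  exact hz'

/-! ### class two identities -/

section classTwo

variable (hc : ∀ a b : P, ⁅a, b⁆ ∈ Subgroup.center P)
include hc

theorem comm_mul_left (a b g : P) : ⁅a * b, g⁆ = ⁅a, g⁆ * ⁅b, g⁆ := by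
  have h1 : ⁅a * b, g⁆ = a * ⁅b, g⁆ * a⁻¹ * ⁅a, g⁆ := by
    simp only [commutatorElement_def]; group
  have h2 : a * ⁅b, g⁆ = ⁅b, g⁆ * a := (Subgroup.mem_center_iff.mp (hc b g) a)
  rw [h1, h2, mul_assoc ⁅b, g⁆, mul_inv_cancel, mul_one]
  exact (Subgroup.mem_center_iff.mp (hc b g) _).symm

theorem comm_mul_right (x g h : P) : ⁅x, g * h⁆ = ⁅x, g⁆ * ⁅x, h⁆ := by
  have h1 : ⁅x, g * h⁆ = ⁅x, g⁆ * (g * ⁅x, h⁆ * g⁻¹) := by
    simp only [commutatorElement_def]; group
  have h2 : g * ⁅x, h⁆ = ⁅x, h⁆ * g := (Subgroup.mem_center_iff.mp (hc x h) g)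
  rw [h1, h2, mul_assoc ⁅x, h⁆, mul_inv_cancel, mul_one]

theorem comm_inv_left (a g : P) : ⁅a⁻¹, g⁆ = ⁅a, g⁆⁻¹ := by
  have h := comm_mul_left hc a a⁻¹ g
  rw [mul_inv_cancel, commutatorElement_one_left] at h
  exact (inv_eq_of_mul_eq_one_right h.symm).symm

theorem comm_sq_right (x g : P) : ⁅x, g ^ 2⁆ = ⁅x, g⁆ ^ 2 := by
  rw [pow_two, pow_two, comm_mul_right hc]

end classTwo

/-! ### elements whose centralizer has index two -/

section indexTwo

variable (hc : ∀ a b : P, ⁅a, b⁆ ∈ Subgroup.center P)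
include hc

/-- if `C(x)` has index two, all nontrivial commutators `[x, g]` coincide. -/
theorem comm_eq_of_index_two {x : P} (hx : (Cz x).index = 2) {g h : P} (hg : g ∉ Cz x)
    (hh : h ∉ Cz x) : ⁅x, g⁆ = ⁅x, h⁆ := by
  have h1 : g * h⁻¹ ∈ Cz x := by
    rw [Subgroup.mul_mem_iff_of_index_two hx]
    constructor
    · intro h'; exact absurd h' hg
    · intro h'; exact absurd ((Cz x).inv_mem_iff.mp h') hh
  have h2 : g = (g * h⁻¹) * h := by group
  rw [h2, comm_mul_right hc, commutator_eq_one_iff.mpr h1, one_mul]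

theorem comm_sq_of_index_two {x : P} (hx : (Cz x).index = 2) (g : P) : ⁅x, g⁆ ^ 2 = 1 := by
  rw [← comm_sq_right hc, commutator_eq_one_iff]
  exact Subgroup.sq_mem_of_index_two hx g

end indexTwo

/-! ### the main lemma -/

section main

variable [Finite P]

theorem four_mul_card_le (hP : IsPGroup 2 P) {H : Subgroup P}
    (h : 2 * Nat.card H < Nat.card P) : 4 * Nat.card H ≤ Nat.card P := by
  obtain ⟨a, ha⟩ := IsPGroup.iff_card.mp (hP.to_subgroup H)
  obtain ⟨n, hn⟩ := IsPGroup.iff_card.mp hP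
  rw [ha, hn] at h ⊢
  have h1 : 2 ^ (a + 1) < 2 ^ n := by rw [pow_succ]; omega
  have h2 : a + 1 < n := (Nat.pow_lt_pow_iff_right (by norm_num)).mp h1
  calc 4 * 2 ^ a = 2 ^ (a + 2) := by ring
    _ ≤ 2 ^ n := Nat.pow_le_pow_right (by norm_num) h2

theorem index_le_two_of_card_le {H : Subgroup P} (h : Nat.card P ≤ 2 * Nat.card H) :
    H.index ≤ 2 := by
  have h1 := Subgroup.card_mul_index H
  have hpos : 0 < Nat.card H := Nat.card_pos
  rw [← h1, mul_comm 2] at h
  exact Nat.le_of_mul_le_mul_left h hpos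

theorem four_mul_card_center_le (hP : IsPGroup 2 P) (hna : ¬ ∀ a b : P, a * b = b * a) :
    4 * Nat.card (Subgroup.center P) ≤ Nat.card P := by
  apply four_mul_card_le hP
  by_contra hlt
  push Not at hlt
  apply hna
  have hidx := index_le_two_of_card_le hlt
  have hcard : Nat.card (P ⧸ Subgroup.center P) = (Subgroup.center P).index :=
    (Subgroup.index_eq_card _).symm
  have h0 : (Subgroup.center P).index ≠ 0 := Subgroup.index_ne_zero_of_finite
  have hcyc : IsCyclic (P ⧸ Subgroup.center P) := by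
    have h12 : (Subgroup.center P).index = 1 ∨ (Subgroup.center P).index = 2 := by omega
    rcases h12 with h1 | h2
    · have : Subsingleton (P ⧸ Subgroup.center P) := by
        rw [← Finite.card_le_one_iff_subsingleton, hcard, h1]
      exact isCyclic_of_subsingleton
    · have : Fact (Nat.Prime 2) := ⟨Nat.prime_two⟩
      exact isCyclic_of_prime_card (p := 2) (by rw [hcard, h2])
  exact isMulCommutative_iff.mp (MonoidHom.isMulCommutative_of_isCyclic_of_ker_le_center
    (QuotientGroup.mk' (Subgroup.center P)) (by rw [QuotientGroup.ker_mk']))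

/-- centralizers of index at most two contain the derived subgroup -/
theorem commutator_le_Cz_of_card_le {x : P} (h : Nat.card P ≤ 2 * Nat.card (Cz x)) :
    commutator P ≤ Cz x := by
  have hidx := index_le_two_of_card_le h
  have h0 : (Cz x).index ≠ 0 := Subgroup.index_ne_zero_of_finite
  have h12 : (Cz x).index = 1 ∨ (Cz x).index = 2 := by omega
  rcases h12 with h1 | h2
  · rw [Subgroup.index_eq_one.mp h1]; exact le_top
  · have hn : (Cz x).Normal := Subgroup.normal_of_index_eq_two h2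
    have hcard : Nat.card (P ⧸ Cz x) = 2 := by rw [← Subgroup.index_eq_card, h2]
    have : Fact (Nat.Prime 2) := ⟨Nat.prime_two⟩
    have hcyc : IsCyclic (P ⧸ Cz x) := isCyclic_of_prime_card (p := 2) hcard
    let _ : CommGroup (P ⧸ Cz x) := IsCyclic.commGroup
    have := Abelianization.commutator_subset_ker (QuotientGroup.mk' (Cz x))
    rwa [QuotientGroup.ker_mk'] at this

/-- the key step: all nontrivial commutators `[x, g]`, `x ∈ B`, coincide. -/
theorem key (hc : ∀ a b : P, ⁅a, b⁆ ∈ Subgroup.center P) (B : Finset P)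
    (hB2 : ∀ x ∈ B, x ∉ Subgroup.center P → (Cz x).index = 2)
    (hstar : Nat.card P + 2 ≤ B.card + 2 * Nat.card (Subgroup.center P))
    {x₁ x₂ g₁ g₂ : P} (h₁ : x₁ ∈ B) (h₂ : x₂ ∈ B) (hg₁ : g₁ ∉ Cz x₁) (hg₂ : g₂ ∉ Cz x₂) :
    ⁅x₁, g₁⁆ = ⁅x₂, g₂⁆ := by
  classical
  have : Fintype P := Fintype.ofFinite P
  by_contra hne
  have hx₁Z : x₁ ∉ Subgroup.center P := fun h => hg₁ (by rw [Cz_eq_top_iff.mpr h]; trivial)
  have hx₂Z : x₂ ∉ Subgroup.center P := fun h => hg₂ (by rw [Cz_eq_top_iff.mpr h]; trivial)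
  have i₁ := hB2 x₁ h₁ hx₁Z
  have i₂ := hB2 x₂ h₂ hx₂Z
  -- covering
  have hcover : ∀ u ∈ B, u ∈ Cz x₁ ∨ u ∈ Cz x₂ := by
    intro u hu
    by_contra hcon
    push Not at hcon
    obtain ⟨hu1, hu2⟩ := hcon
    have huZ : u ∉ Subgroup.center P := fun h => hu1 (center_le_Cz x₁ h)
    have iu := hB2 u hu huZ
    have e1 : ⁅x₁, u⁆ = ⁅x₁, g₁⁆ := comm_eq_of_index_two hc i₁ hu1 hg₁
    have e2 : ⁅x₂, u⁆ = ⁅x₂, g₂⁆ := comm_eq_of_index_two hc i₂ hu2 hg₂
    have e3 : ⁅u, x₁⁆ = ⁅u, x₂⁆ :=
      comm_eq_of_index_two hc iu (fun h => hu1 (mem_Cz_comm.mp h)) (fun h => hu2 (mem_Cz_comm.mp h))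
    rw [← commutatorElement_inv x₁ u, ← commutatorElement_inv x₂ u, inv_inj, e1, e2] at e3
    exact hne e3
  -- counting
  let M₁ : Finset P := Finset.univ.filter (fun u => u ∈ Cz x₁)
  let M₂ : Finset P := Finset.univ.filter (fun u => u ∈ Cz x₂)
  have hM₁ : M₁.card = Nat.card (Cz x₁) := by
    rw [Nat.card_eq_fintype_card, Fintype.card_subtype]
  have hM₂ : M₂.card = Nat.card (Cz x₂) := by
    rw [Nat.card_eq_fintype_card, Fintype.card_subtype]
  have hM₁₂ : (M₁ ∩ M₂).card = Nat.card ↥(Cz x₁ ⊓ Cz x₂) := by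
    rw [Nat.card_eq_fintype_card, Fintype.card_subtype]
    congr 1
    ext u
    simp [M₁, M₂, Subgroup.mem_inf]
  have hBsub : B ⊆ M₁ ∪ M₂ := by
    intro u hu
    rcases hcover u hu with h | h
    · exact Finset.mem_union_left _ (by simp [M₁, h])
    · exact Finset.mem_union_right _ (by simp [M₂, h])
  have hBle := Finset.card_le_card hBsub
  have hunion := Finset.card_union_add_card_inter M₁ M₂
  have c₁ : Nat.card (Cz x₁) * 2 = Nat.card P := by rw [← i₁]; exact Subgroup.card_mul_index _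
  have c₂ : Nat.card (Cz x₂) * 2 = Nat.card P := by rw [← i₂]; exact Subgroup.card_mul_index _
  have hint : Nat.card ↥(Cz x₁ ⊓ Cz x₂) + 2 ≤ 2 * Nat.card (Subgroup.center P) := by omega
  have hZle : Subgroup.center P ≤ Cz x₁ ⊓ Cz x₂ := le_inf (center_le_Cz x₁) (center_le_Cz x₂)
  have hZeq : Subgroup.center P = Cz x₁ ⊓ Cz x₂ := by
    apply Subgroup.eq_of_le_of_card_ge hZle
    obtain ⟨j, hj⟩ := Subgroup.card_dvd_of_le hZle
    have hposZ : 0 < Nat.card (Subgroup.center P) := Nat.card_pos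
    have hj2 : j < 2 := by
      by_contra hj2
      push Not at hj2
      have : Nat.card (Subgroup.center P) * 2 ≤ Nat.card (Subgroup.center P) * j :=
        Nat.mul_le_mul_left _ hj2
      omega
    have hj0 : j ≠ 0 := by
      rintro rfl
      have : 0 < Nat.card ↥(Cz x₁ ⊓ Cz x₂) := Nat.card_pos
      omega
    have hj1 : j = 1 := by omega
    rw [hj, hj1, mul_one]
  -- `x₁` commutes with `x₂`
  have hx12 : x₁ ∈ Cz x₂ := by
    by_contra hx12
    have f1 : ⁅x₂, x₁⁆ = ⁅x₂, g₂⁆ := comm_eq_of_index_two hc i₂ hx12 hg₂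
    have f2 : ⁅x₁, x₂⁆ = ⁅x₁, g₁⁆ :=
      comm_eq_of_index_two hc i₁ (fun h => hx12 (mem_Cz_comm.mp h)) hg₁
    have f3 : ⁅x₂, x₁⁆ ^ 2 = 1 := comm_sq_of_index_two hc i₂ x₁
    have f4 : ⁅x₂, x₁⁆⁻¹ = ⁅x₂, x₁⁆ := by
      rw [inv_eq_iff_mul_eq_one, ← pow_two]; exact f3
    rw [← commutatorElement_inv x₂ x₁, f4, f1] at f2
    exact hne f2.symm
  have : x₁ ∈ Subgroup.center P := by
    rw [hZeq]; exact ⟨self_mem_Cz x₁, hx12⟩
  exact hx₁Z this

/-- **Lemma K.** A finite `2`-group with `|P| < 2 k(P)` has `|P'| ≤ 2`. -/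
theorem card_commutator_le_two (hP : IsPGroup 2 P)
    (h : Nat.card P < 2 * Nat.card (ConjClasses P)) : Nat.card (commutator P) ≤ 2 := by
  classical
  by_cases hab : ∀ a b : P, a * b = b * a
  · have hbot : commutator P = ⊥ := by
      rw [commutator_eq_closure, Subgroup.closure_eq_bot_iff]
      rintro _ ⟨a, b, rfl⟩
      rw [Set.mem_singleton_iff, commutatorElement_eq_one_iff_mul_comm]
      exact hab a b
    rw [hbot, Subgroup.card_bot]; norm_num
  have : Fintype P := Fintype.ofFinite P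
  have hpos : 0 < Nat.card P := Nat.card_pos
  let B : Finset P := Finset.univ.filter (fun x => Nat.card P ≤ 2 * Nat.card (Cz x))
  have hBmem : ∀ x, x ∈ B ↔ Nat.card P ≤ 2 * Nat.card (Cz x) := by intro x; simp [B]
  have hZB : ∀ x, x ∈ Subgroup.center P → x ∈ B := by
    intro x hx; rw [hBmem, Cz_eq_top_iff.mpr hx, Subgroup.card_top]; omega
  have hw : ∀ x : P, 4 * Nat.card (Cz x) ≤
      (1 + (if x ∈ B then 1 else 0) + (if x ∈ Subgroup.center P then 2 else 0)) *
        Nat.card P := by
    intro x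
    by_cases hxZ : x ∈ Subgroup.center P
    · rw [if_pos hxZ, if_pos (hZB x hxZ), Cz_eq_top_iff.mpr hxZ, Subgroup.card_top]
    · rw [if_neg hxZ]
      have h2 : 2 * Nat.card (Cz x) ≤ Nat.card P :=
        two_mul_card_le_of_ne_top (fun h' => hxZ (Cz_eq_top_iff.mp h'))
      by_cases hxB : x ∈ B
      · rw [if_pos hxB]; omega
      · rw [if_neg hxB]
        have h3 : 2 * Nat.card (Cz x) < Nat.card P := by rw [hBmem] at hxB; omega
        have := four_mul_card_le hP h3
        omega
  have hsum := sum_card_centralizer (P := P)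
  have hcntB : ∑ x : P, (if x ∈ B then 1 else 0) = B.card := by
    rw [Finset.sum_boole]; simp
  have hcntZ : ∑ x : P, (if x ∈ Subgroup.center P then 2 else 0) =
      2 * Nat.card (Subgroup.center P) := by
    rw [← Finset.sum_filter, Finset.sum_const, smul_eq_mul, mul_comm]
    congr 1
    rw [Nat.card_eq_fintype_card, Fintype.card_subtype]
  have htot : ∑ x : P, (1 + (if x ∈ B then 1 else 0) +
      (if x ∈ Subgroup.center P then 2 else 0)) * Nat.card P =
      (Nat.card P + B.card + 2 * Nat.card (Subgroup.center P)) * Nat.card P := by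
    rw [← Finset.sum_mul, Finset.sum_add_distrib, Finset.sum_add_distrib, hcntB, hcntZ]
    simp [Nat.card_eq_fintype_card]
  have h4k : 4 * Nat.card (ConjClasses P) ≤
      Nat.card P + B.card + 2 * Nat.card (Subgroup.center P) := by
    have h1 : (4 * Nat.card (ConjClasses P)) * Nat.card P ≤
        (Nat.card P + B.card + 2 * Nat.card (Subgroup.center P)) * Nat.card P := by
      rw [← htot, mul_assoc, ← hsum, Finset.mul_sum]
      exact Finset.sum_le_sum (fun x _ => hw x)
    exact Nat.le_of_mul_le_mul_right h1 hpos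
  have hstar : Nat.card P + 2 ≤ B.card + 2 * Nat.card (Subgroup.center P) := by omega
  have hZ4 := four_mul_card_center_le hP hab
  have hBbig : Nat.card P + 4 ≤ 2 * B.card := by omega
  -- `B` generates `P`
  have hcl : Subgroup.closure (B : Set P) = ⊤ := by
    by_contra hne
    have h1 := two_mul_card_le_of_ne_top hne
    have h2 : B.card ≤ Nat.card (Subgroup.closure (B : Set P)) := by
      have := Set.ncard_le_ncard (Subgroup.subset_closure (k := (B : Set P))) (Set.toFinite _)
      rw [Set.ncard_coe_finset] at this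
      exact this
    omega
  -- class two
  have hc : ∀ a b : P, ⁅a, b⁆ ∈ Subgroup.center P := by
    intro a b
    rw [← Cz_eq_top_iff, eq_top_iff, ← hcl, Subgroup.closure_le]
    intro x hx
    have h1 : commutator P ≤ Cz x := commutator_le_Cz_of_card_le ((hBmem x).mp hx)
    have h2 : ⁅a, b⁆ ∈ commutator P := by
      rw [commutator_def]
      exact Subgroup.commutator_mem_commutator (Subgroup.mem_top a) (Subgroup.mem_top b)
    exact mem_Cz_comm.mp (h1 h2)
  have hB2 : ∀ x ∈ B, x ∉ Subgroup.center P → (Cz x).index = 2 := by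
    intro x hx hxZ
    have h1 := index_le_two_of_card_le ((hBmem x).mp hx)
    have h0 : (Cz x).index ≠ 0 := Subgroup.index_ne_zero_of_finite
    have h1' : (Cz x).index ≠ 1 := fun h' => hxZ (Cz_eq_top_iff.mp (Subgroup.index_eq_one.mp h'))
    omega
  -- a noncentral element of `B`
  obtain ⟨x₀, hx₀B, hx₀Z⟩ : ∃ x₀ ∈ B, x₀ ∉ Subgroup.center P := by
    by_contra hcon
    push Not at hcon
    have h1 : Subgroup.closure (B : Set P) ≤ Subgroup.center P := by
      rw [Subgroup.closure_le]; exact fun x hx => hcon x hx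
    rw [hcl, top_le_iff] at h1
    apply hab
    intro a b
    have : a ∈ Subgroup.center P := by rw [h1]; trivial
    exact (Subgroup.mem_center_iff.mp this b).symm
  obtain ⟨g₀, hg₀⟩ : ∃ g₀, g₀ ∉ Cz x₀ := by
    by_contra hcon
    push Not at hcon
    exact hx₀Z (Cz_eq_top_iff.mp ((Subgroup.eq_top_iff' _).mpr hcon))
  set z := ⁅x₀, g₀⁆ with hz
  have hz2 : z ^ 2 = 1 := comm_sq_of_index_two hc (hB2 x₀ hx₀B hx₀Z) g₀
  have hBz : ∀ x ∈ B, ∀ g, ⁅x, g⁆ ∈ Subgroup.zpowers z := by
    intro x hx g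
    by_cases hg : g ∈ Cz x
    · rw [commutator_eq_one_iff.mpr hg]; exact one_mem _
    · rw [key hc B hB2 hstar hx hx₀B hg hg₀]
      exact Subgroup.mem_zpowers z
  let H : Subgroup P :=
    { carrier := {a | ∀ g, ⁅a, g⁆ ∈ Subgroup.zpowers z}
      one_mem' := by
        intro g
        rw [commutatorElement_one_left]; exact one_mem _
      mul_mem' := by
        intro a b ha hb g
        rw [comm_mul_left hc]
        exact mul_mem (ha g) (hb g)
      inv_mem' := by
        intro a ha g
        rw [comm_inv_left hc]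
        exact inv_mem (ha g) }
  have hH : H = ⊤ := by
    rw [eq_top_iff, ← hcl, Subgroup.closure_le]
    intro x hx
    exact hBz x hx
  have hle : commutator P ≤ Subgroup.zpowers z := by
    rw [commutator_eq_closure, Subgroup.closure_le]
    rintro _ ⟨a, b, rfl⟩
    have : a ∈ H := by rw [hH]; trivial
    exact this b
  calc Nat.card (commutator P) ≤ Nat.card (Subgroup.zpowers z) := Subgroup.card_le_of_le hle
    _ = orderOf z := Nat.card_zpowers z
    _ ≤ 2 := Nat.le_of_dvd (by norm_num) (orderOf_dvd_of_pow_eq_one hz2)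

end main

end Cfsg.Agent.Lib.H19.CommProb
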