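import Mathlib
import Cfsg.Prelude.Def_Transfer
import Cfsg.Agent.Lib.L0.TransferPC

/-!
# Counting conjugacy classes of `p`-elements (helper19)

* `card_pClasses_le_orbits`: the number of classes of `p`-elements of `G` is at most the number of
  orbits of `N_G(P)` on a Sylow `p`-subgroup `P`.
* `orbits_mul_le`: if `N_G(P) ≠ C_G(P)` then `2 p #orbits ≤ (p+1) |P|`.
* `card_le_card_pClasses`: if `G` has a normal `p`-complement and `P` is abelian, then `|P| ≤ k_p(G)`.
-/

set_option autoImplicit false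

namespace Cfsg.Agent.Lib.H19.KpClasses

open MulAction

variable {G : Type*} [Group G]

/-- conjugates of elements of `P` are `p`-elements. -/
theorem pElt_of_isConj {p : ℕ} [Fact p.Prime] (P : Sylow p G) {x y : G} (hx : x ∈ (P : Subgroup G))
    (hxy : IsConj x y) : ∃ k : ℕ, orderOf y = p ^ k := by
  obtain ⟨k, hk⟩ := (IsPGroup.iff_orderOf.1 P.2) ⟨x, hx⟩
  refine ⟨k, ?_⟩
  obtain ⟨c, hc⟩ := hxy
  have h1 : orderOf x = orderOf y := SemiconjBy.orderOf_eq _ hc
  rw [← h1, ← hk, Subgroup.orderOf_mk]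

/-- The class of `p`-elements attached to an element of `P`. -/
noncomputable def cls {p : ℕ} [Fact p.Prime] (P : Sylow p G) (x : (P : Subgroup G)) :
    {c : ConjClasses G // ∀ x ∈ c.carrier, ∃ k : ℕ, orderOf x = p ^ k} :=
  ⟨ConjClasses.mk (x : G), fun y hy => by
    rw [ConjClasses.mem_carrier_iff_mk_eq, ConjClasses.mk_eq_mk_iff_isConj] at hy
    exact pElt_of_isConj P x.2 hy.symm⟩

theorem cls_surjective [Finite G] {p : ℕ} [Fact p.Prime] (P : Sylow p G) :
    Function.Surjective (cls P) := by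
  rintro ⟨c, hc⟩
  obtain ⟨g, rfl⟩ := ConjClasses.mk_surjective c
  obtain ⟨k, hk⟩ := hc g ConjClasses.mem_carrier_mk
  have hpg : IsPGroup p (Subgroup.zpowers g) := by
    rw [IsPGroup.iff_card]
    exact ⟨k, by rw [Nat.card_zpowers, hk]⟩
  obtain ⟨Q, hQ⟩ := hpg.exists_le_sylow
  obtain ⟨h, hh⟩ := MulAction.exists_smul_eq G Q P
  have hmem : h * g * h⁻¹ ∈ (P : Subgroup G) := by
    have : g ∈ (Q : Subgroup G) := hQ (Subgroup.mem_zpowers g)
    rw [← hh, Sylow.coe_subgroup_smul]
    exact Subgroup.smul_mem_pointwise_smul _ _ _ this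
  refine ⟨⟨h * g * h⁻¹, hmem⟩, ?_⟩
  apply Subtype.ext
  show ConjClasses.mk (h * g * h⁻¹) = ConjClasses.mk g
  rw [ConjClasses.mk_eq_mk_iff_isConj]
  exact (isConj_iff.2 ⟨h, rfl⟩).symm

theorem cls_smul {p : ℕ} [Fact p.Prime] (P : Sylow p G)
    (n : Subgroup.normalizer ((P : Subgroup G) : Set G)) (x : (P : Subgroup G)) :
    cls P (n • x) = cls P x := by
  apply Subtype.ext
  show ConjClasses.mk ((n • x : (P : Subgroup G)) : G) = ConjClasses.mk (x : G)
  rw [ConjClasses.mk_eq_mk_iff_isConj]
  exact (isConj_iff.2 ⟨(n : G), rfl⟩).symm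

/-- `k_p(G)` is at most the number of orbits of `N_G(P)` on `P`. -/
theorem card_pClasses_le_orbits [Finite G] {p : ℕ} [Fact p.Prime] (P : Sylow p G) :
    Nat.card {c : ConjClasses G // ∀ x ∈ c.carrier, ∃ k : ℕ, orderOf x = p ^ k} ≤
      Nat.card (orbitRel.Quotient (Subgroup.normalizer ((P : Subgroup G) : Set G))
        (P : Subgroup G)) := by
  let f : orbitRel.Quotient (Subgroup.normalizer ((P : Subgroup G) : Set G)) (P : Subgroup G) →
      {c : ConjClasses G // ∀ x ∈ c.carrier, ∃ k : ℕ, orderOf x = p ^ k} :=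
    Quotient.lift (cls P) (by
      rintro a b ⟨n, rfl⟩
      exact cls_smul P n b)
  apply Nat.card_le_card_of_surjective f
  intro c
  obtain ⟨x, hx⟩ := cls_surjective P c
  exact ⟨Quotient.mk'' x, hx⟩

/-- A proper subgroup of a finite `p`-group has index at least `p`. -/
theorem p_mul_card_le {P : Type*} [Group P] [Finite P] {p : ℕ} [Fact p.Prime] (hP : IsPGroup p P)
    {H : Subgroup P} (hH : H ≠ ⊤) : p * Nat.card H ≤ Nat.card P := by
  have hp : p.Prime := Fact.out
  obtain ⟨k, hk⟩ := IsPGroup.iff_card.1 hP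
  have h1 : H.index ∣ p ^ k := hk ▸ H.index_dvd_card
  obtain ⟨j, -, hj⟩ := (Nat.dvd_prime_pow hp).1 h1
  have hj0 : j ≠ 0 := by
    rintro rfl
    rw [pow_zero] at hj
    exact hH (Subgroup.index_eq_one.1 hj)
  have h2 : p ≤ H.index := by
    rw [hj]
    calc p = p ^ 1 := (pow_one p).symm
      _ ≤ p ^ j := Nat.pow_le_pow_right hp.pos (Nat.one_le_iff_ne_zero.2 hj0)
  calc p * Nat.card H ≤ H.index * Nat.card H := Nat.mul_le_mul_right _ h2
    _ = Nat.card P := H.index_mul_card

theorem nsmul_coe (H : Subgroup G) (n : Subgroup.normalizer (H : Set G)) (x : H) :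
    ((n • x : H) : G) = n * x * (n : G)⁻¹ := rfl

theorem nhom_apply (H : Subgroup G) (n : Subgroup.normalizer (H : Set G)) (x : H) :
    H.normalizerMonoidHom n x = n • x := rfl

/-- If `N_G(P) ≰ C_G(P)` then the number of orbits of `N_G(P)` on `P` is at most
`(p+1)|P|/(2p)`. -/
theorem two_p_orbits_le [Finite G] {p : ℕ} [Fact p.Prime] (P : Sylow p G)
    (h : ¬ Subgroup.normalizer ((P : Subgroup G) : Set G) ≤ Subgroup.centralizer (P : Set G)) :
    2 * p * Nat.card (orbitRel.Quotient (Subgroup.normalizer ((P : Subgroup G) : Set G))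
        (P : Subgroup G)) ≤ (p + 1) * Nat.card (P : Subgroup G) := by
  classical
  have hp : p.Prime := Fact.out
  set N : Subgroup G := Subgroup.normalizer ((P : Subgroup G) : Set G) with hN
  let K : Subgroup N := (P : Subgroup G).normalizerMonoidHom.ker
  have hKmem : ∀ n : N, n ∈ K ↔ ∀ x : (P : Subgroup G), n • x = x := by
    intro n
    rw [MonoidHom.mem_ker]
    constructor
    · intro hn x
      rw [← nhom_apply, hn]; rfl
    · intro hn
      ext x
      rw [nhom_apply, hn x]; rfl
  have hKtop : K ≠ ⊤ := by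
    intro hK
    apply h
    intro n hn x hx
    have h1 : (⟨n, hn⟩ : N) ∈ K := hK ▸ Subgroup.mem_top _
    have h2 := (hKmem _).1 h1 ⟨x, hx⟩
    have h3 := congrArg Subtype.val h2
    rw [nsmul_coe] at h3
    simp only at h3
    rw [mul_inv_eq_iff_eq_mul] at h3
    exact h3.symm
  -- the fixed point subgroups
  let F : N → Subgroup (P : Subgroup G) := fun n =>
    MonoidHom.eqLocus (MulDistribMulAction.toMonoidHom (P : Subgroup G) n)
      (MonoidHom.id (P : Subgroup G))
  have hFmem : ∀ (n : N) (x : (P : Subgroup G)), x ∈ F n ↔ n • x = x := by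
    intro n x
    exact Iff.rfl
  have hFcard : ∀ n : N, Nat.card (fixedBy (P : Subgroup G) n) = Nat.card (F n) := by
    intro n
    apply Nat.card_congr
    exact Equiv.subtypeEquivRight (fun x => by rw [hFmem]; rfl)
  have hPg : IsPGroup p (P : Subgroup G) := P.2
  have hbound : ∀ n : N, p * Nat.card (fixedBy (P : Subgroup G) n) ≤
      Nat.card (P : Subgroup G) + (if n ∈ K then (p - 1) * Nat.card (P : Subgroup G) else 0) := by
    intro n
    rw [hFcard]
    by_cases hn : n ∈ K
    · rw [if_pos hn]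
      have h1 : Nat.card (F n) ≤ Nat.card (P : Subgroup G) := Subgroup.card_le_card_group _
      have h2 : p = (p - 1) + 1 := (Nat.sub_add_cancel hp.pos).symm
      calc p * Nat.card (F n) ≤ p * Nat.card (P : Subgroup G) := Nat.mul_le_mul_left _ h1
        _ = ((p - 1) + 1) * Nat.card (P : Subgroup G) := by rw [← h2]
        _ = Nat.card (P : Subgroup G) + (p - 1) * Nat.card (P : Subgroup G) := by ring
    · rw [if_neg hn, add_zero]
      apply p_mul_card_le hPg
      intro htop
      apply hn
      rw [hKmem]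
      intro x
      rw [← hFmem, htop]
      exact Subgroup.mem_top _
  -- Burnside
  have : Fintype N := Fintype.ofFinite _
  have : ∀ n : N, Fintype (fixedBy (P : Subgroup G) n) := fun n => Fintype.ofFinite _
  have : Fintype (orbitRel.Quotient N (P : Subgroup G)) := Fintype.ofFinite _
  have hB := sum_card_fixedBy_eq_card_orbits_mul_card_group N (P : Subgroup G)
  simp only [← Nat.card_eq_fintype_card] at hB
  have hsum : p * (Nat.card (orbitRel.Quotient N (P : Subgroup G)) * Nat.card N) ≤
      Nat.card N * Nat.card (P : Subgroup G) +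
        Nat.card K * ((p - 1) * Nat.card (P : Subgroup G)) := by
    rw [← hB, Finset.mul_sum]
    calc ∑ n : N, p * Nat.card (fixedBy (P : Subgroup G) n)
        ≤ ∑ n : N, (Nat.card (P : Subgroup G) +
            (if n ∈ K then (p - 1) * Nat.card (P : Subgroup G) else 0)) :=
          Finset.sum_le_sum (fun n _ => hbound n)
      _ = Nat.card N * Nat.card (P : Subgroup G) +
            Nat.card K * ((p - 1) * Nat.card (P : Subgroup G)) := by
          have e1 : Fintype.card N = Nat.card N := Nat.card_eq_fintype_card.symm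
          have e2 : (Finset.univ.filter (fun n : N => n ∈ K)).card = Nat.card K := by
            rw [Nat.card_eq_fintype_card, ← Fintype.card_subtype]
          rw [Finset.sum_add_distrib, Finset.sum_const, Finset.card_univ, smul_eq_mul,
            ← Finset.sum_filter, Finset.sum_const, smul_eq_mul, e1, e2]
  -- `2 |K| ≤ |N|`
  have hK2 : 2 * Nat.card K ≤ Nat.card N := by
    have h1 : K.index ≠ 1 := fun h1 => hKtop (Subgroup.index_eq_one.1 h1)
    have h0 : K.index ≠ 0 := Subgroup.index_ne_zero_of_finite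
    have h2 : 2 ≤ K.index := by omega
    calc 2 * Nat.card K ≤ K.index * Nat.card K := Nat.mul_le_mul_right _ h2
      _ = Nat.card N := K.index_mul_card
  have hNpos : 0 < Nat.card N := Nat.card_pos
  set Ω := Nat.card (orbitRel.Quotient N (P : Subgroup G)) with hΩ
  set m := Nat.card N with hm
  set c := Nat.card K with hc
  set q := Nat.card (P : Subgroup G) with hq
  have h2 : p = (p - 1) + 1 := (Nat.sub_add_cancel hp.pos).symm
  -- 2 p Ω m ≤ 2 m q + 2 c (p-1) q ≤ 2 m q + m (p-1) q = (p+1) q m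
  have h3 : (2 * p * Ω) * m ≤ ((p + 1) * q) * m := by
    calc (2 * p * Ω) * m = 2 * (p * (Ω * m)) := by ring
      _ ≤ 2 * (m * q + c * ((p - 1) * q)) := Nat.mul_le_mul_left _ hsum
      _ = 2 * m * q + (2 * c) * ((p - 1) * q) := by ring
      _ ≤ 2 * m * q + m * ((p - 1) * q) := by
          apply Nat.add_le_add_left
          exact Nat.mul_le_mul_right _ hK2
      _ = (((p - 1) + 1 + 1) * q) * m := by ring
      _ = ((p + 1) * q) * m := by rw [← h2]
  exact Nat.le_of_mul_le_mul_right h3 hNpos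

/-- With a normal complement and `P` abelian, distinct elements of `P` are not conjugate. -/
theorem cls_injective {p : ℕ} [Fact p.Prime] (P : Sylow p G) {K : Subgroup G} [K.Normal]
    (hK : K.IsComplement' (P : Subgroup G)) (hab : IsMulCommutative (P : Subgroup G)) :
    Function.Injective (cls P) := by
  intro x y hxy
  have h1 : ConjClasses.mk (x : G) = ConjClasses.mk (y : G) := congrArg Subtype.val hxy
  rw [ConjClasses.mk_eq_mk_iff_isConj, isConj_iff] at h1
  obtain ⟨g, hg⟩ := h1
  -- write `g = k * u`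
  obtain ⟨⟨⟨k, hk⟩, ⟨u, hu⟩⟩, hku⟩ := hK.existsUnique g
  simp only at hku
  obtain ⟨hku, -⟩ := hku
  have hux : u * (x : G) * u⁻¹ = x := by
    have := hab.is_comm.comm (⟨u, hu⟩ : (P : Subgroup G)) x
    have h2 := congrArg Subtype.val this
    simp only [Subgroup.coe_mul] at h2
    rw [h2]; group
  have hy : (y : G) = k * x * k⁻¹ := by
    rw [← hg, ← hku]
    calc k * u * ↑x * (k * u)⁻¹ = k * (u * x * u⁻¹) * k⁻¹ := by group
      _ = k * x * k⁻¹ := by rw [hux]
  have hmemK : (y : G) * (x : G)⁻¹ ∈ K := by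
    rw [hy]
    have : k * x * k⁻¹ * (x : G)⁻¹ = k * ((x : G) * k⁻¹ * (x : G)⁻¹) := by group
    rw [this]
    exact K.mul_mem hk (Subgroup.Normal.conj_mem inferInstance _ (K.inv_mem hk) _)
  have hmemP : (y : G) * (x : G)⁻¹ ∈ (P : Subgroup G) :=
    (P : Subgroup G).mul_mem y.2 ((P : Subgroup G).inv_mem x.2)
  have hdisj := hK.disjoint
  have h1 : (y : G) * (x : G)⁻¹ = 1 := by
    have := Subgroup.disjoint_def.1 hdisj hmemK hmemP
    exact this
  apply Subtype.ext
  rw [mul_inv_eq_one] at h1
  exact h1.symm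

theorem card_le_card_pClasses [Finite G] {p : ℕ} [Fact p.Prime] (P : Sylow p G)
    (hnpc : Cfsg.HasNormalPComplement p G) (hab : IsMulCommutative (P : Subgroup G)) :
    Nat.card (P : Subgroup G) ≤
      Nat.card {c : ConjClasses G // ∀ x ∈ c.carrier, ∃ k : ℕ, orderOf x = p ^ k} := by
  obtain ⟨K, hKn, hK⟩ := Cfsg.Agent.Lib.L0.HasNormalPComplement.forall_sylow hnpc P
  exact Nat.card_le_card_of_injective _ (cls_injective P hK hab)

end Cfsg.Agent.Lib.H19.KpClasses
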