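import Mathlib
import Cfsg.Agent.Lib.H9.PiElements
import Cfsg.Agent.Lib.H19.KpClasses

/-!
# Counting conjugacy classes of `π`-elements (helper19)

`KCl π H`: the type of conjugacy classes of `π`-elements of `H`.

* `card_KCl_le_sum`: `k_π(G) ≤ ∑_{[y] r-class} k_{π∖r}(C_G(y))`.
* `card_KCl_le_prod`: `k_τ(H) ≤ |H|_τ`.
* `card_KCl_le_mul`: `k_π(G) ≤ k_r(G) |G|_{π∖r}` for `r ∈ π`.
-/

set_option autoImplicit false

namespace Cfsg.Agent.Lib.H19.KpiClasses

open Cfsg.Agent.Lib.H9.PiElements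

/-- conjugacy classes of `π`-elements. -/
abbrev KCl (π : Set ℕ) (H : Type*) [Group H] : Type _ :=
  {c : ConjClasses H // ∀ x ∈ c.carrier, ∀ r : ℕ, r.Prime → r ∣ orderOf x → r ∈ π}

section basic

variable {H : Type*} [Group H] {π : Set ℕ}

theorem isPi_of_isConj {x y : H} (hx : IsPi π x) (h : IsConj x y) : IsPi π y := by
  rw [isConj_iff] at h
  obtain ⟨c, rfl⟩ := h
  exact isPi_conj hx

/-- The class of a `π`-element. -/
def mkK (x : H) (hx : IsPi π x) : KCl π H :=
  ⟨ConjClasses.mk x, fun y hy => by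
    rw [ConjClasses.mem_carrier_iff_mk_eq, ConjClasses.mk_eq_mk_iff_isConj] at hy
    exact isPi_of_isConj hx hy.symm⟩

theorem mkK_eq_iff {x y : H} (hx : IsPi π x) (hy : IsPi π y) :
    mkK x hx = mkK y hy ↔ IsConj x y := by
  rw [← ConjClasses.mk_eq_mk_iff_isConj]
  constructor
  · intro h; exact congrArg Subtype.val h
  · intro h; exact Subtype.ext h

theorem exists_rep (c : KCl π H) : ∃ (x : H) (hx : IsPi π x), mkK x hx = c := by
  obtain ⟨c, hc⟩ := c
  obtain ⟨x, rfl⟩ := ConjClasses.mk_surjective c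
  exact ⟨x, hc x ConjClasses.mem_carrier_mk, rfl⟩

/-- a chosen representative -/
noncomputable def rep (c : KCl π H) : H := (exists_rep c).choose

theorem rep_isPi (c : KCl π H) : IsPi π (rep c) := (exists_rep c).choose_spec.choose

theorem mkK_rep (c : KCl π H) : mkK (rep c) (rep_isPi c) = c :=
  (exists_rep c).choose_spec.choose_spec

theorem IsPi.mono {π' : Set ℕ} (h : π ⊆ π') {x : H} (hx : IsPi π x) : IsPi π' x :=
  fun q hq hqd => h (hx q hq hqd)

theorem isPi_coe_iff {K : Subgroup H} (u : K) : IsPi π (u : H) ↔ IsPi π u := by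
  show (∀ q : ℕ, q.Prime → q ∣ orderOf (u : H) → q ∈ π) ↔ (∀ q : ℕ, q.Prime → q ∣ orderOf u → q ∈ π)
  rw [Subgroup.orderOf_coe]

end basic

section split

variable {G : Type*} [Group G] (π : Set ℕ) (r : ℕ)

/-- centralizer of the representative of an `r`-class -/
abbrev Cen (c : KCl ({r} : Set ℕ) G) : Subgroup G := Subgroup.centralizer {rep c}

theorem commute_rep (c : KCl ({r} : Set ℕ) G) (u : Cen r c) : Commute (rep c) (u : G) := by
  have := u.2
  rw [Subgroup.mem_centralizer_iff] at this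
  exact this (rep c) rfl

/-- the map `([y], [u]) ↦ [y u]`. -/
noncomputable def splitMap (hr : r ∈ π) :
    (Σ c : KCl ({r} : Set ℕ) G, KCl (π \ {r}) (Cen r c)) → KCl π G :=
  fun s => mkK (rep s.1 * ((rep s.2 : Cen r s.1) : G))
    (IsPi.mul (commute_rep r s.1 (rep s.2))
      (IsPi.mono (Set.singleton_subset_iff.2 hr) (rep_isPi s.1))
      (IsPi.mono (π := π \ {r}) (π' := π) Set.sdiff_subset
        ((isPi_coe_iff (rep s.2)).2 (rep_isPi s.2))))

theorem splitMap_surjective [Finite G] (hr : r ∈ π) :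
    Function.Surjective (splitMap (G := G) π r hr) := by
  intro e
  obtain ⟨x, hx, rfl⟩ := exists_rep e
  obtain ⟨⟨a, b⟩, ha, hb, hab, hpa, hpb⟩ := exists_decomp ({r} : Set ℕ) x (isOfFinOrder_of_finite x)
  simp only at ha hb hab hpa hpb
  -- the class of `a`
  set c : KCl ({r} : Set ℕ) G := mkK a hpa with hc
  have h1 : IsConj a (rep c) := by
    rw [← mkK_eq_iff hpa (rep_isPi c), mkK_rep]
  rw [isConj_iff] at h1
  obtain ⟨g, hg⟩ := h1
  have hcomm : Commute a b := by
    obtain ⟨i, rfl⟩ := Subgroup.mem_zpowers_iff.1 ha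
    obtain ⟨j, rfl⟩ := Subgroup.mem_zpowers_iff.1 hb
    exact (Commute.refl x).zpow_zpow i j
  have hbπ : IsPi (π \ {r}) b := by
    intro q hq hqd
    exact ⟨(IsPi.of_mem_zpowers hx hb) q hq hqd, hpb q hq hqd⟩
  have hu : g * b * g⁻¹ ∈ Cen r c := by
    rw [Subgroup.mem_centralizer_iff]
    intro y hy
    rw [Set.mem_singleton_iff] at hy
    rw [hy, ← hg]
    have := hcomm.eq
    calc g * a * g⁻¹ * (g * b * g⁻¹) = g * (a * b) * g⁻¹ := by group
      _ = g * (b * a) * g⁻¹ := by rw [this]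
      _ = g * b * g⁻¹ * (g * a * g⁻¹) := by group
  have hu' : IsPi (π \ {r}) (⟨g * b * g⁻¹, hu⟩ : Cen r c) := by
    rw [← isPi_coe_iff]
    exact isPi_conj hbπ
  set d : KCl (π \ {r}) (Cen r c) := mkK _ hu' with hd
  have h2 : IsConj (⟨g * b * g⁻¹, hu⟩ : Cen r c) (rep d) := by
    rw [← mkK_eq_iff hu' (rep_isPi d), mkK_rep]
  rw [isConj_iff] at h2
  obtain ⟨h, hh⟩ := h2
  refine ⟨⟨c, d⟩, ?_⟩
  unfold splitMap
  rw [mkK_eq_iff, isConj_comm, isConj_iff]
  refine ⟨(h : G) * g, ?_⟩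
  have hh' : (h : G) * (g * b * g⁻¹) * (h : G)⁻¹ = ((rep d : Cen r c) : G) := by
    have := congrArg Subtype.val hh
    simpa using this
  have hhc : (h : G) * rep c * (h : G)⁻¹ = rep c := by
    have := (commute_rep r c h).eq
    rw [mul_inv_eq_iff_eq_mul]; exact this.symm
  simp only
  rw [← hh', hab]
  conv_rhs => rw [← hhc, ← hg]
  group

/-- `k_π(G) ≤ k_r(G) · B` if `B` bounds the numbers of `(π∖r)`-classes of the centralizers of
`r`-elements. -/
theorem card_KCl_le_mul_of_bound [Finite G] (hr : r ∈ π) (B : ℕ)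
    (hB : ∀ c : KCl ({r} : Set ℕ) G, Nat.card (KCl (π \ {r}) (Cen r c)) ≤ B) :
    Nat.card (KCl π G) ≤ Nat.card (KCl ({r} : Set ℕ) G) * B := by
  classical
  have : Fintype (KCl ({r} : Set ℕ) G) := Fintype.ofFinite _
  calc Nat.card (KCl π G)
      ≤ Nat.card (Σ c : KCl ({r} : Set ℕ) G, KCl (π \ {r}) (Cen r c)) :=
        Nat.card_le_card_of_surjective _ (splitMap_surjective π r hr)
    _ = ∑ c : KCl ({r} : Set ℕ) G, Nat.card (KCl (π \ {r}) (Cen r c)) := Nat.card_sigma
    _ ≤ ∑ _c : KCl ({r} : Set ℕ) G, B := Finset.sum_le_sum (fun c _ => hB c)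
    _ = Nat.card (KCl ({r} : Set ℕ) G) * B := by
        rw [Finset.sum_const, Finset.card_univ, smul_eq_mul, Nat.card_eq_fintype_card]

end split

section bounds

universe u

theorem isPi_singleton_iff {H : Type*} [Group H] [Finite H] {r : ℕ} (hr : r.Prime) (x : H) :
    IsPi ({r} : Set ℕ) x ↔ ∃ k : ℕ, orderOf x = r ^ k := by
  constructor
  · intro h
    refine ⟨(orderOf x).primeFactorsList.length, ?_⟩
    apply Nat.eq_prime_pow_of_unique_prime_dvd (orderOf_pos x).ne'
    intro d hd hdx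
    exact h d hd hdx
  · rintro ⟨k, hk⟩ q hq hqd
    rw [hk] at hqd
    exact (Nat.prime_dvd_prime_iff_eq hq hr).1 (hq.dvd_of_dvd_pow hqd)

/-- `k_r(H) ≤ |H|_r`. -/
theorem card_KCl_singleton_le {H : Type*} [Group H] [Finite H] {r : ℕ} (hr : r.Prime) :
    Nat.card (KCl ({r} : Set ℕ) H) ≤ r ^ (Nat.card H).factorization r := by
  have : Fact r.Prime := ⟨hr⟩
  obtain ⟨P⟩ : Nonempty (Sylow r H) := inferInstance
  rw [← P.card_eq_multiplicity]
  have e : KCl ({r} : Set ℕ) H ≃
      {c : ConjClasses H // ∀ x ∈ c.carrier, ∃ k : ℕ, orderOf x = r ^ k} :=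
    Equiv.subtypeEquivRight (fun c => by
      constructor
      · intro h x hx
        exact (isPi_singleton_iff hr x).1 (h x hx)
      · intro h x hx
        exact (isPi_singleton_iff hr x).2 (h x hx))
  rw [Nat.card_congr e]
  exact Nat.card_le_card_of_surjective _ (Cfsg.Agent.Lib.H19.KpClasses.cls_surjective P)

theorem card_KCl_empty_le {H : Type*} [Group H] : Nat.card (KCl (∅ : Set ℕ) H) ≤ 1 := by
  have : Subsingleton (KCl (∅ : Set ℕ) H) := by
    refine ⟨fun a b => ?_⟩
    have key : ∀ c : KCl (∅ : Set ℕ) H, c.1 = ConjClasses.mk 1 := by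
      intro c
      obtain ⟨x, hx, rfl⟩ := exists_rep c
      have : orderOf x = 1 := by
        by_contra hne
        obtain ⟨q, hq, hqd⟩ := Nat.exists_prime_and_dvd hne
        exact hx q hq hqd
      rw [orderOf_eq_one_iff] at this
      show ConjClasses.mk x = ConjClasses.mk 1
      rw [this]
    apply Subtype.ext
    rw [key a, key b]
  exact Finite.card_le_one_iff_subsingleton.2 this

/-- monotonicity of the `τ`-part. -/
theorem prod_factorization_le_of_dvd (τ : Finset ℕ) (hτ : ∀ q ∈ τ, q.Prime) {a b : ℕ} (hb : b ≠ 0)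
    (hab : a ∣ b) :
    τ.prod (fun q => q ^ a.factorization q) ≤ τ.prod (fun q => q ^ b.factorization q) := by
  have ha : a ≠ 0 := fun h => hb (by rw [h] at hab; exact zero_dvd_iff.1 hab)
  apply Finset.prod_le_prod'
  intro q hq
  exact Nat.pow_le_pow_right (hτ q hq).pos ((Nat.factorization_le_iff_dvd ha hb).2 hab q)

/-- **`k_τ(H) ≤ |H|_τ`.** -/
theorem card_KCl_le_prod (τ : Finset ℕ) (hτ : ∀ q ∈ τ, q.Prime) :
    ∀ (H : Type u) [Group H] [Finite H],
      Nat.card (KCl (↑τ : Set ℕ) H) ≤ τ.prod (fun q => q ^ (Nat.card H).factorization q) := by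
  induction τ using Finset.induction_on with
  | empty =>
    intro H _ _
    rw [Finset.coe_empty, Finset.prod_empty]
    exact card_KCl_empty_le
  | insert r σ hrσ ih =>
    intro H _ _
    have hr : r.Prime := hτ r (Finset.mem_insert_self r σ)
    have hσ : ∀ q ∈ σ, q.Prime := fun q hq => hτ q (Finset.mem_insert_of_mem hq)
    have hset : ((↑(insert r σ) : Set ℕ) \ {r}) = (↑σ : Set ℕ) := by
      rw [Finset.coe_insert, Set.insert_sdiff_of_mem _ (Set.mem_singleton r)]
      apply Set.sdiff_singleton_eq_self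
      exact_mod_cast hrσ
    have hmem : r ∈ (↑(insert r σ) : Set ℕ) := by
      rw [Finset.coe_insert]; exact Set.mem_insert r _
    have h1 := card_KCl_le_mul_of_bound (G := H) (↑(insert r σ) : Set ℕ) r hmem
      (σ.prod (fun q => q ^ (Nat.card H).factorization q)) (by
        intro c
        rw [hset]
        refine (ih hσ (Cen r c)).trans ?_
        exact prod_factorization_le_of_dvd σ hσ Nat.card_pos.ne' (Subgroup.card_subgroup_dvd_card _))
    rw [Finset.prod_insert hrσ]
    exact h1.trans (Nat.mul_le_mul_right _ (card_KCl_singleton_le hr))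

/-- **`k_π(G) ≤ k_r(G) · |G|_{π∖r}`** for `r ∈ π`. -/
theorem card_KCl_le_mul {G : Type u} [Group G] [Finite G] (π : Finset ℕ) (hπ : ∀ q ∈ π, q.Prime)
    {r : ℕ} (hr : r ∈ π) :
    Nat.card (KCl (↑π : Set ℕ) G) ≤ Nat.card (KCl ({r} : Set ℕ) G) *
      (π.erase r).prod (fun q => q ^ (Nat.card G).factorization q) := by
  have hσ : ∀ q ∈ π.erase r, q.Prime := fun q hq => hπ q (Finset.mem_of_mem_erase hq)
  have hset : ((↑π : Set ℕ) \ {r}) = (↑(π.erase r) : Set ℕ) := by
    rw [Finset.coe_erase]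
  apply card_KCl_le_mul_of_bound (G := G) (↑π : Set ℕ) r (by exact_mod_cast hr)
  intro c
  rw [hset]
  refine (card_KCl_le_prod (π.erase r) hσ (Cen r c)).trans ?_
  exact prod_factorization_le_of_dvd _ hσ Nat.card_pos.ne' (Subgroup.card_subgroup_dvd_card _)

end bounds

end Cfsg.Agent.Lib.H19.KpiClasses
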