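import Mathlib
import Cfsg.Agent.Lib.H19.CommProb

/-!
# A group of odd order acting nontrivially on a `2`-group (helper19)

`two_mul_card_orbits_le`: a finite group `A` of odd order acting nontrivially (by automorphisms)
on a finite `2`-group `Q` has at most `|Q|/2` orbits.
-/

set_option autoImplicit false

namespace Cfsg.Agent.Lib.H19.OddAct

open MulAction

variable {A Q : Type*} [Group A] [Group Q] [MulDistribMulAction A Q]

/-- the subgroup of fixed points of `n` -/
def Fix (n : A) : Subgroup Q where
  carrier := {x | n • x = x}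
  one_mem' := smul_one n
  mul_mem' := by
    intro a b ha hb
    show n • (a * b) = a * b
    rw [smul_mul', ha, hb]
  inv_mem' := by
    intro a ha
    show n • a⁻¹ = a⁻¹
    rw [smul_inv', ha]

theorem mem_Fix {n : A} {x : Q} : x ∈ Fix n ↔ n • x = x := Iff.rfl

/-- the kernel of the action -/
def Ker (A Q : Type*) [Group A] [Group Q] [MulDistribMulAction A Q] : Subgroup A where
  carrier := {n | ∀ x : Q, n • x = x}
  one_mem' := fun x => one_smul A x
  mul_mem' := by
    intro a b ha hb x
    show (a * b) • x = x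
    rw [mul_smul, hb, ha]
  inv_mem' := by
    intro a ha x
    show a⁻¹ • x = x
    rw [inv_smul_eq_iff, ha]

theorem mem_Ker {n : A} : n ∈ Ker A Q ↔ ∀ x : Q, n • x = x := Iff.rfl

theorem pow_smul_eq {n : A} {x c : Q} (hx : n • x = x * c) (hc : n • c = c) (k : ℕ) :
    n ^ k • x = x * c ^ k := by
  induction k with
  | zero => simp
  | succ k ih =>
    rw [pow_succ', mul_smul, ih, smul_mul', hx, smul_pow', hc, mul_assoc, ← pow_succ']

/-- an element of odd order not acting trivially on a `2`-group has fixed points of index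
at least four. -/
theorem four_mul_card_Fix_le [Finite Q] (hQ : IsPGroup 2 Q) {n : A} (hn : Odd (orderOf n))
    (hnK : n ∉ Ker A Q) : 4 * Nat.card (Fix (Q := Q) n) ≤ Nat.card Q := by
  apply Cfsg.Agent.Lib.H19.CommProb.four_mul_card_le hQ
  by_contra hlt
  push Not at hlt
  have hidx := Cfsg.Agent.Lib.H19.CommProb.index_le_two_of_card_le hlt
  have h0 : (Fix (Q := Q) n).index ≠ 0 := Subgroup.index_ne_zero_of_finite
  have hne : Fix (Q := Q) n ≠ ⊤ := by
    intro htop
    apply hnK
    intro x
    have : x ∈ Fix n := by rw [htop]; trivial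
    exact this
  have h1 : (Fix (Q := Q) n).index ≠ 1 := fun h => hne (Subgroup.index_eq_one.mp h)
  have h2 : (Fix (Q := Q) n).index = 2 := by omega
  obtain ⟨x, hx⟩ : ∃ x : Q, x ∉ Fix n := by
    by_contra hcon
    push Not at hcon
    exact hne ((Subgroup.eq_top_iff' _).mpr hcon)
  have hnx : n • x ∉ Fix n := by
    intro h
    apply hx
    have h' : n • (n • x) = n • x := h
    exact smul_left_cancel n h'
  have hc : x⁻¹ * n • x ∈ Fix n := by
    rw [Subgroup.mul_mem_iff_of_index_two h2]
    constructor
    · intro h; exact absurd ((Fix n).inv_mem_iff.mp h) hx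
    · intro h; exact absurd h hnx
  set c := x⁻¹ * n • x with hcdef
  have hxc : n • x = x * c := by rw [hcdef]; group
  have hpow := pow_smul_eq hxc hc (orderOf n)
  rw [pow_orderOf_eq_one, one_smul] at hpow
  have hcm : c ^ orderOf n = 1 := by
    have := hpow.symm
    rwa [mul_eq_left] at this
  obtain ⟨j, hj⟩ := (IsPGroup.iff_orderOf.mp hQ) c
  have hdvd : orderOf c ∣ orderOf n := orderOf_dvd_of_pow_eq_one hcm
  have hc1 : orderOf c = 1 := by
    rw [hj] at hdvd ⊢
    rcases Nat.eq_zero_or_pos j with rfl | hjpos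
    · rfl
    · exfalso
      have h2dvd : 2 ∣ orderOf n := (dvd_pow_self 2 hjpos.ne').trans hdvd
      exact (Nat.not_even_iff_odd.mpr hn) (even_iff_two_dvd.mpr h2dvd)
  rw [orderOf_eq_one_iff] at hc1
  apply hx
  show n • x = x
  rw [hxc, hc1, mul_one]

/-- A group of odd order acting nontrivially on a `2`-group has at most `|Q|/2` orbits. -/
theorem two_mul_card_orbits_le [Finite A] [Finite Q] (hA : Odd (Nat.card A))
    (hQ : IsPGroup 2 Q) (hnt : ∃ (a : A) (x : Q), a • x ≠ x) :
    2 * Nat.card (orbitRel.Quotient A Q) ≤ Nat.card Q := by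
  classical
  have hKtop : Ker A Q ≠ ⊤ := by
    intro h
    obtain ⟨a, x, hax⟩ := hnt
    have : a ∈ Ker A Q := by rw [h]; trivial
    exact hax (this x)
  have hodd : ∀ n : A, Odd (orderOf n) := fun n =>
    Odd.of_dvd_nat hA (orderOf_dvd_natCard n)
  have hFcard : ∀ n : A, Nat.card (fixedBy Q n) = Nat.card (Fix (Q := Q) n) := by
    intro n
    apply Nat.card_congr
    exact Equiv.subtypeEquivRight (fun x => by rw [mem_Fix]; rfl)
  have hbound : ∀ n : A, 4 * Nat.card (fixedBy Q n) ≤
      Nat.card Q + (if n ∈ Ker A Q then 3 * Nat.card Q else 0) := by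
    intro n
    rw [hFcard]
    by_cases hn : n ∈ Ker A Q
    · rw [if_pos hn]
      have h1 : Nat.card (Fix (Q := Q) n) ≤ Nat.card Q := Subgroup.card_le_card_group _
      omega
    · rw [if_neg hn, add_zero]
      exact four_mul_card_Fix_le hQ (hodd n) hn
  have : Fintype A := Fintype.ofFinite _
  have : ∀ n : A, Fintype (fixedBy Q n) := fun n => Fintype.ofFinite _
  have : Fintype (orbitRel.Quotient A Q) := Fintype.ofFinite _
  have hB := sum_card_fixedBy_eq_card_orbits_mul_card_group A Q
  simp only [← Nat.card_eq_fintype_card] at hB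
  have hsum : 4 * (Nat.card (orbitRel.Quotient A Q) * Nat.card A) ≤
      Nat.card A * Nat.card Q + Nat.card (Ker A Q) * (3 * Nat.card Q) := by
    rw [← hB, Finset.mul_sum]
    calc ∑ n : A, 4 * Nat.card (fixedBy Q n)
        ≤ ∑ n : A, (Nat.card Q + (if n ∈ Ker A Q then 3 * Nat.card Q else 0)) :=
          Finset.sum_le_sum (fun n _ => hbound n)
      _ = Nat.card A * Nat.card Q + Nat.card (Ker A Q) * (3 * Nat.card Q) := by
          have e1 : Fintype.card A = Nat.card A := Nat.card_eq_fintype_card.symm
          have e2 : (Finset.univ.filter (fun n : A => n ∈ Ker A Q)).card =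
              Nat.card (Ker A Q) := by
            rw [Nat.card_eq_fintype_card, ← Fintype.card_subtype]
          rw [Finset.sum_add_distrib, Finset.sum_const, Finset.card_univ, smul_eq_mul,
            ← Finset.sum_filter, Finset.sum_const, smul_eq_mul, e1, e2]
  -- `3 |K| ≤ |A|`
  have hK3 : 3 * Nat.card (Ker A Q) ≤ Nat.card A := by
    have h1 : (Ker A Q).index ≠ 1 := fun h1 => hKtop (Subgroup.index_eq_one.1 h1)
    have h0 : (Ker A Q).index ≠ 0 := Subgroup.index_ne_zero_of_finite
    have h2 : (Ker A Q).index ≠ 2 := by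
      intro h2
      have : (Ker A Q).index ∣ Nat.card A := Subgroup.index_dvd_card _
      rw [h2] at this
      exact (Nat.not_even_iff_odd.mpr hA) (even_iff_two_dvd.mpr this)
    have h3 : 3 ≤ (Ker A Q).index := by omega
    calc 3 * Nat.card (Ker A Q) ≤ (Ker A Q).index * Nat.card (Ker A Q) :=
          Nat.mul_le_mul_right _ h3
      _ = Nat.card A := (Ker A Q).index_mul_card
  have hApos : 0 < Nat.card A := Nat.card_pos
  set Ω := Nat.card (orbitRel.Quotient A Q) with hΩ
  set m := Nat.card A with hm
  set c := Nat.card (Ker A Q) with hc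
  set q := Nat.card Q with hq
  have h3 : (2 * Ω) * (2 * m) ≤ q * (2 * m) := by
    calc (2 * Ω) * (2 * m) = 4 * (Ω * m) := by ring
      _ ≤ m * q + c * (3 * q) := hsum
      _ = m * q + (3 * c) * q := by ring
      _ ≤ m * q + m * q := by
          apply Nat.add_le_add_left
          exact Nat.mul_le_mul_right _ hK3
      _ = q * (2 * m) := by ring
  exact Nat.le_of_mul_le_mul_right h3 (by omega)

end Cfsg.Agent.Lib.H19.OddAct
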