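import Mathlib
import Cfsg.Prelude.Def_Transfer
import Cfsg.Agent.Lib.L0.TransferPC
import Cfsg.Agent.Lib.L0.ControlFusion
import Cfsg.Agent.Lib.L0.HallCentral
import Cfsg.Agent.Lib.H9.PiElements
import Cfsg.Agent.Lib.H19.KpClasses
import Cfsg.Agent.Lib.H19.KpiClasses
import Cfsg.Agent.Lib.H19.CommProb
import Cfsg.Agent.Lib.H19.OddAct
import Cfsg.Agent.Lib.H19.Basic

/-!
# Groups with many classes of `2`-elements (helper19)

Main result `hasNormalPComplement_of_lt`: if `|P| < 2 k₂(G)` for a Sylow `2`-subgroup `P` of the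
finite group `G` then `G` has a normal `2`-complement.
-/

set_option autoImplicit false

namespace Cfsg.Agent.Lib.H19.K2Main

open MulAction Cfsg.Agent.Lib.H19.KpClasses

/-- classes of `2`-elements -/
abbrev K2 (G : Type*) [Group G] : Type _ :=
  {c : ConjClasses G // ∀ x ∈ c.carrier, ∃ k : ℕ, orderOf x = 2 ^ k}

section basics

variable {G : Type*} [Group G]

/-- one-sided conjugation invariance suffices in a finite group -/
theorem mem_normalizer_of_conj_mem [Finite G] (H : Subgroup G) (g : G)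
    (h : ∀ x ∈ H, g * x * g⁻¹ ∈ H) : g ∈ Subgroup.normalizer (H : Set G) := by
  rw [Cfsg.Agent.Lib.H19.mem_normalizer_iff_map_conj]
  apply Subgroup.eq_of_le_of_card_ge
  · rintro _ ⟨x, hx, rfl⟩
    exact h x hx
  · rw [Cfsg.Agent.Lib.H19.card_map_conj]

/-- a `p`-subgroup of `K` can be conjugated by an element of `K` into a Sylow `p`-subgroup of
`G` contained in `K`. -/
theorem exists_conj_mem_sylow [Finite G] {p : ℕ} [Fact p.Prime] (P : Sylow p G)
    {K D : Subgroup G} (hPK : (P : Subgroup G) ≤ K) (hDK : D ≤ K) (hD : IsPGroup p D) :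
    ∃ c ∈ K, ∀ d ∈ D, c * d * c⁻¹ ∈ (P : Subgroup G) := by
  let PK : Sylow p K := P.subtype hPK
  have hD' : IsPGroup p (D.subgroupOf K) := hD.comap_subtype
  obtain ⟨Q, hQ⟩ := hD'.exists_le_sylow
  obtain ⟨c, hc⟩ := MulAction.exists_smul_eq K Q PK
  refine ⟨c, c.2, fun d hd => ?_⟩
  have h1 : (⟨d, hDK hd⟩ : K) ∈ (Q : Subgroup K) :=
    hQ (by rw [Subgroup.mem_subgroupOf]; exact hd)
  have h2 : c * (⟨d, hDK hd⟩ : K) * c⁻¹ ∈ ((c • Q : Sylow p K) : Subgroup K) := by
    rw [Sylow.coe_subgroup_smul]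
    exact ⟨_, h1, rfl⟩
  rw [hc] at h2
  have h3 : c * (⟨d, hDK hd⟩ : K) * c⁻¹ ∈ (P : Subgroup G).subgroupOf K := by
    rw [← Sylow.coe_subtype]; exact h2
  rw [Subgroup.mem_subgroupOf] at h3
  exact h3

/-- a `p`-element normalizing a Sylow `p`-subgroup lies in it -/
theorem mem_sylow_of_mem_normalizer [Finite G] {p : ℕ} [Fact p.Prime] (P : Sylow p G) {a : G}
    (ha : a ∈ Subgroup.normalizer ((P : Subgroup G) : Set G)) (hp : ∃ k : ℕ, orderOf a = p ^ k) :
    a ∈ (P : Subgroup G) := by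
  have hA : IsPGroup p (Subgroup.zpowers a) := by
    obtain ⟨k, hk⟩ := hp
    apply IsPGroup.of_card (n := k)
    rw [Nat.card_zpowers, hk]
  have hle : Subgroup.zpowers a ≤ Subgroup.normalizer ((P : Subgroup G) : Set G) := by
    rw [Subgroup.zpowers_le]; exact ha
  have hsup : IsPGroup p ((P : Subgroup G) ⊔ Subgroup.zpowers a : Subgroup G) :=
    IsPGroup.to_sup_of_normal_left' P.isPGroup' hA hle
  have := P.is_maximal' hsup le_sup_left
  rw [← this]
  exact Subgroup.mem_sup_right (Subgroup.mem_zpowers a)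

/-- Burnside's fusion lemma for central elements of a Sylow subgroup. -/
theorem exists_normalizer_conj [Finite G] {p : ℕ} [Fact p.Prime] (P : Sylow p G) {x y g : G}
    (hx : ∀ u ∈ (P : Subgroup G), u * x = x * u)
    (hy : ∀ u ∈ (P : Subgroup G), u * y = y * u) (hg : g * x * g⁻¹ = y) :
    ∃ n ∈ Subgroup.normalizer ((P : Subgroup G) : Set G), n * x * n⁻¹ = y := by
  set K : Subgroup G := Subgroup.centralizer ({y} : Set G) with hK
  have hPK : (P : Subgroup G) ≤ K := by
    intro u hu
    rw [hK, Subgroup.mem_centralizer_singleton_iff]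
    exact hy u hu
  let D : Subgroup G := (P : Subgroup G).map (MulAut.conj g).toMonoidHom
  have hD : IsPGroup p D := P.isPGroup'.map _
  have hDK : D ≤ K := by
    rintro _ ⟨u, hu, rfl⟩
    rw [hK, Subgroup.mem_centralizer_singleton_iff]
    show g * u * g⁻¹ * y = y * (g * u * g⁻¹)
    rw [← hg]
    have := hx u hu
    calc g * u * g⁻¹ * (g * x * g⁻¹) = g * (u * x) * g⁻¹ := by group
      _ = g * (x * u) * g⁻¹ := by rw [this]
      _ = g * x * g⁻¹ * (g * u * g⁻¹) := by group
  obtain ⟨c, hcK, hc⟩ := exists_conj_mem_sylow P hPK hDK hD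
  have hcy : c * y = y * c := by
    rw [hK, Subgroup.mem_centralizer_singleton_iff] at hcK; exact hcK
  refine ⟨c * g, ?_, ?_⟩
  · apply mem_normalizer_of_conj_mem
    intro u hu
    have := hc (g * u * g⁻¹) ⟨u, hu, rfl⟩
    have e : c * g * u * (c * g)⁻¹ = c * (g * u * g⁻¹) * c⁻¹ := by group
    rw [e]; exact this
  · calc c * g * x * (c * g)⁻¹ = c * (g * x * g⁻¹) * c⁻¹ := by group
      _ = c * y * c⁻¹ := by rw [hg]
      _ = y := by rw [hcy]; group

end basics

section step1

variable {G : Type*} [Group G] [Finite G]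

/-- **Step 1.** If `|P| < 2 k₂(G)`, every element of odd order of `N_G(P)` centralizes `P`. -/
theorem odd_centralizes (P : Sylow 2 G)
    (h : Nat.card (P : Subgroup G) < 2 * Nat.card (K2 G)) {a : G}
    (ha : a ∈ Subgroup.normalizer ((P : Subgroup G) : Set G)) (hodd : Odd (orderOf a)) :
    ∀ x ∈ (P : Subgroup G), a * x = x * a := by
  by_contra hcon
  push Not at hcon
  obtain ⟨x, hxP, hax⟩ := hcon
  set N : Subgroup G := Subgroup.normalizer ((P : Subgroup G) : Set G) with hN
  let a' : N := ⟨a, ha⟩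
  let A : Subgroup N := Subgroup.zpowers a'
  have hAcard : Nat.card A = orderOf a := by
    rw [Nat.card_zpowers]
    exact Subgroup.orderOf_mk a ha
  have hAodd : Odd (Nat.card A) := hAcard ▸ hodd
  have hnt : ∃ (n : A) (y : (P : Subgroup G)), n • y ≠ y := by
    refine ⟨⟨a', Subgroup.mem_zpowers a'⟩, ⟨x, hxP⟩, ?_⟩
    intro heq
    have h1 := congrArg Subtype.val heq
    have h2 : a * x * a⁻¹ = x := h1
    apply hax
    calc a * x = (a * x * a⁻¹) * a := by group
      _ = x * a := by rw [h2]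
  have h1 := Cfsg.Agent.Lib.H19.OddAct.two_mul_card_orbits_le (A := A) (Q := (P : Subgroup G))
    hAodd P.isPGroup' hnt
  have h2 : Nat.card (K2 G) ≤ Nat.card (orbitRel.Quotient A (P : Subgroup G)) := by
    let f : orbitRel.Quotient A (P : Subgroup G) → K2 G :=
      Quotient.lift (cls P) (by
        rintro u v ⟨n, rfl⟩
        exact cls_smul P (n : N) v)
    apply Nat.card_le_card_of_surjective f
    intro c
    obtain ⟨y, hy⟩ := cls_surjective P c
    exact ⟨Quotient.mk'' y, hy⟩
  omega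

/-- **Step 1'.** If `|P| < 2 k₂(G)`, the normalizer of `P` centralizes `Z(P)`. -/
theorem normalizer_centralizes_center (P : Sylow 2 G)
    (h : Nat.card (P : Subgroup G) < 2 * Nat.card (K2 G)) {n : G}
    (hn : n ∈ Subgroup.normalizer ((P : Subgroup G) : Set G)) {x : G}
    (hxP : x ∈ (P : Subgroup G)) (hx : ∀ u ∈ (P : Subgroup G), u * x = x * u) :
    n * x = x * n := by
  obtain ⟨⟨b, c⟩, hb, hc, hbc, hbpi, hcpi⟩ :=
    Cfsg.Agent.Lib.H9.PiElements.exists_decomp ({2} : Set ℕ) n (isOfFinOrder_of_finite n)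
  simp only at hb hc hbc hbpi hcpi
  have hzn : Subgroup.zpowers n ≤ Subgroup.normalizer ((P : Subgroup G) : Set G) := by
    rw [Subgroup.zpowers_le]; exact hn
  have hbP : b ∈ (P : Subgroup G) :=
    mem_sylow_of_mem_normalizer P (hzn hb)
      ((Cfsg.Agent.Lib.H19.KpiClasses.isPi_singleton_iff Nat.prime_two b).mp hbpi)
  have hcodd : Odd (orderOf c) := by
    rw [← Nat.not_even_iff_odd, even_iff_two_dvd]
    intro h2
    exact hcpi 2 Nat.prime_two h2 rfl
  have hcx := odd_centralizes P h (hzn hc) hcodd x hxP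
  have hbx := hx b hbP
  rw [hbc, mul_assoc, hcx, ← mul_assoc, hbx, mul_assoc]

end step1

section step3

variable {G : Type*} [Group G] [Finite G]

omit [Finite G] in
theorem center_comm (P : Sylow 2 G) {x : (P : Subgroup G)}
    (hx : x ∈ Subgroup.center (P : Subgroup G)) :
    ∀ u ∈ (P : Subgroup G), u * (x : G) = (x : G) * u := by
  intro u hu
  have := Subgroup.mem_center_iff.mp hx ⟨u, hu⟩
  exact congrArg Subtype.val this

/-- the central elements of `P` that are isolated in `P` form a subgroup -/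
def Iso (P : Sylow 2 G) : Subgroup (P : Subgroup G) where
  carrier := {x | x ∈ Subgroup.center (P : Subgroup G) ∧
    ∀ g : G, g * (x : G) * g⁻¹ ∈ (P : Subgroup G) → g * (x : G) * g⁻¹ = x}
  one_mem' := ⟨one_mem _, fun g _ => by simp⟩
  inv_mem' := by
    rintro x ⟨hxc, hx⟩
    refine ⟨inv_mem hxc, fun g hg => ?_⟩
    have e : g * ((x⁻¹ : (P : Subgroup G)) : G) * g⁻¹ = (g * (x : G) * g⁻¹)⁻¹ := by
      rw [Subgroup.coe_inv]; group
    rw [e] at hg ⊢
    rw [hx g ((Subgroup.inv_mem_iff _).mp hg)]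
    rfl
  mul_mem' := by
    rintro x y ⟨hxc, hx⟩ ⟨hyc, hy⟩
    refine ⟨mul_mem hxc hyc, fun g hg => ?_⟩
    rw [Subgroup.coe_mul] at hg ⊢
    set u : G := (x : G) * (y : G) with hu
    set w : G := g * u * g⁻¹ with hw
    have hucomm : ∀ v ∈ (P : Subgroup G), v * u = u * v := by
      intro v hv
      have h1 := center_comm P hxc v hv
      have h2 := center_comm P hyc v hv
      rw [hu, ← mul_assoc, h1, mul_assoc, h2, mul_assoc]
    set K : Subgroup G := Subgroup.centralizer ({u} : Set G) with hK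
    have hPK : (P : Subgroup G) ≤ K := by
      intro v hv
      rw [hK, Subgroup.mem_centralizer_singleton_iff]
      exact hucomm v hv
    have hgu : g⁻¹ * w * g = u := by rw [hw]; group
    let D : Subgroup G := ((P : Subgroup G) ⊓ Subgroup.centralizer ({w} : Set G)).map
      (MulAut.conj g⁻¹).toMonoidHom
    have hD : IsPGroup 2 D := (P.isPGroup'.to_le inf_le_left).map _
    have hDK : D ≤ K := by
      rintro _ ⟨d, ⟨_, hdw'⟩, rfl⟩
      have hdw : d * w = w * d := Subgroup.mem_centralizer_singleton_iff.mp hdw'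
      rw [hK, Subgroup.mem_centralizer_singleton_iff]
      show g⁻¹ * d * g⁻¹⁻¹ * u = u * (g⁻¹ * d * g⁻¹⁻¹)
      rw [← hgu]
      calc g⁻¹ * d * g⁻¹⁻¹ * (g⁻¹ * w * g) = g⁻¹ * (d * w) * g := by group
        _ = g⁻¹ * (w * d) * g := by rw [hdw]
        _ = g⁻¹ * w * g * (g⁻¹ * d * g⁻¹⁻¹) := by group
    obtain ⟨c, hcK, hc⟩ := exists_conj_mem_sylow P hPK hDK hD
    have hcu : c * u = u * c := by
      rw [hK, Subgroup.mem_centralizer_singleton_iff] at hcK; exact hcK
    -- conjugation by `c * g⁻¹` maps `Z(P)` into `P`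
    have hmap : ∀ e : (P : Subgroup G), e ∈ Subgroup.center (P : Subgroup G) →
        (c * g⁻¹) * (e : G) * (c * g⁻¹)⁻¹ ∈ (P : Subgroup G) := by
      intro e he
      have hew : (e : G) * w = w * (e : G) := (center_comm P he w hg).symm
      have hmem : (e : G) ∈ (P : Subgroup G) ⊓ Subgroup.centralizer ({w} : Set G) :=
        ⟨e.2, Subgroup.mem_centralizer_singleton_iff.mpr hew⟩
      have := hc (g⁻¹ * (e : G) * g⁻¹⁻¹) ⟨(e : G), hmem, rfl⟩
      have e' : (c * g⁻¹) * (e : G) * (c * g⁻¹)⁻¹ = c * (g⁻¹ * (e : G) * g⁻¹⁻¹) * c⁻¹ := by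
        group
      rw [e']; exact this
    have hx' := hx (c * g⁻¹) (hmap x hxc)
    have hy' := hy (c * g⁻¹) (hmap y hyc)
    have hu' : (c * g⁻¹) * u * (c * g⁻¹)⁻¹ = u := by
      calc (c * g⁻¹) * u * (c * g⁻¹)⁻¹
          = ((c * g⁻¹) * (x : G) * (c * g⁻¹)⁻¹) * ((c * g⁻¹) * (y : G) * (c * g⁻¹)⁻¹) := by
            rw [hu]; group
        _ = u := by rw [hx', hy']
    have hw' : (c * g⁻¹) * w * (c * g⁻¹)⁻¹ = u := by
      calc (c * g⁻¹) * w * (c * g⁻¹)⁻¹ = c * (g⁻¹ * w * g) * c⁻¹ := by group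
        _ = c * u * c⁻¹ := by rw [hgu]
        _ = u := by rw [hcu]; group
    have : (c * g⁻¹) * w * (c * g⁻¹)⁻¹ = (c * g⁻¹) * u * (c * g⁻¹)⁻¹ := by rw [hw', hu']
    exact mul_left_cancel (mul_right_cancel this)

theorem mem_Iso (P : Sylow 2 G) {x : (P : Subgroup G)} : x ∈ Iso P ↔
    x ∈ Subgroup.center (P : Subgroup G) ∧
      ∀ g : G, g * (x : G) * g⁻¹ ∈ (P : Subgroup G) → g * (x : G) * g⁻¹ = x := Iff.rfl

theorem Iso_le_center (P : Sylow 2 G) : Iso P ≤ Subgroup.center (P : Subgroup G) :=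
  fun _ hx => hx.1

/-- the map from classes of `P` to classes of `2`-elements of `G`. -/
noncomputable def clP (P : Sylow 2 G) : ConjClasses (P : Subgroup G) → K2 G :=
  Quotient.lift (cls P) (by
    intro a b hab
    have hab' : IsConj a b := hab
    obtain ⟨c, hc⟩ := isConj_iff.mp hab'
    apply Subtype.ext
    show ConjClasses.mk (a : G) = ConjClasses.mk (b : G)
    rw [ConjClasses.mk_eq_mk_iff_isConj, isConj_iff]
    exact ⟨(c : G), by rw [← hc]; rfl⟩)

omit [Finite G] in
theorem clP_mk (P : Sylow 2 G) (x : (P : Subgroup G)) : clP P (ConjClasses.mk x) = cls P x := rfl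

theorem clP_surjective (P : Sylow 2 G) : Function.Surjective (clP P) := by
  intro c
  obtain ⟨x, hx⟩ := cls_surjective P c
  exact ⟨ConjClasses.mk x, hx⟩

omit [Finite G] in
theorem cls_eq_of_conj (P : Sylow 2 G) {x y : (P : Subgroup G)} {g : G}
    (h : g * (x : G) * g⁻¹ = y) : cls P y = cls P x := by
  apply Subtype.ext
  show ConjClasses.mk (y : G) = ConjClasses.mk (x : G)
  rw [ConjClasses.mk_eq_mk_iff_isConj]
  exact (isConj_iff.mpr ⟨g, h⟩).symm

/-- a central element of `P` that is not isolated is fused to a noncentral element of `P`. -/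
theorem exists_noncentral_conj (P : Sylow 2 G)
    (h : Nat.card (P : Subgroup G) < 2 * Nat.card (K2 G)) {t : (P : Subgroup G)}
    (htZ : t ∈ Subgroup.center (P : Subgroup G)) (htI : t ∉ Iso P) :
    ∃ y : (P : Subgroup G), y ∉ Subgroup.center (P : Subgroup G) ∧ cls P y = cls P t := by
  rw [mem_Iso] at htI
  push Not at htI
  obtain ⟨g, hgP, hgne⟩ := htI htZ
  refine ⟨⟨g * (t : G) * g⁻¹, hgP⟩, ?_, cls_eq_of_conj P rfl⟩
  intro hyZ
  obtain ⟨n, hn, hnt⟩ := exists_normalizer_conj P (x := (t : G)) (y := g * (t : G) * g⁻¹)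
    (g := g) (center_comm P htZ) (center_comm P hyZ) rfl
  have := normalizer_centralizes_center P h hn t.2 (center_comm P htZ)
  apply hgne
  rw [← hnt, this, mul_inv_cancel_right]

/-- **Step 3.** Every central element of `P` is isolated. -/
theorem Iso_eq_center (P : Sylow 2 G)
    (h : Nat.card (P : Subgroup G) < 2 * Nat.card (K2 G)) :
    Iso P = Subgroup.center (P : Subgroup G) := by
  classical
  let T := {c : ConjClasses (P : Subgroup G) // c ∈ ConjClasses.noncenter (P : Subgroup G)}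
  let φ : (Iso P) ⊕ T → K2 G := Sum.elim (fun x => cls P x.1) (fun c => clP P c.1)
  have hφ : Function.Surjective φ := by
    intro c
    obtain ⟨t, ht⟩ := cls_surjective P c
    by_cases htZ : t ∈ Subgroup.center (P : Subgroup G)
    · by_cases htI : t ∈ Iso P
      · exact ⟨Sum.inl ⟨t, htI⟩, ht⟩
      · obtain ⟨y, hyZ, hy⟩ := exists_noncentral_conj P h htZ htI
        refine ⟨Sum.inr ⟨ConjClasses.mk y, Cfsg.Agent.Lib.H19.CommProb.mk_mem_noncenter hyZ⟩, ?_⟩
        show clP P (ConjClasses.mk y) = c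
        rw [clP_mk, hy, ht]
    · refine ⟨Sum.inr ⟨ConjClasses.mk t, Cfsg.Agent.Lib.H19.CommProb.mk_mem_noncenter htZ⟩, ?_⟩
      show clP P (ConjClasses.mk t) = c
      rw [clP_mk, ht]
  have hcard : Nat.card (K2 G) ≤ Nat.card (Iso P) + Nat.card T := by
    rw [← Nat.card_sum]
    exact Nat.card_le_card_of_surjective φ hφ
  have hT := Cfsg.Agent.Lib.H19.CommProb.two_mul_card_noncenter_le (P := (P : Subgroup G))
  have hle := Iso_le_center P
  have hlt : Nat.card (Subgroup.center (P : Subgroup G)) < 2 * Nat.card (Iso P) := by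
    have : Nat.card T = Nat.card (ConjClasses.noncenter (P : Subgroup G)) := rfl
    omega
  apply Subgroup.eq_of_le_of_card_ge hle
  obtain ⟨j, hj⟩ := Subgroup.card_dvd_of_le hle
  have hpos : 0 < Nat.card (Iso P) := Nat.card_pos
  have hj2 : j < 2 := by
    by_contra hj2
    push Not at hj2
    have : Nat.card (Iso P) * 2 ≤ Nat.card (Iso P) * j := Nat.mul_le_mul_left _ hj2
    omega
  have hj0 : j ≠ 0 := by
    rintro rfl
    have : 0 < Nat.card (Subgroup.center (P : Subgroup G)) := Nat.card_pos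
    omega
  have hj1 : j = 1 := by omega
  rw [hj, hj1, mul_one]

end step3

section step4

variable {G : Type*} [Group G] [Finite G]

/-- the transfer into `P/P'` -/
noncomputable def V (P : Sylow 2 G) : G →* Abelianization (P : Subgroup G) :=
  MonoidHom.transfer (Abelianization.of : (P : Subgroup G) →* Abelianization (P : Subgroup G))

/-- if the transfer is trivial then `Z(P) ≤ P'`. -/
theorem center_le_commutator (P : Sylow 2 G)
    (h : Nat.card (P : Subgroup G) < 2 * Nat.card (K2 G)) (hV : ∀ g, V P g = 1) :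
    Subgroup.center (P : Subgroup G) ≤ commutator (P : Subgroup G) := by
  intro x hx
  have hIso := Iso_eq_center P h
  have key : ∀ (k : ℕ) (g₀ : G), g₀⁻¹ * (x : G) ^ k * g₀ ∈ (P : Subgroup G) →
      g₀⁻¹ * (x : G) ^ k * g₀ = (x : G) ^ k := by
    intro k g₀ hk
    have hxk : x ^ k ∈ Iso P := by rw [hIso]; exact pow_mem hx k
    have := ((mem_Iso P).mp hxk).2 g₀⁻¹
    simp only [inv_inv, Subgroup.coe_pow] at this
    exact this hk
  have h1 := MonoidHom.transfer_eq_pow
    (Abelianization.of : (P : Subgroup G) →* Abelianization (P : Subgroup G)) (x : G) key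
  have h1' : V P (x : G) = 1 := hV x
  rw [V] at h1'
  rw [h1'] at h1
  have h2 : (⟨(x : G) ^ (P : Subgroup G).index, MonoidHom.transfer_eq_pow_aux (x : G) key⟩ :
      (P : Subgroup G)) ∈ commutator (P : Subgroup G) := by
    rw [← Abelianization.ker_of, MonoidHom.mem_ker]; exact h1.symm
  have h3 : x ^ (P : Subgroup G).index ∈ commutator (P : Subgroup G) := by
    have e : x ^ (P : Subgroup G).index =
        (⟨(x : G) ^ (P : Subgroup G).index, MonoidHom.transfer_eq_pow_aux (x : G) key⟩ :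
          (P : Subgroup G)) := Subtype.ext (by simp)
    rw [e]; exact h2
  obtain ⟨j, hj⟩ := (IsPGroup.iff_orderOf.mp P.isPGroup') x
  have hcop : Nat.Coprime (P : Subgroup G).index (orderOf x) := by
    rw [hj]
    apply Nat.Coprime.pow_right
    exact ((Nat.Prime.coprime_iff_not_dvd Nat.prime_two).mpr P.not_dvd_index).symm
  obtain ⟨m, hm⟩ := exists_pow_eq_self_of_coprime hcop
  rw [← hm]
  exact pow_mem h3 m

/-- **Case (ii).** If the transfer into `P/P'` is trivial then `G` has a normal `2`-complement. -/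
theorem npc_of_transfer_trivial (P : Sylow 2 G)
    (h : Nat.card (P : Subgroup G) < 2 * Nat.card (K2 G)) (hV : ∀ g, V P g = 1) :
    Cfsg.HasNormalPComplement 2 G := by
  have hZP := center_le_commutator P h hV
  have hkP : Nat.card (K2 G) ≤ Nat.card (ConjClasses (P : Subgroup G)) :=
    Nat.card_le_card_of_surjective _ (clP_surjective P)
  have hlt : Nat.card (P : Subgroup G) < 2 * Nat.card (ConjClasses (P : Subgroup G)) := by omega
  have hK := Cfsg.Agent.Lib.H19.CommProb.card_commutator_le_two P.isPGroup' hlt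
  have hZ2 : Nat.card (Subgroup.center (P : Subgroup G)) ≤ 2 :=
    (Subgroup.card_le_of_le hZP).trans hK
  have hk := Cfsg.Agent.Lib.H19.CommProb.two_mul_card_conjClasses_le (P := (P : Subgroup G))
  obtain ⟨n, hn⟩ := IsPGroup.iff_card.mp P.isPGroup'
  rcases Nat.eq_zero_or_pos n with rfl | hnpos
  · -- `G` has odd order
    rw [pow_zero] at hn
    have hodd : ¬ 2 ∣ Nat.card G := by
      intro h2
      have h3 := P.card_eq_multiplicity
      rw [hn] at h3
      have h4 : (Nat.card G).factorization 2 = 0 := by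
        by_contra h4
        have : 2 ≤ 2 ^ (Nat.card G).factorization 2 := by
          calc 2 = 2 ^ 1 := rfl
            _ ≤ 2 ^ (Nat.card G).factorization 2 :=
              Nat.pow_le_pow_right (by norm_num) (Nat.one_le_iff_ne_zero.mpr h4)
        omega
      rcases (Nat.factorization_eq_zero_iff _ _).mp h4 with h5 | h5 | h5
      · exact h5 Nat.prime_two
      · exact h5 h2
      · exact (Nat.card_pos (α := G)).ne' h5
    apply Cfsg.Agent.Lib.L0.hasNormalPComplement_of_normal (⊤ : Subgroup G)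
    · rwa [Subgroup.card_top]
    · exact ⟨0, by rw [Subgroup.index_top, pow_zero]⟩
  · have heven : 2 ∣ Nat.card (P : Subgroup G) := by
      rw [hn]; exact dvd_pow_self 2 hnpos.ne'
    obtain ⟨m, hm⟩ := heven
    have hk2 : Nat.card (ConjClasses (P : Subgroup G)) ≤ Nat.card (K2 G) := by omega
    have hbij := (clP_surjective P).bijective_of_nat_card_le hk2
    apply Cfsg.Agent.Lib.L0.hasNormalPComplement_of_control_fusion P
    intro x hx g hg
    have e1 : clP P (ConjClasses.mk ⟨g⁻¹ * x * g, hg⟩) = clP P (ConjClasses.mk ⟨x, hx⟩) := by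
      rw [clP_mk, clP_mk]
      apply cls_eq_of_conj P (g := g⁻¹)
      simp only [inv_inv]
    have e2 := hbij.1 e1
    obtain ⟨c, hc⟩ := isConj_iff.mp (ConjClasses.mk_eq_mk_iff_isConj.mp e2)
    refine ⟨(c : G), c.2, ?_⟩
    have hc' := congrArg Subtype.val hc
    simp only [Subgroup.coe_mul, Subgroup.coe_inv] at hc'
    calc g⁻¹ * x * g = (c : G)⁻¹ * ((c : G) * (g⁻¹ * x * g) * (c : G)⁻¹) * (c : G) := by group
      _ = (c : G)⁻¹ * x * (c : G) := by rw [hc']

end step4

section induction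

universe u

theorem card_K2_eq (H : Type*) [Group H] [Finite H] :
    Nat.card (K2 H) = Nat.card {C : ConjClasses H // ∀ q : ℕ, q.Prime →
        (∃ g : H, ConjClasses.mk g = C ∧ q ∣ orderOf g) → q ∈ ({2} : Set ℕ)} := by
  apply Nat.card_congr
  exact Equiv.subtypeEquivRight (fun c => by
    constructor
    · rintro h q hq ⟨g, hg, hqg⟩
      obtain ⟨k, hk⟩ := h g (by rw [ConjClasses.mem_carrier_iff_mk_eq]; exact hg)
      rw [hk] at hqg
      exact (Nat.prime_dvd_prime_iff_eq hq Nat.prime_two).mp (hq.dvd_of_dvd_pow hqg)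
    · intro h x hx
      rw [ConjClasses.mem_carrier_iff_mk_eq] at hx
      apply (Cfsg.Agent.Lib.H19.KpiClasses.isPi_singleton_iff Nat.prime_two x).mp
      intro q hq hqx
      exact h q hq ⟨x, hx, hqx⟩)

theorem card_K2_le (H : Type*) [Group H] [Finite H] : Nat.card (K2 H) ≤ Nat.card H :=
  (Nat.card_le_card_of_injective _ Subtype.val_injective).trans
    (Nat.card_le_card_of_surjective _ ConjClasses.mk_surjective)

theorem hasNormalPComplement_aux : ∀ (n : ℕ) (G : Type u) [Group G] [Finite G],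
    Nat.card G = n → ∀ P : Sylow 2 G, Nat.card (P : Subgroup G) < 2 * Nat.card (K2 G) →
      Cfsg.HasNormalPComplement 2 G := by
  intro n
  induction n using Nat.strong_induction_on with
  | _ n IH =>
  intro G _ _ hn P h
  by_cases hV : ∀ g, V P g = 1
  · exact npc_of_transfer_trivial P h hV
  set N : Subgroup G := (V P).ker with hN
  have hNn : N.Normal := by rw [hN]; infer_instance
  have hNtop : N ≠ ⊤ := by
    intro htop
    apply hV
    intro g
    have : g ∈ N := by rw [htop]; trivial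
    exact MonoidHom.mem_ker.mp this
  have hA : IsPGroup 2 (Abelianization (P : Subgroup G)) :=
    P.isPGroup'.to_quotient (commutator (P : Subgroup G))
  obtain ⟨j, hj⟩ : ∃ j, N.index = 2 ^ j := by
    rw [hN, Subgroup.index_ker]
    exact IsPGroup.iff_card.mp (hA.to_subgroup _)
  have hcardN : Nat.card N * 2 ^ j = Nat.card G := by
    rw [← hj]; exact Subgroup.card_mul_index N
  have hj0 : j ≠ 0 := by
    rintro rfl
    rw [pow_zero] at hj
    exact hNtop (Subgroup.index_eq_one.mp hj)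
  have hlt : Nat.card N < n := by
    rw [← hn, ← hcardN]
    have h2 : 2 ≤ 2 ^ j := by
      calc 2 = 2 ^ 1 := rfl
        _ ≤ 2 ^ j := Nat.pow_le_pow_right (by norm_num) (Nat.one_le_iff_ne_zero.mpr hj0)
    have hpos : 0 < Nat.card N := Nat.card_pos
    nlinarith
  obtain ⟨Q⟩ : Nonempty (Sylow 2 N) := inferInstance
  have hPQ : Nat.card (P : Subgroup G) = Nat.card (Q : Subgroup N) * 2 ^ j := by
    rw [P.card_eq_multiplicity, Q.card_eq_multiplicity, ← hcardN,
      Nat.factorization_mul (Nat.card_pos.ne') (pow_ne_zero _ two_ne_zero), Finsupp.add_apply,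
      Nat.Prime.factorization_pow Nat.prime_two, Finsupp.single_eq_same, pow_add]
  have hk : Nat.card (K2 G) ≤ Nat.card (K2 N) * 2 ^ j := by
    have h1 := Cfsg.Agent.Lib.H9.PiElements.card_piClasses_le N ({2} : Set ℕ)
    rw [← card_K2_eq G, ← card_K2_eq N, ← card_K2_eq (G ⧸ N)] at h1
    have h2 : Nat.card (K2 (G ⧸ N)) ≤ 2 ^ j := by
      rw [← hj, Subgroup.index_eq_card]; exact card_K2_le (G ⧸ N)
    exact h1.trans (Nat.mul_le_mul_left _ h2)
  have hQ : Nat.card (Q : Subgroup N) < 2 * Nat.card (K2 N) := by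
    have : Nat.card (Q : Subgroup N) * 2 ^ j < (2 * Nat.card (K2 N)) * 2 ^ j := by
      calc Nat.card (Q : Subgroup N) * 2 ^ j = Nat.card (P : Subgroup G) := hPQ.symm
        _ < 2 * Nat.card (K2 G) := h
        _ ≤ 2 * (Nat.card (K2 N) * 2 ^ j) := Nat.mul_le_mul_left _ hk
        _ = (2 * Nat.card (K2 N)) * 2 ^ j := by ring
    exact Nat.lt_of_mul_lt_mul_right this
  have ih := IH (Nat.card N) hlt N rfl Q hQ
  obtain ⟨K₀, hK₀n, hK₀odd, i, hK₀idx⟩ :=
    Cfsg.Agent.Lib.L0.HasNormalPComplement.exists_normal ih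
  have hcop : Nat.Coprime (Nat.card K₀) K₀.index := by
    rw [hK₀idx]
    exact Nat.Coprime.pow_right _
      ((Nat.Prime.coprime_iff_not_dvd Nat.prime_two).mpr hK₀odd).symm
  have hKn : (K₀.map N.subtype).Normal :=
    Cfsg.Agent.Lib.L0.normal_map_subtype_of_coprime N K₀ hcop
  apply Cfsg.Agent.Lib.L0.hasNormalPComplement_of_normal (K₀.map N.subtype)
  · rw [Subgroup.card_map_of_injective N.subtype_injective]
    exact hK₀odd
  · exact ⟨i + j, by rw [Subgroup.index_map_subtype, hK₀idx, hj, pow_add]⟩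

/-- **Main theorem.** If `|P| < 2 k₂(G)` then `G` has a normal `2`-complement. -/
theorem hasNormalPComplement_of_lt {G : Type u} [Group G] [Finite G] (P : Sylow 2 G)
    (h : Nat.card (P : Subgroup G) < 2 * Nat.card (K2 G)) : Cfsg.HasNormalPComplement 2 G :=
  hasNormalPComplement_aux (Nat.card G) G rfl P h

end induction

end Cfsg.Agent.Lib.H19.K2Main
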