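/-
S2524 route U, concrete piece **(HSCAL)**: the hypothesis `hscal` of `Cfsg.Agent.Lib.H20.UGlue.glue`.
For `u ∈ U1m`, the operator `A_u = p0 ∘ rW u` (`p0` = projector onto the `U1`-fixed vectors) acts as ONE scalar on
`C0 = {c | PY 0 c = 0, p0 c = c}`.
Definitions: helper11 `Lib/H11/S2524G0` (group side), helper8 `Lib/H8/TZBasic`, `TZDim` (`PY`, `cact`, `orbS`, `R1`).
-/
import Cfsg.Agent.Lib.H11.S2524G1
import Cfsg.Agent.Lib.H8.TZDim
import Cfsg.Agent.Lib.H20.UGlue2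

set_option autoImplicit false
set_option linter.unusedSectionVars false

namespace Cfsg.Agent.Lib.H19.TZ

open Matrix Cfsg.Agent.Lib.H12.LS2 Cfsg.Agent.Lib.H5.LS2 Cfsg.Agent.Lib.H11.SpU Cfsg.Agent.Lib.H4
open Cfsg.Agent.Lib.H8.TZ (PY cact cact_val orbS mem_orbS PY_cact mem_range_PY_iff)

variable {F : Type*} [Field F] [Fintype F] {m : ℕ} [Fintype (Symm (m + 1) F)]
  {W : Type*} [AddCommGroup W] [Module ℂ W] [FiniteDimensional ℂ W]
  (χ : AddChar F ℂ) (Φ : Symm (m + 1) F ≃ AddChar (Symm (m + 1) F) ℂ)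
  (hΦ : ∀ Y X : Symm (m + 1) F, Φ Y X =
    χ (Matrix.trace ((X : Matrix (Fin (m + 1)) (Fin (m + 1)) F) * (Y : Matrix (Fin (m + 1)) (Fin (m + 1)) F))))
  (rW : Sp (m + 1) F →* Module.End ℂ W)

include hΦ in
/-- the character `χ` underlying a duality `Φ` is non-trivial -/
theorem chi_ne_one_of_duality : χ ≠ 1 := by
  rintro rfl
  have h : Φ (symE (Fin.last m) 1) = Φ 0 := by
    apply DFunLike.ext
    intro X
    rw [hΦ, hΦ]
    simp
  have h0 := Φ.injective h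
  have h1 := congrArg (fun Y : Symm (m + 1) F =>
    (Y : Matrix (Fin (m + 1)) (Fin (m + 1)) F) (Fin.last m) (Fin.last m)) h0
  simp at h1

theorem trace_symE_mul (i : Fin (m + 1)) (t : F) (Y : Symm (m + 1) F) :
    Matrix.trace (((symE i t : Symm (m + 1) F) : Matrix (Fin (m + 1)) (Fin (m + 1)) F) *
      (Y : Matrix (Fin (m + 1)) (Fin (m + 1)) F)) =
      t * (Y : Matrix (Fin (m + 1)) (Fin (m + 1)) F) i i := by
  rw [symE_val, Matrix.trace_single_mul, smul_eq_mul]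

include hΦ in
/-- a non-zero `Q`-eigenvector fixed by `U1` belongs to a `Y` with `Y_** = 0` -/
theorem last_eq_zero_of_fix (Y : Symm (m + 1) F) (f : W) (hf0 : f ≠ 0)
    (hf : ∀ X, rW (tEl X) f = Φ Y X • f)
    (hfix : ∀ t : F, rW (tEl (symE (Fin.last m) t)) f = f) :
    (Y : Matrix (Fin (m + 1)) (Fin (m + 1)) F) (Fin.last m) (Fin.last m) = 0 := by
  by_contra hne
  apply chi_ne_one_of_duality χ Φ hΦ
  apply DFunLike.ext
  intro s
  have h1 := hf (symE (Fin.last m) (s / (Y : Matrix (Fin (m + 1)) (Fin (m + 1)) F) (Fin.last m) (Fin.last m)))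
  rw [hfix, hΦ, trace_symE_mul, div_mul_cancel₀ _ hne] at h1
  have h2 : (χ s - 1) • f = 0 := by
    rw [sub_smul, one_smul, ← h1, sub_self]
  rcases smul_eq_zero.1 h2 with h3 | h3
  · rw [AddChar.one_apply]
    exact sub_eq_zero.1 h3
  · exact absurd h3 hf0


/-! ### linear algebra: `GL''` is transitive on the rank-one matrices `0 ⊕ Y''` of one orbit -/

theorem ext0_of_last_eq_zero (v : Fin (m + 1) → F) (hv : v (Fin.last m) = 0) :
    v = ext0 (fun i => v (Fin.castSucc i)) := by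
  funext i
  refine Fin.lastCases ?_ (fun i' => ?_) i
  · rw [ext0_last, hv]
  · rw [ext0_castSucc]

theorem blk_mulVec_ext0 (A : Matrix (Fin m) (Fin m) F) (r : Fin m → F) :
    blk A 1 *ᵥ ext0 r = ext0 (A *ᵥ r) := by
  funext i
  refine Fin.lastCases ?_ (fun i' => ?_) i
  · rw [blk_mulVec_last, ext0_last, ext0_last, mul_zero]
  · rw [blk_mulVec_castSucc, ext0_castSucc]
    have h : (ext0 r ∘ Fin.castSucc : Fin m → F) = r := by
      funext j
      simp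
    rw [h]

theorem smul_vecMulVec_last (c : F) (v : Fin (m + 1) → F) :
    (c • Matrix.vecMulVec v v) (Fin.last m) (Fin.last m) = c * (v (Fin.last m) * v (Fin.last m)) := by
  rw [Matrix.smul_apply, Matrix.vecMulVec_apply, smul_eq_mul]

theorem exists_glPP_cact (Y1 Y2 : Symm (m + 1) F) (hY1 : Y1 ≠ 0) (hY2 : Y2 ≠ 0)
    (c : F) (v : Fin (m + 1) → F)
    (h1 : (Y1 : Matrix (Fin (m + 1)) (Fin (m + 1)) F) = c • Matrix.vecMulVec v v)
    (g : GL (Fin (m + 1)) F) (h2 : Y2 = cact g Y1)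
    (h10 : (Y1 : Matrix (Fin (m + 1)) (Fin (m + 1)) F) (Fin.last m) (Fin.last m) = 0)
    (h20 : (Y2 : Matrix (Fin (m + 1)) (Fin (m + 1)) F) (Fin.last m) (Fin.last m) = 0) :
    ∃ γ : GL (Fin m) F, cact (glPP γ) Y2 = Y1 := by
  have hc : c ≠ 0 := by
    rintro rfl
    apply hY1
    apply Subtype.ext
    rw [h1, zero_smul]
    rfl
  -- the second matrix is `c v' v'ᵀ`
  set v' : Fin (m + 1) → F := g.1ᵀ *ᵥ v with hv'
  have h2' : (Y2 : Matrix (Fin (m + 1)) (Fin (m + 1)) F) = c • Matrix.vecMulVec v' v' := by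
    rw [h2, cact_val, h1, Matrix.mul_smul, Matrix.smul_mul, Matrix.mul_vecMulVec, Matrix.vecMulVec_mul,
      ← Matrix.mulVec_transpose]
  have hv0 : v (Fin.last m) = 0 := by
    rw [h1, smul_vecMulVec_last] at h10
    rcases mul_eq_zero.1 h10 with h | h
    · exact absurd h hc
    · exact mul_self_eq_zero.1 h
  have hv'0 : v' (Fin.last m) = 0 := by
    rw [h2', smul_vecMulVec_last] at h20
    rcases mul_eq_zero.1 h20 with h | h
    · exact absurd h hc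
    · exact mul_self_eq_zero.1 h
  set r : Fin m → F := fun i => v (Fin.castSucc i) with hr
  set r' : Fin m → F := fun i => v' (Fin.castSucc i) with hr'
  have hvr : v = ext0 r := ext0_of_last_eq_zero v hv0
  have hvr' : v' = ext0 r' := ext0_of_last_eq_zero v' hv'0
  have hr0 : r ≠ 0 := by
    intro h
    apply hY1
    apply Subtype.ext
    rw [h1, hvr, h, ext0_zero]
    simp
  have hr'0 : r' ≠ 0 := by
    intro h
    apply hY2
    apply Subtype.ext
    rw [h2', hvr', h, ext0_zero]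
    simp
  obtain ⟨h, hh⟩ := Cfsg.Agent.Lib.H16.Weil.exists_gl_map r r' hr0 hr'0
  refine ⟨Cfsg.Agent.Lib.H8.TZ.glT h, ?_⟩
  apply Subtype.ext
  have hT : ((glPP (Cfsg.Agent.Lib.H8.TZ.glT h) : GL (Fin (m + 1)) F).1)ᵀ = blk h.1 1 := by
    rw [glPP_val, blk_transpose, Cfsg.Agent.Lib.H8.TZ.glT_val, Matrix.transpose_transpose]
  have hmv : ((glPP (Cfsg.Agent.Lib.H8.TZ.glT h) : GL (Fin (m + 1)) F).1)ᵀ *ᵥ v' = v := by
    rw [hT, hvr', blk_mulVec_ext0, hh, ← hvr]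
  rw [cact_val, h2', h1, Matrix.mul_smul, Matrix.smul_mul, Matrix.mul_vecMulVec, Matrix.vecMulVec_mul,
    ← Matrix.mulVec_transpose, hmv]


/-! ### the decomposition `X = (last row and column) + (old block)` -/

theorem sub_symExt_symRes_mem_symA (X : Symm (m + 1) F) : X - symExt (symRes X) ∈ symA m F := by
  intro i j
  rw [AddSubgroup.coe_sub, Matrix.sub_apply, symExt_val, blk_cc]
  show (X : Matrix (Fin (m + 1)) (Fin (m + 1)) F) (Fin.castSucc i) (Fin.castSucc j) -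
    ((X : Matrix (Fin (m + 1)) (Fin (m + 1)) F).submatrix Fin.castSucc Fin.castSucc) i j = 0
  rw [Matrix.submatrix_apply, sub_self]

/-! ### `A_u` preserves the eigenlines of `C0` -/

include hΦ in
/-- a `Q`-eigenvector for `Y` with `Y_** = 0` is fixed by `U1` -/
theorem fix_U1_of_last_eq_zero (Y : Symm (m + 1) F)
    (hY : (Y : Matrix (Fin (m + 1)) (Fin (m + 1)) F) (Fin.last m) (Fin.last m) = 0) (f : W)
    (hf : ∀ X, rW (tEl X) f = Φ Y X • f) : ∀ u ∈ U1 m F, rW u f = f := by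
  intro u hu
  obtain ⟨c, rfl⟩ := mem_U1.1 hu
  rw [hf, hΦ, trace_symE_mul, hY, mul_zero, AddChar.map_zero_eq_one, one_smul]

include hΦ in
theorem Au_mem_range (p0 : Module.End ℂ W) (hp0 : p0 * p0 = p0)
    (hp0of : ∀ x, (∀ u ∈ U1 m F, rW u x = x) → p0 x = x)
    (hp0S : ∀ s ∈ Ss m F, p0 * rW s = rW s * p0)
    (hCH : ∀ x, p0 x = x → ∀ h ∈ As m F, rW h x = x)
    (u : Sp (m + 1) F) (hu : u ∈ U1m m F) (Y : Symm (m + 1) F)
    (hY : (Y : Matrix (Fin (m + 1)) (Fin (m + 1)) F) (Fin.last m) (Fin.last m) = 0)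
    (f : W) (hf : f ∈ LinearMap.range (PY Φ rW Y)) :
    p0 (rW u f) ∈ LinearMap.range (PY Φ rW Y) := by
  by_cases hf0 : f = 0
  · subst hf0
    rw [map_zero, map_zero]
    exact Submodule.zero_mem _
  have hfe : ∀ X, rW (tEl X) f = Φ Y X • f := (mem_range_PY_iff Φ rW Y f).1 hf
  have hfU : ∀ u' ∈ U1 m F, rW u' f = f := fix_U1_of_last_eq_zero χ Φ hΦ rW Y hY f hfe
  have hfp : p0 f = f := hp0of f hfU
  -- the character is trivial on `symA`
  have hA1 : ∀ Xa ∈ symA m F, Φ Y Xa = 1 := by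
    intro Xa hXa
    have h1 := hCH f hfp (tEl Xa) (mem_As.2 ⟨Xa, hXa, rfl⟩)
    rw [hfe] at h1
    have h2 : (Φ Y Xa - 1) • f = 0 := by
      rw [sub_smul, one_smul, h1, sub_self]
    rcases smul_eq_zero.1 h2 with h3 | h3
    · exact sub_eq_zero.1 h3
    · exact absurd h3 hf0
  set g : W := p0 (rW u f) with hg
  have hgp : p0 g = g := by
    rw [hg]
    have := LinearMap.congr_fun hp0 (rW u f)
    exact this
  rw [mem_range_PY_iff]
  intro X
  set Xa : Symm (m + 1) F := X - symExt (symRes X) with hXa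
  have hXaA : Xa ∈ symA m F := sub_symExt_symRes_mem_symA X
  have hX : X = Xa + symExt (symRes X) := by
    rw [hXa, sub_add_cancel]
  have hq : (tEl (symExt (symRes X)) : Sp (m + 1) F) ∈ Ss m F :=
    Qpp_le_Ss (mem_Qpp.2 ⟨_, symExt_mem_symPP _, rfl⟩)
  have hcomm : (tEl (symExt (symRes X)) : Sp (m + 1) F) * u = u * tEl (symExt (symRes X)) :=
    Ss_comm_K1 hq (U1m_le_K1 hu)
  have h1 : rW (tEl (symExt (symRes X))) g = Φ Y (symExt (symRes X)) • g := by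
    rw [hg]
    have e1 := LinearMap.congr_fun (hp0S _ hq) (rW u f)
    rw [Module.End.mul_apply, Module.End.mul_apply] at e1
    rw [← e1, ← Module.End.mul_apply (rW _) (rW u), ← map_mul, hcomm, map_mul, Module.End.mul_apply, hfe,
      map_smul, map_smul]
  have h2 : rW (tEl Xa) g = g := hCH g hgp (tEl Xa) (mem_As.2 ⟨Xa, hXaA, rfl⟩)
  have h3 : Φ Y X = Φ Y (symExt (symRes X)) := by
    conv_lhs => rw [hX]
    rw [AddChar.map_add_eq_mul, hA1 Xa hXaA, one_mul]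
  conv_lhs => rw [hX]
  rw [tEl_add, map_mul, Module.End.mul_apply, h1, map_smul, h2, h3]


/-! ### the main statement -/

include hΦ in
/-- **(HSCAL)**: the hypothesis `hscal` of `Cfsg.Agent.Lib.H20.UGlue.glue`.
`p0` is any idempotent whose fixed points are exactly the `U1`-fixed vectors and which commutes with `S`;
`E` is any submodule on which the `Q`-fixed component vanishes. -/
theorem hscal
    (hR1 : Cfsg.Agent.Lib.H8.TZ.R1 Φ rW)
    (hw2 : ∀ Y : Symm (m + 1) F, Module.finrank ℂ (LinearMap.range (PY Φ rW Y)) ≤ 1)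
    (hw3 : ∀ Y Y' : Symm (m + 1) F, Y ≠ 0 → Y' ≠ 0 → PY Φ rW Y ≠ 0 → PY Φ rW Y' ≠ 0 → Y' ∈ orbS Y)
    (p0 : Module.End ℂ W) (hp0 : p0 * p0 = p0)
    (hp0fix : ∀ x, p0 x = x → ∀ u ∈ U1 m F, rW u x = x)
    (hp0of : ∀ x, (∀ u ∈ U1 m F, rW u x = x) → p0 x = x)
    (hp0S : ∀ s ∈ Ss m F, p0 * rW s = rW s * p0)
    (hCH : ∀ x, p0 x = x → ∀ h ∈ As m F, rW h x = x)
    (E : Submodule ℂ W) (hE : ∀ c ∈ E, PY Φ rW 0 c = 0) :
    ∀ u ∈ U1m m F, ∃ α : ℂ, ∀ c ∈ E, p0 c = c → p0 (rW u c) = α • c := by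
  classical
  intro u hu
  -- the index set: the support matrices `Y ≠ 0` with `Y_** = 0`
  let I : Type _ := {Y : Symm (m + 1) F // Y ≠ 0 ∧
    (Y : Matrix (Fin (m + 1)) (Fin (m + 1)) F) (Fin.last m) (Fin.last m) = 0 ∧ PY Φ rW Y ≠ 0}
  let Mi : I → Submodule ℂ W := fun i => LinearMap.range (PY Φ rW i.1)
  let M : Submodule ℂ W := LinearMap.ker (PY Φ rW 0) ⊓ LinearMap.ker (p0 - 1)
  let A : W →ₗ[ℂ] W := p0 * rW u
  let act : GL (Fin m) F → W →ₗ[ℂ] W := fun γ => rW (lEl (glPP γ))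
  have hMmem : ∀ c, c ∈ M ↔ PY Φ rW 0 c = 0 ∧ p0 c = c := by
    intro c
    show c ∈ LinearMap.ker (PY Φ rW 0) ⊓ LinearMap.ker (p0 - 1) ↔ _
    rw [Submodule.mem_inf, LinearMap.mem_ker, LinearMap.mem_ker, LinearMap.sub_apply, Module.End.one_apply,
      sub_eq_zero]
  -- the eigenprojections commute with `Q`
  have hPYQ : ∀ (Y X : Symm (m + 1) F) (x : W), PY Φ rW Y (rW (tEl X) x) = rW (tEl X) (PY Φ rW Y x) := by
    intro Y X x
    have h := RepChar.commute_proj rW tEl (Φ Y) (g := tEl X) (fun X' => by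
      rw [← tEl_add, ← tEl_add, add_comm X X'])
    exact (LinearMap.congr_fun h x).symm
  have hspan : M ≤ ⨆ i, Mi i := by
    intro c hc
    obtain ⟨hc0, hcp⟩ := (hMmem c).1 hc
    have hsum : ∑ Y : Symm (m + 1) F, PY Φ rW Y c = c := by
      have h1 := RepChar.sum_proj rW tEl tEl_add
      have h2 := LinearMap.congr_fun h1 c
      rw [LinearMap.sum_apply, Module.End.one_apply] at h2
      let _ : Fintype (AddChar (Symm (m + 1) F) ℂ) := inferInstance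
      rw [← Equiv.sum_comp Φ (fun ψ => RepChar.proj rW tEl ψ c)] at h2
      exact h2
    rw [← hsum]
    apply Submodule.sum_mem
    intro Y _
    by_cases hf0 : PY Φ rW Y c = 0
    · rw [hf0]
      exact Submodule.zero_mem _
    have hY0 : Y ≠ 0 := by
      rintro rfl
      exact hf0 hc0
    have hPY : PY Φ rW Y ≠ 0 := by
      intro h
      apply hf0
      rw [h, LinearMap.zero_apply]
    have hfe : ∀ X, rW (tEl X) (PY Φ rW Y c) = Φ Y X • PY Φ rW Y c :=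
      (mem_range_PY_iff Φ rW Y _).1 ⟨c, rfl⟩
    have hfix : ∀ t : F, rW (tEl (symE (Fin.last m) t)) (PY Φ rW Y c) = PY Φ rW Y c := by
      intro t
      rw [← hPYQ, hp0fix c hcp _ (mem_U1.2 ⟨t, rfl⟩)]
    have hYs := last_eq_zero_of_fix χ Φ hΦ rW Y _ hf0 hfe hfix
    exact Submodule.mem_iSup_of_mem (⟨Y, hY0, hYs, hPY⟩ : I) ⟨c, rfl⟩
  have hdim : ∀ i, Module.finrank ℂ (Mi i) ≤ 1 := fun i => hw2 i.1
  have hA : ∀ i, ∀ x ∈ Mi i, A x ∈ Mi i := by
    intro i x hx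
    exact Au_mem_range χ Φ hΦ rW p0 hp0 hp0of hp0S hCH u hu i.1 i.2.2.1 x hx
  have hcomm : ∀ γ i, ∀ x ∈ Mi i, A (act γ x) = act γ (A x) := by
    intro γ i x _
    have hs : (lEl (glPP γ) : Sp (m + 1) F) ∈ Ss m F := GLpp_le_Ss (mem_GLpp.2 ⟨γ, rfl⟩)
    have hc : (lEl (glPP γ) : Sp (m + 1) F) * u = u * lEl (glPP γ) := Ss_comm_K1 hs (U1m_le_K1 hu)
    show p0 (rW u (rW (lEl (glPP γ)) x)) = rW (lEl (glPP γ)) (p0 (rW u x))
    have e1 := LinearMap.congr_fun (hp0S _ hs) (rW u x)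
    rw [Module.End.mul_apply, Module.End.mul_apply] at e1
    rw [← e1, ← Module.End.mul_apply (rW u), ← map_mul, ← hc, map_mul, Module.End.mul_apply]
  have htrans : ∀ i j : I, ∃ γ, ∀ x ∈ Mi j, ∃ x' ∈ Mi i, x = act γ x' := by
    intro i j
    obtain ⟨c, v, hcv⟩ := hR1 i.1 i.2.2.2
    obtain ⟨g, hg⟩ := (mem_orbS i.1 j.1).1 (hw3 i.1 j.1 i.2.1 j.2.1 i.2.2.2 j.2.2.2)
    obtain ⟨γ, hγ⟩ := exists_glPP_cact i.1 j.1 i.2.1 j.2.1 c v hcv g hg i.2.2.1 j.2.2.1
    refine ⟨γ, fun x hx => ⟨rW (lEl (glPP γ)⁻¹) x, ?_, ?_⟩⟩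
    · show rW (lEl (glPP γ)⁻¹) x ∈ LinearMap.range (PY Φ rW i.1)
      obtain ⟨y, rfl⟩ := hx
      refine ⟨rW (lEl (glPP γ)⁻¹) y, ?_⟩
      have h1 := PY_cact χ Φ hΦ rW (glPP γ) j.1
      rw [hγ] at h1
      rw [h1, Module.End.mul_apply, Module.End.mul_apply, ← Module.End.mul_apply (rW (lEl (glPP γ))),
        ← map_mul, ← Cfsg.Agent.Lib.H8.TZ.lEl_mul, mul_inv_cancel, Cfsg.Agent.Lib.H8.TZ.lEl_one, map_one,
        Module.End.one_apply]
    · show x = rW (lEl (glPP γ)) (rW (lEl (glPP γ)⁻¹) x)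
      rw [← Module.End.mul_apply, ← map_mul, ← Cfsg.Agent.Lib.H8.TZ.lEl_mul, mul_inv_cancel,
        Cfsg.Agent.Lib.H8.TZ.lEl_one, map_one, Module.End.one_apply]
  obtain ⟨α, hα⟩ := Cfsg.Agent.Lib.H20.UGlue.scalar_of_transitive M A Mi hspan hdim hA act hcomm htrans
  refine ⟨α, fun c hcE hcp => ?_⟩
  exact hα c ((hMmem c).2 ⟨hE c hcE, hcp⟩)

end Cfsg.Agent.Lib.H19.TZ
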