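import Mathlib
import Cfsg.Agent.Lib.H24.CharKer
import Cfsg.Agent.Lib.L0.CharOps
import Cfsg.Agent.Lib.L0.CharBasic

/-!
# S1951 piece F1 / INT (helper19)

Let `P` be a subgroup of the finite group `G` of order `t ≥ 2` all of whose non-identity elements are conjugate
in `G` to a fixed element `a`, and `χ` a character of `G`.  Then `χ a` is a rational integer `d`, and
`χ 1 = d + m t` for an integer `m`; if `χ a ≠ χ 1` then `m ≥ 1`.  For a simple non-abelian group and a
non-trivial irreducible character, `χ a ≠ χ 1` for `a ≠ 1`.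
-/

set_option autoImplicit false

namespace Cfsg.Agent.Lib.H19.AE

open Cfsg Cfsg.Agent.Lib.L0 Cfsg.Agent.Lib.H24
open scoped ComplexConjugate

variable {G : Type*} [Group G] [Finite G]

set_option linter.unusedSectionVars false
set_option linter.style.haveILetI false

/-- Rational algebraic integers are integers. -/
theorem ae_int_of_isIntegral_of_rat {z : ℂ} (hz : IsIntegral ℤ z) (q : ℚ) (hq : z = q) :
    ∃ n : ℤ, z = n := by
  rw [hq] at hz
  have h2 : IsIntegral ℤ q := (isIntegral_algebraMap_iff (algebraMap ℚ ℂ).injective).mp hz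
  obtain ⟨n, hn⟩ := IsIntegrallyClosed.isIntegral_iff.mp h2
  exact ⟨n, by rw [hq, ← hn]; simp⟩

/-- The sum of a character over a subgroup is a natural multiple of the order of the subgroup. -/
theorem ae_sum_subgroup_eq_card_mul (P : Subgroup G) [Fintype P] {χ : G → ℂ} (hχ : IsCharacter G χ) :
    ∃ n : ℕ, ∑ x : P, χ (x : G) = (Nat.card P : ℂ) * n := by
  obtain ⟨n, hn⟩ := classInner_char_irr_nat (isCharacter_restrict P hχ) (L0.isIrrCharacter_one (G := P))
  refine ⟨n, ?_⟩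
  have hR : (Nat.card P : ℂ) ≠ 0 := by exact_mod_cast (Nat.card_pos (α := P)).ne'
  unfold classInner at hn
  simp only [Pi.one_apply, map_one, mul_one] at hn
  rw [← hn, ← mul_assoc, mul_inv_cancel₀ hR, one_mul]

/-- The sum of a character over `P`, when all non-identity elements of `P` are conjugate to `a`. -/
theorem ae_sum_subgroup_eq (P : Subgroup G) [Fintype P] (a : G)
    (hconj : ∀ x ∈ P, x ≠ 1 → IsConj a x) {χ : G → ℂ} (hχ : IsCharacter G χ) :
    ∑ x : P, χ (x : G) = χ 1 + ((Nat.card P : ℂ) - 1) * χ a := by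
  classical
  have hcf := isClassFunction_of_isCharacter hχ
  have hval : ∀ x : P, x ≠ 1 → χ (x : G) = χ a := by
    intro x hx
    have hx' : (x : G) ≠ 1 := fun h => hx (Subtype.ext h)
    obtain ⟨c, hc⟩ := isConj_iff.mp (hconj x x.2 hx')
    rw [← hc]
    exact hcf a c
  rw [← Finset.add_sum_erase Finset.univ (fun x : P => χ (x : G)) (Finset.mem_univ (1 : P))]
  congr 1
  rw [Finset.sum_congr rfl (fun x hx => hval x (Finset.ne_of_mem_erase hx)), Finset.sum_const,
    Finset.card_erase_of_mem (Finset.mem_univ _), Finset.card_univ, nsmul_eq_mul,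
    Nat.card_eq_fintype_card]
  have h1 : 1 ≤ Fintype.card P := Fintype.card_pos
  rw [Nat.cast_sub h1]
  simp

/-- **F1 / INT**: `χ a` is an integer `d`, and `χ 1 = d + m |P|` with `m` an integer, `m ≥ 1` if `χ a ≠ χ 1`. -/
theorem ae_int (P : Subgroup G) (hP : 2 ≤ Nat.card P) (a : G)
    (hconj : ∀ x ∈ P, x ≠ 1 → IsConj a x) {χ : G → ℂ} (hχ : IsCharacter G χ) :
    ∃ d m : ℤ, χ a = d ∧ χ 1 = d + m * (Nat.card P : ℤ) ∧ (χ a ≠ χ 1 → 1 ≤ m) := by
  classical
  haveI : Fintype P := Fintype.ofFinite P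
  set t : ℕ := Nat.card P with ht
  obtain ⟨n, hn⟩ := ae_sum_subgroup_eq_card_mul P hχ
  rw [ae_sum_subgroup_eq P a hconj hχ] at hn
  obtain ⟨N, hN⟩ := isCharacter_apply_one hχ
  have ht1 : ((t : ℂ) - 1) ≠ 0 := by
    have : (2 : ℝ) ≤ (t : ℝ) := by exact_mod_cast hP
    intro h
    have h' : (t : ℂ) = 1 := by linear_combination h
    have : (t : ℕ) = 1 := by exact_mod_cast h'
    omega
  -- `χ a` is rational
  have hq : χ a = (((t : ℚ) * n - N) / ((t : ℚ) - 1) : ℚ) := by
    have h1 : ((t : ℂ) - 1) * χ a = (t : ℂ) * n - N := by rw [← hn, hN]; ring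
    push_cast
    rw [eq_div_iff ht1]
    linear_combination h1
  obtain ⟨d, hd⟩ := ae_int_of_isIntegral_of_rat (isCharacter_isIntegral hχ a) _ hq
  -- `χ 1 = d + (n - d) t`
  have h1 : χ 1 = d + ((n : ℤ) - d : ℤ) * (t : ℤ) := by
    have h2 : χ 1 + ((t : ℂ) - 1) * (d : ℂ) = (t : ℂ) * n := by rw [← hd]; exact hn
    push_cast
    linear_combination h2
  refine ⟨d, (n : ℤ) - d, hd, h1, ?_⟩
  intro hne
  -- `d ≤ N` and `d ≠ N`, so `N - d = (n - d) t > 0`
  have hle : ‖χ a‖ ≤ ‖χ 1‖ := isCharacter_norm_le hχ a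
  rw [hd, hN] at hle
  have hle' : |(d : ℝ)| ≤ (N : ℝ) := by
    have e1 : ‖((d : ℤ) : ℂ)‖ = |(d : ℝ)| := by
      rw [show ((d : ℤ) : ℂ) = ((d : ℝ) : ℂ) by push_cast; rfl, Complex.norm_real, Real.norm_eq_abs]
    have e2 : ‖((N : ℕ) : ℂ)‖ = (N : ℝ) := by
      rw [show ((N : ℕ) : ℂ) = ((N : ℝ) : ℂ) by push_cast; rfl, Complex.norm_real, Real.norm_eq_abs,
        abs_of_nonneg (Nat.cast_nonneg N)]
    rw [e1, e2] at hle
    exact hle
  have hdN : d ≤ (N : ℤ) := by
    have : (d : ℝ) ≤ (N : ℝ) := le_trans (le_abs_self _) hle'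
    exact_mod_cast this
  have hdN' : d ≠ (N : ℤ) := by
    intro h
    apply hne
    rw [hd, hN, h]
    push_cast
    rfl
  have hZ : (N : ℤ) = d + ((n : ℤ) - d) * (t : ℤ) := by
    have : ((N : ℤ) : ℂ) = ((d + ((n : ℤ) - d) * (t : ℤ) : ℤ) : ℂ) := by
      have h3 := h1
      rw [hN] at h3
      push_cast at h3 ⊢
      exact h3
    exact_mod_cast this
  have hpos : 0 < ((n : ℤ) - d) * (t : ℤ) := by
    have : d < (N : ℤ) := lt_of_le_of_ne hdN hdN'
    linarith
  have htpos : (0 : ℤ) < (t : ℤ) := by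
    have : 0 < t := by omega
    exact_mod_cast this
  have : 0 < (n : ℤ) - d := by
    by_contra hcon
    push Not at hcon
    have := mul_nonpos_of_nonpos_of_nonneg hcon htpos.le
    linarith
  omega

/-- In a simple group a non-trivial irreducible character is faithful: `χ a ≠ χ 1` for `a ≠ 1`. -/
theorem ae_ne_of_simple [IsSimpleGroup G] {χ : G → ℂ} (hχ : IsIrrCharacter G χ)
    (hne : χ ≠ fun _ => 1) {a : G} (ha : a ≠ 1) : χ a ≠ χ 1 := by
  intro h
  have hmem : a ∈ charKer χ (isCharacter_of_irr hχ) := mem_charKer.mpr h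
  rcases (charKer_normal χ (isCharacter_of_irr hχ)).eq_bot_or_eq_top with hb | ht
  · rw [hb, Subgroup.mem_bot] at hmem
    exact ha hmem
  · exact hne (irr_eq_trivial_of_charKer_eq_top hχ ht)

/-- **F1 / INT**, packaged for a simple group: for every irreducible character `χ` there are integers `d`, `m`
with `χ a = d`, `χ 1 = d + m |P|`, and `1 ≤ m` unless `χ` is the trivial character. -/
theorem ae_int_simple [IsSimpleGroup G] (P : Subgroup G) (hP : 2 ≤ Nat.card P) (a : G) (ha : a ≠ 1)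
    (hconj : ∀ x ∈ P, x ≠ 1 → IsConj a x) {χ : G → ℂ} (hχ : IsIrrCharacter G χ) :
    ∃ d m : ℤ, χ a = d ∧ χ 1 = d + m * (Nat.card P : ℤ) ∧ ((χ ≠ fun _ => 1) → 1 ≤ m) := by
  obtain ⟨d, m, hd, h1, hm⟩ := ae_int P hP a hconj (isCharacter_of_irr hχ)
  exact ⟨d, m, hd, h1, fun hne => hm (ae_ne_of_simple hχ hne ha)⟩

end Cfsg.Agent.Lib.H19.AE
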