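import Mathlib

/-!
# S4150, piece N1 (helper19): for `m ≥ 17` there are primes `p < q` in `(m/2, m]` with `q - p ≥ 4`

* `three_le_card_bprimes`: for `n ≥ 2048` there are at least three primes in `(n, 2n]`.  This is Mathlib's proof
  of Bertrand's postulate (`Mathlib/NumberTheory/Bertrand.lean`, Stevens–Bailey, after Erdős / Tochiori) re-run
  with the extra factor `(2n)^2` for the (at most two) primes of `(n, 2n]`: the real inequality
  `x (2x)^(√(2x)+2) 4^(2x/3) ≤ 4^x` holds from `2048` on by the same concavity argument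
  (`f 18 ≥ 0 ≥ f 2048`, the latter being `2^803 ≤ 2^(4096/3)`).
* three odd numbers contain two at distance `≥ 4`;
* below `4096` an explicit chain of 17 pairs of primes.
-/

set_option autoImplicit false

namespace Cfsg.Agent.Lib.H19.AG

section R
open Real

/-- The real inequality behind "three primes in `(n, 2n]`": Mathlib's `Bertrand.real_main_inequality`
with the exponent `√(2x)` replaced by `√(2x) + 2`, valid from `2048` on (same concavity proof). -/
theorem real_main_inequality_three {x : ℝ} (x_large : (2048 : ℝ) ≤ x) :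
    x * (2 * x) ^ (√(2 * x) + 2) * 4 ^ (2 * x / 3) ≤ 4 ^ x := by
  let f : ℝ → ℝ := fun x =>
    log x + (√(2 * x) * log (2 * x) + 2 * log (2 * x)) - log 4 / 3 * x
  have hf' : ∀ x, 0 < x → 0 < x * (2 * x) ^ (√(2 * x) + 2) / 4 ^ (x / 3) := fun x h =>
    div_pos (mul_pos h (rpow_pos_of_pos (mul_pos two_pos h) _)) (rpow_pos_of_pos four_pos _)
  have hf : ∀ x, 0 < x → f x = log (x * (2 * x) ^ (√(2 * x) + 2) / 4 ^ (x / 3)) := by
    intro x h5
    have h6 := mul_pos (zero_lt_two' ℝ) h5
    have h7 := rpow_pos_of_pos h6 (√(2 * x) + 2)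
    rw [log_div (mul_pos h5 h7).ne' (rpow_pos_of_pos four_pos _).ne', log_mul h5.ne' h7.ne',
      log_rpow h6, log_rpow zero_lt_four]
    simp only [f]
    ring
  have h5 : 0 < x := lt_of_lt_of_le (by norm_num1) x_large
  rw [← div_le_one (rpow_pos_of_pos four_pos x), ← div_div_eq_mul_div, ← rpow_sub four_pos, ←
    mul_div 2 x, mul_div_left_comm, ← mul_one_sub, (by norm_num1 : (1 : ℝ) - 2 / 3 = 1 / 3),
    mul_one_div, ← log_nonpos_iff (hf' x h5).le, ← hf x h5]
  have hlog2 : ConcaveOn ℝ (Set.Ioi 0.5) (fun x : ℝ => log (2 * x)) := by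
    have := (strictConcaveOn_log_Ioi.concaveOn.comp_linearMap ((2 : ℝ) • LinearMap.id))
    refine (this.subset ?_ (convex_Ioi 0.5))
    intro y hy
    simp only [Set.mem_Ioi, Set.mem_preimage, LinearMap.smul_apply,
      LinearMap.id_coe, id_eq, smul_eq_mul] at hy ⊢
    norm_num at hy
    linarith
  have hsl : ConcaveOn ℝ (Set.Ioi 0.5) (fun x : ℝ => √(2 * x) * log (2 * x)) := by
    have := (strictConcaveOn_sqrt_mul_log_Ioi.concaveOn.comp_linearMap ((2 : ℝ) • LinearMap.id))
    refine (this.subset ?_ (convex_Ioi 0.5))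
    intro y hy
    simp only [Set.mem_Ioi, Set.mem_preimage, LinearMap.smul_apply,
      LinearMap.id_coe, id_eq, smul_eq_mul] at hy ⊢
    norm_num at hy
    linarith
  have h : ConcaveOn ℝ (Set.Ioi 0.5) f := by
    apply ConcaveOn.sub
    · apply ConcaveOn.add
      · exact strictConcaveOn_log_Ioi.concaveOn.subset
          (Set.Ioi_subset_Ioi (by norm_num)) (convex_Ioi 0.5)
      · apply ConcaveOn.add hsl
        exact hlog2.smul (by norm_num)
    apply ConvexOn.smul
    · refine div_nonneg (log_nonneg (by norm_num1)) (by norm_num1)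
    · exact convexOn_id (convex_Ioi (0.5 : ℝ))
  suffices ∃ x1 x2, 0.5 < x1 ∧ x1 < x2 ∧ x2 ≤ x ∧ 0 ≤ f x1 ∧ f x2 ≤ 0 by
    obtain ⟨x1, x2, h1, h2, h0, h3, h4⟩ := this
    exact (h.right_le_of_le_left'' h1 ((h1.trans h2).trans_le h0) h2 h0 (h4.trans h3)).trans h4
  refine ⟨18, 2048, by norm_num1, by norm_num1, x_large, ?_, ?_⟩
  · have : √(2 * 18 : ℝ) = 6 := (sqrt_eq_iff_mul_self_eq_of_pos (by norm_num1)).mpr (by norm_num1)
    rw [hf _ (by norm_num1), log_nonneg_iff (by positivity), this, one_le_div (by norm_num1)]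
    norm_num1
  · have : √(2 * 2048 : ℝ) = 64 :=
      (sqrt_eq_iff_mul_self_eq_of_pos (by norm_num1)).mpr (by norm_num1)
    rw [hf _ (by norm_num1), log_nonpos_iff (hf' _ (by norm_num1)).le, this,
        div_le_one (by positivity)]
    have e1 : (2048 : ℝ) = 2 ^ (11 : ℝ) := by norm_num
    have e2 : (2 * 2048 : ℝ) = 2 ^ (12 : ℝ) := by norm_num
    have e4 : (4 : ℝ) = 2 ^ (2 : ℝ) := by norm_num
    rw [e2, e4, ← rpow_mul (by norm_num), ← rpow_mul (by norm_num)]
    nth_rewrite 1 [e1]
    rw [← rpow_add (by norm_num)]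
    apply rpow_le_rpow_of_exponent_le (by norm_num)
    norm_num


end R


open Nat

/-- The inequality contradicting "at most two primes in `(n, 2n]`", for `n ≥ 2048`. -/
theorem main_inequality_three {n : ℕ} (n_large : 2048 ≤ n) :
    n * (2 * n) ^ (sqrt (2 * n) + 2) * 4 ^ (2 * n / 3) ≤ 4 ^ n := by
  rw [← @cast_le ℝ]
  simp only [cast_mul, cast_pow, ← Real.rpow_natCast, cast_ofNat, cast_add]
  refine _root_.trans ?_ (real_main_inequality_three (by exact_mod_cast n_large))
  gcongr
  · have n2_pos : 0 < 2 * n := by positivity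
    exact mod_cast n2_pos
  · exact_mod_cast Real.nat_sqrt_le_real_sqrt
  · norm_num1
  · exact cast_div_le.trans (by norm_cast)

/-- The part of the factorization of the central binomial coefficient below `2n/3`
(the estimate of Mathlib's `centralBinom_le_of_no_bertrand_prime`, without its hypothesis). -/
theorem prod_small_le (n : ℕ) (n_pos : 0 < n) :
    ∏ p ∈ Finset.range (2 * n / 3 + 1), p ^ (centralBinom n).factorization p ≤
      (2 * n) ^ sqrt (2 * n) * 4 ^ (2 * n / 3) := by
  have n2_pos : 1 ≤ 2 * n := mul_pos (zero_lt_two' ℕ) n_pos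
  let S := {p ∈ Finset.range (2 * n / 3 + 1) | Nat.Prime p}
  let f x := x ^ n.centralBinom.factorization x
  have : ∏ x ∈ S, f x = ∏ x ∈ Finset.range (2 * n / 3 + 1), f x := by
    refine Finset.prod_filter_of_ne fun p _ h => ?_
    contrapose h; dsimp only [f]
    rw [factorization_eq_zero_of_not_prime n.centralBinom h, _root_.pow_zero]
  rw [← this, ← Finset.prod_filter_mul_prod_filter_not S (· ≤ sqrt (2 * n))]
  apply mul_le_mul'
  · refine (Finset.prod_le_prod' fun p _ => (?_ : f p ≤ 2 * n)).trans ?_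
    · exact pow_factorization_choose_le (mul_pos two_pos n_pos)
    have : (Finset.Icc 1 (sqrt (2 * n))).card = sqrt (2 * n) := by rw [card_Icc, Nat.add_sub_cancel]
    rw [Finset.prod_const]
    refine pow_right_mono₀ n2_pos ((Finset.card_le_card fun x hx => ?_).trans this.le)
    obtain ⟨h1, h2⟩ := Finset.mem_filter.1 hx
    exact Finset.mem_Icc.mpr ⟨(Finset.mem_filter.1 h1).2.one_lt.le, h2⟩
  · refine le_trans ?_ (primorial_le_four_pow (2 * n / 3))
    refine (Finset.prod_le_prod' fun p hp => (?_ : f p ≤ p)).trans ?_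
    · obtain ⟨h1, h2⟩ := Finset.mem_filter.1 hp
      refine (pow_right_mono₀ (Finset.mem_filter.1 h1).2.one_lt.le ?_).trans (pow_one p).le
      exact Nat.factorization_choose_le_one (sqrt_lt'.mp <| not_le.1 h2)
    refine Finset.prod_le_prod_of_subset_of_one_le' (Finset.filter_subset _ _) ?_
    exact fun p hp _ => (Finset.mem_filter.1 hp).2.one_lt.le

/-- The primes in `(n, 2n]`. -/
def bprimes (n : ℕ) : Finset ℕ := {p ∈ Finset.Ioc n (2 * n) | Nat.Prime p}

/-- The part of the factorization of the central binomial coefficient above `2n/3`. -/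
theorem prod_large_le (n : ℕ) (n_large : 2 < n) :
    ∏ p ∈ Finset.Ico (2 * n / 3 + 1) (2 * n + 1), p ^ (centralBinom n).factorization p ≤
      (2 * n) ^ (bprimes n).card := by
  have n_pos : 0 < n := by omega
  have hsub : bprimes n ⊆ Finset.Ico (2 * n / 3 + 1) (2 * n + 1) := by
    intro p hp
    simp only [bprimes, Finset.mem_filter, Finset.mem_Ioc] at hp
    simp only [Finset.mem_Ico]
    omega
  rw [← Finset.prod_subset hsub]
  · calc ∏ p ∈ bprimes n, p ^ (centralBinom n).factorization p
        ≤ ∏ _p ∈ bprimes n, (2 * n) :=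
          Finset.prod_le_prod' fun p _ => pow_factorization_choose_le (mul_pos two_pos n_pos)
      _ = (2 * n) ^ (bprimes n).card := by rw [Finset.prod_const]
  · intro x hx hxn
    simp only [Finset.mem_Ico] at hx
    simp only [bprimes, Finset.mem_filter, Finset.mem_Ioc, not_and] at hxn
    by_cases hxp : x.Prime
    · have hxle : x ≤ n := by
        by_contra hcon
        exact hxn ⟨by omega, by omega⟩ hxp
      have h2x : 2 * n < 3 * x := by
        have := (Nat.div_lt_iff_lt_mul three_pos).mp (by omega : 2 * n / 3 < x)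
        omega
      rw [factorization_centralBinom_of_two_mul_self_lt_three_mul n_large hxle h2x, Nat.pow_zero]
    · rw [factorization_eq_zero_of_not_prime n.centralBinom hxp, Nat.pow_zero]

theorem centralBinom_le_of_few_primes (n : ℕ) (n_large : 2 < n) :
    centralBinom n ≤ (2 * n) ^ sqrt (2 * n) * 4 ^ (2 * n / 3) * (2 * n) ^ (bprimes n).card := by
  have n_pos : 0 < n := by omega
  have hsplit : centralBinom n =
      (∏ p ∈ Finset.range (2 * n / 3 + 1), p ^ (centralBinom n).factorization p) *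
        ∏ p ∈ Finset.Ico (2 * n / 3 + 1) (2 * n + 1), p ^ (centralBinom n).factorization p := by
    rw [Finset.range_eq_Ico, Finset.prod_Ico_consecutive _ (Nat.zero_le _) (by omega),
      ← Finset.range_eq_Ico]
    exact (n.prod_pow_factorization_centralBinom).symm
  calc centralBinom n = _ := hsplit
    _ ≤ _ := Nat.mul_le_mul (prod_small_le n n_pos) (prod_large_le n n_large)

/-- For `n ≥ 2048` there are at least three primes in `(n, 2n]`. -/
theorem three_le_card_bprimes (n : ℕ) (n_large : 2048 ≤ n) : 3 ≤ (bprimes n).card := by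
  have no_prime : 4 ^ n < n * n.centralBinom :=
    Nat.four_pow_lt_mul_centralBinom n (le_trans (by norm_num1) n_large)
  by_contra hcon
  have hc : (bprimes n).card ≤ 2 := by omega
  have h1 := centralBinom_le_of_few_primes n (by omega)
  have h2 : (2 * n) ^ (bprimes n).card ≤ (2 * n) ^ 2 :=
    Nat.pow_le_pow_right (by omega) hc
  have h3 : n * n.centralBinom ≤ n * (2 * n) ^ (sqrt (2 * n) + 2) * 4 ^ (2 * n / 3) := by
    calc n * n.centralBinom
        ≤ n * ((2 * n) ^ sqrt (2 * n) * 4 ^ (2 * n / 3) * (2 * n) ^ 2) :=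
          Nat.mul_le_mul_left _ (h1.trans (Nat.mul_le_mul_left _ h2))
      _ = n * (2 * n) ^ (sqrt (2 * n) + 2) * 4 ^ (2 * n / 3) := by ring
  exact absurd (lt_of_lt_of_le no_prime (h3.trans (main_inequality_three n_large))) (lt_irrefl _)


/-- Among three distinct odd numbers two differ by at least four. -/
theorem exists_gap_of_card (S : Finset ℕ) (hodd : ∀ x ∈ S, x % 2 = 1) (h : 2 < S.card) :
    ∃ p ∈ S, ∃ q ∈ S, p + 4 ≤ q := by
  obtain ⟨a, b, c, ha, hb, hc, hab, hac, hbc⟩ := Finset.two_lt_card_iff.mp h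
  have h1 := hodd a ha
  have h2 := hodd b hb
  have h3 := hodd c hc
  rcases Nat.lt_or_gt_of_ne hab with e1 | e1 <;> rcases Nat.lt_or_gt_of_ne hac with e2 | e2 <;>
    rcases Nat.lt_or_gt_of_ne hbc with e3 | e3 <;>
  first
    | exact ⟨a, ha, b, hb, by omega⟩
    | exact ⟨a, ha, c, hc, by omega⟩
    | exact ⟨b, hb, a, ha, by omega⟩
    | exact ⟨b, hb, c, hc, by omega⟩
    | exact ⟨c, hc, a, ha, by omega⟩
    | exact ⟨c, hc, b, hb, by omega⟩

/-- (N1), large case. -/
theorem exists_primes_gap_large (m : ℕ) (hm : 4096 ≤ m) :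
    ∃ p q : ℕ, p.Prime ∧ q.Prime ∧ m < 2 * p ∧ p + 4 ≤ q ∧ q ≤ m := by
  have hn : 2048 ≤ m / 2 := by omega
  have hcard := three_le_card_bprimes (m / 2) hn
  have hodd : ∀ x ∈ bprimes (m / 2), x % 2 = 1 := by
    intro x hx
    simp only [bprimes, Finset.mem_filter, Finset.mem_Ioc] at hx
    rcases hx.2.eq_two_or_odd with h | h
    · omega
    · exact h
  obtain ⟨p, hp, q, hq, hpq⟩ := exists_gap_of_card _ hodd (by omega)
  simp only [bprimes, Finset.mem_filter, Finset.mem_Ioc] at hp hq
  exact ⟨p, q, hp.2, hq.2, by omega, hpq, by omega⟩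

/-- (N1) number theory: for `m ≥ 17` there are primes `p < q` in `(m/2, m]` with `q - p ≥ 4`. -/
theorem exists_primes_gap (m : ℕ) (hm : 17 ≤ m) :
    ∃ p q : ℕ, p.Prime ∧ q.Prime ∧ m < 2 * p ∧ p + 4 ≤ q ∧ q ≤ m := by
  by_cases h0 : 4096 ≤ m
  · exact exists_primes_gap_large m h0
  by_cases h1 : m ≤ 25
  · exact ⟨13, 17, by norm_num, by norm_num, by omega, by omega, by omega⟩
  by_cases h2 : m ≤ 33
  · exact ⟨17, 23, by norm_num, by norm_num, by omega, by omega, by omega⟩
  by_cases h3 : m ≤ 45
  · exact ⟨23, 29, by norm_num, by norm_num, by omega, by omega, by omega⟩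
  by_cases h4 : m ≤ 61
  · exact ⟨31, 37, by norm_num, by norm_num, by omega, by omega, by omega⟩
  by_cases h5 : m ≤ 85
  · exact ⟨43, 47, by norm_num, by norm_num, by omega, by omega, by omega⟩
  by_cases h6 : m ≤ 121
  · exact ⟨61, 67, by norm_num, by norm_num, by omega, by omega, by omega⟩
  by_cases h7 : m ≤ 165
  · exact ⟨83, 89, by norm_num, by norm_num, by omega, by omega, by omega⟩
  by_cases h8 : m ≤ 225
  · exact ⟨113, 127, by norm_num, by norm_num, by omega, by omega, by omega⟩
  by_cases h9 : m ≤ 313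
  · exact ⟨157, 163, by norm_num, by norm_num, by omega, by omega, by omega⟩
  by_cases h10 : m ≤ 445
  · exact ⟨223, 227, by norm_num, by norm_num, by omega, by omega, by omega⟩
  by_cases h11 : m ≤ 613
  · exact ⟨307, 311, by norm_num, by norm_num, by omega, by omega, by omega⟩
  by_cases h12 : m ≤ 865
  · exact ⟨433, 439, by norm_num, by norm_num, by omega, by omega, by omega⟩
  by_cases h13 : m ≤ 1201
  · exact ⟨601, 607, by norm_num, by norm_num, by omega, by omega, by omega⟩
  by_cases h14 : m ≤ 1713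
  · exact ⟨857, 863, by norm_num, by norm_num, by omega, by omega, by omega⟩
  by_cases h15 : m ≤ 2373
  · exact ⟨1187, 1193, by norm_num, by norm_num, by omega, by omega, by omega⟩
  by_cases h16 : m ≤ 3393
  · exact ⟨1697, 1709, by norm_num, by norm_num, by omega, by omega, by omega⟩
  · exact ⟨3373, 3389, by norm_num, by norm_num, by omega, by omega, by omega⟩


end Cfsg.Agent.Lib.H19.AG
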