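import Mathlib
import Cfsg.Agent.S3917
import Cfsg.Agent.Lib.H19.SylowAux

set_option autoImplicit false

namespace Cfsg.Agent.Lib.H19

open Cfsg.Agent.S3917

/-- A finite abelian group which is not cyclic contains, for some prime `p`, two independent
elements of order `p`. -/
theorem exists_rank_two_of_not_isCyclic {G : Type*} [CommGroup G] [Finite G] (hcyc : ¬ IsCyclic G) :
    ∃ p : ℕ, p.Prime ∧ ∃ x y : G, x ≠ 1 ∧ x ^ p = 1 ∧ y ^ p = 1 ∧ y ∉ Subgroup.zpowers x := by
  have hex : ∃ n : ℕ, 0 < n ∧ n < Nat.card (tors G n) := by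
    by_contra hne
    push Not at hne
    exact hcyc (isCyclic_of_card_tors_le hne)
  classical
  let n := Nat.find hex
  have hn : 0 < n ∧ n < Nat.card (tors G n) := Nat.find_spec hex
  have hnmin : ∀ m : ℕ, m < n → 0 < m → Nat.card (tors G m) ≤ m := by
    intro m hm hm0
    have := Nat.find_min hex hm
    push Not at this
    exact this hm0
  have hn1 : n ≠ 1 := by
    intro h1
    have h2 : tors G 1 = ⊥ := by
      rw [eq_bot_iff]
      intro a ha
      rw [mem_tors, pow_one] at ha
      rw [Subgroup.mem_bot]; exact ha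
    have := hn.2
    rw [h1, h2, Subgroup.card_bot] at this
    omega
  have hp : (n.minFac).Prime := Nat.minFac_prime hn1
  set p := n.minFac with hpdef
  obtain ⟨m, hm⟩ : p ∣ n := Nat.minFac_dvd n
  have hm0 : 0 < m := by
    rcases Nat.eq_zero_or_pos m with h0 | h0
    · rw [h0, mul_zero] at hm; omega
    · exact h0
  have hmn : m < n := by
    rw [hm]; nlinarith [hp.two_le]
  have hKm := hnmin m hmn hm0
  -- the `p`-th power map on `tors G n`
  let f : ↥(tors G n) →* G := (powMonoidHom p : G →* G).comp (tors G n).subtype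
  have hrange : f.range ≤ tors G m := by
    rintro _ ⟨a, rfl⟩
    show ((a : G) ^ p) ∈ tors G m
    rw [mem_tors, ← pow_mul, ← hm]
    exact mem_tors.1 a.2
  have hker : Nat.card f.ker ≤ Nat.card (tors G p) := by
    apply Nat.card_le_card_of_injective (fun a : f.ker => (⟨(a : ↥(tors G n)), by
      have h1 : f (a : ↥(tors G n)) = 1 := a.2
      exact mem_tors.2 h1⟩ : ↥(tors G p)))
    intro a b hab
    have h1 : ((a : ↥(tors G n)) : G) = ((b : ↥(tors G n)) : G) :=
      congrArg (fun t : ↥(tors G p) => (t : G)) hab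
    exact Subtype.ext (Subtype.ext h1)
  have hcard : Nat.card f.ker * Nat.card f.range = Nat.card (tors G n) := by
    rw [← Subgroup.index_ker]
    exact Subgroup.card_mul_index _
  have hle : Nat.card f.range ≤ m := (Subgroup.card_le_of_le hrange).trans hKm
  have hKp : p < Nat.card (tors G p) := by
    by_contra hcon
    push Not at hcon
    have : Nat.card (tors G n) ≤ p * m := by
      rw [← hcard]; exact Nat.mul_le_mul (hker.trans hcon) hle
    have := hn.2
    omega
  refine ⟨p, hp, ?_⟩
  -- pick `x ≠ 1` in `tors G p`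
  have hnt : Nontrivial ↥(tors G p) := by
    rw [← Finite.one_lt_card_iff_nontrivial]
    have := hp.one_lt; omega
  obtain ⟨x, hx1⟩ := exists_ne (1 : ↥(tors G p))
  have hxp : (x : G) ^ p = 1 := mem_tors.1 x.2
  have hx1' : (x : G) ≠ 1 := fun h => hx1 (Subtype.ext h)
  have hxo : orderOf (x : G) = p := by
    rcases (Nat.dvd_prime hp).1 (orderOf_dvd_of_pow_eq_one hxp) with h | h
    · exact absurd (orderOf_eq_one_iff.1 h) hx1'
    · exact h
  have hZle : Subgroup.zpowers (x : G) ≤ tors G p := Subgroup.zpowers_le.2 x.2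
  have hZne : Subgroup.zpowers (x : G) ≠ tors G p := by
    intro h
    have := hKp
    rw [← h, Nat.card_zpowers, hxo] at this
    omega
  obtain ⟨y, hyT, hyZ⟩ := SetLike.exists_of_lt (lt_of_le_of_ne hZle hZne)
  exact ⟨x, y, hx1', hxp, mem_tors.1 hyT, hyZ⟩

end Cfsg.Agent.Lib.H19
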