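import Cfsg.Agent.Lib.H19.SylowAux
import Mathlib.GroupTheory.Nilpotent
import Mathlib.GroupTheory.Subgroup.Simple

set_option autoImplicit false

namespace Cfsg.Agent.Lib.H19

variable {G : Type*} [Group G]

/-- a finite simple `p`-group is commutative -/
theorem isMulCommutative_of_simple_pgroup {T : Type*} [Group T] [Finite T] (hT : IsSimpleGroup T)
    {p : ℕ} [Fact p.Prime] (h : IsPGroup p T) : IsMulCommutative T := by
  have := hT
  have : Group.IsNilpotent T := h.isNilpotent
  have : ∀ a b : T, a * b = b * a := fun a b => mul_comm a b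
  exact ⟨⟨this⟩⟩

/-- Frattini data for an almost simple group: with `D = R ⊓ T`, `N_G(D) T = G`, `R ≤ N_G(D)`,
`N_G(R) ≤ N_G(D)` and `N_G(D) ≠ G`. -/
theorem frattini_data [Finite G] (T : Subgroup G) [T.Normal] (hT : IsSimpleGroup T)
    (hna : ¬ IsMulCommutative T) {r : ℕ} [Fact r.Prime] (R : Sylow r G)
    (hR0 : (R : Subgroup G) ⊓ T ≠ ⊥) :
    Subgroup.normalizer (((R : Subgroup G) ⊓ T : Subgroup G) : Set G) ⊔ T = ⊤ ∧
    Subgroup.normalizer ((R : Subgroup G) : Set G) ≤
      Subgroup.normalizer (((R : Subgroup G) ⊓ T : Subgroup G) : Set G) ∧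
    Subgroup.normalizer (((R : Subgroup G) ⊓ T : Subgroup G) : Set G) ≠ ⊤ := by
  set D : Subgroup G := (R : Subgroup G) ⊓ T with hD
  have hTn : T.Normal := inferInstance
  have hDp : IsPGroup r D := R.isPGroup'.to_inf_left
  have hDp' : IsPGroup r (D.subgroupOf T) := hDp.comap_subtype
  have hrel : ¬ r ∣ (D.subgroupOf T).index := not_dvd_relIndex_inf_normal R T
  let P₀ : Sylow r T := hDp'.toSylow hrel
  have hP₀ : ((P₀ : Subgroup T).map T.subtype) = D := by
    show (D.subgroupOf T).map T.subtype = D
    rw [Subgroup.subgroupOf_map_subtype, inf_eq_left]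
    exact inf_le_right
  refine ⟨?_, ?_, ?_⟩
  · have := Sylow.normalizer_sup_eq_top P₀
    rwa [hP₀] at this
  · intro g hg
    rw [mem_normalizer_iff_map_conj] at hg ⊢
    ext y
    rw [mem_map_conj, hD, Subgroup.mem_inf, Subgroup.mem_inf]
    have h1 : g⁻¹ * y * g ∈ (R : Subgroup G) ↔ y ∈ (R : Subgroup G) := by
      rw [← mem_map_conj, hg]
    have h2 : g⁻¹ * y * g ∈ T ↔ y ∈ T := by
      constructor
      · intro h
        have := hTn.conj_mem _ h g
        simpa [mul_assoc] using this
      · intro h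
        have := hTn.conj_mem _ h g⁻¹
        simpa [mul_assoc] using this
    rw [h1, h2]
  · intro htop
    have hDn : D.Normal := Subgroup.normalizer_eq_top_iff.mp htop
    have hDn' : (D.subgroupOf T).Normal := hDn.subgroupOf T
    rcases hT.eq_bot_or_eq_top_of_normal _ hDn' with h | h
    · apply hR0
      rw [Subgroup.subgroupOf_eq_bot] at h
      have : D ⊓ T = D := inf_eq_left.mpr inf_le_right
      rw [disjoint_iff, this] at h
      exact h
    · rw [Subgroup.subgroupOf_eq_top] at h
      have hTR : T ≤ R := le_trans h inf_le_left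
      have hTp : IsPGroup r T := R.isPGroup'.to_le hTR
      exact hna (isMulCommutative_of_simple_pgroup hT hTp)

end Cfsg.Agent.Lib.H19
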