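import Mathlib
import Cfsg.Agent.Lib.H19.AlpDefs
import Cfsg.Agent.Lib.H1.LieGg
import Cfsg.Agent.Lib.H1.AlpHULL
import Cfsg.Agent.Lib.H22.AlpEIGSUM

/-!
# Alperin's theorem (S3782): the Lie ring theorem LT

A Lie ring with an automorphism `φ` of order dividing `p` such that `p ^ m` kills the trace
`1 + φ + ⋯ + φ^(p-1)`: then `p ^ ((m+2)(h+1))` kills `γ_{h+1}`, `h` the Higman–Kreknin–Kostrikin
number.  Inputs: helper1's graded hull (HULL), helper22's EIGSUM.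
-/

set_option autoImplicit false

namespace Cfsg.Agent.Lib.H19.ALP

open Cfsg.Agent.Lib.H1 Cfsg.Agent.Lib.H1.LieT
open scoped TensorProduct
open Finset

universe u

section Lie

variable {p : ℕ} [hp : Fact p.Prime]

/-- generic: scaling an iterated bracket -/
theorem smul_Gam_mem {𝔏 : Type u} [LieRing 𝔏] (S : AddSubgroup 𝔏) (d : ℤ)
    (hd : ∀ y : 𝔏, d • y ∈ S) :
    ∀ N : ℕ, ∀ z ∈ KK.Gam N (⊤ : AddSubgroup 𝔏), (d ^ (N + 1)) • z ∈ KK.Gam N S := by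
  intro N
  induction N with
  | zero =>
    intro z _
    rw [KK.Gam_zero, zero_add, pow_one]
    exact hd z
  | succ N ih =>
    intro z hz
    rw [KK.Gam_succ] at hz ⊢
    unfold KK.br at hz
    induction hz using AddSubgroup.closure_induction with
    | mem z hz =>
      obtain ⟨u, hu, v, _, rfl⟩ := hz
      have h1 : (d ^ (N + 1 + 1)) • ⁅u, v⁆ = ⁅(d ^ (N + 1)) • u, d • v⁆ := by
        rw [zsmul_lie, lie_zsmul, smul_smul, ← pow_succ]
      rw [h1]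
      exact KK.lie_mem_br (ih u hu) (hd v)
    | zero =>
      rw [smul_zero]
      exact zero_mem _
    | add a b _ _ ha hb =>
      rw [smul_add]
      exact add_mem ha hb
    | neg a _ ha =>
      rw [smul_neg]
      exact neg_mem ha

/-- the zero eigen-subgroup is killed by `p ^ (m+1)` -/
theorem E_zero_zsmul {A : Type*} [CommRing A] {M : Type*} [AddCommGroup M] [Module A M]
    {ω : A} {T : Module.End A M} (m : ℕ)
    (h : ∀ y : M, ((p : ℤ) ^ m) • (∑ k ∈ range p, T ^ k) y = 0) {x : M}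
    (hx : x ∈ Eig.E ω T (0 : ZMod p)) :
    ((p : ℤ) ^ (m + 1)) • x = 0 := by
  rw [Eig.mem_E, Eig.wz_zero, one_smul] at hx
  have h1 : ∀ n : ℕ, (T ^ n) x = x := by
    intro n
    induction n with
    | zero => simp
    | succ n ih => rw [pow_succ', Module.End.mul_apply, ih, hx]
  have h2 : (∑ k ∈ range p, T ^ k) x = (p : ℤ) • x := by
    rw [LinearMap.sum_apply]
    simp only [h1]
    rw [Finset.sum_const, Finset.card_range, natCast_zsmul]
  have h3 := h x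
  rw [h2, smul_smul, ← pow_succ] at h3
  exact h3

/-- the scaled eigen-subgroups -/
def Mc {A : Type*} [CommRing A] {M : Type*} [AddCommGroup M] [Module A M]
    (ω : A) (T : Module.End A M) (c : ℤ) (k : ZMod p) : AddSubgroup M :=
  if k = 0 then ⊥ else (Eig.E ω T k).map (zsmulAddGroupHom c)

theorem Mc_zero {A : Type*} [CommRing A] {M : Type*} [AddCommGroup M] [Module A M]
    (ω : A) (T : Module.End A M) (c : ℤ) : Mc ω T c (0 : ZMod p) = ⊥ := if_pos rfl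

theorem smul_mem_Mc {A : Type*} [CommRing A] {M : Type*} [AddCommGroup M] [Module A M]
    {ω : A} {T : Module.End A M} {c : ℤ} (hc0 : ∀ x ∈ Eig.E ω T (0 : ZMod p), c • x = 0)
    {k : ZMod p} {x : M} (hx : x ∈ Eig.E ω T k) : c • x ∈ Mc ω T c k := by
  unfold Mc
  split_ifs with h
  · subst h
    rw [hc0 x hx]
    exact zero_mem _
  · exact ⟨x, hx, rfl⟩

variable {A : Type} [CommRing A] {L : Type u} [LieRing L] {φ : Module.End ℤ L}

theorem E_lie_mem {ω : A} (hω : ω ^ p = 1) (hlie : ∀ x y, φ ⁅x, y⁆ = ⁅φ x, φ y⁆)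
    {i j : ZMod p} {x y : A ⊗[ℤ] L} (hx : x ∈ Eig.E ω (Tt A φ) i) (hy : y ∈ Eig.E ω (Tt A φ) j) :
    ⁅x, y⁆ ∈ Eig.E ω (Tt A φ) (i + j) := by
  rw [Eig.mem_E] at hx hy ⊢
  rw [Tt_lie hlie, hx, hy]
  have h1 := smul_lie (Eig.wz ω i) x (Eig.wz ω j • y)
  have h2 := lie_smul (Eig.wz ω j) x y
  rw [h1, h2, smul_smul, Eig.wz_add hω]

theorem Mc_lie_mem {ω : A} (hω : ω ^ p = 1) (hlie : ∀ x y, φ ⁅x, y⁆ = ⁅φ x, φ y⁆) {c : ℤ}
    (hc0 : ∀ x ∈ Eig.E ω (Tt A φ) (0 : ZMod p), c • x = 0)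
    {i j : ZMod p} {x y : A ⊗[ℤ] L} (hx : x ∈ Mc ω (Tt A φ) c i) (hy : y ∈ Mc ω (Tt A φ) c j) :
    ⁅x, y⁆ ∈ Mc ω (Tt A φ) c (i + j) := by
  by_cases hi : i = 0
  · subst hi
    rw [Mc_zero, AddSubgroup.mem_bot] at hx
    have h := zero_lie (L := A ⊗[ℤ] L) y
    rw [hx, h]
    exact zero_mem _
  by_cases hj : j = 0
  · subst hj
    rw [Mc_zero, AddSubgroup.mem_bot] at hy
    have h := lie_zero (M := A ⊗[ℤ] L) x
    rw [hy, h]
    exact zero_mem _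
  unfold Mc at hx hy
  rw [if_neg hi] at hx
  rw [if_neg hj] at hy
  obtain ⟨x', hx', rfl⟩ := hx
  obtain ⟨y', hy', rfl⟩ := hy
  have h1 : ⁅zsmulAddGroupHom c x', zsmulAddGroupHom c y'⁆ = c • (c • ⁅x', y'⁆) := by
    show ⁅c • x', c • y'⁆ = c • (c • ⁅x', y'⁆)
    rw [zsmul_lie, lie_zsmul]
  rw [h1]
  have h2 := E_lie_mem hω hlie hx' hy'
  exact smul_mem_Mc hc0 ((Eig.E ω (Tt A φ) (i + j)).zsmul_mem h2 c)

omit hp in
theorem Tt_sum_zsmul (m : ℕ)
    (hfix : ∀ x : L, ((p : ℤ) ^ m) • (∑ k ∈ Finset.range p, φ ^ k) x = 0) (y : A ⊗[ℤ] L) :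
    ((p : ℤ) ^ m) • (∑ k ∈ Finset.range p, Tt A φ ^ k) y = 0 := by
  have h : ((p : ℤ) ^ m) • (∑ k ∈ Finset.range p, φ ^ k) = 0 := by
    refine LinearMap.ext fun x => ?_
    rw [LinearMap.smul_apply, LinearMap.zero_apply]
    exact hfix x
  have h2 := congrArg (Module.End.baseChangeHom ℤ A L) h
  rw [map_zsmul, map_sum, map_zero] at h2
  simp only [map_pow] at h2
  have h3 := LinearMap.congr_fun h2 y
  rw [LinearMap.smul_apply, LinearMap.zero_apply] at h3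
  exact h3

/-- **LT** -/
theorem lie_alperin {L : Type u} [LieRing L] {φ : Module.End ℤ L}
    (hlie : ∀ x y, φ ⁅x, y⁆ = ⁅φ x, φ y⁆) (hpow : φ ^ p = 1) (m : ℕ)
    (hfix : ∀ x : L, ((p : ℤ) ^ m) • (∑ k ∈ Finset.range p, φ ^ k) x = 0) :
    ∀ x ∈ KK.Gam (hkk p) (⊤ : AddSubgroup L), ((p : ℤ) ^ ((m + 2) * (hkk p + 1))) • x = 0 := by
  intro x hx
  have hω := omega_pow p
  have hs := omega_sum p
  have hT : Tt (Acyc p) φ ^ p = 1 := Tt_pow hpow
  have hc0 : ∀ x ∈ Eig.E (omega p) (Tt (Acyc p) φ) (0 : ZMod p), ((p : ℤ) ^ (m + 1)) • x = 0 :=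
    fun x hx => E_zero_zsmul m (Tt_sum_zsmul m hfix) hx
  have hhull := Cfsg.Agent.Lib.H1.ALP.hull_gam_eq_bot (Mc (omega p) (Tt (Acyc p) φ) ((p : ℤ) ^ (m + 1)))
    (fun hx hy => Mc_lie_mem hω hlie hc0 hx hy) (Mc_zero _ _ _)
  have hd : ∀ y : Acyc p ⊗[ℤ] L, ((p : ℤ) ^ (m + 2)) • y ∈
      ⨆ k : ZMod p, Mc (omega p) (Tt (Acyc p) φ) ((p : ℤ) ^ (m + 1)) k := by
    intro y
    have h1 := Cfsg.Agent.Lib.H22.ALP.sum_eE_one (p := p) (ω := omega p) (T := Tt (Acyc p) φ) hs y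
    have h2 : ((p : ℤ) ^ (m + 2)) • y = ∑ k : ZMod p, ((p : ℤ) ^ (m + 1)) •
        Eig.eE (omega p) (Tt (Acyc p) φ) (1 : Acyc p) k y := by
      rw [← Finset.smul_sum, h1, Nat.cast_smul_eq_nsmul, ← natCast_zsmul, smul_smul, ← pow_succ]
    rw [h2]
    refine sum_mem fun k _ => ?_
    exact AddSubgroup.mem_iSup_of_mem k (smul_mem_Mc hc0 (Eig.eE_mem hω hT k y))
  have h3 := smul_Gam_mem _ _ hd (hkk p) (iota (A := Acyc p) x) (iota_Gam (hkk p) x hx)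
  rw [hhull, AddSubgroup.mem_bot, ← map_zsmul] at h3
  have h4 := iota_injective (retr p) (retr_one p) (h3.trans (map_zero _).symm)
  rw [← pow_mul] at h4
  exact h4

end Lie

end Cfsg.Agent.Lib.H19.ALP
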