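import Mathlib
import Cfsg.Agent.Lib.H19.AlpDefs
import Cfsg.Agent.Lib.H1.LieGd

set_option autoImplicit false

/-!
# Alperin's theorem (S3782): the automorphism induced on the lower central factors

`secAut α w : MulAut (Qw G w)` (multiplicative version of helper1's `phiA α w`), `hkk_pos`,
and the converse of `Inv.mem_iff`.
-/

namespace Cfsg.Agent.Lib.H19.ALP

open Cfsg.Agent.Lib.H1 Cfsg.Agent.Lib.H1.LieG

universe u

theorem hkk_pos {p : ℕ} (hp : p.Prime) : 0 < hkk p := by
  unfold hkk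
  have h2 : 2 ≤ p := hp.two_le
  have h3 : 2 ^ 1 ≤ 2 ^ (p - 1) := Nat.pow_le_pow_right (by norm_num) (by omega)
  have hmem : 0 ∈ Finset.range (2 ^ (p - 1) - 1) := by
    rw [Finset.mem_range]; omega
  calc 0 < (p - 1) ^ 0 := by simp
    _ ≤ ∑ i ∈ Finset.range (2 ^ (p - 1) - 1), (p - 1) ^ i :=
      Finset.single_le_sum (f := fun i => (p - 1) ^ i) (fun i _ => Nat.zero_le _) hmem

variable {G : Type u} [Group G]

theorem inv_of_mem_iff (α : MulAut G) (N : Subgroup G) (h : ∀ x, α x ∈ N ↔ x ∈ N) : Inv α N := by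
  unfold Inv
  ext y
  constructor
  · rintro ⟨x, hx, rfl⟩
    exact (h x).2 hx
  · intro hy
    refine ⟨α.symm y, ?_, ?_⟩
    · rw [SetLike.mem_coe, ← h]
      simpa using hy
    · simp

theorem inv_Gam (α : MulAut G) (w : ℕ) : Inv α (Gam G w) := inv_of_characteristic α _

theorem inv_Gam_sub (α : MulAut G) (w : ℕ) :
    Inv (rAut α (Gam G w) (inv_Gam α w)) ((Gam G (w + 1)).subgroupOf (Gam G w)) := by
  apply inv_of_mem_iff
  intro x
  rw [Subgroup.mem_subgroupOf, Subgroup.mem_subgroupOf, rAut_coe]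
  exact aut_mem_iff α (w + 1) (x : G)

/-- the automorphism induced by `α` on `Γ_w / Γ_{w+1}` -/
noncomputable def secAut (α : MulAut G) (w : ℕ) : MulAut (Qw G w) :=
  qAut (rAut α (Gam G w) (inv_Gam α w)) ((Gam G (w + 1)).subgroupOf (Gam G w)) (inv_Gam_sub α w)

theorem secAut_mk (α : MulAut G) (w : ℕ) (x : Gam G w) :
    secAut α w (QuotientGroup.mk x) = QuotientGroup.mk (rAut α (Gam G w) (inv_Gam α w) x) := rfl

theorem secAut_pow_eq_one (α : MulAut G) (w : ℕ) {k : ℕ} (hk : α ^ k = 1) :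
    secAut α w ^ k = 1 :=
  qAut_pow_eq_one _ _ _ (rAut_pow_eq_one α _ _ hk)

theorem phiA_ofMul (α : MulAut G) (w : ℕ) (q : Qw G w) :
    phiA α w (Additive.ofMul q : Additive (Qw G w)) =
      (Additive.ofMul (secAut α w q) : Additive (Qw G w)) := by
  induction q using QuotientGroup.induction_on with
  | H x =>
    obtain ⟨x, hx⟩ := x
    have h1 := phiA_clsA α hx
    rw [clsA_of_mem hx, clsA_of_mem ((aut_mem_iff α w x).2 hx)] at h1
    rw [h1, secAut_mk]
    rfl

/-- the fixed points of `phiA α w` and of `secAut α w` correspond -/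
noncomputable def fixEquiv (α : MulAut G) (w : ℕ) :
    {a : Aw G w // phiA α w a = a} ≃ {q : Qw G w // secAut α w q = q} where
  toFun a := ⟨Additive.toMul (a.1 : Additive (Qw G w)), by
    have h : phiA α w (Additive.ofMul (Additive.toMul (a.1 : Additive (Qw G w))) :
        Additive (Qw G w)) = a.1 := a.2
    rw [phiA_ofMul] at h
    exact congrArg Additive.toMul h⟩
  invFun q := ⟨(Additive.ofMul q.1 : Additive (Qw G w)), by
    rw [phiA_ofMul, q.2]⟩
  left_inv a := by
    apply Subtype.ext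
    rfl
  right_inv q := by
    apply Subtype.ext
    rfl

theorem card_phiA_fixed_eq (α : MulAut G) (w : ℕ) :
    Nat.card {a : Aw G w // phiA α w a = a} = fixCard (secAut α w) :=
  Nat.card_congr (fixEquiv α w)

end Cfsg.Agent.Lib.H19.ALP
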