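import Mathlib
import Cfsg.Agent.Lib.H19.AlpSec
import Cfsg.Agent.Lib.H19.AlpLT
import Cfsg.Agent.Lib.H10.AlpFIXR
import Cfsg.Agent.Lib.H10.AlpFIXQ
import Cfsg.Agent.Lib.H10.AlpPGBof
import Cfsg.Agent.Lib.H2.AlpPGACore
import Cfsg.Agent.S3781

set_option autoImplicit false

/-!
# Alperin's theorem (S3782): the `p`-group case

Pieces FIXA, PGA, PGB, PGC1, PGC2, PGC3 of `tools/blueprints/S3782_sigs.lean`:
a finite `p`-group with an automorphism `α`, `α ^ p = 1`, with at most `p ^ n` fixed points has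
derived length at most `width p n + hkk p + 1`.
-/

namespace Cfsg.Agent.Lib.H19.ALP

open Cfsg.Agent.Lib.H1 Cfsg.Agent.Lib.H1.LieG

universe u

section Fix
variable {G : Type u} [Group G]

/-- **FIXA** -/
theorem card_phiA_fixed_le [Finite G] (α : MulAut G) (w : ℕ) :
    Nat.card {a : Aw G w // phiA α w a = a} ≤ fixCard α := by
  rw [card_phiA_fixed_eq]
  exact (Cfsg.Agent.Lib.H10.ALP.fixCard_qAut_le _ _ _).trans
    (Cfsg.Agent.Lib.H10.ALP.fixCard_rAut_le α _ _)

end Fix

section PGroup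

variable {p : ℕ} [hp : Fact p.Prime] {G : Type u} [Group G]

/-- **PGA** -/
theorem pow_mem_Gam_succ [Finite G] (hG : IsPGroup p G) (α : MulAut G) (hα : α ^ p = 1) (n : ℕ)
    (hfix : fixCard α ≤ p ^ n) (w : ℕ) (hw : hkk p + 1 ≤ w) {x : G} (hx : x ∈ Gam G w) :
    x ^ (p ^ expo p n) ∈ Gam G (w + 1) :=
  Cfsg.Agent.Lib.H2.ALP.pow_mem_Gam_succ_core hG α hα n hfix
    (fun hlie hpow m hfix' => lie_alperin hlie hpow m hfix') (card_phiA_fixed_le α) w hw hx

/-- **PGB** -/
theorem card_Qw_le [Finite G] (hG : IsPGroup p G) (α : MulAut G) (hα : α ^ p = 1) (n : ℕ)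
    (hfix : fixCard α ≤ p ^ n) (w : ℕ) (hw : hkk p + 1 ≤ w) :
    Nat.card (Qw G w) ≤ p ^ width p n :=
  Cfsg.Agent.Lib.H10.ALP.card_Qw_le_of hG α hα n hfix w
    (fun hx => pow_mem_Gam_succ hG α hα n hfix w hw hx)

/-- **PGC1** -/
theorem relIndex_lcs_le [Finite G] (hG : IsPGroup p G) (α : MulAut G) (hα : α ^ p = 1) (n : ℕ)
    (hfix : fixCard α ≤ p ^ n) (N : Subgroup G) (hN : Inv α N) (i : ℕ) (hi : hkk p + 1 ≤ i) :
    (N.lowerCentralSeries i).relIndex (N.lowerCentralSeries (i - 1)) ≤ p ^ width p n := by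
  obtain ⟨j, rfl⟩ : ∃ j, i = j + 1 := ⟨i - 1, by omega⟩
  have h1 := card_Qw_le (hG.to_subgroup N) (rAut α N hN) (rAut_pow_eq_one α N hN hα) n
     ((Cfsg.Agent.Lib.H10.ALP.fixCard_rAut_le α N hN).trans hfix) (j + 1) hi
  have h2 : Nat.card (Qw N (j + 1)) =
      (N.lowerCentralSeries (j + 1)).relIndex (N.lowerCentralSeries j) := by
    rw [← Subgroup.top_subtype_lowerCentralSeries N (j + 1),
      ← Subgroup.top_subtype_lowerCentralSeries N j,
      Subgroup.relIndex_map_map_of_injective _ _ N.subtype_injective]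
    rfl
  rw [h2] at h1
  exact h1

/-- **PGC2** -/
theorem lcs_lcs_eq_bot [Finite G] (hG : IsPGroup p G) (α : MulAut G) (hα : α ^ p = 1) (n : ℕ)
    (hfix : fixCard α ≤ p ^ n) :
    ((⊤ : Subgroup G).lowerCentralSeries (width p n)).lowerCentralSeries (hkk p + 1) = ⊥ := by
  by_contra hne
  have hNinv : Inv α ((⊤ : Subgroup G).lowerCentralSeries (width p n)) :=
    inv_of_characteristic α _
  have h1 := Cfsg.Agent.S3781.result hG (width p n + 1) (by omega)
    ((⊤ : Subgroup G).lowerCentralSeries (width p n)) (by simp) (hkk p + 1)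
    (by have := hkk_pos hp.out; omega) hne
  have h2 := relIndex_lcs_le hG α hα n hfix
    ((⊤ : Subgroup G).lowerCentralSeries (width p n)) hNinv (hkk p + 1) le_rfl
  have h3 : p ^ (width p n + 1) ≤ p ^ width p n := h1.trans h2
  exact absurd h3 (not_le.mpr (Nat.pow_lt_pow_right hp.out.one_lt (Nat.lt_succ_self _)))

omit hp in
theorem derivedSeries_add_le_lcs (N : Subgroup G) (a : ℕ) (h : derivedSeries G a ≤ N) (k : ℕ) :
    derivedSeries G (a + k) ≤ N.lowerCentralSeries k := by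
  induction k with
  | zero => simpa using h
  | succ k ih =>
    rw [← add_assoc, derivedSeries_succ, Subgroup.lowerCentralSeries_succ]
    exact Subgroup.commutator_mono ih
      ((derivedSeries_antitone (G := G) (Nat.le_add_right a k)).trans h)

/-- **PGC3** -/
theorem pgroup_derivedSeries [Finite G] (hG : IsPGroup p G) (α : MulAut G) (hα : α ^ p = 1) (n : ℕ)
    (hfix : fixCard α ≤ p ^ n) :
    derivedSeries G (width p n + hkk p + 1) = ⊥ := by
  have h1 := derivedSeries_add_le_lcs ((⊤ : Subgroup G).lowerCentralSeries (width p n))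
    (width p n) (Subgroup.derived_le_lower_central _) (hkk p + 1)
  rw [lcs_lcs_eq_bot hG α hα n hfix] at h1
  rw [add_assoc]
  exact le_bot_iff.mp h1

end PGroup

end Cfsg.Agent.Lib.H19.ALP
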