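import Mathlib
import Cfsg.Agent.Lib.H19.AlpPG
import Cfsg.Agent.Lib.H10.AlpSD2
import Cfsg.Agent.Lib.H22.AlpDLCARD
import Cfsg.Agent.Lib.H22.AlpDLEXT
import Cfsg.Agent.Lib.H22.AlpSD1
import Cfsg.Agent.Lib.H9.AlpSD3
import Cfsg.Agent.Lib.H1.PCore
import Cfsg.Agent.Lib.H22.PPrimeCore

set_option autoImplicit false

/-!
# Alperin's theorem (S3782): reduction of the solvable case to `p`-groups

Pieces SD4 and MAIN of `tools/blueprints/S3782_sigs.lean`.
-/

namespace Cfsg.Agent.Lib.H19.ALP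

universe u

section Solv

variable {p : ℕ} [hp : Fact p.Prime] {G : Type u} [Group G]

omit hp in
theorem inv_pPrimeCore [Finite G] (α : MulAut G) : Inv α (Cfsg.pPrimeCore p G) := by
  unfold Inv
  apply le_antisymm (Cfsg.Agent.Lib.H22.pPrimeCore_map_le p α)
  have h1 := Cfsg.Agent.Lib.H22.pPrimeCore_map_le (G := G) p α⁻¹
  have h2 := Subgroup.map_mono (f := α.toMonoidHom) h1
  rw [Subgroup.map_map] at h2
  have h3 : α.toMonoidHom.comp (α⁻¹ : MulAut G).toMonoidHom = MonoidHom.id G := by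
    ext x
    simp
  rw [h3, Subgroup.map_id] at h2
  exact h2

/-- **SD4** -/
theorem derivedSeries_of_pPrimeCore_eq_bot [Finite G] (hs : Group.IsSolvable G)
    (hO : Cfsg.pPrimeCore p G = ⊥) (α : MulAut G) (hα : α ^ p = 1) (n : ℕ)
    (hfix : fixCard α ≤ p ^ n) :
    derivedSeries G ((p ^ (p * n)).factorial + (width p n + hkk p + 1)) = ⊥ := by
  have hQn : (Cfsg.pCore p G).Normal := Cfsg.Agent.Lib.H1.pCore_normal p G
  have hQc : (Cfsg.pCore p G).Characteristic := Cfsg.Agent.Lib.H1.pCore_characteristic p G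
  have hQinv : Inv α (Cfsg.pCore p G) := inv_of_characteristic α _
  have hQp : IsPGroup p (Cfsg.pCore p G) := Cfsg.Agent.Lib.H1.pCore_isPGroup p G
  have hN : derivedSeries (Cfsg.pCore p G) (width p n + hkk p + 1) = ⊥ :=
    pgroup_derivedSeries hQp (rAut α _ hQinv) (rAut_pow_eq_one α _ hQinv hα) n
      ((Cfsg.Agent.Lib.H10.ALP.fixCard_rAut_le α _ hQinv).trans hfix)
  have hidx := Cfsg.Agent.Lib.H9.ALP.index_pCore_le hs hO α hα n hfix
  have hsq : Group.IsSolvable (G ⧸ Cfsg.pCore p G) := by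
    have := hs
    infer_instance
  have hc := Cfsg.Agent.Lib.H22.ALP.derivedSeries_card_eq_bot (G := G ⧸ Cfsg.pCore p G) hsq
  have hQ : derivedSeries (G ⧸ Cfsg.pCore p G) ((p ^ (p * n)).factorial) = ⊥ := by
    rw [← le_bot_iff, ← hc]
    apply derivedSeries_antitone
    rw [← Subgroup.index_eq_card]
    exact hidx
  exact Cfsg.Agent.Lib.H22.ALP.derivedSeries_add_eq_bot (Cfsg.pCore p G) _ _ hN hQ

/-- **MAIN** -/
theorem alperin [Finite G] (hs : Group.IsSolvable G) (α : MulAut G) (hα : orderOf α = p) (n : ℕ)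
    (hfix : fixCard α = p ^ n) :
    derivedSeries G ((p ^ (p * n)).factorial + (width p n + hkk p + 1) + hkk p) = ⊥ := by
  have hKn : (Cfsg.pPrimeCore p G).Normal := Cfsg.Agent.Lib.H22.pPrimeCore_normal (G := G) p
  have hKinv : Inv α (Cfsg.pPrimeCore p G) := inv_pPrimeCore α
  have hαp : α ^ p = 1 := by rw [← hα]; exact pow_orderOf_eq_one α
  have h1 := Cfsg.Agent.Lib.H22.ALP.derivedSeries_pPrimeCore α hαp n hfix
  have h2 := Cfsg.Agent.Lib.H10.ALP.pPrimeCore_quotient_eq_bot (p := p) (G := G)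
  have hsq : Group.IsSolvable (G ⧸ Cfsg.pPrimeCore p G) := by
    have := hs
    infer_instance
  have h3 := derivedSeries_of_pPrimeCore_eq_bot (p := p) (G := G ⧸ Cfsg.pPrimeCore p G)
    hsq h2 (qAut α _ hKinv) (qAut_pow_eq_one α _ hKinv hαp) n
    ((Cfsg.Agent.Lib.H10.ALP.fixCard_qAut_le α _ hKinv).trans hfix.le)
  exact Cfsg.Agent.Lib.H22.ALP.derivedSeries_add_eq_bot (Cfsg.pPrimeCore p G) _ _ h1 h3

end Solv

end Cfsg.Agent.Lib.H19.ALP
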