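import Mathlib
import Cfsg.Agent.Lib.H1.JordanB
import Cfsg.Agent.Lib.H1.JordanC

/-!
helper19 library: **Blichfeldt's 60-degree theorem** (for S4484).

`b60`: let `R : G →* (E ≃ₗᵢ[ℂ] E)` be a unitary representation of a finite group on a
finite-dimensional space and `y : G` such that `R y` has an eigenvalue `ε` with every eigenvalue at
distance `< 1` from `ε` (i.e. within 60 degrees), `R y` not the scalar `ε`.  Then there is a
subspace `V ≠ ⊥, ⊤` such that every translate `R g V` is contained in `V` or orthogonal to `V`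
(so an irreducible `R` is imprimitive).

Proof (extremal argument on the conjugacy class of `y`; no compactness):
* (N) `‖R h u - ε u‖ ≤ c ‖u‖`, `c < 1`, for `u ⟂ W_h := ker (R h - ε)`;
* (a) `dst k (h k h⁻¹) ≤ c * dst h k` where `dst h k = ‖(1 - P_h) P_k‖`;
* (b) an `R k`-invariant subspace `V` with `‖(1 - P_k) z‖ ≤ d ‖z‖` on `V`, `d < 1`, lies in `W_k`;
* (c) a bad pair (`R h W_k ≠ W_k`) of minimal `dst` is impossible, so all conjugates of `y`
  stabilise all `W_k`;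
* (d) a minimal nonzero subspace invariant under the conjugates of `y` lies in `W_h` or in `W_hᗮ`
  for every conjugate `h`; the corresponding joint block `blk` is the required subspace.
-/

set_option autoImplicit false
set_option linter.unusedSectionVars false

namespace Cfsg.Agent.Lib.H19.B60

open Cfsg.Agent.Lib.H1.Jordan Module.End

variable {E : Type*} [NormedAddCommGroup E] [InnerProductSpace ℂ E] [FiniteDimensional ℂ E]

/-- (N) On the orthogonal complement of the `ε`-eigenspace the isometry `T` moves `ε • u` by less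
than `‖u‖` (uniformly), when all its eigenvalues are at distance `< 1` from `ε`. -/
theorem exists_contraction (T : E ≃ₗᵢ[ℂ] E) (ε : ℂ)
    (h60 : ∀ μ : ℂ, HasEigenvalue (lin T) μ → ‖μ - ε‖ < 1) :
    ∃ c : ℝ, 0 ≤ c ∧ c < 1 ∧ ∀ u ∈ (eigenspace (lin T) ε)ᗮ, ‖T u - ε • u‖ ≤ c * ‖u‖ := by
  classical
  obtain ⟨b, hb⟩ := exists_joint_eigenbasis (fun _ : Unit => T) (fun _ _ => rfl)
    (rfl : Module.finrank ℂ E = Module.finrank ℂ E)
  choose a ha using hb ()
  have hev : ∀ k, HasEigenvalue (lin T) (a k) := by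
    intro k
    apply hasEigenvalue_of_hasEigenvector (x := b k)
    refine ⟨mem_eigenspace_iff.2 ?_, ?_⟩
    · rw [lin_apply]; exact ha k
    · intro h0
      have := b.orthonormal.1 k
      rw [h0, norm_zero] at this
      exact zero_ne_one this
  let f : Fin (Module.finrank ℂ E) → NNReal := fun k => ‖a k - ε‖₊
  let c : NNReal := Finset.univ.sup f
  have hc1 : c < 1 := by
    rw [Finset.sup_lt_iff (by simp)]
    intro k _
    have := h60 (a k) (hev k)
    rw [← NNReal.coe_lt_coe]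
    simpa [f] using this
  have hfc : ∀ k, ‖a k - ε‖ ≤ (c : ℝ) := by
    intro k
    have : f k ≤ c := Finset.le_sup (Finset.mem_univ k)
    have h2 := NNReal.coe_le_coe.2 this
    simpa [f] using h2
  refine ⟨c, c.2, by exact_mod_cast hc1, ?_⟩
  intro u hu
  apply le_of_sq_le_sq _ (by positivity)
  rw [← b.sum_sq_norm_inner_right (T u - ε • u), mul_pow, ← b.sum_sq_norm_inner_right u,
    Finset.mul_sum]
  apply Finset.sum_le_sum
  intro k _
  have e1 : inner ℂ (b k) (T u - ε • u) = (a k - ε) * inner ℂ (b k) u := by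
    rw [inner_sub_right, inner_smul_right, inner_eig ha k u]
    ring
  rw [e1, norm_mul, mul_pow]
  by_cases hk : a k = ε
  · have hbk : b k ∈ eigenspace (lin T) ε := by
      rw [mem_eigenspace_iff, lin_apply, ha k, hk]
    have h0 : inner ℂ (b k) u = 0 := Submodule.inner_right_of_mem_orthogonal hbk hu
    rw [h0]
    simp
  · apply mul_le_mul_of_nonneg_right _ (sq_nonneg _)
    exact pow_le_pow_left₀ (norm_nonneg _) (hfc k) 2

variable {G : Type*} [Group G] (R : G →* (E ≃ₗᵢ[ℂ] E)) (ε : ℂ)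

/-- the `ε`-eigenspace of `R h` -/
def Wsp (h : G) : Submodule ℂ E := eigenspace (lin (R h)) ε

theorem mem_Wsp {h : G} {v : E} : v ∈ Wsp R ε h ↔ R h v = ε • v := by
  unfold Wsp
  rw [mem_eigenspace_iff, lin_apply]

theorem conj_apply (g h : G) (v : E) : R (g * h * g⁻¹) (R g v) = R g (R h v) := by
  rw [map_mul, map_mul, map_inv, mul_apply', mul_apply', inv_apply',
    LinearIsometryEquiv.symm_apply_apply]

theorem mem_Wsp_conj {g h : G} {v : E} : R g v ∈ Wsp R ε (g * h * g⁻¹) ↔ v ∈ Wsp R ε h := by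
  rw [mem_Wsp, mem_Wsp, conj_apply, ← map_smul]
  exact (R g).injective.eq_iff

/-- how far `W_k` is from `W_h` -/
noncomputable def dst (h k : G) : ℝ :=
  ‖(Wsp R ε h)ᗮ.starProjection ∘L (Wsp R ε k).starProjection‖

theorem dst_le_one (h k : G) : dst R ε h k ≤ 1 := by
  unfold dst
  calc ‖(Wsp R ε h)ᗮ.starProjection ∘L (Wsp R ε k).starProjection‖
      ≤ ‖(Wsp R ε h)ᗮ.starProjection‖ * ‖(Wsp R ε k).starProjection‖ :=
        ContinuousLinearMap.opNorm_comp_le _ _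
    _ ≤ 1 * 1 := mul_le_mul (Submodule.starProjection_norm_le _) (Submodule.starProjection_norm_le _)
        (norm_nonneg _) zero_le_one
    _ = 1 := one_mul 1

theorem le_dst {h k : G} {v : E} (hv : v ∈ Wsp R ε k) :
    ‖(Wsp R ε h)ᗮ.starProjection v‖ ≤ dst R ε h k * ‖v‖ := by
  have h1 : (Wsp R ε k).starProjection v = v := Submodule.starProjection_eq_self_iff.2 hv
  have h2 := ContinuousLinearMap.le_opNorm
    ((Wsp R ε h)ᗮ.starProjection ∘L (Wsp R ε k).starProjection) v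
  rw [ContinuousLinearMap.comp_apply, h1] at h2
  exact h2

theorem le_of_dst_eq_zero {h k : G} (h0 : dst R ε h k = 0) : Wsp R ε k ≤ Wsp R ε h := by
  intro v hv
  have h1 := le_dst R ε (h := h) hv
  rw [h0, zero_mul] at h1
  have h2 : (Wsp R ε h)ᗮ.starProjection v = 0 := norm_le_zero_iff.1 h1
  rw [Submodule.starProjection_apply_eq_zero_iff, Submodule.orthogonal_orthogonal] at h2
  exact h2

theorem norm_starProjection_le (K : Submodule ℂ E) (v : E) : ‖K.starProjection v‖ ≤ ‖v‖ := by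
  have := ContinuousLinearMap.le_opNorm K.starProjection v
  calc ‖K.starProjection v‖ ≤ ‖K.starProjection‖ * ‖v‖ := this
    _ ≤ 1 * ‖v‖ := mul_le_mul_of_nonneg_right (Submodule.starProjection_norm_le _) (norm_nonneg _)
    _ = ‖v‖ := one_mul _

/-- (a) the key inequality -/
theorem dst_conj_le {h k : G} {c : ℝ} (hc0 : 0 ≤ c)
    (hc : ∀ u ∈ (Wsp R ε h)ᗮ, ‖R h u - ε • u‖ ≤ c * ‖u‖) :
    dst R ε k (h * k * h⁻¹) ≤ c * dst R ε h k := by
  have hd0 : 0 ≤ dst R ε h k := norm_nonneg _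
  unfold dst
  apply ContinuousLinearMap.opNorm_le_bound _ (mul_nonneg hc0 hd0)
  intro v
  rw [ContinuousLinearMap.comp_apply]
  set w := (Wsp R ε (h * k * h⁻¹)).starProjection v with hw
  have hwmem : w ∈ Wsp R ε (h * k * h⁻¹) := Submodule.starProjection_apply_mem _ v
  have hwv : ‖w‖ ≤ ‖v‖ := norm_starProjection_le _ v
  set w₀ := (R h).symm w with hw₀
  have hw₀w : R h w₀ = w := LinearIsometryEquiv.apply_symm_apply _ _
  have hw₀mem : w₀ ∈ Wsp R ε k := by
    rw [← mem_Wsp_conj R ε (g := h), hw₀w]; exact hwmem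
  have hw₀n : ‖w₀‖ = ‖w‖ :=
    (LinearIsometryEquiv.norm_map (R h) w₀).symm.trans (congrArg norm hw₀w)
  -- kill the `ε • w₀` part
  have hA0 : (Wsp R ε k)ᗮ.starProjection w₀ = 0 := by
    rw [Submodule.starProjection_apply_eq_zero_iff, Submodule.orthogonal_orthogonal]
    exact hw₀mem
  have e1 : (Wsp R ε k)ᗮ.starProjection w
      = (Wsp R ε k)ᗮ.starProjection (R h w₀ - ε • w₀) := by
    rw [map_sub, map_smul, hA0, smul_zero, sub_zero, hw₀w]
  -- decompose `w₀`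
  set u := (Wsp R ε h)ᗮ.starProjection w₀ with hu
  have humem : u ∈ (Wsp R ε h)ᗮ := Submodule.starProjection_apply_mem _ w₀
  have hdec : (Wsp R ε h).starProjection w₀ + u = w₀ :=
    Submodule.starProjection_add_starProjection_orthogonal (K := Wsp R ε h) w₀
  have hp : R h ((Wsp R ε h).starProjection w₀) = ε • (Wsp R ε h).starProjection w₀ :=
    (mem_Wsp R ε).1 (Submodule.starProjection_apply_mem _ w₀)
  have e2 : R h w₀ - ε • w₀ = R h u - ε • u := by
    conv_lhs => rw [← hdec]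
    rw [map_add, smul_add, hp]
    abel
  have hun : ‖u‖ ≤ dst R ε h k * ‖w₀‖ := le_dst R ε hw₀mem
  calc ‖(Wsp R ε k)ᗮ.starProjection w‖
      = ‖(Wsp R ε k)ᗮ.starProjection (R h u - ε • u)‖ := by rw [e1, e2]
    _ ≤ ‖R h u - ε • u‖ := norm_starProjection_le _ _
    _ ≤ c * ‖u‖ := hc u humem
    _ ≤ c * (dst R ε h k * ‖w₀‖) := mul_le_mul_of_nonneg_left hun hc0
    _ = c * dst R ε h k * ‖w‖ := by rw [hw₀n]; ring
    _ ≤ c * dst R ε h k * ‖v‖ := mul_le_mul_of_nonneg_left hwv (mul_nonneg hc0 hd0)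

/-- (b') an invariant subspace close to `W_k` lies in `W_k` -/
theorem le_of_invariant {k : G} (hε : ‖ε‖ = 1) (V : Submodule ℂ E) (hinv : ∀ v ∈ V, R k v ∈ V)
    {d : ℝ} (hd : d < 1) (hV : ∀ z ∈ V, ‖(Wsp R ε k)ᗮ.starProjection z‖ ≤ d * ‖z‖) :
    V ≤ Wsp R ε k := by
  intro v hv
  rw [mem_Wsp]
  set z := R k v - ε • v with hz
  have hzV : z ∈ V := V.sub_mem (hinv v hv) (V.smul_mem ε hv)
  have hzo : z ∈ (Wsp R ε k)ᗮ := by
    rw [Submodule.mem_orthogonal]
    intro w hw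
    have h1 : inner ℂ (R k w) (R k v) = inner ℂ w v := LinearIsometryEquiv.inner_map_map _ _ _
    rw [(mem_Wsp R ε).1 hw, inner_smul_left] at h1
    have h2 : ε * (starRingEnd ℂ) ε = 1 := by
      rw [Complex.mul_conj, Complex.normSq_eq_norm_sq, hε]; simp
    have h3 : inner ℂ w (R k v) = ε * inner ℂ w v := by
      rw [← h1, ← mul_assoc, h2, one_mul]
    rw [hz, inner_sub_right, inner_smul_right, h3, sub_self]
  have h4 : (Wsp R ε k)ᗮ.starProjection z = z := Submodule.starProjection_eq_self_iff.2 hzo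
  have h5 := hV z hzV
  rw [h4] at h5
  have h6 : ‖z‖ = 0 := by
    have := norm_nonneg z
    nlinarith
  have h7 : z = 0 := norm_eq_zero.1 h6
  rw [hz] at h7
  exact sub_eq_zero.1 h7


theorem hasEigenvalue_conj {g h : G} {μ : ℂ} (hμ : HasEigenvalue (lin (R (g * h * g⁻¹))) μ) :
    HasEigenvalue (lin (R h)) μ := by
  obtain ⟨v, hv⟩ := hμ.exists_hasEigenvector
  have hvm : v ∈ Wsp R μ (g * h * g⁻¹) := hv.1
  have e : R g ((R g).symm v) = v := LinearIsometryEquiv.apply_symm_apply _ _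
  apply hasEigenvalue_of_hasEigenvector (x := (R g).symm v)
  refine ⟨?_, ?_⟩
  · show (R g).symm v ∈ Wsp R μ h
    rw [← mem_Wsp_conj R μ (g := g), e]; exact hvm
  · intro h0
    apply hv.2
    rw [← e, h0, map_zero]

/-- (c) every conjugate of `y` stabilises the `ε`-eigenspace of every conjugate of `y`. -/
theorem stab_all [Finite G] (hε : ‖ε‖ = 1) (y : G)
    (h60 : ∀ μ : ℂ, HasEigenvalue (lin (R y)) μ → ‖μ - ε‖ < 1) (g₁ g₂ : G) :
    ∀ v ∈ Wsp R ε (g₂ * y * g₂⁻¹), R (g₁ * y * g₁⁻¹) v ∈ Wsp R ε (g₂ * y * g₂⁻¹) := by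
  classical
  by_contra hbad0
  let Bad : Type _ := {q : G × G // ¬ ∀ v ∈ Wsp R ε (q.2 * y * q.2⁻¹),
    R (q.1 * y * q.1⁻¹) v ∈ Wsp R ε (q.2 * y * q.2⁻¹)}
  have : Nonempty Bad := ⟨⟨(g₁, g₂), hbad0⟩⟩
  have : Finite Bad := Subtype.finite
  obtain ⟨⟨⟨a, b⟩, hq⟩, hmin⟩ := Finite.exists_min
    (fun q : Bad => dst R ε (q.1.1 * y * q.1.1⁻¹) (q.1.2 * y * q.1.2⁻¹))
  change ¬ ∀ v ∈ Wsp R ε (b * y * b⁻¹), R (a * y * a⁻¹) v ∈ Wsp R ε (b * y * b⁻¹) at hq
  have hmin' : ∀ (a' b' : G) (hb : ¬ ∀ v ∈ Wsp R ε (b' * y * b'⁻¹),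
      R (a' * y * a'⁻¹) v ∈ Wsp R ε (b' * y * b'⁻¹)),
      dst R ε (a * y * a⁻¹) (b * y * b⁻¹) ≤ dst R ε (a' * y * a'⁻¹) (b' * y * b'⁻¹) :=
    fun a' b' hb => hmin ⟨(a', b'), hb⟩
  set h := a * y * a⁻¹ with hh
  set k := b * y * b⁻¹ with hk
  obtain ⟨c, hc0, hc1, hc⟩ := exists_contraction (R h) ε
    (fun μ hμ => h60 μ (hasEigenvalue_conj R hμ))
  have hc' : ∀ u ∈ (Wsp R ε h)ᗮ, ‖R h u - ε • u‖ ≤ c * ‖u‖ := hc
  have hpos : 0 < dst R ε h k := by
    rcases (norm_nonneg _ : 0 ≤ dst R ε h k).lt_or_eq with hlt | heq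
    · exact hlt
    · exfalso
      apply hq
      intro v hv
      have hvh : v ∈ Wsp R ε h := le_of_dst_eq_zero R ε heq.symm hv
      rw [(mem_Wsp R ε).1 hvh]
      exact (Wsp R ε k).smul_mem ε hv
  have hlt : dst R ε k (h * k * h⁻¹) < dst R ε h k := by
    calc dst R ε k (h * k * h⁻¹) ≤ c * dst R ε h k := dst_conj_le R ε hc0 hc'
      _ < 1 * dst R ε h k := mul_lt_mul_of_pos_right hc1 hpos
      _ = dst R ε h k := one_mul _
  have hk' : h * k * h⁻¹ = (h * b) * y * (h * b)⁻¹ := by rw [hk]; group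
  have hgood : ∀ v ∈ Wsp R ε (h * k * h⁻¹), R k v ∈ Wsp R ε (h * k * h⁻¹) := by
    by_contra hb2
    have hb3 : ¬ ∀ v ∈ Wsp R ε ((h * b) * y * (h * b)⁻¹),
        R (b * y * b⁻¹) v ∈ Wsp R ε ((h * b) * y * (h * b)⁻¹) := by
      rw [← hk']; exact hb2
    have := hmin' b (h * b) hb3
    rw [← hk'] at this
    exact absurd this (not_le.2 hlt)
  have hle : Wsp R ε (h * k * h⁻¹) ≤ Wsp R ε k := by
    apply le_of_invariant R ε hε _ hgood (lt_of_lt_of_le hlt (dst_le_one R ε h k))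
    intro z hz
    exact le_dst R ε hz
  apply hq
  intro v hv
  apply hle
  exact (mem_Wsp_conj R ε).2 hv


theorem symm_mem_of_stab [Finite G] (k : G) (V : Submodule ℂ E) (hV : ∀ v ∈ V, R k v ∈ V) :
    ∀ v ∈ V, (R k).symm v ∈ V := by
  have hpow : ∀ n : ℕ, ∀ v ∈ V, R (k ^ n) v ∈ V := by
    intro n
    induction n with
    | zero =>
      intro v hv
      rw [pow_zero, map_one]
      exact hv
    | succ n ih =>
      intro v hv
      rw [pow_succ, map_mul, mul_apply']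
      exact ih _ (hV v hv)
  intro v hv
  have hk : k * k ^ (orderOf k - 1) = 1 := by
    rw [← pow_succ', Nat.sub_add_cancel (orderOf_pos k), pow_orderOf_eq_one]
  have h1 : (R k).symm v = R (k ^ (orderOf k - 1)) v := by
    rw [LinearIsometryEquiv.symm_apply_eq, ← mul_apply', ← map_mul, hk, map_one]
    rfl
  rw [h1]
  exact hpow _ v hv

theorem orth_stab [Finite G] (k : G) (V : Submodule ℂ E) (hV : ∀ v ∈ V, R k v ∈ V) :
    ∀ u ∈ Vᗮ, R k u ∈ Vᗮ := by
  intro u hu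
  rw [Submodule.mem_orthogonal]
  intro w hw
  have h1 := symm_mem_of_stab R k V hV w hw
  have h2 : inner ℂ (R k ((R k).symm w)) (R k u) = inner ℂ ((R k).symm w) u :=
    LinearIsometryEquiv.inner_map_map _ _ _
  rw [LinearIsometryEquiv.apply_symm_apply] at h2
  rw [h2]
  exact Submodule.inner_right_of_mem_orthogonal h1 hu

/-- a minimal nonzero subspace with the property `Inv` -/
theorem exists_min_invariant [Nontrivial E] (Inv : Submodule ℂ E → Prop) (htop : Inv ⊤) :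
    ∃ V : Submodule ℂ E, V ≠ ⊥ ∧ Inv V ∧
      ∀ V' : Submodule ℂ E, V' ≠ ⊥ → Inv V' → V' ≤ V → V' = V := by
  classical
  have hex : ∃ n : ℕ, ∃ V : Submodule ℂ E, V ≠ ⊥ ∧ Inv V ∧ Module.finrank ℂ V = n :=
    ⟨_, ⊤, top_ne_bot, htop, rfl⟩
  obtain ⟨V, hV0, hVI, hVn⟩ := Nat.find_spec hex
  refine ⟨V, hV0, hVI, ?_⟩
  intro V' hV'0 hV'I hle
  apply Submodule.eq_of_le_of_finrank_le hle
  rw [hVn]
  exact Nat.find_min' hex ⟨V', hV'0, hV'I, rfl⟩

/-- eigenvectors of an isometry for an eigenvalue `≠ ε` are orthogonal to the `ε`-eigenspace -/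
theorem mem_orth_of_eig {k : G} (hε : ‖ε‖ = 1) {μ : ℂ} (hμ : μ ≠ ε) {v : E}
    (hv : R k v = μ • v) : v ∈ (Wsp R ε k)ᗮ := by
  rw [Submodule.mem_orthogonal]
  intro w hw
  have h1 : inner ℂ (R k w) (R k v) = inner ℂ w v := LinearIsometryEquiv.inner_map_map _ _ _
  rw [(mem_Wsp R ε).1 hw, hv, inner_smul_left, inner_smul_right] at h1
  have h2 : ε * (starRingEnd ℂ) ε = 1 := by
    rw [Complex.mul_conj, Complex.normSq_eq_norm_sq, hε]; simp
  by_contra hne
  have h3 : (starRingEnd ℂ) ε * μ = 1 := by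
    have : ((starRingEnd ℂ) ε * μ - 1) * inner ℂ w v = 0 := by
      rw [sub_mul, one_mul, mul_assoc, h1, sub_self]
    rcases mul_eq_zero.1 this with h | h
    · exact sub_eq_zero.1 h
    · exact absurd h hne
  apply hμ
  calc μ = (ε * (starRingEnd ℂ) ε) * μ := by rw [h2, one_mul]
    _ = ε * ((starRingEnd ℂ) ε * μ) := by ring
    _ = ε := by rw [h3, mul_one]

/-- the blocks -/
noncomputable def blk (y : G) (S : Set G) : Submodule ℂ E :=
  (⨅ g : G, ⨅ (_ : g * y * g⁻¹ ∈ S), Wsp R ε (g * y * g⁻¹)) ⊓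
    (⨅ g : G, ⨅ (_ : g * y * g⁻¹ ∉ S), (Wsp R ε (g * y * g⁻¹))ᗮ)

theorem mem_blk {y : G} {S : Set G} {v : E} : v ∈ blk R ε y S ↔
    (∀ g, g * y * g⁻¹ ∈ S → v ∈ Wsp R ε (g * y * g⁻¹)) ∧
    (∀ g, g * y * g⁻¹ ∉ S → v ∈ (Wsp R ε (g * y * g⁻¹))ᗮ) := by
  unfold blk
  simp only [Submodule.mem_inf, Submodule.mem_iInf]

/-- `R g` maps `W_hᗮ` into `W_{ghg⁻¹}ᗮ` -/
theorem map_orth {g h : G} {v : E} (hv : v ∈ (Wsp R ε h)ᗮ) :
    R g v ∈ (Wsp R ε (g * h * g⁻¹))ᗮ := by
  rw [Submodule.mem_orthogonal]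
  intro w hw
  have e : R g ((R g).symm w) = w := LinearIsometryEquiv.apply_symm_apply _ _
  have h1 : (R g).symm w ∈ Wsp R ε h := by
    rw [← mem_Wsp_conj R ε (g := g), e]; exact hw
  have h2 : inner ℂ (R g ((R g).symm w)) (R g v) = inner ℂ ((R g).symm w) v :=
    LinearIsometryEquiv.inner_map_map _ _ _
  rw [e] at h2
  rw [h2]
  exact Submodule.inner_right_of_mem_orthogonal h1 hv


/-- **Blichfeldt's 60-degree theorem** (block form): if `R y` has an eigenvalue `ε` such that all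
its eigenvalues are at distance `< 1` from `ε` and `R y` is not the scalar `ε`, then there is a
proper nonzero subspace each of whose translates under `G` is contained in it or orthogonal to
it. -/
theorem b60 [Finite G] (y : G)
    (h60 : ∀ μ : ℂ, HasEigenvalue (lin (R y)) μ → ‖μ - ε‖ < 1)
    (hbot : eigenspace (lin (R y)) ε ≠ ⊥) (htop : eigenspace (lin (R y)) ε ≠ ⊤) :
    ∃ V : Submodule ℂ E, V ≠ ⊥ ∧ V ≠ ⊤ ∧
      ∀ g : G, (∀ v ∈ V, R g v ∈ V) ∨ (∀ v ∈ V, ∀ w ∈ V, inner ℂ (R g v) w = 0) := by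
  classical
  obtain ⟨v0, hv0m, hv0⟩ := Submodule.exists_mem_ne_zero_of_ne_bot hbot
  have hε : ‖ε‖ = 1 := by
    have h1 : R y v0 = ε • v0 := (mem_Wsp R ε).1 hv0m
    have h2 : ‖R y v0‖ = ‖v0‖ := LinearIsometryEquiv.norm_map _ _
    rw [h1, norm_smul] at h2
    have h3 : 0 < ‖v0‖ := norm_pos_iff.2 hv0
    exact mul_right_cancel₀ (ne_of_gt h3) (h2.trans (one_mul _).symm)
  have : Nontrivial E := ⟨⟨v0, 0, hv0⟩⟩
  have hstab := stab_all R ε hε y h60
  let Inv : Submodule ℂ E → Prop := fun V => ∀ g : G, ∀ v ∈ V, R (g * y * g⁻¹) v ∈ V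
  obtain ⟨V, hV0, hVI, hVmin⟩ := exists_min_invariant Inv (fun g v _ => Submodule.mem_top)
  have hdich : ∀ g : G, V ≤ Wsp R ε (g * y * g⁻¹) ∨ V ≤ (Wsp R ε (g * y * g⁻¹))ᗮ := by
    intro g
    set h := g * y * g⁻¹ with hh
    have hVh : ∀ v ∈ V, lin (R h) v ∈ V := fun v hv => hVI g v hv
    have : Nontrivial V := Submodule.nontrivial_iff_ne_bot.2 hV0
    obtain ⟨μ, hμ⟩ := Module.End.exists_eigenvalue ((lin (R h)).restrict hVh)
    obtain ⟨⟨v, hvV⟩, hvec⟩ := hμ.exists_hasEigenvector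
    have hv1 : R h v = μ • v := by
      have h1 := mem_eigenspace_iff.1 hvec.1
      have h2 := congrArg Subtype.val h1
      simpa [LinearMap.restrict_apply] using h2
    have hvne : v ≠ 0 := fun h0 => hvec.2 (Subtype.ext h0)
    by_cases hμε : μ = ε
    · left
      have hI : Inv (V ⊓ Wsp R ε h) := by
        intro g' v' hv'
        exact ⟨hVI g' v' hv'.1, hstab g' g v' hv'.2⟩
      have hne : V ⊓ Wsp R ε h ≠ ⊥ := by
        intro hb
        have : v ∈ V ⊓ Wsp R ε h := ⟨hvV, (mem_Wsp R ε).2 (hμε ▸ hv1)⟩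
        rw [hb] at this
        exact hvne ((Submodule.mem_bot ℂ).1 this)
      have := hVmin _ hne hI inf_le_left
      rw [← this]; exact inf_le_right
    · right
      have hI : Inv (V ⊓ (Wsp R ε h)ᗮ) := by
        intro g' v' hv'
        exact ⟨hVI g' v' hv'.1, orth_stab R _ _ (hstab g' g) v' hv'.2⟩
      have hne : V ⊓ (Wsp R ε h)ᗮ ≠ ⊥ := by
        intro hb
        have : v ∈ V ⊓ (Wsp R ε h)ᗮ := ⟨hvV, mem_orth_of_eig R ε hε hμε hv1⟩
        rw [hb] at this
        exact hvne ((Submodule.mem_bot ℂ).1 this)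
      have := hVmin _ hne hI inf_le_left
      rw [← this]; exact inf_le_right
  let S : Set G := {h | V ≤ Wsp R ε h}
  have hVblk : V ≤ blk R ε y S := by
    intro v hv
    rw [mem_blk]
    refine ⟨fun g hg => hg hv, fun g hg => ?_⟩
    rcases hdich g with h | h
    · exact absurd h hg
    · exact h hv
  refine ⟨blk R ε y S, ?_, ?_, ?_⟩
  · intro hb
    rw [hb] at hVblk
    exact hV0 (le_bot_iff.1 hVblk)
  · intro ht
    have hy : (1 : G) * y * 1⁻¹ = y := by group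
    by_cases hyS : (1 : G) * y * 1⁻¹ ∈ S
    · apply htop
      rw [eq_top_iff]
      intro v _
      have h1 : v ∈ blk R ε y S := ht ▸ Submodule.mem_top
      have h2 := ((mem_blk R ε).1 h1).1 1 hyS
      rw [hy] at h2
      exact h2
    · apply hbot
      rw [eq_bot_iff]
      intro v hv
      have hv' : v ∈ blk R ε y S := ht ▸ Submodule.mem_top
      have h2 := ((mem_blk R ε).1 hv').2 1 hyS
      rw [hy] at h2
      have h3 : inner ℂ v v = 0 := Submodule.inner_right_of_mem_orthogonal hv h2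
      rw [Submodule.mem_bot]
      exact inner_self_eq_zero.1 h3
  · intro g
    by_cases hS : ∀ a : G, (g⁻¹ * (a * y * a⁻¹) * g ∈ S ↔ a * y * a⁻¹ ∈ S)
    · left
      intro v hv
      rw [mem_blk] at hv ⊢
      constructor
      · intro a ha
        have e1 : g⁻¹ * (a * y * a⁻¹) * g = (g⁻¹ * a) * y * (g⁻¹ * a)⁻¹ := by group
        have e2 : a * y * a⁻¹ = g * ((g⁻¹ * a) * y * (g⁻¹ * a)⁻¹) * g⁻¹ := by group
        have h1 : (g⁻¹ * a) * y * (g⁻¹ * a)⁻¹ ∈ S := by rw [← e1]; exact (hS a).2 ha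
        have h2 := hv.1 (g⁻¹ * a) h1
        rw [e2]
        exact (mem_Wsp_conj R ε).2 h2
      · intro a ha
        have e1 : g⁻¹ * (a * y * a⁻¹) * g = (g⁻¹ * a) * y * (g⁻¹ * a)⁻¹ := by group
        have e2 : a * y * a⁻¹ = g * ((g⁻¹ * a) * y * (g⁻¹ * a)⁻¹) * g⁻¹ := by group
        have h1 : (g⁻¹ * a) * y * (g⁻¹ * a)⁻¹ ∉ S := by
          rw [← e1]; exact fun h => ha ((hS a).1 h)
        have h2 := hv.2 (g⁻¹ * a) h1
        rw [e2]
        exact map_orth R ε h2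
    · right
      obtain ⟨a, ha⟩ := not_forall.1 hS
      have e1 : g⁻¹ * (a * y * a⁻¹) * g = (g⁻¹ * a) * y * (g⁻¹ * a)⁻¹ := by group
      have e2 : a * y * a⁻¹ = g * ((g⁻¹ * a) * y * (g⁻¹ * a)⁻¹) * g⁻¹ := by group
      intro v hv w hw
      rw [mem_blk] at hv hw
      by_cases hB : a * y * a⁻¹ ∈ S
      · have hA : g⁻¹ * (a * y * a⁻¹) * g ∉ S := fun h => ha ⟨fun _ => hB, fun _ => h⟩
        rw [e1] at hA
        have hv1 := hv.2 (g⁻¹ * a) hA
        have hv2 : R g v ∈ (Wsp R ε (a * y * a⁻¹))ᗮ := by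
          rw [e2]; exact map_orth R ε hv1
        have hw2 := hw.1 a hB
        exact Submodule.inner_left_of_mem_orthogonal hw2 hv2
      · have hA : g⁻¹ * (a * y * a⁻¹) * g ∈ S := by
          by_contra h
          exact ha ⟨fun h' => absurd h' h, fun h' => absurd h' hB⟩
        rw [e1] at hA
        have hv1 := hv.1 (g⁻¹ * a) hA
        have hv2 : R g v ∈ Wsp R ε (a * y * a⁻¹) := by
          rw [e2]; exact (mem_Wsp_conj R ε).2 hv1
        have hw2 := hw.2 a hB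
        exact Submodule.inner_right_of_mem_orthogonal hv2 hw2

end Cfsg.Agent.Lib.H19.B60
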