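import Cfsg.Agent.Lib.H19.B60
import Cfsg.Agent.Lib.H15.BBXFINALCore

/-!
helper19: S4484 piece (XFINAL) `b60_contra` in the exact signature of `tools/blueprints/S4484_sigs.lean`.

Route (scalar form (XS) of Blichfeldt's theorem): by `H19.B60.stab_all` every conjugate of `y = x ^ d`
stabilises `K = ker (R y - ε)`; the stabiliser of `K` is a subgroup containing the normal closure of `y`,
which is `G` (simple, `y ≠ 1`); irreducibility gives `K = ⊤`, i.e. `R y` is the scalar `ε`, and helper15's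
`b60_contra_of_xs` finishes (`y` central, `G` abelian).  `hcard` is not used.
-/

set_option autoImplicit false

namespace Cfsg.Agent.Lib.H19.BB

open Cfsg.Agent.Lib.H1.Jordan Module.End
open scoped ComplexConjugate

/-- `Re (conj ε * μ) > 1/2` for unit complex numbers means distance `< 1`. -/
theorem norm_sub_lt_one_of_re {ε μ : ℂ} (hε : ‖ε‖ = 1) (hμ : ‖μ‖ = 1)
    (h : 1 / 2 < ((starRingEnd ℂ) ε * μ).re) : ‖μ - ε‖ < 1 := by
  have h1 : ‖μ - ε‖ ^ 2 = ‖μ‖ ^ 2 + ‖ε‖ ^ 2 - 2 * ((starRingEnd ℂ) ε * μ).re := by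
    rw [← Complex.normSq_eq_norm_sq, ← Complex.normSq_eq_norm_sq, ← Complex.normSq_eq_norm_sq,
      Complex.normSq_sub, mul_comm μ]
  rw [hε, hμ] at h1
  have h2 : ‖μ - ε‖ ^ 2 < 1 := by rw [h1]; linarith
  have h3 : 0 ≤ ‖μ - ε‖ := norm_nonneg _
  nlinarith

variable {G : Type*} [Group G]
variable {E : Type*} [NormedAddCommGroup E] [InnerProductSpace ℂ E] [FiniteDimensional ℂ E]

/-- eigenvalues of a linear isometry have norm one -/
theorem norm_eq_one_of_hasEigenvalue (T : E ≃ₗᵢ[ℂ] E) {μ : ℂ} (hμ : HasEigenvalue (lin T) μ) :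
    ‖μ‖ = 1 := by
  obtain ⟨v, hv⟩ := hμ.exists_hasEigenvector
  have h1 : T v = μ • v := by
    have := mem_eigenspace_iff.1 hv.1
    rwa [lin_apply] at this
  have h2 : ‖T v‖ = ‖v‖ := LinearIsometryEquiv.norm_map _ _
  rw [h1, norm_smul] at h2
  have h3 : 0 < ‖v‖ := norm_pos_iff.2 hv.2
  exact mul_right_cancel₀ (ne_of_gt h3) (h2.trans (one_mul _).symm)

/-- **(XS)** the scalar form of Blichfeldt's theorem for a simple group: a nontrivial element with an
eigenvalue `ε` such that all eigenvalues are within `60°` of `ε` acts as the scalar `ε` in an irreducible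
unitary representation. -/
theorem xs [Finite G] [IsSimpleGroup G] (R : G →* (E ≃ₗᵢ[ℂ] E))
    (hirr : ∀ W : Submodule ℂ E, (∀ g, ∀ w ∈ W, R g w ∈ W) → W = ⊥ ∨ W = ⊤)
    (y : G) (ε : ℂ) (hy : y ≠ 1) (hε : ‖ε‖ = 1) (hbot : eigenspace (lin (R y)) ε ≠ ⊥)
    (hspec : ∀ μ : ℂ, HasEigenvalue (lin (R y)) μ → 1 / 2 < ((starRingEnd ℂ) ε * μ).re) :
    eigenspace (lin (R y)) ε = ⊤ := by
  have h60 : ∀ μ : ℂ, HasEigenvalue (lin (R y)) μ → ‖μ - ε‖ < 1 := fun μ hμ =>
    norm_sub_lt_one_of_re hε (norm_eq_one_of_hasEigenvalue (R y) hμ) (hspec μ hμ)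
  have hstab := Cfsg.Agent.Lib.H19.B60.stab_all R ε hε y h60
  set K : Submodule ℂ E := eigenspace (lin (R y)) ε with hK
  have hKW : Cfsg.Agent.Lib.H19.B60.Wsp R ε y = K := rfl
  let S : Subgroup G :=
    { carrier := {h | ∀ v ∈ K, R h v ∈ K}
      mul_mem' := by
        intro h k hh hk v hv
        rw [map_mul, mul_apply']
        exact hh _ (hk v hv)
      one_mem' := by
        intro v hv
        rw [map_one]
        exact hv
      inv_mem' := by
        intro h hh v hv
        rw [map_inv, inv_apply']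
        exact Cfsg.Agent.Lib.H19.B60.symm_mem_of_stab R h K hh v hv }
  have hconj : ∀ g : G, g * y * g⁻¹ ∈ S := by
    intro g v hv
    have h1 : (1 : G) * y * 1⁻¹ = y := by group
    have h2 := hstab g 1
    rw [h1, hKW] at h2
    exact h2 v hv
  have hle : Subgroup.normalClosure ({y} : Set G) ≤ S := by
    unfold Subgroup.normalClosure
    rw [Subgroup.closure_le]
    intro z hz
    rw [Group.mem_conjugatesOfSet_iff] at hz
    obtain ⟨w, hw, hwz⟩ := hz
    rw [Set.mem_singleton_iff] at hw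
    subst hw
    obtain ⟨c, hc⟩ := isConj_iff.1 hwz
    rw [← hc]
    exact hconj c
  have hnc : Subgroup.normalClosure ({y} : Set G) = ⊤ := by
    rcases IsSimpleGroup.eq_bot_or_eq_top_of_normal (Subgroup.normalClosure ({y} : Set G))
      Subgroup.normalClosure_normal with h | h
    · exfalso
      have hy' : y ∈ Subgroup.normalClosure ({y} : Set G) :=
        Subgroup.subset_normalClosure (Set.mem_singleton y)
      rw [h, Subgroup.mem_bot] at hy'
      exact hy hy'
    · exact h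
  have hall : ∀ g : G, ∀ w ∈ K, R g w ∈ K := by
    intro g
    have : g ∈ S := hle (by rw [hnc]; exact Subgroup.mem_top g)
    exact this
  rcases hirr K hall with h | h
  · exact absurd h hbot
  · exact h

/-- **(XFINAL)** in the exact signature of `tools/blueprints/S4484_sigs.lean`. -/
theorem b60_contra {G : Type*} [Group G] [Finite G] [IsSimpleGroup G]
    (hna : ∃ g h : G, g * h ≠ h * g) {n : ℕ}
    (R : G →* (EuclideanSpace ℂ (Fin n) ≃ₗᵢ[ℂ] EuclideanSpace ℂ (Fin n)))
    (hirr : ∀ W : Submodule ℂ (EuclideanSpace ℂ (Fin n)), (∀ g, ∀ w ∈ W, R g w ∈ W) → W = ⊥ ∨ W = ⊤)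
    (hinj : Function.Injective R) {p : ℕ} (hp : p.Prime) (x : G) (hx : orderOf x = p)
    (b : OrthonormalBasis (Fin n) ℂ (EuclideanSpace ℂ (Fin n))) (a : Fin n → ℂ)
    (hb : ∀ k, R x (b k) = a k • b k) (hcard : (Finset.univ.image a).card < p)
    (d : ℕ) (hd1 : 1 ≤ d) (hdp : d < p) (k₁ : Fin n)
    (hnear : ∀ k, 1 / 2 < ((starRingEnd ℂ) (a k₁ ^ d) * a k ^ d).re) : False :=
  Cfsg.Agent.Lib.H15.BB.b60_contra_of_xs hna R hinj hp x hx b a hb d hd1 hdp k₁ hnear
    (fun y ε hy hε hbot hspec => xs R hirr y ε hy hε hbot hspec)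

end Cfsg.Agent.Lib.H19.BB
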