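import Mathlib
import Cfsg.Prelude.Def_Transfer
import Cfsg.Agent.Lib.H8.Nilpotent
import Cfsg.Agent.Lib.H19.Basic

set_option autoImplicit false

/-!
# Nilpotent minimal covers and abelian Sylow subgroups (Bryce–Serena)

`G` finite with trivial centre and a nilpotent minimal cover `𝓐`; `P` an abelian non-normal
Sylow `p`-subgroup that is not (elementary abelian of order `> p`).  Then `C_G(P) ∈ 𝓐`,
`N_G(P)` is the unique maximal subgroup containing `C_G(P)`, and `N_G(P) ∩ N_G(P)^g` is a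
`p'`-group for `g ∉ N_G(P)`.
-/

namespace Cfsg.Agent.Lib.H19.NilCoverSylow

open Cfsg
open scoped Pointwise

variable {G : Type*} [Group G]

/-- nilpotent minimal cover (same shape as in the statements) -/
def IsNMC (𝓐 : Finset (Subgroup G)) : Prop :=
  ((∀ A ∈ 𝓐, A ≠ ⊤) ∧ (∀ g : G, ∃ A ∈ 𝓐, g ∈ A)) ∧
  (∀ 𝓑 : Finset (Subgroup G), (∀ A ∈ 𝓑, A ≠ ⊤) ∧ (∀ g : G, ∃ A ∈ 𝓑, g ∈ A) → 𝓐.card ≤ 𝓑.card) ∧
  (∀ A ∈ 𝓐, Group.IsNilpotent ↥A)

/-- two distinct members of a minimal cover generate the group -/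
theorem sup_eq_top {𝓐 : Finset (Subgroup G)} (h : IsNMC 𝓐) {A B : Subgroup G} (hA : A ∈ 𝓐)
    (hB : B ∈ 𝓐) (hne : A ≠ B) : A ⊔ B = ⊤ := by
  classical
  by_contra hS
  obtain ⟨⟨hprop, hcov⟩, hmin, -⟩ := h
  have hB' : B ∈ 𝓐.erase A := Finset.mem_erase.2 ⟨hne.symm, hB⟩
  have hc1 : (𝓐.erase A).card = 𝓐.card - 1 := Finset.card_erase_of_mem hA
  have hc2 : ((𝓐.erase A).erase B).card = (𝓐.erase A).card - 1 := Finset.card_erase_of_mem hB'
  have hpos : 0 < (𝓐.erase A).card := Finset.card_pos.2 ⟨B, hB'⟩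
  have hc3 := Finset.card_insert_le (A ⊔ B) ((𝓐.erase A).erase B)
  have hle := hmin (insert (A ⊔ B) ((𝓐.erase A).erase B)) ⟨?_, ?_⟩
  · omega
  · intro C hC
    rcases Finset.mem_insert.1 hC with rfl | hC'
    · exact hS
    · exact hprop C (Finset.mem_of_mem_erase (Finset.mem_of_mem_erase hC'))
  · intro g
    obtain ⟨C, hC, hgC⟩ := hcov g
    by_cases e1 : C = A
    · subst e1
      exact ⟨C ⊔ B, Finset.mem_insert_self _ _, (le_sup_left : C ≤ C ⊔ B) hgC⟩
    · by_cases e2 : C = B
      · subst e2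
        exact ⟨A ⊔ C, Finset.mem_insert_self _ _, (le_sup_right : C ≤ A ⊔ C) hgC⟩
      · exact ⟨C, Finset.mem_insert_of_mem
          (Finset.mem_erase.2 ⟨e2, Finset.mem_erase.2 ⟨e1, hC⟩⟩), hgC⟩

/-- two members centralizing a common non-identity element coincide -/
theorem eq_of_le_centralizer {𝓐 : Finset (Subgroup G)} (h : IsNMC 𝓐)
    (hZ : Subgroup.center G = ⊥) {A B : Subgroup G} (hA : A ∈ 𝓐) (hB : B ∈ 𝓐) {y : G}
    (hy : y ≠ 1) (hAy : A ≤ Subgroup.centralizer {y}) (hBy : B ≤ Subgroup.centralizer {y}) :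
    A = B := by
  by_contra hne
  have hS := sup_eq_top h hA hB hne
  have hle : (⊤ : Subgroup G) ≤ Subgroup.centralizer {y} := hS ▸ sup_le hAy hBy
  apply hy
  have hyc : y ∈ Subgroup.center G := by
    rw [Subgroup.mem_center_iff]
    intro g
    have := hle (Subgroup.mem_top g)
    rw [Subgroup.mem_centralizer_singleton_iff] at this
    exact this
  rw [hZ] at hyc
  exact Subgroup.mem_bot.mp hyc

section Sylow

variable [Finite G] {p : ℕ} [Fact p.Prime]

/-- if a Sylow `p`-subgroup is abelian, elements of any `p`-subgroup commute -/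
theorem commute_of_pgroup (P : Sylow p G) (hab : IsMulCommutative ↥(P : Subgroup G))
    {Q : Subgroup G} (hQ : IsPGroup p Q) {a b : G} (ha : a ∈ Q) (hb : b ∈ Q) :
    a * b = b * a := by
  obtain ⟨P', hP'⟩ := hQ.exists_le_sylow
  obtain ⟨g, hg⟩ := MulAction.exists_smul_eq G P P'
  have key : ∀ z ∈ Q, g⁻¹ * z * g ∈ (P : Subgroup G) := by
    intro z hz
    have h1 : z ∈ ((g • P : Sylow p G) : Subgroup G) := by rw [hg]; exact hP' hz
    rw [Sylow.coe_subgroup_smul, Subgroup.mem_pointwise_smul_iff_inv_smul_mem] at h1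
    simpa [MulAut.smul_def, mul_assoc] using h1
  have hc : (g⁻¹ * a * g) * (g⁻¹ * b * g) = (g⁻¹ * b * g) * (g⁻¹ * a * g) := by
    have := hab.is_comm.comm ⟨_, key a ha⟩ ⟨_, key b hb⟩
    exact congrArg Subtype.val this
  have e1 : a * b = g * ((g⁻¹ * a * g) * (g⁻¹ * b * g)) * g⁻¹ := by group
  have e2 : b * a = g * ((g⁻¹ * b * g) * (g⁻¹ * a * g)) * g⁻¹ := by group
  rw [e1, e2, hc]

/-- a member of the cover centralizes each of its `p`-elements -/
theorem le_centralizer_of_mem {𝓐 : Finset (Subgroup G)} (h : IsNMC 𝓐) (P : Sylow p G)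
    (hab : IsMulCommutative ↥(P : Subgroup G)) {A : Subgroup G} (hA : A ∈ 𝓐) {y : G}
    (hyA : y ∈ A) (hy : ∃ k : ℕ, y ^ (p ^ k) = 1) : A ≤ Subgroup.centralizer {y} := by
  have hnil := h.2.2 A hA
  obtain ⟨S, hSA, hS, -, hSall⟩ := Cfsg.Agent.Lib.H8.sylow_of_nilpotent A hnil p
  have hyS : y ∈ S := hSall y hyA hy
  have hcen := Cfsg.Agent.Lib.H8.central_of_sylow_central A hnil p S hSA hS hSall hyS
    (fun u hu => commute_of_pgroup P hab hS hyS hu)
  intro a ha
  rw [Subgroup.mem_centralizer_singleton_iff]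
  exact (hcen a ha).symm

omit [Finite G] [Fact p.Prime] in
theorem pElement_of_mem (P : Sylow p G) {z : G} (hz : z ∈ (P : Subgroup G)) :
    ∃ k : ℕ, z ^ (p ^ k) = 1 := by
  obtain ⟨k, hk⟩ := P.isPGroup' ⟨z, hz⟩
  exact ⟨k, by simpa using congrArg Subtype.val hk⟩

/-- if a non-identity power of the `p`-element `z` lies in `A` and `z ∈ B`, then `B = A` -/
theorem eq_of_pow_mem {𝓐 : Finset (Subgroup G)} (h : IsNMC 𝓐) (hZ : Subgroup.center G = ⊥)
    (P : Sylow p G) (hab : IsMulCommutative ↥(P : Subgroup G)) {A B : Subgroup G} (hA : A ∈ 𝓐)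
    (hB : B ∈ 𝓐) {z : G} (hz : ∃ k : ℕ, z ^ (p ^ k) = 1) (m : ℕ) (hzA : z ^ m ∈ A)
    (hzm : z ^ m ≠ 1) (hzB : z ∈ B) : B = A := by
  apply eq_of_le_centralizer h hZ hB hA hzm
  · intro b hb
    have := le_centralizer_of_mem h P hab hB hzB hz hb
    rw [Subgroup.mem_centralizer_singleton_iff] at this ⊢
    exact (Commute.pow_right (show Commute b z from this) m).eq
  · apply le_centralizer_of_mem h P hab hA hzA
    obtain ⟨k, hk⟩ := hz
    exact ⟨k, by rw [← pow_mul, mul_comm, pow_mul, hk, one_pow]⟩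

/-- the hypotheses on the Sylow subgroup, bundled -/
structure Hyp (P : Sylow p G) : Prop where
  ab : IsMulCommutative ↥(P : Subgroup G)
  nn : ¬ (P : Subgroup G).Normal
  ne : ¬ (IsElementaryAbelian p (P : Subgroup G) ∧ p < Nat.card ↥(P : Subgroup G))

omit [Finite G] [Fact p.Prime] in
theorem Hyp.ne_bot {P : Sylow p G} (hP : Hyp P) : (P : Subgroup G) ≠ ⊥ := by
  intro h0
  apply hP.nn
  rw [h0]
  infer_instance

omit [Finite G] [Fact p.Prime] in
/-- a `p`-element normalizing `P` lies in `P` -/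
theorem mem_of_mem_normalizer (P : Sylow p G) {z : G} (hz : ∃ k : ℕ, z ^ (p ^ k) = 1)
    (hzN : z ∈ Subgroup.normalizer ((P : Subgroup G) : Set G)) : z ∈ (P : Subgroup G) := by
  have hpg : IsPGroup p (Subgroup.zpowers z) := by
    obtain ⟨k, hk⟩ := hz
    rintro ⟨g, hg⟩
    obtain ⟨i, rfl⟩ := Subgroup.mem_zpowers_iff.mp hg
    refine ⟨k, ?_⟩
    apply Subtype.ext
    simp only [Subgroup.coe_pow, Subgroup.coe_one]
    rw [← zpow_natCast, ← zpow_mul, mul_comm, zpow_mul, zpow_natCast, hk, one_zpow]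
  have h1 := hpg.inf_normalizer_sylow P
  have h2 : z ∈ Subgroup.zpowers z ⊓ Subgroup.normalizer ((P : Subgroup G) : Set G) :=
    ⟨Subgroup.mem_zpowers z, hzN⟩
  have h3 : z ∈ Subgroup.zpowers z ⊓ (P : Subgroup G) := h1.le h2
  exact h3.2

/-- the first part of the analysis: `Ω₁(P)` lies in one member, which then contains `P` and is
the only member meeting `P` non-trivially -/
theorem exists_member {𝓐 : Finset (Subgroup G)} (h : IsNMC 𝓐) (hZ : Subgroup.center G = ⊥)
    (P : Sylow p G) (hP : Hyp P) :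
    ∃ A₀ ∈ 𝓐, (P : Subgroup G) ≤ A₀ ∧
      ∀ z ∈ (P : Subgroup G), z ≠ 1 → ∀ B ∈ 𝓐, z ∈ B → B = A₀ := by
  have hab := hP.ab
  have hp : p.Prime := Fact.out
  -- Step 1: a member containing all elements of order dividing `p` of `P`
  have step1 : ∃ A₀ ∈ 𝓐, ∀ u ∈ (P : Subgroup G), u ^ p = 1 → u ∈ A₀ := by
    by_cases hE : IsElementaryAbelian p (P : Subgroup G)
    · -- `|P| = p`
      have hcard : Nat.card ↥(P : Subgroup G) ≤ p := by
        by_contra hlt
        exact hP.ne ⟨hE, not_le.mp hlt⟩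
      obtain ⟨⟨x, hxP⟩, hx1'⟩ := (Subgroup.ne_bot_iff_exists_ne_one).1 hP.ne_bot
      have hx1 : x ≠ 1 := fun h0 => hx1' (Subtype.ext h0)
      have hxp : x ^ p = 1 := hE.2 x hxP
      have hord : orderOf x = p := orderOf_eq_prime hxp hx1
      have hzle : Subgroup.zpowers x ≤ (P : Subgroup G) := by
        rw [Subgroup.zpowers_le]; exact hxP
      have heq : Subgroup.zpowers x = (P : Subgroup G) := by
        apply Subgroup.eq_of_le_of_card_ge hzle
        rw [Nat.card_zpowers, hord]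
        exact hcard
      obtain ⟨A₀, hA₀, hxA₀⟩ := h.1.2 x
      refine ⟨A₀, hA₀, fun u hu _ => ?_⟩
      rw [← heq] at hu
      exact (Subgroup.zpowers_le.mpr hxA₀) hu
    · -- there is `x ∈ P` with `x ^ p ≠ 1`
      have hex : ∃ x ∈ (P : Subgroup G), x ^ p ≠ 1 := by
        by_contra hno
        push Not at hno
        exact hE ⟨hab, hno⟩
      obtain ⟨x, hxP, hxp⟩ := hex
      obtain ⟨A₀, hA₀, hxA₀⟩ := h.1.2 x
      refine ⟨A₀, hA₀, fun u hu hup => ?_⟩
      have hcomm : u * x = x * u := by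
        have := hab.is_comm.comm ⟨u, hu⟩ ⟨x, hxP⟩
        exact congrArg Subtype.val this
      have hpow : (u * x) ^ p = x ^ p := by
        rw [(show Commute u x from hcomm).mul_pow, hup, one_mul]
      obtain ⟨B, hB, huxB⟩ := h.1.2 (u * x)
      have hBA : B = A₀ := by
        apply eq_of_pow_mem h hZ P hab hA₀ hB
          (pElement_of_mem P (Subgroup.mul_mem _ hu hxP)) p _ _ huxB
        · rw [hpow]; exact Subgroup.pow_mem _ hxA₀ _
        · rw [hpow]; exact hxp
      rw [hBA] at huxB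
      have : u = (u * x) * x⁻¹ := by group
      rw [this]
      exact Subgroup.mul_mem _ huxB (Subgroup.inv_mem _ hxA₀)
  obtain ⟨A₀, hA₀, hΩ⟩ := step1
  -- Step 2: uniqueness
  have step2 : ∀ z ∈ (P : Subgroup G), z ≠ 1 → ∀ B ∈ 𝓐, z ∈ B → B = A₀ := by
    intro z hzP hz1 B hB hzB
    obtain ⟨k, hk⟩ := (IsPGroup.iff_orderOf.mp P.isPGroup') ⟨z, hzP⟩
    rw [Subgroup.orderOf_mk] at hk
    have hk0 : k ≠ 0 := by
      intro h0
      rw [h0, pow_zero, orderOf_eq_one_iff] at hk
      exact hz1 hk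
    obtain ⟨j, hj⟩ := Nat.exists_eq_succ_of_ne_zero hk0
    rw [hj, Nat.succ_eq_add_one] at hk
    have hw1 : z ^ (p ^ j) ≠ 1 := by
      intro h0
      have hdvd := orderOf_dvd_of_pow_eq_one h0
      rw [hk] at hdvd
      have := Nat.le_of_dvd (pow_pos hp.pos j) hdvd
      have hlt : p ^ j < p ^ (j + 1) := Nat.pow_lt_pow_right hp.one_lt (Nat.lt_succ_self j)
      omega
    have hwp : (z ^ (p ^ j)) ^ p = 1 := by
      rw [← pow_mul, ← pow_succ, ← hk, pow_orderOf_eq_one]
    have hwA : z ^ (p ^ j) ∈ A₀ := hΩ _ (Subgroup.pow_mem _ hzP _) hwp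
    exact eq_of_pow_mem h hZ P hab hA₀ hB (pElement_of_mem P hzP) (p ^ j) hwA hw1 hzB
  refine ⟨A₀, hA₀, ?_, step2⟩
  intro z hzP
  by_cases hz1 : z = 1
  · rw [hz1]; exact Subgroup.one_mem _
  · obtain ⟨B, hB, hzB⟩ := h.1.2 z
    rw [step2 z hzP hz1 B hB hzB] at hzB
    exact hzB

/-- the member found above is the centralizer of `P` -/
theorem key {𝓐 : Finset (Subgroup G)} (h : IsNMC 𝓐) (hZ : Subgroup.center G = ⊥)
    (P : Sylow p G) (hP : Hyp P) :
    Subgroup.centralizer ((P : Subgroup G) : Set G) ∈ 𝓐 ∧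
      ∀ z ∈ (P : Subgroup G), z ≠ 1 → ∀ B ∈ 𝓐, z ∈ B →
        B = Subgroup.centralizer ((P : Subgroup G) : Set G) := by
  obtain ⟨A₀, hA₀, hPA, huniq⟩ := exists_member h hZ P hP
  have hab := hP.ab
  have hp : p.Prime := Fact.out
  have heq : Subgroup.centralizer ((P : Subgroup G) : Set G) = A₀ := by
    apply le_antisymm
    · intro c hc
      obtain ⟨c₁, c₂, hc₁, hc₂, hdec, hc₁p, hc₂p⟩ :=
        Cfsg.Agent.Lib.H8.exists_p_decomp c (orderOf_pos c).ne' p hp
      have hzc : Subgroup.zpowers c ≤ Subgroup.centralizer ((P : Subgroup G) : Set G) := by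
        rw [Subgroup.zpowers_le]; exact hc
      have h1 : c₁ ∈ A₀ := by
        apply hPA
        apply mem_of_mem_normalizer P hc₁p
        exact Subgroup.centralizer_le_normalizer _ (hzc hc₁)
      have h2 : c₂ ∈ A₀ := by
        obtain ⟨⟨x, hxP⟩, hx1'⟩ := (Subgroup.ne_bot_iff_exists_ne_one).1 hP.ne_bot
        have hx1 : x ≠ 1 := fun h0 => hx1' (Subtype.ext h0)
        have hcomm : x * c₂ = c₂ * x := by
          have := hzc hc₂
          rw [Subgroup.mem_centralizer_iff] at this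
          exact this x hxP
        set n := orderOf c₂ with hn
        have hpow : (x * c₂) ^ n = x ^ n := by
          rw [(show Commute x c₂ from hcomm).mul_pow, hn, pow_orderOf_eq_one, mul_one]
        have hxn1 : x ^ n ≠ 1 := by
          intro h0
          have hdvd := orderOf_dvd_of_pow_eq_one h0
          obtain ⟨k, hk⟩ := (IsPGroup.iff_orderOf.mp P.isPGroup') ⟨x, hxP⟩
          rw [Subgroup.orderOf_mk] at hk
          have hk0 : k ≠ 0 := by
            intro h00
            rw [h00, pow_zero, orderOf_eq_one_iff] at hk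
            exact hx1 hk
          have hpd : p ∣ n := by
            rw [hk] at hdvd
            exact (dvd_pow_self p hk0).trans hdvd
          exact (Nat.Prime.coprime_iff_not_dvd hp).mp hc₂p.symm hpd
        obtain ⟨B, hB, hxcB⟩ := h.1.2 (x * c₂)
        have hxnB : x ^ n ∈ B := by rw [← hpow]; exact Subgroup.pow_mem _ hxcB _
        have hBA : B = A₀ := huniq (x ^ n) (Subgroup.pow_mem _ hxP _) hxn1 B hB hxnB
        rw [hBA] at hxcB
        have : c₂ = x⁻¹ * (x * c₂) := by group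
        rw [this]
        exact Subgroup.mul_mem _ (Subgroup.inv_mem _ (hPA hxP)) hxcB
      rw [hdec]
      exact Subgroup.mul_mem _ h1 h2
    · intro a ha
      rw [Subgroup.mem_centralizer_iff]
      intro z hz
      have := le_centralizer_of_mem h P hab hA₀ (hPA hz) (pElement_of_mem P hz) ha
      rw [Subgroup.mem_centralizer_singleton_iff] at this
      exact this.symm
  rw [heq]
  exact ⟨hA₀, huniq⟩

omit [Finite G] [Fact p.Prime] in
theorem mem_smul_iff (P : Sylow p G) (g z : G) :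
    z ∈ ((g • P : Sylow p G) : Subgroup G) ↔ g⁻¹ * z * g ∈ (P : Subgroup G) := by
  rw [Sylow.coe_subgroup_smul, Subgroup.mem_pointwise_smul_iff_inv_smul_mem]
  simp [MulAut.smul_def, mul_assoc]

/-- the hypotheses pass to every Sylow `p`-subgroup -/
theorem Hyp.transport {P : Sylow p G} (hP : Hyp P) (P' : Sylow p G) : Hyp P' := by
  obtain ⟨g, hg⟩ := MulAction.exists_smul_eq G P P'
  refine ⟨⟨⟨fun a b => Subtype.ext (commute_of_pgroup P hP.ab P'.isPGroup' a.2 b.2)⟩⟩, ?_, ?_⟩
  · intro hn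
    apply hP.nn
    have h1 : g⁻¹ • P' = P' := by
      have := hn
      exact Sylow.smul_eq_of_normal
    have h2 : P = P' := by
      rw [← hg, inv_smul_smul] at h1
      exact h1.trans hg
    rw [h2]
    exact hn
  · rintro ⟨hE, hlt⟩
    apply hP.ne
    refine ⟨⟨hP.ab, ?_⟩, ?_⟩
    · intro a ha
      have h1 : g * a * g⁻¹ ∈ (P' : Subgroup G) := by
        rw [← hg, mem_smul_iff]
        have : g⁻¹ * (g * a * g⁻¹) * g = a := by group
        rw [this]
        exact ha
      have h2 := hE.2 _ h1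
      rw [conj_pow] at h2
      have : a ^ p = g⁻¹ * (g * a ^ p * g⁻¹) * g := by group
      rw [this, h2]
      group
    · rw [Sylow.card_eq_multiplicity] at hlt ⊢
      exact hlt

omit [Finite G] [Fact p.Prime] in
/-- Sylow subgroups with the same centralizer coincide (abelian case) -/
theorem eq_of_centralizer_eq (P P' : Sylow p G) (hab : IsMulCommutative ↥(P : Subgroup G))
    (hc : Subgroup.centralizer ((P' : Subgroup G) : Set G) =
      Subgroup.centralizer ((P : Subgroup G) : Set G)) : P' = P := by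
  have hle : (P : Subgroup G) ≤ (P' : Subgroup G) := by
    intro z hz
    apply mem_of_mem_normalizer P' (pElement_of_mem P hz)
    apply Subgroup.centralizer_le_normalizer
    rw [hc, Subgroup.mem_centralizer_iff]
    intro y hy
    have := hab.is_comm.comm ⟨y, hy⟩ ⟨z, hz⟩
    exact congrArg Subtype.val this
  exact Sylow.ext (P.is_maximal' P'.isPGroup' hle)

/-- **Bryce–Serena**: the main structural result -/
theorem core {𝓐 : Finset (Subgroup G)} (h : IsNMC 𝓐) (hZ : Subgroup.center G = ⊥)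
    (P : Sylow p G) (hP : Hyp P) :
    Subgroup.centralizer ((P : Subgroup G) : Set G) ∈ 𝓐 ∧
    IsCoatom (Subgroup.normalizer ((P : Subgroup G) : Set G)) ∧
    (∀ M : Subgroup G, IsCoatom M → Subgroup.centralizer ((P : Subgroup G) : Set G) ≤ M →
      M = Subgroup.normalizer ((P : Subgroup G) : Set G)) ∧
    (∀ g : G, g ∉ Subgroup.normalizer ((P : Subgroup G) : Set G) →
      ¬ p ∣ Nat.card ↥(Subgroup.normalizer ((P : Subgroup G) : Set G) ⊓
        (Subgroup.normalizer ((P : Subgroup G) : Set G)).map (MulAut.conj g).toMonoidHom)) := by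
  obtain ⟨hCmem, hCuniq⟩ := key h hZ P hP
  have hNtop : Subgroup.normalizer ((P : Subgroup G) : Set G) ≠ ⊤ := fun h0 =>
    hP.nn (Subgroup.normalizer_eq_top_iff.mp h0)
  have hPC : (P : Subgroup G) ≤ Subgroup.centralizer ((P : Subgroup G) : Set G) := by
    intro z hz
    rw [Subgroup.mem_centralizer_iff]
    intro y hy
    have := hP.ab.is_comm.comm ⟨y, hy⟩ ⟨z, hz⟩
    exact congrArg Subtype.val this
  -- uniqueness of the maximal subgroup
  have huniq : ∀ M : Subgroup G, IsCoatom M →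
      Subgroup.centralizer ((P : Subgroup G) : Set G) ≤ M →
      M = Subgroup.normalizer ((P : Subgroup G) : Set G) := by
    intro M hM hCM
    have hMN : M ≤ Subgroup.normalizer ((P : Subgroup G) : Set G) := by
      intro g hg
      apply Sylow.smul_eq_iff_mem_normalizer.mp
      obtain ⟨hC'mem, -⟩ := key h hZ (g • P) (hP.transport (g • P))
      have hC'M : Subgroup.centralizer (((g • P : Sylow p G) : Subgroup G) : Set G) ≤ M := by
        intro c hc
        have h1 : g⁻¹ * c * g ∈ Subgroup.centralizer ((P : Subgroup G) : Set G) := by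
          rw [Subgroup.mem_centralizer_iff] at hc ⊢
          intro y hy
          have hy' : g * y * g⁻¹ ∈ ((g • P : Sylow p G) : Subgroup G) := by
            rw [mem_smul_iff]
            have : g⁻¹ * (g * y * g⁻¹) * g = y := by group
            rw [this]; exact hy
          have := hc _ hy'
          calc y * (g⁻¹ * c * g) = g⁻¹ * ((g * y * g⁻¹) * c) * g := by group
            _ = g⁻¹ * (c * (g * y * g⁻¹)) * g := by rw [this]
            _ = g⁻¹ * c * g * y := by group
        have h2 := hCM h1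
        have : c = g * (g⁻¹ * c * g) * g⁻¹ := by group
        rw [this]
        exact M.mul_mem (M.mul_mem hg h2) (M.inv_mem hg)
      have heq : Subgroup.centralizer (((g • P : Sylow p G) : Subgroup G) : Set G) =
          Subgroup.centralizer ((P : Subgroup G) : Set G) := by
        by_contra hne
        have := sup_eq_top h hC'mem hCmem hne
        exact hM.1 (top_le_iff.mp (this ▸ sup_le hC'M hCM))
      exact eq_of_centralizer_eq P (g • P) hP.ab heq
    by_contra hne
    exact hNtop (hM.2 _ (lt_of_le_of_ne hMN hne))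
  refine ⟨hCmem, ?_, huniq, ?_⟩
  · have hCtop : Subgroup.centralizer ((P : Subgroup G) : Set G) ≠ ⊤ := h.1.1 _ hCmem
    obtain ⟨M, hM, hCM⟩ := (eq_top_or_exists_le_coatom _).resolve_left hCtop
    rw [← huniq M hM hCM]
    exact hM
  · intro g hg hdvd
    obtain ⟨y', hy'⟩ := exists_prime_orderOf_dvd_card' p hdvd
    obtain ⟨hyN, hyNg⟩ := Subgroup.mem_inf.mp y'.2
    set y : G := (y' : G) with hydef
    have hy : orderOf y = p := by rw [hydef, Subgroup.orderOf_coe]; exact hy'
    have hp : p.Prime := Fact.out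
    have hyp : ∃ k : ℕ, y ^ (p ^ k) = 1 := ⟨1, by rw [pow_one, ← hy, pow_orderOf_eq_one]⟩
    have hy1 : y ≠ 1 := by
      intro h0
      rw [h0, orderOf_one] at hy
      exact hp.one_lt.ne hy
    have hyP : y ∈ (P : Subgroup G) := mem_of_mem_normalizer P hyp hyN
    have hyP' : y ∈ ((g • P : Sylow p G) : Subgroup G) := by
      rw [mem_smul_iff]
      obtain ⟨n, hn, hny⟩ := Subgroup.mem_map.mp hyNg
      have e : g⁻¹ * y * g = n := by
        rw [← hny]
        show g⁻¹ * (g * n * g⁻¹) * g = n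
        group
      apply mem_of_mem_normalizer P _ (e ▸ hn)
      refine ⟨1, ?_⟩
      have ho : orderOf (g⁻¹ * y * g) = p := by
        rw [Cfsg.Agent.Lib.H19.orderOf_conj_eq', hy]
      rw [pow_one, ← ho, pow_orderOf_eq_one]
    obtain ⟨-, hC'uniq⟩ := key h hZ (g • P) (hP.transport (g • P))
    have heq := hC'uniq y hyP' hy1 _ hCmem (hPC hyP)
    apply hg
    apply Sylow.smul_eq_iff_mem_normalizer.mp
    exact eq_of_centralizer_eq P (g • P) hP.ab heq.symm

/-- the hypotheses hold for a non-normal Sylow subgroup that is cyclic, or abelian and not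
elementary abelian -/
theorem hyp_of_cyclic_or (P : Sylow p G)
    (hP : IsCyclic ↥(P : Subgroup G) ∨
      (IsMulCommutative ↥(P : Subgroup G) ∧ ¬ IsElementaryAbelian p (P : Subgroup G)))
    (hnn : ¬ (P : Subgroup G).Normal) : Hyp P := by
  rcases hP with hc | ⟨hab, hne⟩
  · have hab : IsMulCommutative ↥(P : Subgroup G) := by
      letI : CommGroup ↥(P : Subgroup G) := IsCyclic.commGroup
      exact ⟨⟨fun a b => mul_comm a b⟩⟩
    refine ⟨hab, hnn, ?_⟩
    rintro ⟨hE, hlt⟩
    obtain ⟨g, hg⟩ := hc.exists_generator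
    have hgp : g ^ p = 1 := by
      apply Subtype.ext
      simpa using hE.2 g.1 g.2
    have hord : orderOf g = Nat.card ↥(P : Subgroup G) := orderOf_eq_card_of_forall_mem_zpowers hg
    have hle : orderOf g ≤ p := Nat.le_of_dvd (Fact.out : p.Prime).pos (orderOf_dvd_of_pow_eq_one hgp)
    omega
  · exact ⟨hab, hnn, fun h => hne h.1⟩

end Sylow

end Cfsg.Agent.Lib.H19.NilCoverSylow
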