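import Mathlib
import Cfsg.Agent.Lib.H8.Nilpotent
import Cfsg.Agent.Lib.H19.NilCoverSylow

set_option autoImplicit false

namespace Cfsg.Agent.Lib.H19.BoundPair

open Cfsg.Agent.Lib.H19.NilCoverSylow

section abstract
variable {G : Type*} [Group G]

/-- bound-pair criterion: `x`, `x'` whose nilpotent overgroups all lie in a proper subgroup `B`,
and which lie in no common nilpotent subgroup, exclude nilpotent minimal covers -/
theorem no_nmc_of_bound_pair (B : Subgroup G) (hB : B ≠ ⊤) (x x' : G)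
    (hx : ∀ A : Subgroup G, Group.IsNilpotent A → x ∈ A → A ≤ B)
    (hx' : ∀ A : Subgroup G, Group.IsNilpotent A → x' ∈ A → A ≤ B)
    (hxx' : ∀ A : Subgroup G, Group.IsNilpotent A → x ∈ A → x' ∈ A → False)
    (𝓐 : Finset (Subgroup G)) (h : IsNMC 𝓐) : False := by
  obtain ⟨A, hA, hxA⟩ := h.1.2 x
  obtain ⟨A', hA', hxA'⟩ := h.1.2 x'
  have hne : A ≠ A' := by
    rintro rfl
    exact hxx' A (h.2.2 A hA) hxA hxA'
  have := sup_eq_top h hA hA' hne
  apply hB
  rw [eq_top_iff, ← this]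
  exact sup_le (hx A (h.2.2 A hA) hxA) (hx' A' (h.2.2 A' hA') hxA')

/-- a nilpotent subgroup containing an element all of whose centralizing elements are
`p`-elements is a `p`-group -/
theorem isPGroup_of_centralizer [Finite G] (p : ℕ) [Fact p.Prime] (A : Subgroup G)
    [Group.IsNilpotent A] (x : G) (hx : x ∈ A)
    (hC : ∀ a : G, Commute a x → ∃ k : ℕ, a ^ p ^ k = 1) : IsPGroup p A := by
  have hp : p.Prime := Fact.out
  intro a
  obtain ⟨c₁, c₂, hc₁, hc₂, hac, ⟨k, hk⟩, hcop⟩ :=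
    Cfsg.Agent.Lib.H8.exists_p_decomp a (orderOf_pos a).ne' p hp
  -- `x` is a `p`-element
  obtain ⟨kx, hkx⟩ := hC x (Commute.refl x)
  have hxo : orderOf (⟨x, hx⟩ : A) ∣ p ^ kx := by
    apply orderOf_dvd_of_pow_eq_one
    exact Subtype.ext (by simpa using hkx)
  have hcop' : (orderOf c₂).Coprime (orderOf (⟨x, hx⟩ : A)) :=
    Nat.Coprime.coprime_dvd_right hxo (Nat.Coprime.pow_right kx hcop)
  have hcomm := Cfsg.Agent.Lib.H8.commute_of_coprime_orderOf A c₂ ⟨x, hx⟩ hcop'
  have hcomm' : Commute (c₂ : G) x := by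
    have := congrArg Subtype.val hcomm.eq
    exact (by simpa using this : (c₂ : G) * x = x * (c₂ : G))
  obtain ⟨k2, hk2⟩ := hC (c₂ : G) hcomm'
  have hc2o : orderOf c₂ ∣ p ^ k2 := by
    apply orderOf_dvd_of_pow_eq_one
    exact Subtype.ext (by simpa using hk2)
  have hc2one : orderOf c₂ = 1 := by
    have := Nat.Coprime.eq_one_of_dvd (Nat.Coprime.pow_right k2 hcop) hc2o
    exact this
  rw [orderOf_eq_one_iff] at hc2one
  refine ⟨k, ?_⟩
  rw [hac, hc2one, mul_one, hk]

end abstract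

end Cfsg.Agent.Lib.H19.BoundPair
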