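import Mathlib
import Cfsg.Prelude.Def_DStar
import Cfsg.Agent.Lib.H15.DStarNormal

/-!
Transport of `D*` along isomorphisms and injective homomorphisms, anti-monotonicity of
`D*` (helper19's library, for the primitive-pair theorem S3753).
-/

set_option autoImplicit false
set_option linter.style.haveILetI false
open scoped commutatorElement

namespace Cfsg.Agent.Lib.H19.DSt

open Cfsg.Agent.Lib.H15

section Equiv

variable {S S' : Type*} [Group S] [Group S']

theorem dStarFamily_map_equiv (e : S ≃* S') {A : Subgroup S} (hA : A ∈ Cfsg.dStarFamily S) :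
    A.map e.toMonoidHom ∈ Cfsg.dStarFamily S' := by
  obtain ⟨hc, hp⟩ := hA
  refine ⟨⟨⟨?_⟩⟩, ?_⟩
  · rintro ⟨_, a, ha, rfl⟩ ⟨_, b, hb, rfl⟩
    apply Subtype.ext
    have := hc.is_comm.comm ⟨a, ha⟩ ⟨b, hb⟩
    have h2 : a * b = b * a := congrArg Subtype.val this
    show e.toMonoidHom a * e.toMonoidHom b = e.toMonoidHom b * e.toMonoidHom a
    rw [← map_mul, ← map_mul, h2]
  · intro x hx a ha
    obtain ⟨a0, ha0, rfl⟩ := ha
    have hinj : Function.Injective e.toMonoidHom := e.injective
    have hxe : e.toMonoidHom (e.symm x) = x := e.apply_symm_apply x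
    have hmap : (A ⊔ Subgroup.zpowers (e.symm x)).map e.toMonoidHom =
        A.map e.toMonoidHom ⊔ Subgroup.zpowers x := by
      rw [Subgroup.map_sup, MonoidHom.map_zpowers, hxe]
    have h0 : ⁅⁅A ⊔ Subgroup.zpowers (e.symm x), A ⊔ Subgroup.zpowers (e.symm x)⁆,
        A ⊔ Subgroup.zpowers (e.symm x)⁆ = ⊥ := by
      rw [← Subgroup.map_eq_bot_iff_of_injective _ hinj, Subgroup.map_commutator,
        Subgroup.map_commutator, hmap]
      exact hx
    have key := hp (e.symm x) h0 a0 ha0
    have := congrArg e.toMonoidHom key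
    rw [map_mul, map_mul, hxe] at this
    exact this

theorem dStar_map_equiv (e : S ≃* S') :
    (Cfsg.dStar S).map e.toMonoidHom = Cfsg.dStar S' := by
  apply le_antisymm
  · rw [Subgroup.map_le_iff_le_comap]
    unfold Cfsg.dStar
    apply sSup_le
    intro A hA
    rw [← Subgroup.map_le_iff_le_comap]
    exact le_sSup (dStarFamily_map_equiv e hA)
  · unfold Cfsg.dStar
    apply sSup_le
    intro B hB
    have h1 : B.map e.symm.toMonoidHom ∈ Cfsg.dStarFamily S := dStarFamily_map_equiv e.symm hB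
    have h2 : B = (B.map e.symm.toMonoidHom).map e.toMonoidHom := by
      rw [Subgroup.map_map]
      have : e.toMonoidHom.comp e.symm.toMonoidHom = MonoidHom.id S' := by
        ext x; simp
      rw [this, Subgroup.map_id]
    rw [h2]
    exact Subgroup.map_mono (le_sSup h1)

end Equiv

section Map

variable {H G : Type*} [Group H] [Group G]

theorem dStarOf_map (f : H →* G) (hf : Function.Injective f) (P : Subgroup H) :
    Cfsg.dStarOf (P.map f) = (Cfsg.dStarOf P).map f := by
  unfold Cfsg.dStarOf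
  rw [← dStar_map_equiv (P.equivMapOfInjective f hf), Subgroup.map_map, Subgroup.map_map]
  congr 1

end Map

section Anti

variable {G : Type*} [Group G]

theorem comm_of_quad {a x : G} (h : ⁅⁅a, x⁆, x⁆ = 1) : ⁅x, a⁆ * x = x * ⁅x, a⁆ := by
  rw [commutatorElement_eq_one_iff_mul_comm] at h
  have e : ⁅x, a⁆ = ⁅a, x⁆⁻¹ := (commutatorElement_inv a x).symm
  rw [e]
  have hc' : Commute ⁅a, x⁆ x := h
  exact hc'.inv_left.eq

/-- `D*` is anti-monotone on `p`-subgroups `S ≤ T` as long as `D*(T) ≤ S`. -/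
theorem dStarOf_anti [Finite G] {p : ℕ} [Fact p.Prime] {S T : Subgroup G} (hT : IsPGroup p ↥T)
    (hST : S ≤ T) (h : Cfsg.dStarOf T ≤ S) : Cfsg.dStarOf T ≤ Cfsg.dStarOf S := by
  apply le_dStarOf_of h (fun a ha b hb => dStarOf_comm hT ha hb)
  intro x hx hquad
  apply dStarOf_centralized hT (hST hx)
  · intro a ha b hb
    have h1 : ⁅x, a⁆ ∈ Cfsg.dStarOf T := by
      rw [commutatorElement_def]
      exact mul_mem (dStarOf_conj_mem _ (hST hx) ha) (inv_mem ha)
    exact dStarOf_comm hT h1 hb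
  · intro a ha
    exact comm_of_quad (hquad a ha)

/-- `D*(P) ≠ 1` for a nontrivial finite `p`-group `P`. -/
theorem dStarOf_ne_bot [Finite G] {p : ℕ} [Fact p.Prime] {P : Subgroup G} (hP : IsPGroup p ↥P)
    (hne : P ≠ ⊥) : Cfsg.dStarOf P ≠ ⊥ := by
  haveI : Nontrivial ↥P := (Subgroup.nontrivial_iff_ne_bot P).mpr hne
  haveI : Nontrivial (Subgroup.center ↥P) := hP.center_nontrivial
  have h1 : Subgroup.center ↥P ≤ Cfsg.dStar ↥P := center_le_dStar
  intro h
  unfold Cfsg.dStarOf at h
  rw [Subgroup.map_eq_bot_iff_of_injective _ P.subtype_injective] at h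
  rw [h] at h1
  have : Subgroup.center ↥P = ⊥ := le_bot_iff.mp h1
  exact (Subgroup.nontrivial_iff_ne_bot _).mp ‹_› this

end Anti

end Cfsg.Agent.Lib.H19.DSt
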