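import Mathlib
import Cfsg.Prelude.Def_Solvable
import Cfsg.Agent.Lib.H1.PCore

/-!
A `p`-subgroup `B` normalised by a normal subgroup `C` of `M` meets the preimage of
`O_p(M / C)` inside `O_p(M)` (helper19's library, for S3753).
-/

set_option autoImplicit false
set_option linter.style.haveILetI false

namespace Cfsg.Agent.Lib.H19.PCS

open scoped Pointwise

variable {M : Type*} [Group M]

theorem mem_pCore_of_mk_mem_pCore [Finite M] {p : ℕ} [Fact p.Prime]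
    (C : Subgroup M) [hCn : C.Normal] (B : Subgroup M) (hB : IsPGroup p B)
    (hCB : C ≤ Subgroup.normalizer (B : Set M)) {y : M} (hy : y ∈ B)
    (hyK : (QuotientGroup.mk y : M ⧸ C) ∈ Cfsg.pCore p (M ⧸ C)) : y ∈ Cfsg.pCore p M := by
  classical
  rw [Cfsg.Agent.Lib.H1.pCore_eq_iInf_sylow, Subgroup.mem_iInf]
  intro S
  obtain ⟨K, hK⟩ : ∃ K : Subgroup M, K = (Cfsg.pCore p (M ⧸ C)).comap (QuotientGroup.mk' C) :=
    ⟨_, rfl⟩
  have hKn : K.Normal := by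
    rw [hK]
    haveI := Cfsg.Agent.Lib.H1.pCore_normal p (M ⧸ C)
    exact Subgroup.Normal.comap inferInstance _
  obtain ⟨X, hX⟩ : ∃ X : Subgroup M, X = B ⊓ K := ⟨_, rfl⟩
  have hXp : IsPGroup p X := hB.to_le (hX ▸ inf_le_left)
  have hyX : y ∈ X := by
    rw [hX]
    refine ⟨hy, ?_⟩
    rw [hK]
    exact hyK
  -- `K ≤ C ⊔ S`
  have hKL : K ≤ C ⊔ (S : Subgroup M) := by
    intro k hk
    have h1 : (QuotientGroup.mk' C k) ∈ Cfsg.pCore p (M ⧸ C) := by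
      rw [hK] at hk
      exact hk
    have h2 := Cfsg.Agent.Lib.H1.pCore_le_sylow
      (S.mapSurjective (QuotientGroup.mk'_surjective C)) h1
    rw [Sylow.coe_mapSurjective] at h2
    obtain ⟨s, hs, hsk⟩ := h2
    have h3 : s⁻¹ * k ∈ C := QuotientGroup.eq.mp hsk
    have h4 : k = s * (s⁻¹ * k) := by group
    rw [h4]
    exact mul_mem ((le_sup_right : (S : Subgroup M) ≤ C ⊔ S) hs)
      ((le_sup_left : C ≤ C ⊔ (S : Subgroup M)) h3)
  -- `C` normalises `X`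
  have hCX : ∀ c ∈ C, ∀ x ∈ X, c * x * c⁻¹ ∈ X := by
    intro c hc x hx
    rw [hX] at hx ⊢
    exact ⟨((Subgroup.mem_normalizer_iff.mp (hCB hc)) x).mp hx.1, hKn.conj_mem x hx.2 c⟩
  -- Sylow theory in `L = C ⊔ S`
  obtain ⟨L, hL⟩ : ∃ L : Subgroup M, L = C ⊔ (S : Subgroup M) := ⟨_, rfl⟩
  have hSL : (S : Subgroup M) ≤ L := hL ▸ le_sup_right
  have hXL : X ≤ L := by
    rw [hL]
    exact (hX ▸ inf_le_right : X ≤ K).trans hKL
  have hX'p : IsPGroup p (X.subgroupOf L) := hXp.comap_subtype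
  obtain ⟨P', hP'⟩ := hX'p.exists_le_sylow
  obtain ⟨g, hg⟩ := MulAction.exists_smul_eq (↥L) (S.subtype hSL) P'
  -- for `x ∈ X`, `g⁻¹ x g ∈ S`
  have hconj : ∀ x ∈ X, (g : M)⁻¹ * x * (g : M) ∈ (S : Subgroup M) := by
    intro x hx
    have h1 : (⟨x, hXL hx⟩ : ↥L) ∈ (P' : Subgroup ↥L) := hP' (Subgroup.mem_subgroupOf.mpr hx)
    rw [← hg, Sylow.coe_subgroup_smul, Subgroup.mem_pointwise_smul_iff_inv_smul_mem] at h1
    have h2 : g⁻¹ * (⟨x, hXL hx⟩ : ↥L) * g ∈ ((S : Subgroup M).subgroupOf L) := by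
      simpa using h1
    have h3 := Subgroup.mem_subgroupOf.mp h2
    simpa using h3
  -- decompose `g = c * s`
  have hgL : (g : M) ∈ ((C ⊔ (S : Subgroup M) : Subgroup M) : Set M) := hL ▸ g.2
  rw [Subgroup.normal_mul] at hgL
  obtain ⟨c, hc, s, hs, hcs⟩ := Set.mem_mul.mp hgL
  -- `y = c⁻¹ (c y c⁻¹) c`
  have hy' : c * y * c⁻¹ ∈ X := hCX c hc y hyX
  have h5 := hconj _ hy'
  rw [← hcs] at h5
  have h6 : (c * s)⁻¹ * (c * y * c⁻¹) * (c * s) = s⁻¹ * y * s := by group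
  rw [h6] at h5
  have h7 : y = s * (s⁻¹ * y * s) * s⁻¹ := by group
  rw [h7]
  exact mul_mem (mul_mem hs h5) (inv_mem hs)

end Cfsg.Agent.Lib.H19.PCS
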