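import Mathlib
import Cfsg.Prelude.Def_DStar
import Cfsg.Prelude.Def_PLocal
import Cfsg.Agent.Lib.H1.PCore
import Cfsg.Agent.Lib.H15.DStarNormal
import Cfsg.Agent.Lib.H19.PCoreSub
import Cfsg.Agent.Lib.H19.DStarTransport

/-!
A version of the Glauberman–Solomon `D*`-theorem for a `p`-subgroup `B ⊇ O_p(G)` that need not be
a Sylow subgroup: `D*(B)` is normal in `G` as soon as the centralizers of the abelian normal
`p`-subgroups containing `D*(B)` normalise `B` (helper19's library, for S3753).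
-/

set_option autoImplicit false
set_option linter.style.haveILetI false
open scoped commutatorElement

namespace Cfsg.Agent.Lib.H19.DSt

open Cfsg.Agent.Lib.H15

variable {G : Type*} [Group G]

/-- `D*(B) ≤ O_p(G)` for a `p`-subgroup `B ⊇ O_p(G)` of a `p`-stable group of characteristic `p`. -/
theorem dStarOf_le_pCore [Finite G] {p : ℕ} [Fact p.Prime]
    [hn : (Cfsg.pCore p G).Normal]
    (hc : Subgroup.centralizer (Cfsg.pCore p G : Set G) ≤ Cfsg.pCore p G)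
    (hst : Cfsg.IsPStableOn p (Cfsg.pCore p G))
    (B : Subgroup G) (hB : IsPGroup p ↥B) (hQB : Cfsg.pCore p G ≤ B) :
    Cfsg.dStarOf B ≤ Cfsg.pCore p G := by
  intro a ha
  apply mem_pCore_of_pstable hc hst a
  rw [eq_bot_iff]
  have h1 : ⁅Cfsg.pCore p G, Subgroup.zpowers a⁆ ≤ Cfsg.dStarOf B := by
    rw [Subgroup.commutator_le]
    intro q hq b hb
    have hbD : b ∈ Cfsg.dStarOf B := (Subgroup.zpowers_le.mpr ha) hb
    rw [commutatorElement_def]
    exact mul_mem (dStarOf_conj_mem _ (hQB hq) hbD) (inv_mem hbD)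
  have h2 : ⁅Cfsg.dStarOf B, Subgroup.zpowers a⁆ = ⊥ := by
    rw [Subgroup.commutator_eq_bot_iff_le_centralizer]
    intro d hd
    rw [Subgroup.mem_centralizer_iff]
    intro y hy
    exact dStarOf_comm hB ((Subgroup.zpowers_le.mpr ha) hy) hd
  calc ⁅⁅Cfsg.pCore p G, Subgroup.zpowers a⁆, Subgroup.zpowers a⁆
      ≤ ⁅Cfsg.dStarOf B, Subgroup.zpowers a⁆ := Subgroup.commutator_mono h1 le_rfl
    _ = ⊥ := h2

/-- **The `D*`-theorem for non-Sylow `p`-subgroups.** -/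
theorem dStarOf_normal_of_pstable_sub [Finite G] {p : ℕ} [Fact p.Prime]
    (hc : Subgroup.centralizer (Cfsg.pCore p G : Set G) ≤ Cfsg.pCore p G)
    (hst : ∀ (P : Subgroup G) [P.Normal], IsPGroup p P → Cfsg.IsPStableOn p P)
    (B : Subgroup G) (hB : IsPGroup p ↥B) (hQB : Cfsg.pCore p G ≤ B)
    (hCN : ∀ (N : Subgroup G) [N.Normal], IsPGroup p N → (∀ a ∈ N, ∀ b ∈ N, a * b = b * a) →
      Cfsg.dStarOf B ≤ N →
      Subgroup.centralizer (N : Set G) ≤ Subgroup.normalizer (B : Set G)) :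
    (Cfsg.dStarOf B).Normal := by
  haveI hQn : (Cfsg.pCore p G).Normal := Cfsg.Agent.Lib.H1.pCore_normal p G
  have hQp : IsPGroup p ↥(Cfsg.pCore p G) := Cfsg.Agent.Lib.H1.pCore_isPGroup p G
  obtain ⟨D, hD⟩ : ∃ D, D = Cfsg.dStarOf B := ⟨_, rfl⟩
  rw [← hD]
  have hDB : D ≤ B := hD ▸ dStarOf_le _
  have hDcomm : ∀ a ∈ D, ∀ b ∈ D, a * b = b * a := by
    intro a ha b hb
    rw [hD] at ha hb
    exact dStarOf_comm hB ha hb
  have hDconj : ∀ s ∈ B, ∀ d ∈ D, s * d * s⁻¹ ∈ D := by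
    intro s hs d hd
    rw [hD] at hd ⊢
    exact dStarOf_conj_mem _ hs hd
  have hDcent : ∀ x ∈ B, (∀ a ∈ D, ∀ b ∈ D, ⁅x, a⁆ * b = b * ⁅x, a⁆) →
      (∀ a ∈ D, ⁅x, a⁆ * x = x * ⁅x, a⁆) → ∀ a ∈ D, a * x = x * a := by
    intro x hx h1 h2
    rw [hD] at h1 h2 ⊢
    exact dStarOf_centralized hB hx h1 h2
  -- Step 1: `D ≤ O_p(G)`
  have hDQ : D ≤ Cfsg.pCore p G := hD ▸ dStarOf_le_pCore hc (hst _ hQp) B hB hQB
  -- Step 2: the normal closure of `D` is abelian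
  obtain ⟨A, hA⟩ : ∃ A, A = Subgroup.normalClosure (D : Set G) := ⟨_, rfl⟩
  have hAQ : A ≤ Cfsg.pCore p G := hA ▸ Subgroup.normalClosure_le_normal hDQ
  have hDA : D ≤ A := hA ▸ Subgroup.subset_normalClosure
  haveI hAn : A.Normal := hA ▸ Subgroup.normalClosure_normal
  have hQconj : ∀ q ∈ Cfsg.pCore p G, ∀ k : G, k⁻¹ * q * k ∈ Cfsg.pCore p G := by
    intro q hq k
    have := hQn.conj_mem q hq k⁻¹
    simpa using this
  have key2 : ∀ k : G, ∀ x ∈ cj k D, ∀ a ∈ D, a * x = x * a := by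
    intro k x hx
    have hxk : k⁻¹ * x * k ∈ D := mem_cj_iff.mp hx
    have hxQ : x ∈ Cfsg.pCore p G := by
      have := hQn.conj_mem _ (hDQ hxk) k
      have e : k * (k⁻¹ * x * k) * k⁻¹ = x := by group
      rwa [e] at this
    have hxS : x ∈ B := hQB hxQ
    apply hDcent x hxS
    · intro a ha b hb
      have h1 : ⁅x, a⁆ ∈ D := by
        rw [commutatorElement_def]
        exact mul_mem (hDconj _ hxS _ ha) (inv_mem ha)
      exact hDcomm _ h1 _ hb
    · intro a ha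
      have hak : k⁻¹ * a * k ∈ B := hQB (hQconj _ (hDQ ha) k)
      have h1 : k⁻¹ * ⁅x, a⁆ * k ∈ D := by
        have e : k⁻¹ * ⁅x, a⁆ * k = (k⁻¹ * x * k) *
            ((k⁻¹ * a * k) * (k⁻¹ * x * k)⁻¹ * (k⁻¹ * a * k)⁻¹) := by
          simp only [commutatorElement_def]; group
        rw [e]
        exact mul_mem hxk (hDconj _ hak _ (inv_mem hxk))
      have h2 := hDcomm _ h1 _ hxk
      calc ⁅x, a⁆ * x = k * ((k⁻¹ * ⁅x, a⁆ * k) * (k⁻¹ * x * k)) * k⁻¹ := by group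
        _ = k * ((k⁻¹ * x * k) * (k⁻¹ * ⁅x, a⁆ * k)) * k⁻¹ := by rw [h2]
        _ = x * ⁅x, a⁆ := by group
  have hAcomm : ∀ a ∈ A, ∀ b ∈ A, a * b = b * a := by
    rw [hA]; exact normalClosure_comm key2
  -- Step 3: elements of `B` acting quadratically on `A` lie in `O_p(G)` and centralize `A`
  have hAp : IsPGroup p ↥A := hQp.to_le hAQ
  have hstA : Cfsg.IsPStableOn p A := hst A hAp
  have hCB : Subgroup.centralizer (A : Set G) ≤ Subgroup.normalizer (B : Set G) :=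
    hCN A hAp hAcomm (hD ▸ hDA)
  have keyQ : ∀ y ∈ B, (∀ a ∈ A, ⁅⁅a, y⁆, y⁆ = 1) → y ∈ Cfsg.pCore p G := by
    intro y hyB hy
    have h1 := hstA y (quadratic_of_elementwise hy)
    exact Cfsg.Agent.Lib.H19.PCS.mem_pCore_of_mk_mem_pCore
      (Subgroup.centralizer (A : Set G)) B hB hCB hyB h1
  have keyX : ∀ y ∈ Cfsg.pCore p G, (∀ a ∈ A, ⁅⁅a, y⁆, y⁆ = 1) → ∀ d ∈ D, d * y = y * d := by
    intro y hyQ hy
    have hyB : y ∈ B := hQB hyQ
    apply hDcent y hyB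
    · intro a ha b hb
      have h1 : ⁅y, a⁆ ∈ D := by
        rw [commutatorElement_def]
        exact mul_mem (hDconj _ hyB _ ha) (inv_mem ha)
      exact hDcomm _ h1 _ hb
    · intro a ha
      exact comm_of_quad (hy a (hDA ha))
  have keyA : ∀ y ∈ B, (∀ a ∈ A, ⁅⁅a, y⁆, y⁆ = 1) → ∀ a ∈ A, a * y = y * a := by
    intro y hyB hy
    have hyQ : y ∈ Cfsg.pCore p G := keyQ y hyB hy
    have hyC : y ∈ Subgroup.centralizer (A : Set G) := by
      rw [hA]
      unfold Subgroup.normalClosure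
      rw [Subgroup.centralizer_closure, Subgroup.mem_centralizer_iff]
      intro u hu
      obtain ⟨d, hd, hconj⟩ := Group.mem_conjugatesOfSet_iff.mp hu
      obtain ⟨g, rfl⟩ := isConj_iff.mp hconj
      have hy' := quadratic_conj hy g⁻¹
      have hyQ' : g⁻¹ * y * g⁻¹⁻¹ ∈ Cfsg.pCore p G := hQn.conj_mem y hyQ g⁻¹
      have h1 := keyX _ hyQ' hy' d hd
      rw [inv_inv] at h1
      calc g * d * g⁻¹ * y = g * (d * (g⁻¹ * y * g)) * g⁻¹ := by group
        _ = g * ((g⁻¹ * y * g) * d) * g⁻¹ := by rw [h1]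
        _ = y * (g * d * g⁻¹) := by group
    intro a ha
    exact (Subgroup.mem_centralizer_iff.mp hyC) a ha
  have hAD : A ≤ D := by
    rw [hD]
    exact le_dStarOf_of (hAQ.trans hQB) hAcomm (fun x hx hquad => keyA x hx hquad)
  have hDA' : D = A := le_antisymm hDA hAD
  rw [hDA']
  exact hAn

end Cfsg.Agent.Lib.H19.DSt
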