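import Mathlib
import Cfsg.Prelude.Def_Solvable
import Cfsg.Prelude.Def_Perm
import Cfsg.Prelude.Def_Transfer
import Cfsg.Prelude.Def_CaseTheorems
import Cfsg.Agent.S3360
import Cfsg.Agent.Lib.H25.EOCHUP
import Cfsg.Agent.Lib.H25.EOCEXC81A
import Cfsg.Agent.Lib.H22.PPrimeCore
import Cfsg.Agent.Lib.H7.EOCFUS
import Cfsg.Agent.Lib.H9.EOCAFF
import Cfsg.Agent.Lib.H8.EOCLC
import Cfsg.Agent.Lib.H24.EOCNUMX
import Cfsg.Agent.Lib.H27.EOCSUBP
import Cfsg.Agent.Lib.H21.EOCSUB32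
import Cfsg.Agent.Lib.H9.EOCEXC81B

/-!
# S4025 assembly (helper19): `core` (abstract form in `X = N_G(P)`) from the farmed pieces.
-/

set_option autoImplicit false

namespace Cfsg.Agent.Lib.H19.EOC


section core

variable {X : Type*} [Group X] [Finite X] {p : ℕ} [hp : Fact p.Prime]

/-- `O_{p'}(X)` centralizes every normal `p`-subgroup. -/
theorem pPrimeCore_centralizes (Q : Subgroup X) [hQn : Q.Normal] (hQp : IsPGroup p Q) :
    ∀ k ∈ Cfsg.pPrimeCore p X, ∀ a ∈ Q, k * a = a * k := by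
  intro k hk a ha
  have hKn : (Cfsg.pPrimeCore p X).Normal := inferInstance
  have hcop : (Nat.card (Cfsg.pPrimeCore p X)).Coprime (Nat.card Q) := by
    obtain ⟨m, hm⟩ := IsPGroup.iff_card.mp hQp
    rw [hm]
    exact Nat.Coprime.pow_right m (Cfsg.Agent.Lib.H22.card_pPrimeCore_coprime p)
  have hbot : Cfsg.pPrimeCore p X ⊓ Q = ⊥ := Subgroup.inf_eq_bot_of_coprime hcop
  have h1 : k * a * k⁻¹ * a⁻¹ ∈ Cfsg.pPrimeCore p X := by
    have h := hKn.conj_mem _ (inv_mem hk) a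
    have h' := mul_mem hk h
    have e : k * (a * k⁻¹ * a⁻¹) = k * a * k⁻¹ * a⁻¹ := by group
    rwa [e] at h'
  have h2 : k * a * k⁻¹ * a⁻¹ ∈ Q := mul_mem (hQn.conj_mem a ha k) (inv_mem ha)
  have h3 : k * a * k⁻¹ * a⁻¹ ∈ Cfsg.pPrimeCore p X ⊓ Q := ⟨h1, h2⟩
  rw [hbot, Subgroup.mem_bot] at h3
  calc k * a = (k * a * k⁻¹ * a⁻¹) * (a * k) := by group
    _ = a * k := by rw [h3, one_mul]

variable {F : Type*} [AddGroup F]

theorem eps_one (Q : Subgroup X) (ε : ↥Q ≃ F) (hε : ∀ x y : ↥Q, ε (x * y) = ε x + ε y) :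
    ε 1 = 0 := by
  have h := hε 1 1
  rw [mul_one] at h
  have : ε 1 + 0 = ε 1 + ε 1 := by rw [add_zero]; exact h
  exact (add_left_cancel this).symm

theorem eps_inv (Q : Subgroup X) (ε : ↥Q ≃ F) (hε : ∀ x y : ↥Q, ε (x * y) = ε x + ε y)
    (x : ↥Q) : ε x⁻¹ = - ε x := by
  have h := hε x x⁻¹
  rw [mul_inv_cancel, eps_one Q ε hε] at h
  exact (neg_eq_of_add_eq_zero_right h.symm).symm

/-- the subgroup of `X` inside `Q` corresponding to an additive subgroup of `F`. -/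
def pull (Q : Subgroup X) (ε : ↥Q ≃ F) (hε : ∀ x y : ↥Q, ε (x * y) = ε x + ε y)
    (A : AddSubgroup F) : Subgroup X where
  carrier := {x | ∃ hx : x ∈ Q, ε ⟨x, hx⟩ ∈ A}
  one_mem' := ⟨Q.one_mem, by
    have : ε ⟨1, Q.one_mem⟩ = 0 := eps_one Q ε hε
    rw [this]; exact A.zero_mem⟩
  mul_mem' := by
    rintro x y ⟨hx, hxA⟩ ⟨hy, hyA⟩
    refine ⟨Q.mul_mem hx hy, ?_⟩
    have : ε ⟨x * y, Q.mul_mem hx hy⟩ = ε ⟨x, hx⟩ + ε ⟨y, hy⟩ := hε ⟨x, hx⟩ ⟨y, hy⟩
    rw [this]; exact A.add_mem hxA hyA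
  inv_mem' := by
    rintro x ⟨hx, hxA⟩
    refine ⟨Q.inv_mem hx, ?_⟩
    have : ε ⟨x⁻¹, Q.inv_mem hx⟩ = - ε ⟨x, hx⟩ := eps_inv Q ε hε ⟨x, hx⟩
    rw [this]; exact A.neg_mem hxA

theorem pull_le (Q : Subgroup X) (ε : ↥Q ≃ F) (hε : ∀ x y : ↥Q, ε (x * y) = ε x + ε y)
    (A : AddSubgroup F) : pull Q ε hε A ≤ Q := fun _ hx => hx.1

theorem mem_pull_iff (Q : Subgroup X) (ε : ↥Q ≃ F) (hε : ∀ x y : ↥Q, ε (x * y) = ε x + ε y)
    (A : AddSubgroup F) (y : F) : ((ε.symm y : ↥Q) : X) ∈ pull Q ε hε A ↔ y ∈ A := by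
  constructor
  · rintro ⟨hx, hxA⟩
    have : (⟨((ε.symm y : ↥Q) : X), hx⟩ : ↥Q) = ε.symm y := Subtype.ext rfl
    rw [this, Equiv.apply_symm_apply] at hxA
    exact hxA
  · intro hy
    refine ⟨(ε.symm y).2, ?_⟩
    have : (⟨((ε.symm y : ↥Q) : X), (ε.symm y).2⟩ : ↥Q) = ε.symm y := Subtype.ext rfl
    rw [this, Equiv.apply_symm_apply]
    exact hy

theorem card_pull (Q : Subgroup X) (ε : ↥Q ≃ F) (hε : ∀ x y : ↥Q, ε (x * y) = ε x + ε y)
    (A : AddSubgroup F) : Nat.card (pull Q ε hε A) = Nat.card A := by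
  refine Nat.card_congr
    { toFun := fun x => ⟨ε ⟨x.1, x.2.choose⟩, x.2.choose_spec⟩
      invFun := fun y => ⟨((ε.symm y.1 : ↥Q) : X), (mem_pull_iff Q ε hε A y.1).mpr y.2⟩
      left_inv := ?_
      right_inv := ?_ }
  · intro x
    apply Subtype.ext
    simp
  · intro y
    apply Subtype.ext
    simp

end core

section main

variable {X : Type*} [Group X] [Finite X] {p : ℕ} [hp : Fact p.Prime]

/-- transitivity on subgroups of `Q`, transported to additive subgroups of the field. -/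
theorem trans_field (Q : Subgroup X) [Q.Normal] {F : Type*} [Field F]
    (ε : ↥Q ≃ F) (hε : ∀ x y : ↥Q, ε (x * y) = ε x + ε y)
    (htr : ∀ A B : Subgroup X, A ≤ Q → B ≤ Q → Nat.card A = Nat.card B →
      ∃ g : X, B = A.map (MulAut.conj g).toMonoidHom)
    (Φ : X →* Equiv.Perm F)
    (hlin : ∀ g : X, ∃ g' : X, ∀ y, Φ g' y = ε (MulAut.conjNormal g (ε.symm y)))
    (A B : AddSubgroup F) (hAB : Nat.card A = Nat.card B) :
    ∃ g ∈ Φ.range, g 0 = 0 ∧ ∀ y, y ∈ B ↔ ∃ x ∈ A, g x = y := by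
  obtain ⟨g, hg⟩ := htr (pull Q ε hε A) (pull Q ε hε B) (pull_le Q ε hε A) (pull_le Q ε hε B)
    (by rw [card_pull, card_pull, hAB])
  obtain ⟨g', hg'⟩ := hlin g
  refine ⟨Φ g', ⟨g', rfl⟩, ?_, ?_⟩
  · rw [hg']
    have h0 : ε.symm 0 = 1 := by
      rw [Equiv.symm_apply_eq]; exact (eps_one Q ε hε).symm
    rw [h0, map_one]
    exact eps_one Q ε hε
  · intro y
    rw [← mem_pull_iff Q ε hε B y, hg, Subgroup.mem_map]
    constructor
    · rintro ⟨x', ⟨hxQ, hxA⟩, hxy⟩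
      refine ⟨ε ⟨x', hxQ⟩, hxA, ?_⟩
      rw [hg', Equiv.symm_apply_apply]
      have : MulAut.conjNormal g ⟨x', hxQ⟩ = ε.symm y := by
        apply Subtype.ext
        rw [MulAut.conjNormal_apply]
        simpa using hxy
      rw [this, Equiv.apply_symm_apply]
    · rintro ⟨x, hxA, hxy⟩
      refine ⟨((ε.symm x : ↥Q) : X), (mem_pull_iff Q ε hε A x).mpr hxA, ?_⟩
      rw [hg'] at hxy
      have : ε.symm y = MulAut.conjNormal g (ε.symm x) := by
        rw [Equiv.symm_apply_eq]; exact hxy.symm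
      rw [this, MulAut.conjNormal_apply]
      simp

theorem pow_mem_exc {n : ℕ} (hn : 3 ≤ n)
    (h : p ^ n ∈ ({9, 25, 49, 121, 529, 81} : Set ℕ)) : p = 3 ∧ n = 4 := by
  have hpp := hp.out
  have key : ∀ q k : ℕ, q.Prime → p ^ n = q ^ k → p = q ∧ n = k := by
    intro q k hq hpk
    have h1 : p ∣ q ^ k := by rw [← hpk]; exact dvd_pow_self p (by omega)
    have h2 : p = q := (Nat.prime_dvd_prime_iff_eq hpp hq).mp (hpp.dvd_of_dvd_pow h1)
    refine ⟨h2, ?_⟩
    rw [h2] at hpk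
    exact Nat.pow_right_injective hq.two_le hpk
  simp only [Set.mem_insert_iff, Set.mem_singleton_iff] at h
  rcases h with h | h | h | h | h | h
  · have := key 3 2 (by norm_num) (by rw [h]; norm_num); omega
  · have := key 5 2 (by norm_num) (by rw [h]; norm_num); omega
  · have := key 7 2 (by norm_num) (by rw [h]; norm_num); omega
  · have := key 11 2 (by norm_num) (by rw [h]; norm_num); omega
  · have := key 23 2 (by norm_num) (by rw [h]; norm_num); omega
  · exact key 3 4 (by norm_num) (by rw [h]; norm_num)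

/-- **S4025, abstract form** in `X = N_G(P)`. -/
theorem core (n : ℕ) (hn : 3 ≤ n)
    (Q : Subgroup X) [hQn : Q.Normal] (hQcard : Nat.card Q = p ^ n) (hQidx : ¬ p ∣ Q.index)
    (hQab : ∀ a ∈ Q, ∀ b ∈ Q, a * b = b * a) (hQexp : ∀ a ∈ Q, a ^ p = 1)
    (htr : ∀ A B : Subgroup X, A ≤ Q → B ≤ Q → Nat.card A = Nat.card B →
      ∃ g : X, B = A.map (MulAut.conj g).toMonoidHom)
    (hsolv : Group.IsSolvable (X ⧸ Cfsg.pPrimeCore p X)) :
    (n = 3 ∧ (∃ f : X ⧸ Cfsg.pPrimeCore p X →* ↥(Cfsg.semiaffineGroup (GaloisField p 3)),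
        Function.Injective f) ∧
      (p = 2 → Nonempty (X ⧸ Cfsg.pPrimeCore p X ≃* Cfsg.semiaffineGroup (GaloisField 2 3)) ∨
               Nonempty (X ⧸ Cfsg.pPrimeCore p X ≃* Cfsg.affineGroup (GaloisField 2 3)))) ∨
    (n = 5 ∧ p = 2 ∧
      Nonempty (X ⧸ Cfsg.pPrimeCore p X ≃* Cfsg.semiaffineGroup (GaloisField 2 5))) := by
  classical
  have hp1 := hp.out.one_lt
  have hQp : IsPGroup p Q := IsPGroup.of_card hQcard
  have hKQ := pPrimeCore_centralizes Q hQp
  have hQ1 : Q ≠ ⊥ := by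
    intro h
    rw [h, Subgroup.card_bot] at hQcard
    have : 1 < p ^ n := Nat.one_lt_pow (by omega) hp1
    omega
  rcases Cfsg.Agent.Lib.H25.EOC.hup Q hQ1 hQab hQexp (Cfsg.pPrimeCore p X) hKQ hsolv
      (fun A B hA hB hcA hcB => htr A B hA hB (hcA.trans hcB.symm)) with
    ⟨F, fF, ftF, ε, hε, hsl⟩ | hexc
  · -- the semilinear case
    have hFcard : Nat.card F = p ^ n := by rw [← Nat.card_congr ε, hQcard]
    have hn0 : n ≠ 0 := by omega
    have hF'card : Nat.card (GaloisField p n) = p ^ n := GaloisField.card p n hn0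
    letI : Fintype (GaloisField p n) := Fintype.ofFinite _
    have hcard' : Fintype.card F = Fintype.card (GaloisField p n) := by
      rw [Fintype.card_eq_nat_card, Fintype.card_eq_nat_card, hFcard, hF'card]
    obtain ⟨ψ⟩ : Nonempty (F ≃+* GaloisField p n) := ⟨FiniteField.ringEquivOfCardEq hcard'⟩
    obtain ⟨ε', hε'def⟩ : ∃ ε' : ↥Q ≃ GaloisField p n, ∀ x, ε' x = ψ (ε x) :=
      ⟨ε.trans ψ.toEquiv, fun x => rfl⟩
    have hε' : ∀ x y : ↥Q, ε' (x * y) = ε' x + ε' y := by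
      intro x y
      rw [hε'def, hε'def, hε'def, hε, map_add]
    have hsl' : ∀ g : X, ∃ (a : GaloisField p n) (σ : GaloisField p n ≃+* GaloisField p n),
        ∀ x : ↥Q, ε' (MulAut.conjNormal g x) = a * σ (ε' x) := by
      intro g
      obtain ⟨a, σ, h⟩ := hsl g
      refine ⟨ψ a, (ψ.symm.trans σ).trans ψ, fun x => ?_⟩
      rw [hε'def, hε'def, h, map_mul]
      simp
    obtain ⟨Φ, hker, hSA, htrl, hlin⟩ := Cfsg.Agent.Lib.H9.EOC.aff Q hQp hQidx hQab ε' hε' hsl'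
    have htrk : ∀ A B : AddSubgroup (GaloisField p n), Nat.card A = Nat.card B →
        ∃ g ∈ Φ.range, g 0 = 0 ∧ ∀ y, y ∈ B ↔ ∃ x ∈ A, g x = y :=
      trans_field Q ε' hε' htr Φ hlin
    have hI : Φ.range ≤ Cfsg.semiaffineGroup (GaloisField p n) := by
      rintro _ ⟨g, rfl⟩; exact hSA g
    have hlc := Cfsg.Agent.Lib.H8.EOC.lc_add (V := GaloisField p n) n hF'card
      (fun v => by rw [nsmul_eq_mul, CharP.cast_eq_zero, zero_mul])
    have hnum := Cfsg.Agent.Lib.H24.EOC.numx n hn hF'card hlc Φ.range hI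
      (fun A B hA hB => htrk A B (hA.trans hB.symm))
    have htrl' : ∀ b : GaloisField p n, ∃ g ∈ Φ.range, ∀ y, g y = y + b := by
      intro b
      obtain ⟨g, hg⟩ := htrl b
      exact ⟨Φ g, ⟨g, rfl⟩, hg⟩
    -- the isomorphism with the range
    have key_iso : Nonempty (X ⧸ Cfsg.pPrimeCore p X ≃* ↥Φ.range) :=
      ⟨(QuotientGroup.quotientMulEquivOfEq hker.symm).trans (QuotientGroup.quotientKerEquivRange Φ)⟩
    have key_emb : ∃ f : X ⧸ Cfsg.pPrimeCore p X →* ↥(Cfsg.semiaffineGroup (GaloisField p n)),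
        Function.Injective f := by
      obtain ⟨e⟩ := key_iso
      exact ⟨(Subgroup.inclusion hI).comp e.toMonoidHom,
        (Subgroup.inclusion_injective hI).comp e.injective⟩
    rcases hnum with h3 | ⟨h2, h5⟩
    · left
      subst h3
      refine ⟨rfl, key_emb, ?_⟩
      intro hp2
      subst hp2
      rcases Cfsg.Agent.Lib.H27.EOC.subp 3 (by norm_num) (by rw [hF'card]) Φ.range hI htrl'
          (fun A B hA hB => htrk A B (hA.trans hB.symm)) with h | h
      · left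
        exact ⟨key_iso.some.trans (MulEquiv.subgroupCongr h)⟩
      · right
        exact ⟨key_iso.some.trans (MulEquiv.subgroupCongr h)⟩
    · right
      subst h2
      subst h5
      refine ⟨rfl, rfl, ?_⟩
      rcases Cfsg.Agent.Lib.H27.EOC.subp 5 (by norm_num) (by rw [hF'card]) Φ.range hI htrl'
          (fun A B hA hB => htrk A B (hA.trans hB.symm)) with h | h
      · exact ⟨key_iso.some.trans (MulEquiv.subgroupCongr h)⟩
      · exfalso
        refine Cfsg.Agent.Lib.H21.EOC.sub32 (F := GaloisField 2 5) (by rw [hF'card]; norm_num) ?_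
        intro A B hA hB
        obtain ⟨g, hg, h0, hy⟩ := htrk A B (hA.trans hB.symm)
        exact ⟨g, h ▸ hg, h0, hy⟩
  · -- the exceptional case of Huppert's theorem: `p^n = 81`
    exfalso
    rw [hQcard] at hexc
    obtain ⟨rfl, rfl⟩ := pow_mem_exc hn hexc
    have hlc := Cfsg.Agent.Lib.H8.EOC.lc_sub 4 Q hQcard hQab hQexp
    have hlc' : Nat.card {A : Subgroup X // A ≤ Q ∧ Nat.card A = 9} = 130 := by
      have e : (3 : ℕ) ^ 2 = 9 := by norm_num
      rw [e] at hlc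
      norm_num at hlc
      omega
    obtain ⟨hs, hd⟩ := Cfsg.Agent.Lib.H9.EOC.exc81b Q (Cfsg.pPrimeCore 3 X) hKQ hsolv hlc'
      (fun A B hA hB hcA hcB => htr A B hA hB (hcA.trans hcB.symm))
    exact Cfsg.Agent.Lib.H25.EOC.exc81a (H := X ⧸ (MulAut.conjNormal : X →* MulAut ↥Q).ker) (V := ↥Q)
      (by rw [hQcard]; norm_num) (fun a b => Subtype.ext (hQab a a.2 b b.2))
      (QuotientGroup.kerLift _) (QuotientGroup.kerLift_injective _) hs
      (dvd_trans (by norm_num) hd) (dvd_trans (by norm_num) hd)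

end main

/-- **S4025**. -/
theorem final {G : Type*} [Group G] [Finite G]
    {p : ℕ} [Fact p.Prime] (hC : ∀ H K : Subgroup G, IsPGroup p H → IsPGroup p K →
      Nat.card H = Nat.card K → ∃ g : G, K = H.map (MulAut.conj g).toMonoidHom)
    (P : Sylow p G) (n : ℕ) (hn : 3 ≤ n)
    (hel : Cfsg.IsElementaryAbelian p (P : Subgroup G)) (hcard : Nat.card P = p ^ n)
    (N : Subgroup G) (hN : N = Subgroup.normalizer ((P : Subgroup G) : Set G))
    (hsolv : Group.IsSolvable (↥N ⧸ Cfsg.pPrimeCore p ↥N)) :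
    (n = 3 ∧ (∃ f : ↥N ⧸ Cfsg.pPrimeCore p ↥N →* ↥(Cfsg.semiaffineGroup (GaloisField p 3)),
        Function.Injective f) ∧
      (p = 2 → Nonempty (↥N ⧸ Cfsg.pPrimeCore p ↥N ≃* Cfsg.semiaffineGroup (GaloisField 2 3)) ∨
               Nonempty (↥N ⧸ Cfsg.pPrimeCore p ↥N ≃* Cfsg.affineGroup (GaloisField 2 3)))) ∨
    (n = 5 ∧ p = 2 ∧
      Nonempty (↥N ⧸ Cfsg.pPrimeCore p ↥N ≃* Cfsg.semiaffineGroup (GaloisField 2 5))) := by
  subst hN
  have hPN : (P : Subgroup G) ≤ Subgroup.normalizer ((P : Subgroup G) : Set G) :=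
    Subgroup.le_normalizer
  have hab : ∀ a ∈ (P : Subgroup G), ∀ b ∈ (P : Subgroup G), a * b = b * a := by
    intro a ha b hb
    have := hel.1.is_comm.comm (⟨a, ha⟩ : ↥(P : Subgroup G)) ⟨b, hb⟩
    exact congrArg Subtype.val this
  haveI hQn : ((P : Subgroup G).subgroupOf
      (Subgroup.normalizer ((P : Subgroup G) : Set G))).Normal := Subgroup.normal_in_normalizer
  refine core n hn ((P : Subgroup G).subgroupOf (Subgroup.normalizer ((P : Subgroup G) : Set G)))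
    ?_ ?_ ?_ ?_ ?_ hsolv
  · rw [Nat.card_congr (Subgroup.subgroupOfEquivOfLe hPN).toEquiv]
    exact hcard
  · intro hdvd
    have h1 : (P : Subgroup G).relIndex (Subgroup.normalizer ((P : Subgroup G) : Set G)) ∣
        (P : Subgroup G).index := Subgroup.relIndex_dvd_index_of_le hPN
    exact P.not_dvd_index (dvd_trans hdvd h1)
  · intro a ha b hb
    exact Subtype.ext (hab a ha b hb)
  · intro a ha
    exact Subtype.ext (hel.2 a ha)
  · intro A B hA hB hAB
    have hA' : A.map (Subgroup.normalizer ((P : Subgroup G) : Set G)).subtype ≤ (P : Subgroup G) := by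
      rintro _ ⟨x, hx, rfl⟩
      exact hA hx
    have hB' : B.map (Subgroup.normalizer ((P : Subgroup G) : Set G)).subtype ≤ (P : Subgroup G) := by
      rintro _ ⟨x, hx, rfl⟩
      exact hB hx
    have hc : Nat.card (A.map (Subgroup.normalizer ((P : Subgroup G) : Set G)).subtype) =
        Nat.card (B.map (Subgroup.normalizer ((P : Subgroup G) : Set G)).subtype) := by
      rw [← Nat.card_congr (Subgroup.equivMapOfInjective A _ (Subgroup.subtype_injective _)).toEquiv,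
        ← Nat.card_congr (Subgroup.equivMapOfInjective B _ (Subgroup.subtype_injective _)).toEquiv]
      exact hAB
    obtain ⟨g, hg, hgB⟩ := Cfsg.Agent.Lib.H7.EOC.fus hC P hab _ _ hA' hB' hc
    refine ⟨⟨g, hg⟩, ?_⟩
    apply Subgroup.map_injective (Subgroup.subtype_injective _)
    rw [hgB, Subgroup.map_map, Subgroup.map_map]
    congr 1

end Cfsg.Agent.Lib.H19.EOC
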