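import Mathlib
import Cfsg.Agent.S4023
import Cfsg.Agent.S0215
import Cfsg.Agent.Lib.H7.EQCINV
import Cfsg.Agent.Lib.H25.EQCFUS
import Cfsg.Agent.Lib.H9.EQCTWO

/-!
# S4020 assembly (helper19)
-/

set_option autoImplicit false

namespace Cfsg.Agent.Lib.H19.EQC

theorem final {G : Type*} [Group G] [Finite G]
    (hD : ∀ p : ℕ, p.Prime → ∀ H K : Subgroup G, IsPGroup p H → IsPGroup p K →
      Nat.card H = Nat.card K → ∃ g : G, K = H.map (MulAut.conj g).toMonoidHom)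
    {p : ℕ} [Fact p.Prime] (P : Sylow p G) :
    IsCyclic P ∨ Cfsg.IsElementaryAbelian p (P : Subgroup G) ∨
      Nonempty ((P : Subgroup G) ≃* QuaternionGroup 2) := by
  have hp : p.Prime := Fact.out
  rcases Cfsg.Agent.S4023.result (hD p hp) P with h | h | ⟨-, hq⟩ | ⟨hp2, hnc, hcard, hexp⟩
  · exact Or.inl h
  · exact Or.inr (Or.inl h)
  · exact Or.inr (Or.inr hq)
  · exfalso
    obtain ⟨z, a, x, y, l, k, hz1, hz, ha, hx, hy, hza, hxz, hya, hl, hk, hxa, hyz⟩ :=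
      Cfsg.Agent.Lib.H25.EQC.fus (hD p hp) P hnc hcard hexp
    obtain ⟨m, hm, hmz, -⟩ := Cfsg.Agent.Lib.H7.EQC.inv_elt z a x y hz ha hza hxz hya l k hl hk hxa hyz
    exact Cfsg.Agent.Lib.H9.EQC.two_contra hp2 (hD 2 Nat.prime_two) (hD p hp) x y z m hx hy hz1 hz hm hmz

end Cfsg.Agent.Lib.H19.EQC
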