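import Mathlib
import Cfsg.Agent.S4451
import Cfsg.Agent.Lib.H24.CentralMod
import Cfsg.Agent.Lib.H24.CharAbelian

/-!
# A faithful irreducible character of an extraspecial-type group (helper19)

`N` a finite group with a central subgroup `Z` of prime order `p` such that every element
outside `Z` has a nontrivial commutator in `Z`; `|N| = p ^ (2 n + 1)`.  Then an irreducible
character `χ` of `N` not containing `Z` in its kernel vanishes off `Z` and has degree `p ^ n`.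
-/

set_option autoImplicit false

namespace Cfsg.Agent.Lib.H19.ExtraChar

open scoped ComplexConjugate
open Cfsg Cfsg.Agent.Lib.H24 Cfsg.Agent.Lib.L0

variable {N : Type*} [Group N] [Finite N]

/-- the set-up -/
structure Setup (p : ℕ) (Z : Subgroup N) : Prop where
  prime : p.Prime
  card : Nat.card Z = p
  central : ∀ z ∈ Z, ∀ g : N, z * g = g * z
  comm : ∀ g : N, g ∉ Z → ∃ h : N, h * g * h⁻¹ * g⁻¹ ∈ Z ∧ h * g * h⁻¹ * g⁻¹ ≠ 1

variable {p : ℕ} {Z : Subgroup N}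

theorem Setup.exists_ne_one (h : Setup p Z) : ∃ z ∈ Z, z ≠ 1 := by
  have h1 : Z ≠ ⊥ := by
    intro hb
    have := h.card
    rw [hb, Subgroup.card_bot] at this
    exact h.prime.one_lt.ne this
  exact (Subgroup.ne_bot_iff_exists_ne_one.mp h1).elim fun z hz => ⟨z.1, z.2, fun h' => hz (Subtype.ext h')⟩

theorem Setup.mem_zpowers (h : Setup p Z) {z w : N} (hz : z ∈ Z) (hz1 : z ≠ 1) (hw : w ∈ Z) :
    w ∈ Subgroup.zpowers z := by
  haveI : Fact p.Prime := ⟨h.prime⟩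
  have h1 : Subgroup.zpowers (⟨z, hz⟩ : Z) = ⊤ :=
    zpowers_eq_top_of_prime_card h.card (fun h' => hz1 (congrArg Subtype.val h'))
  have h2 : (⟨w, hw⟩ : Z) ∈ Subgroup.zpowers (⟨z, hz⟩ : Z) := by rw [h1]; trivial
  obtain ⟨k, hk⟩ := Subgroup.mem_zpowers_iff.mp h2
  rw [Subgroup.mem_zpowers_iff]
  refine ⟨k, ?_⟩
  have := congrArg (Subtype.val : Z → N) hk
  simpa using this

/-- faithful-on-`Z` irreducible characters exist -/
theorem Setup.exists_irr (h : Setup p Z) :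
    ∃ χ : IrrCharacter N, ∀ z ∈ Z, z ≠ 1 → (χ : N → ℂ) z ≠ (χ : N → ℂ) 1 := by
  obtain ⟨z₀, hz₀, hz₀1⟩ := h.exists_ne_one
  obtain ⟨χ, hχ, -⟩ := exists_irr_two_not_ker hz₀1 hz₀1
  refine ⟨χ, fun z hz hz1 hker => hχ ?_⟩
  have hmem : z ∈ charKer (χ : N → ℂ) (isCharacter_of_irr χ.2) := hker
  have h1 : z₀ ∈ Subgroup.zpowers z := h.mem_zpowers hz hz1 hz₀
  have h2 : Subgroup.zpowers z ≤ charKer (χ : N → ℂ) (isCharacter_of_irr χ.2) :=
    (Subgroup.zpowers_le).mpr hmem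
  exact h2 h1

theorem Setup.central_comm (h : Setup p Z) (χ : IrrCharacter N) {z : N} (hz : z ∈ Z) (g : N) :
    (χ : N → ℂ) (z * g * z⁻¹ * g⁻¹) = (χ : N → ℂ) 1 := by
  have : z * g * z⁻¹ * g⁻¹ = 1 := by
    rw [h.central z hz g]
    group
  rw [this]

/-- vanishing off `Z` -/
theorem Setup.vanish (h : Setup p Z) (χ : IrrCharacter N)
    (hχ : ∀ z ∈ Z, z ≠ 1 → (χ : N → ℂ) z ≠ (χ : N → ℂ) 1) {g : N} (hg : g ∉ Z) :
    (χ : N → ℂ) g = 0 := by
  by_contra hne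
  obtain ⟨k, hk, hk1⟩ := h.comm g hg
  have h1 : (χ : N → ℂ) (k * g * k⁻¹) = (χ : N → ℂ) g := irr_conj χ g k
  have h2 : k * g * k⁻¹ = (k * g * k⁻¹ * g⁻¹) * g := by group
  rw [h2] at h1
  have h3 := apply_eq_one_of_mul_eq χ.2 (k * g * k⁻¹ * g⁻¹) (fun x => h.central_comm χ hk x) hne h1
  exact hχ _ hk hk1 h3

/-- the degree -/
theorem Setup.degree (h : Setup p Z) (χ : IrrCharacter N)
    (hχ : ∀ z ∈ Z, z ≠ 1 → (χ : N → ℂ) z ≠ (χ : N → ℂ) 1) (n : ℕ)
    (hcard : Nat.card N = p ^ (2 * n + 1)) : (χ : N → ℂ) 1 = ((p ^ n : ℕ) : ℂ) := by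
  classical
  haveI := Fintype.ofFinite N
  obtain ⟨d, hd0, hd⟩ := irr_one_eq χ
  have h1 := sum_mul_conj_eq_card χ.2
  have h2 : ∀ g : N, (χ : N → ℂ) g * conj ((χ : N → ℂ) g) =
      if g ∈ Z then ((d : ℂ)) ^ 2 else 0 := by
    intro g
    by_cases hg : g ∈ Z
    · rw [if_pos hg, mul_conj_of_commutator_ker χ.2 g (fun x => h.central_comm χ hg x), hd]
    · rw [if_neg hg, h.vanish χ hχ hg, zero_mul]
  rw [Finset.sum_congr rfl (fun g _ => h2 g), Finset.sum_ite, Finset.sum_const_zero, add_zero,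
    Finset.sum_const, nsmul_eq_mul] at h1
  have h3 : (Finset.univ.filter (fun g : N => g ∈ Z)).card = p := by
    rw [← h.card, Nat.card_eq_fintype_card, Fintype.card_subtype]
  rw [h3, hcard] at h1
  have h4 : p * d ^ 2 = p ^ (2 * n + 1) := by exact_mod_cast h1
  have h5 : d ^ 2 = (p ^ n) ^ 2 := by
    have hp0 : 0 < p := h.prime.pos
    have : p * d ^ 2 = p * (p ^ n) ^ 2 := by rw [h4]; ring
    exact Nat.eq_of_mul_eq_mul_left hp0 this
  have h6 : d = p ^ n := Nat.pow_left_injective (by norm_num : 2 ≠ 0) h5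
  rw [hd, h6]

end Cfsg.Agent.Lib.H19.ExtraChar
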