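import Mathlib
import Cfsg.Agent.S4451
import Cfsg.Agent.Lib.H19.ExtraChar

/-!
# Cyclic groups acting fixed-point-freely on an extraspecial group modulo its centre (helper19)

Type-level core of S3767: `Γ = N S`, `N` extraspecial-like of order `p ^ (2 n + 1)` with centre `Z`
of order `p`, `S` cyclic of order prime to `p` with `C_N(x) = Z` for all `1 ≠ x ∈ S`.  Then
`|S|` divides `p ^ n + 1` or `p ^ n - 1`.  Uses helper24's S4451 (Isaacs 13.?) and the cyclic
Glauberman correspondence.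
-/

set_option autoImplicit false

namespace Cfsg.Agent.Lib.H19.ExtraFpf

open scoped ComplexConjugate
open Cfsg Cfsg.Agent.Lib.H24 Cfsg.Agent.Lib.L0 Cfsg.Agent.Lib.H24.Glaub

theorem core {Γ : Type*} [Group Γ] [Fintype Γ] {p : ℕ} (hp : p.Prime) (N S Z : Subgroup Γ)
    (n : ℕ) (hcard : Nat.card N = p ^ (2 * n + 1)) (hZcard : Nat.card Z = p) (hZN : Z ≤ N)
    (hZc : ∀ z ∈ Z, ∀ g ∈ N, z * g = g * z)
    (hnc : ∀ g ∈ N, g ∉ Z → ∃ h ∈ N, h * g * h⁻¹ * g⁻¹ ∈ Z ∧ h * g * h⁻¹ * g⁻¹ ≠ 1)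
    (hnorm : ∀ s ∈ S, ∀ g ∈ N, s * g * s⁻¹ ∈ N) (hcop : (Nat.card N).Coprime (Nat.card S))
    (htop : N ⊔ S = ⊤) (hcyc : IsCyclic S) (hS : S ≠ ⊥)
    (hfpf : ∀ x ∈ S, x ≠ 1 → N ⊓ Subgroup.centralizer ({x} : Set Γ) = Z) :
    Nat.card S ∣ p ^ n + 1 ∨ Nat.card S ∣ p ^ n - 1 := by
  classical
  haveI : Fintype N := Fintype.ofFinite _
  -- the setup on the type `N`
  have hset : ExtraChar.Setup p (Z.subgroupOf N) :=
    { prime := hp
      card := by
        rw [← hZcard]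
        exact Nat.card_congr (Subgroup.subgroupOfEquivOfLe hZN).toEquiv
      central := fun z hz g => Subtype.ext (hZc z.1 (Subgroup.mem_subgroupOf.mp hz) g.1 g.2)
      comm := fun g hg => by
        obtain ⟨h, hh, h1, h2⟩ := hnc g.1 g.2 (fun h' => hg (Subgroup.mem_subgroupOf.mpr h'))
        exact ⟨⟨h, hh⟩, Subgroup.mem_subgroupOf.mpr h1, fun h' => h2 (congrArg Subtype.val h')⟩ }
  obtain ⟨χ, hχ⟩ := hset.exists_irr
  have hdeg := hset.degree χ hχ n hcard
  -- `S` centralizes `Z`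
  have hSZ : ∀ s ∈ S, ∀ z ∈ Z, s * z = z * s := by
    intro s hs z hz
    by_cases hs1 : s = 1
    · rw [hs1, one_mul, mul_one]
    · have h1 : z ∈ N ⊓ Subgroup.centralizer ({s} : Set Γ) := by rw [hfpf s hs hs1]; exact hz
      have h2 := (Subgroup.mem_inf.mp h1).2
      rw [Subgroup.mem_centralizer_iff] at h2
      exact h2 s rfl
  -- invariance of `χ`
  have hinv : ∀ s ∈ S, ∀ g g' : N, (g' : Γ) = s * g * s⁻¹ →
      (χ : N → ℂ) g' = (χ : N → ℂ) g := by
    intro s hs g g' hgg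
    by_cases hg : (g : Γ) ∈ Z
    · have : g' = g := by
        apply Subtype.ext
        rw [hgg, hSZ s hs g hg]
        group
      rw [this]
    · have hg' : (g' : Γ) ∉ Z := by
        intro hg'
        apply hg
        have h1 : (g : Γ) = s⁻¹ * g' * s := by rw [hgg]; group
        have h2 : s * (g' : Γ) = g' * s := hSZ s hs _ hg'
        have h3 : s⁻¹ * (g' : Γ) * s = g' := by
          rw [mul_assoc, ← h2]
          group
        rw [h1, h3]
        exact hg'
      rw [hset.vanish χ hχ (fun h' => hg (Subgroup.mem_subgroupOf.mp h')),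
        hset.vanish χ hχ (fun h' => hg' (Subgroup.mem_subgroupOf.mp h'))]
  -- a generator of `S`
  obtain ⟨g₀, hg₀⟩ := hcyc.exists_generator
  obtain ⟨s₀, hs₀def⟩ : ∃ s₀ : Γ, s₀ = (g₀ : Γ) := ⟨_, rfl⟩
  have hs₀S : s₀ ∈ S := by rw [hs₀def]; exact g₀.2
  have hs₀ : Subgroup.zpowers s₀ = S := by
    ext x
    constructor
    · intro hx
      obtain ⟨k, rfl⟩ := Subgroup.mem_zpowers_iff.mp hx
      exact S.zpow_mem hs₀S k
    · intro hx
      obtain ⟨k, hk⟩ := Subgroup.mem_zpowers_iff.mp (hg₀ ⟨x, hx⟩)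
      rw [Subgroup.mem_zpowers_iff]
      refine ⟨k, ?_⟩
      have := congrArg (Subtype.val : S → Γ) hk
      rw [Subgroup.coe_zpow] at this
      rw [hs₀def]
      exact this
  have hord : orderOf s₀ = Nat.card S := by
    rw [← Nat.card_zpowers, hs₀]
  have hs₀1 : s₀ ≠ 1 := by
    intro h
    apply hS
    rw [← hs₀, h, Subgroup.zpowers_one_eq_bot]
  haveI hGn : N.Normal := normal_of_sup_eq_top N S hnorm htop
  have hsetup : CycSetup N s₀ :=
    cycSetup_of_sup_eq_top N s₀ (by rw [hs₀]; exact htop) (by rw [hord]; exact hcop)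
  have hsinv : SInv N s₀ (χ : N → ℂ) := by
    intro m
    exact hinv s₀ hs₀S m _ rfl
  obtain ⟨χh, hχh, hext, hdet⟩ := hsetup.exists_canonical χ.2 hsinv
  have hirr : IsIrrCharacter N (fun m : N => χh m) := by
    have : (fun m : N => χh m) = (χ : N → ℂ) := funext hext
    rw [this]
    exact χ.2
  obtain ⟨β, ε₀, hε₀, hβ₀⟩ := hsetup.exists_sign_irr hχh hirr hdet
  -- the centralizer
  have hCZ : fixedSub N s₀ = Z := hfpf s₀ hs₀S hs₀1
  have hC : fixedSub N s₀ = N ⊓ Subgroup.centralizer (S : Set Γ) := by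
    rw [hCZ]
    apply le_antisymm
    · intro z hz
      refine Subgroup.mem_inf.mpr ⟨hZN hz, ?_⟩
      rw [Subgroup.mem_centralizer_iff]
      intro s hs
      exact hSZ s hs z hz
    · intro x hx
      rw [← hCZ, mem_fixedSub]
      refine ⟨(Subgroup.mem_inf.mp hx).1, ?_⟩
      have h2 := (Subgroup.mem_inf.mp hx).2
      rw [Subgroup.mem_centralizer_iff] at h2
      exact (h2 s₀ hs₀S).symm
  haveI : Fintype (fixedSub N s₀) := Fintype.ofFinite _
  have hfpf' : ∀ x ∈ S, x ≠ 1 → N ⊓ Subgroup.centralizer ({x} : Set Γ) = fixedSub N s₀ := by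
    intro x hx hx1
    rw [hCZ]
    exact hfpf x hx hx1
  have hβ : ∀ c : fixedSub N s₀, ∀ s : Γ, Subgroup.zpowers s = S →
      χh ((c : Γ) * s) = (ε₀ : ℂ) * (β : fixedSub N s₀ → ℂ) c := by
    intro c s hs
    have hsmem : s ∈ Subgroup.zpowers s₀ := by rw [hs₀, ← hs]; exact Subgroup.mem_zpowers s
    obtain ⟨k, hk⟩ := (mem_powers_iff_mem_zpowers.mpr hsmem)
    have hk' : s₀ ^ k = s := hk
    have hos : orderOf s = orderOf s₀ := by
      rw [hord, ← hs, Nat.card_zpowers]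
    have hcopk : k.Coprime (orderOf s₀) := by
      rw [← hk', orderOf_pow] at hos
      have h0 : 0 < orderOf s₀ := orderOf_pos s₀
      rcases (Nat.div_eq_self.mp hos) with h | h
      · omega
      · exact (Nat.coprime_comm.mp h)
    rw [← hk', hsetup.canonical_gen hχh hirr hdet hcopk c.2]
    exact hβ₀ c
  have hdet' : (Cfsg.detOrder χh).Coprime (Nat.card S) := by rw [← hord]; exact hdet
  obtain ⟨ε, hε, -, -, hdvd⟩ := Cfsg.Agent.S4451.result N S hnorm hcop htop hcyc (fixedSub N s₀) hC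
    (fixedSub_le N s₀) hfpf' χ hinv ⟨χh, hχh⟩ hext hdet' β ε₀ hε₀ hβ
  have hd1 : Cfsg.charDegree (χ : N → ℂ) = p ^ n :=
    Cfsg.Agent.Lib.H23.charDegree_eq_of_apply_one hdeg
  have hcommC : ∀ a b : fixedSub N s₀, a * b = b * a := by
    intro a b
    apply Subtype.ext
    have ha : (a : Γ) ∈ Z := by rw [← hCZ]; exact a.2
    exact hZc a.1 ha b.1 (fixedSub_le N s₀ b.2)
  have hd2 : Cfsg.charDegree (β : fixedSub N s₀ → ℂ) = 1 := by
    apply Cfsg.Agent.Lib.H23.charDegree_eq_of_apply_one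
    rw [irr_apply_one_of_comm hcommC β]
    simp
  rw [hd1, hd2] at hdvd
  have hpn : 1 ≤ p ^ n := Nat.one_le_pow _ _ hp.pos
  rcases hε with rfl | rfl
  · right
    have : ((Nat.card S : ℕ) : ℤ) ∣ ((p ^ n - 1 : ℕ) : ℤ) := by
      rw [Nat.cast_sub hpn]
      simpa using hdvd
    exact Int.natCast_dvd_natCast.mp this
  · left
    have : ((Nat.card S : ℕ) : ℤ) ∣ ((p ^ n + 1 : ℕ) : ℤ) := by
      push_cast
      simpa using hdvd
    exact Int.natCast_dvd_natCast.mp this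

end Cfsg.Agent.Lib.H19.ExtraFpf
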