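/-
S2546 / S2547 (architect helper8), piece DICH: the dichotomy (c) for monomial matrices of `GS φ`.
-/
import Cfsg.Agent.Lib.H19.FBNMONO

set_option autoImplicit false
set_option linter.unusedSectionVars false
set_option linter.unusedVariables false

namespace Cfsg.Agent.Lib.H19.FBN

open Matrix Cfsg.Agent.Lib.H12.DCos Cfsg.Agent.Lib.H8.FBN

variable {F : Type*} [Field F] {n : ℕ} (φ : F →+* F)

/-- a permutation commuting with `rev` is monotone or antitone on the inversions of `τ j` -/
theorem perm_dichotomy (σ : Equiv.Perm (Fin n)) (hσ : ∀ k, σ k.rev = (σ k).rev) (j : Fin (n / 2)) :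
    (∀ a b, Phi j a b → σ a < σ b) ∨ (∀ a b, Phi j a b → σ b < σ a) := by
  have hj2 := j.2
  -- numerical form of `hσ`
  have hσv : ∀ k : Fin n, ((σ k.rev : Fin n) : ℕ) = n - 1 - (σ k : ℕ) := by
    intro k
    rw [hσ k, Fin.val_rev]
    have := (σ k).2
    omega
  by_cases hj : (j : ℕ) + 1 < n / 2
  · -- short case
    have hP : ∀ a b : Fin n, Phi j a b → (a = lo j ∧ b = nx j) ∨ (a = (nx j).rev ∧ b = (lo j).rev) := by
      intro a b hab
      rw [Phi_iff, if_pos hj] at hab
      rcases hab with ⟨h1, h2⟩ | ⟨h1, h2⟩
      · left
        exact ⟨Fin.ext (by rw [lo_val]; exact h1), Fin.ext (by rw [nx_val]; exact h2)⟩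
      · right
        refine ⟨Fin.ext ?_, Fin.ext ?_⟩
        · rw [Fin.val_rev, nx_val]; omega
        · rw [Fin.val_rev, lo_val]; omega
    have hne : σ (lo j) ≠ σ (nx j) := by
      intro h
      have := congrArg Fin.val (σ.injective h)
      rw [lo_val, nx_val] at this
      omega
    rcases lt_or_gt_of_ne hne with hlt | hlt
    · left
      intro a b hab
      rcases hP a b hab with ⟨rfl, rfl⟩ | ⟨rfl, rfl⟩
      · exact hlt
      · rw [Fin.lt_def, hσv, hσv]
        have := Fin.lt_def.mp hlt
        have := (σ (nx j)).2
        omega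
    · right
      intro a b hab
      rcases hP a b hab with ⟨rfl, rfl⟩ | ⟨rfl, rfl⟩
      · exact hlt
      · rw [Fin.lt_def, hσv, hσv]
        have := Fin.lt_def.mp hlt
        have := (σ (lo j)).2
        omega
  · -- last case
    have hjn : (j : ℕ) + 1 = n / 2 := by omega
    -- every index in the interval is `lo j`, `rev (lo j)` or the middle index
    have hcase : ∀ a : Fin n, (j : ℕ) ≤ a → (a : ℕ) ≤ n - 1 - j →
        a = lo j ∨ a = (lo j).rev ∨ a = a.rev := by
      intro a h1 h2
      by_cases e1 : (a : ℕ) = j
      · left; exact Fin.ext (by rw [lo_val]; exact e1)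
      · by_cases e2 : (a : ℕ) = n - 1 - j
        · right; left
          apply Fin.ext
          rw [Fin.val_rev, lo_val]; omega
        · right; right
          apply Fin.ext
          rw [Fin.val_rev]; omega
    -- the value of `σ` at a middle index is a middle index
    have hmid : ∀ a : Fin n, a = a.rev → 2 * ((σ a : Fin n) : ℕ) + 1 = n := by
      intro a ha
      have h := hσv a
      rw [← ha] at h
      have := (σ a).2
      omega
    have hmid' : ∀ a : Fin n, a = a.rev → 2 * (a : ℕ) + 1 = n := by
      intro a ha
      have h := congrArg Fin.val ha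
      rw [Fin.val_rev] at h
      have := a.2
      omega
    have hlo : ((lo j : Fin n) : ℕ) = j := lo_val j
    have hne : 2 * ((σ (lo j) : Fin n) : ℕ) + 1 ≠ n := by
      intro h
      -- then `σ (lo j)` is fixed by `rev`, hence `lo j` is
      have h1 : (σ (lo j)).rev = σ (lo j) := by
        apply Fin.ext
        rw [Fin.val_rev]; omega
      rw [← hσ] at h1
      have h2 := congrArg Fin.val (σ.injective h1)
      rw [Fin.val_rev, lo_val] at h2
      omega
    by_cases hlt : 2 * ((σ (lo j) : Fin n) : ℕ) + 1 < n
    · left
      intro a b hab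
      rw [Phi_iff, if_neg hj] at hab
      obtain ⟨h1, h2, h3⟩ := hab
      have ha := hcase a h1 (by omega)
      have hb := hcase b (by omega) h3
      rw [Fin.lt_def]
      rcases ha with rfl | rfl | ha
      · rcases hb with rfl | rfl | hb
        · omega
        · rw [hσv]; omega
        · have := hmid b hb; omega
      · rcases hb with rfl | rfl | hb
        · rw [Fin.val_rev, lo_val] at h2; omega
        · omega
        · have := hmid' b hb
          rw [Fin.val_rev, lo_val] at h2; omega
      · have hma := hmid a ha
        have hma' := hmid' a ha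
        rcases hb with rfl | rfl | hb
        · rw [lo_val] at h2; omega
        · rw [hσv]; omega
        · have := hmid' b hb; omega
    · right
      intro a b hab
      rw [Phi_iff, if_neg hj] at hab
      obtain ⟨h1, h2, h3⟩ := hab
      have ha := hcase a h1 (by omega)
      have hb := hcase b (by omega) h3
      have hs := (σ (lo j)).2
      rw [Fin.lt_def]
      rcases ha with rfl | rfl | ha
      · rcases hb with rfl | rfl | hb
        · omega
        · rw [hσv]; omega
        · have := hmid b hb; omega
      · rcases hb with rfl | rfl | hb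
        · rw [Fin.val_rev, lo_val] at h2; omega
        · omega
        · have := hmid' b hb
          rw [Fin.val_rev, lo_val] at h2; omega
      · have hma := hmid a ha
        have hma' := hmid' a ha
        rcases hb with rfl | rfl | hb
        · rw [lo_val] at h2; omega
        · rw [hσv]; omega
        · have := hmid' b hb; omega

theorem mono_dichotomy (g : ↥(GS (n := n) φ)) (hg : g ∈ Ms φ) (j : Fin (n / 2)) :
    (∀ x ∈ X φ j, g⁻¹ * x * g ∈ Bs φ) ∨ (∀ y ∈ Y φ j, g⁻¹ * y * g ∈ Bs φ) := by
  obtain ⟨π, hrev, hπ, hne⟩ := mono_perm φ g hg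
  -- `σ = π⁻¹` commutes with `rev`
  have hσ : ∀ k, π⁻¹ k.rev = (π⁻¹ k).rev := by
    intro k
    apply π.injective
    rw [hrev, Equiv.Perm.inv_def, Equiv.apply_symm_apply, Equiv.apply_symm_apply]
  have hinv : ∀ k, π⁻¹ (π k) = k := fun k => by rw [Equiv.Perm.inv_def, Equiv.symm_apply_apply]
  rcases perm_dichotomy π⁻¹ hσ j with hA | hB
  · left
    intro x hx
    show IsUp ((g⁻¹ * x * g).1 : Matrix (Fin n) (Fin n) F)
    intro k l hlk
    rw [mono_conj_apply φ g x π hπ]
    have h0 : (x.1 : Matrix (Fin n) (Fin n) F) (π k) (π l) = 0 := by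
      apply hx.2
      · intro h
        exact absurd (π.injective h) (ne_of_gt hlk)
      · intro hP
        have := hA _ _ hP
        rw [hinv, hinv] at this
        exact absurd this (not_lt.mpr hlk.le)
    rw [h0, mul_zero, zero_mul]
  · right
    intro y hy
    show IsUp ((g⁻¹ * y * g).1 : Matrix (Fin n) (Fin n) F)
    intro k l hlk
    rw [mono_conj_apply φ g y π hπ]
    have h0 : (y.1 : Matrix (Fin n) (Fin n) F) (π k) (π l) = 0 := by
      apply hy.2
      · intro h
        exact absurd (π.injective h) (ne_of_gt hlk)
      · intro hP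
        have := hB _ _ hP
        rw [hinv, hinv] at this
        exact absurd this (not_lt.mpr hlk.le)
    rw [h0, mul_zero, zero_mul]

end Cfsg.Agent.Lib.H19.FBN
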