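import Cfsg.Agent.Lib.H19.FG19CASEAaux
import Cfsg.Agent.Lib.H4.FG19A1
import Cfsg.Agent.Lib.H20.FG19A2
import Cfsg.Prelude.Def_CaseTheorems

set_option autoImplicit false

/-! S4404 piece CASEA (`caseA`), exact signature (helper19; architect helper1, sigs
`tools/blueprints/S4404_sigs.lean`): assembly of A1 (`comm_of_cube`, helper4), A2 (`map_cm_eq`, helper20), BR1-BR3. -/

namespace Cfsg.Agent.Lib.H19.FG19

open Cfsg Cfsg.Agent.Lib.H1.FG19
open scoped IsMulCommutative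

variable {S : Type*} [Group S] (M : Subgroup S) [M.Normal]

/-- CASEA (M/H, assembly of A1, A2, BR1, BR3): every `f` in an elementary abelian 3-group `F` normalised by `x`
normalises `V = [⟨x⟩, M]`.  (`X = ρ x`, `Φ = ρ f`, `Γ = ρ (x⁻¹ f x f⁻¹) = X⁻¹ Φ X Φ⁻¹`, `x⁻¹ f x f⁻¹ ∈ F`.) -/
theorem caseA [Finite S] (hM : IsElementaryAbelian 2 M) (x : S)
    (hx3 : x ^ 3 ∈ Subgroup.centralizer (M : Set S)) (hV : Nat.card ↥⁅Subgroup.zpowers x, M⁆ = 4)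
    (F : Subgroup S) (hF : IsElementaryAbelian 3 F) (hxF : ∀ f ∈ F, x * f * x⁻¹ ∈ F)
    (hxF' : ∀ f ∈ F, x⁻¹ * f * x ∈ F) (f : S) (hf : f ∈ F) :
    (⁅Subgroup.zpowers x, M⁆).map (MulAut.conj f).toMonoidHom = ⁅Subgroup.zpowers x, M⁆ := by
  have : IsMulCommutative ↥M := hM.1
  have h2 : ∀ a : ↥M, a * a = 1 := by
    intro a
    have h := hM.2 (a : S) a.2
    apply Subtype.ext
    rw [Subgroup.coe_mul, Subgroup.coe_one, ← pow_two]
    exact h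
  exact caseA_aux M
    (fun X Γ => Cfsg.Agent.Lib.H4.FG19.comm_of_cube h2 X Γ)
    (fun X Γ Φ => Cfsg.Agent.Lib.H20.FG19.map_cm_eq h2 X Γ Φ)
    x hx3 hV F hF hxF hxF' f hf

end Cfsg.Agent.Lib.H19.FG19
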