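import Cfsg.Agent.Lib.H19.FG19BR
import Cfsg.Prelude.Def_Transfer

set_option autoImplicit false

/-! S4404 piece CASEA, reduction to the abstract pieces A1 (`comm_of_cube`) and A2 (`map_cm_eq`), which enter as
hypotheses `hA1`, `hA2` (helper19; architect helper1, sigs `tools/blueprints/S4404_sigs.lean`). -/

namespace Cfsg.Agent.Lib.H19.FG19

open Cfsg Cfsg.Agent.Lib.H1.FG19
open scoped IsMulCommutative

variable {S : Type*} [Group S] (M : Subgroup S) [M.Normal]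

theorem caseA_aux [Finite S] [IsMulCommutative ↥M]
    (hA1 : ∀ (X Γ : MulAut ↥M), X ^ 3 = 1 → Γ ^ 3 = 1 → Commute Γ (X * Γ * X⁻¹) →
      Commute Γ (X ^ 2 * Γ * (X ^ 2)⁻¹) → (X * Γ) ^ 3 = 1 → Nat.card (cm X) ≤ 4 → X * Γ = Γ * X)
    (hA2 : ∀ (X Γ Φ : MulAut ↥M), X ^ 3 = 1 → Γ ^ 3 = 1 → X * Γ = Γ * X → Φ * Γ = Γ * Φ →
      Φ * X * Φ⁻¹ = X * Γ → Nat.card (cm X) = 4 → (cm X).map Φ.toMonoidHom = cm X)
    (x : S)
    (hx3 : x ^ 3 ∈ Subgroup.centralizer (M : Set S)) (hV : Nat.card ↥⁅Subgroup.zpowers x, M⁆ = 4)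
    (F : Subgroup S) (hF : IsElementaryAbelian 3 F) (hxF : ∀ f ∈ F, x * f * x⁻¹ ∈ F)
    (hxF' : ∀ f ∈ F, x⁻¹ * f * x ∈ F) (f : S) (hf : f ∈ F) :
    (⁅Subgroup.zpowers x, M⁆).map (MulAut.conj f).toMonoidHom = ⁅Subgroup.zpowers x, M⁆ := by
  classical
  -- notation
  set ρ : S →* MulAut ↥M := MulAut.conjNormal with hρ
  set X : MulAut ↥M := ρ x with hXdef
  set Φ : MulAut ↥M := ρ f with hΦdef
  set g : S := x⁻¹ * f * x * f⁻¹ with hgdef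
  set Γ : MulAut ↥M := ρ g with hΓdef
  have hFcomm : ∀ a ∈ F, ∀ b ∈ F, a * b = b * a := by
    intro a ha b hb
    have := hF.1
    have h := mul_comm (⟨a, ha⟩ : ↥F) ⟨b, hb⟩
    exact congrArg Subtype.val h
  have hgF : g ∈ F := F.mul_mem (hxF' f hf) (F.inv_mem hf)
  have hxg : x * g * x⁻¹ ∈ F := hxF g hgF
  have hxxg : x ^ 2 * g * (x ^ 2)⁻¹ ∈ F := by
    have : x ^ 2 * g * (x ^ 2)⁻¹ = x * (x * g * x⁻¹) * x⁻¹ := by
      rw [pow_two, mul_inv_rev]; simp only [mul_assoc]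
    rw [this]
    exact hxF _ hxg
  -- facts
  have hX3 : X ^ 3 = 1 := by
    rw [hXdef, ← map_pow]
    exact (conjNormal_eq_one_iff M (x ^ 3)).mpr hx3
  have hΓ3 : Γ ^ 3 = 1 := by
    rw [hΓdef, ← map_pow, hF.2 g hgF, map_one]
  have hΓeq : Γ = X⁻¹ * Φ * X * Φ⁻¹ := by
    rw [hΓdef, hgdef, map_mul, map_mul, map_mul, map_inv, map_inv]
  have hΦX : Φ * X * Φ⁻¹ = X * Γ := by
    rw [hΓeq]; group
  have hc1 : Commute Γ (X * Γ * X⁻¹) := by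
    have h1 : X * Γ * X⁻¹ = ρ (x * g * x⁻¹) := by
      rw [map_mul, map_mul, map_inv]
    rw [h1, hΓdef]
    show ρ g * ρ (x * g * x⁻¹) = ρ (x * g * x⁻¹) * ρ g
    rw [← map_mul, ← map_mul, hFcomm g hgF _ hxg]
  have hc2 : Commute Γ (X ^ 2 * Γ * (X ^ 2)⁻¹) := by
    have h1 : X ^ 2 * Γ * (X ^ 2)⁻¹ = ρ (x ^ 2 * g * (x ^ 2)⁻¹) := by
      rw [map_mul, map_mul, map_inv, map_pow]
    rw [h1, hΓdef]
    show ρ g * ρ (x ^ 2 * g * (x ^ 2)⁻¹) = ρ (x ^ 2 * g * (x ^ 2)⁻¹) * ρ g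
    rw [← map_mul, ← map_mul, hFcomm g hgF _ hxxg]
  have hXΓ3 : (X * Γ) ^ 3 = 1 := by
    rw [← hΦX]
    rw [conj_pow, hX3, mul_one, mul_inv_cancel]
  have hBR1 : ⁅Subgroup.zpowers x, M⁆ = (cm X).map M.subtype := comm_zpowers_eq M x
  have hcard : Nat.card (cm X) = 4 := by
    rw [← hV, hBR1]
    exact (Nat.card_congr
      ((cm X).equivMapOfInjective M.subtype M.subtype_injective).toEquiv)
  have hcomm : X * Γ = Γ * X := hA1 X Γ hX3 hΓ3 hc1 hc2 hXΓ3 hcard.le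
  have hΦΓ : Φ * Γ = Γ * Φ := by
    rw [hΓdef, hΦdef, ← map_mul, ← map_mul, hFcomm f hf g hgF]
  have hmap : (cm X).map Φ.toMonoidHom = cm X := hA2 X Γ Φ hX3 hΓ3 hcomm hΦΓ hΦX hcard
  rw [hBR1, map_conj_cm M X f, ← cm_conj, hmap]

end Cfsg.Agent.Lib.H19.FG19
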