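/-
helper19: S3816 (Flavell's fixed point theorem, `P` of odd prime order): the TRANSLATION from the internal
statement in `Γ = H ⋊ ⟨x⟩` (shape `Stmt Γ N s`, to be produced from `H24.Glaub.CycSetup N s`) to the Lean text of S3816.
Sig-independent: the internal theorem is a hypothesis `hint`.
-/
import Mathlib
import Cfsg.Agent.Lib.H24.GlaubCyclic1

set_option autoImplicit false
set_option linter.style.haveILetI false

universe u

namespace Cfsg.Agent.Lib.H19.Flav

open Cfsg.Agent.Lib.H24.Glaub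

/-- The internal form of Flavell's theorem in `Γ ⊇ N ∋ z`, `s ∈ Γ`. -/
def Stmt (Γ : Type u) [Group Γ] (N : Subgroup Γ) (s : Γ) : Prop :=
  ∀ z ∈ N, s * z = z * s →
    z ∈ Subgroup.closure {c : Γ | ∃ h ∈ N, ∃ i : ℕ, c = h⁻¹ * (s ^ i * h * (s ^ i)⁻¹)} →
    z ∈ ⨆ h : N, Subgroup.closure {c : Γ | ∃ i : ℕ, c = (h : Γ)⁻¹ * (s ^ i * (h : Γ) * (s ^ i)⁻¹)} ⊓
      Subgroup.centralizer {s}

section

variable {H : Type u} [Group H] (x : MulAut H)

/-- The semidirect product `H ⋊ ⟨x⟩`. -/
abbrev Gam : Type u := H ⋊[(Subgroup.zpowers x).subtype] (Subgroup.zpowers x)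

/-- The generator `x` inside `H ⋊ ⟨x⟩`. -/
def sEl : Gam x := SemidirectProduct.inr ⟨x, Subgroup.mem_zpowers x⟩

/-- The embedding of `H`. -/
def iota : H →* Gam x := SemidirectProduct.inl

theorem iota_injective : Function.Injective (iota x) := SemidirectProduct.inl_injective

theorem sEl_pow (i : ℕ) : (sEl x) ^ i = SemidirectProduct.inr (⟨x, Subgroup.mem_zpowers x⟩ ^ i) := by
  unfold sEl
  rw [map_pow]

theorem conj_iota (i : ℕ) (h : H) :
    (sEl x) ^ i * iota x h * ((sEl x) ^ i)⁻¹ = iota x ((x ^ i) h) := by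
  rw [sEl_pow, ← map_inv]
  unfold iota
  rw [← SemidirectProduct.inl_aut]
  simp

theorem iota_comm (i : ℕ) (h : H) :
    iota x (h⁻¹ * (x ^ i) h) = (iota x h)⁻¹ * ((sEl x) ^ i * iota x h * ((sEl x) ^ i)⁻¹) := by
  rw [conj_iota, map_mul, map_inv]

theorem comm_iff (z : H) : sEl x * iota x z = iota x z * sEl x ↔ x z = z := by
  have h1 := conj_iota x 1 z
  rw [pow_one, pow_one] at h1
  constructor
  · intro h
    have h2 : sEl x * iota x z * (sEl x)⁻¹ = iota x z := by rw [h]; group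
    rw [h1] at h2
    exact iota_injective x h2
  · intro h
    rw [h] at h1
    calc sEl x * iota x z = (sEl x * iota x z * (sEl x)⁻¹) * sEl x := by group
      _ = iota x z * sEl x := by rw [h1]

instance range_normal : ((iota x).range).Normal := by
  unfold iota
  rw [SemidirectProduct.range_inl_eq_ker_rightHom]
  infer_instance

end

section main

variable {H : Type u} [Group H] (x : MulAut H)

theorem map_closure_all :
    (Subgroup.closure {c : H | ∃ h : H, ∃ i : ℕ, c = h⁻¹ * (x ^ i) h}).map (iota x) ≤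
      Subgroup.closure {c : Gam x | ∃ h ∈ (iota x).range, ∃ i : ℕ,
        c = h⁻¹ * ((sEl x) ^ i * h * ((sEl x) ^ i)⁻¹)} := by
  rw [MonoidHom.map_closure]
  apply Subgroup.closure_mono
  rintro _ ⟨c, ⟨h, i, rfl⟩, rfl⟩
  exact ⟨iota x h, ⟨h, rfl⟩, i, iota_comm x i h⟩

theorem closure_one_eq (h : H) :
    Subgroup.closure {c : Gam x | ∃ i : ℕ,
        c = (iota x h)⁻¹ * ((sEl x) ^ i * iota x h * ((sEl x) ^ i)⁻¹)} =
      (Subgroup.closure {c : H | ∃ i : ℕ, c = h⁻¹ * (x ^ i) h}).map (iota x) := by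
  rw [MonoidHom.map_closure]
  congr 1
  ext c
  constructor
  · rintro ⟨i, rfl⟩
    exact ⟨h⁻¹ * (x ^ i) h, ⟨i, rfl⟩, iota_comm x i h⟩
  · rintro ⟨c, ⟨i, rfl⟩, rfl⟩
    exact ⟨i, iota_comm x i h⟩

theorem translate (hS : Stmt (Gam x) (iota x).range (sEl x)) :
    Subgroup.closure {c : H | ∃ h : H, ∃ i : ℕ, c = h⁻¹ * (x ^ i) h} ⊓
        (x : H →* H).eqLocus (MonoidHom.id H) =
      ⨆ h : H, Subgroup.closure {c : H | ∃ i : ℕ, c = h⁻¹ * (x ^ i) h} ⊓
        (x : H →* H).eqLocus (MonoidHom.id H) := by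
  apply le_antisymm
  · rintro z ⟨hzA, hzE⟩
    have hzE' : x z = z := hzE
    have h1 : iota x z ∈ (iota x).range := ⟨z, rfl⟩
    have h2 : sEl x * iota x z = iota x z * sEl x := (comm_iff x z).mpr hzE'
    have h3 := map_closure_all x (Subgroup.mem_map_of_mem (iota x) hzA)
    have h4 := hS _ h1 h2 h3
    have h5 : (⨆ h : (iota x).range, Subgroup.closure {c : Gam x | ∃ i : ℕ,
        c = (h : Gam x)⁻¹ * ((sEl x) ^ i * (h : Gam x) * ((sEl x) ^ i)⁻¹)} ⊓
          Subgroup.centralizer {sEl x}) ≤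
        (⨆ h : H, Subgroup.closure {c : H | ∃ i : ℕ, c = h⁻¹ * (x ^ i) h} ⊓
          (x : H →* H).eqLocus (MonoidHom.id H)).map (iota x) := by
      apply iSup_le
      rintro ⟨_, h0, rfl⟩
      have h6 : Subgroup.closure {c : Gam x | ∃ i : ℕ,
          c = (iota x h0)⁻¹ * ((sEl x) ^ i * iota x h0 * ((sEl x) ^ i)⁻¹)} ⊓
            Subgroup.centralizer {sEl x} ≤
          (Subgroup.closure {c : H | ∃ i : ℕ, c = h0⁻¹ * (x ^ i) h0} ⊓
            (x : H →* H).eqLocus (MonoidHom.id H)).map (iota x) := by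
        rw [closure_one_eq]
        rintro _ ⟨⟨b, hb, rfl⟩, hc⟩
        refine ⟨b, ⟨hb, ?_⟩, rfl⟩
        have hc' : sEl x * iota x b = iota x b * sEl x :=
          (Subgroup.mem_centralizer_iff.mp hc) (sEl x) (Set.mem_singleton _)
        exact (comm_iff x b).mp hc'
      exact h6.trans (Subgroup.map_mono (le_iSup (fun h : H =>
        Subgroup.closure {c : H | ∃ i : ℕ, c = h⁻¹ * (x ^ i) h} ⊓
          (x : H →* H).eqLocus (MonoidHom.id H)) h0))
    exact (Subgroup.mem_map_iff_mem (iota_injective x)).mp (h5 h4)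
  · apply iSup_le
    intro h
    apply inf_le_inf_right
    apply Subgroup.closure_mono
    rintro c ⟨i, rfl⟩
    exact ⟨h, i, rfl⟩

end main

section setup

variable {H : Type u} [Group H] (x : MulAut H)

theorem orderOf_sEl : orderOf (sEl x) = orderOf x := by
  unfold sEl
  rw [orderOf_injective _ SemidirectProduct.inr_injective]
  exact Subgroup.orderOf_mk x (Subgroup.mem_zpowers x)

theorem finite_zpowers (hx : orderOf x ≠ 0) : Finite (Subgroup.zpowers x) := by
  apply Nat.finite_of_card_ne_zero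
  rw [Nat.card_zpowers]
  exact hx

theorem finite_Gam [Finite H] (hx : orderOf x ≠ 0) : Finite (Gam x) := by
  haveI := finite_zpowers x hx
  exact Finite.of_equiv _ (SemidirectProduct.equivProd (N := H) (G := Subgroup.zpowers x)
    (φ := (Subgroup.zpowers x).subtype)).symm

theorem gen_Gam (hx : orderOf x ≠ 0) (g : Gam x) :
    ∃ n ∈ (iota x).range, ∃ k : ℕ, g = n * (sEl x) ^ k := by
  obtain ⟨k, hk⟩ : ∃ k : ℕ, x ^ k = (g.right : MulAut H) := by
    have h1 : (g.right : MulAut H) ∈ Subgroup.zpowers x := g.right.2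
    have h2 : IsOfFinOrder x := orderOf_pos_iff.mp (Nat.pos_of_ne_zero hx)
    have h3 := (h2.mem_powers_iff_mem_zpowers).mpr h1
    exact Submonoid.mem_powers_iff _ _ |>.mp h3
  refine ⟨iota x g.left, ⟨g.left, rfl⟩, k, ?_⟩
  rw [sEl_pow]
  have h4 : (⟨x, Subgroup.mem_zpowers x⟩ : Subgroup.zpowers x) ^ k = g.right := by
    apply Subtype.ext
    rw [Subgroup.coe_pow]
    exact hk
  rw [h4]
  exact (SemidirectProduct.inl_left_mul_inr_right g).symm

theorem card_range_iota : Nat.card (iota x).range = Nat.card H :=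
  (Nat.card_congr (MonoidHom.ofInjective (iota_injective x)).toEquiv).symm

theorem cycSetup [Finite H] {p : ℕ} (hp : p.Prime) (hcop : (Nat.card H).Coprime p) (hx : orderOf x = p)
    [Fintype (Gam x)] : CycSetup (iota x).range (sEl x) where
  gen := gen_Gam x (by rw [hx]; exact hp.ne_zero)
  cop := by
    rw [card_range_iota, orderOf_sEl, hx]
    exact hcop

/-- The translation: the internal statement for all `CycSetup`s with `s` of odd prime order gives the Lean
text of S3816 (solvability of `H` is not used). -/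
theorem S3816_of_internal
    (hint : ∀ (Γ : Type u) [Group Γ] [Fintype Γ] (N : Subgroup Γ) [N.Normal] (s : Γ),
      CycSetup N s → (orderOf s).Prime → orderOf s ≠ 2 → Stmt Γ N s)
    {H : Type u} [Group H] [Finite H] {p : ℕ} [Fact p.Prime] (hp : p ≠ 2)
    (hcop : (Nat.card H).Coprime p) (x : MulAut H) (hx : orderOf x = p) :
    Subgroup.closure {c : H | ∃ h : H, ∃ i : ℕ, c = h⁻¹ * (x ^ i) h} ⊓
        (x : H →* H).eqLocus (MonoidHom.id H) =
      ⨆ h : H, Subgroup.closure {c : H | ∃ i : ℕ, c = h⁻¹ * (x ^ i) h} ⊓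
        (x : H →* H).eqLocus (MonoidHom.id H) := by
  have hpp : p.Prime := Fact.out
  haveI : Finite (Gam x) := finite_Gam x (by rw [hx]; exact hpp.ne_zero)
  letI : Fintype (Gam x) := Fintype.ofFinite _
  have hc := cycSetup x hpp hcop hx
  have ho : orderOf (sEl x) = p := by rw [orderOf_sEl, hx]
  exact translate x (hint (Gam x) (iota x).range (sEl x) hc (by rw [ho]; exact hpp) (by rw [ho]; exact hp))

end setup

end Cfsg.Agent.Lib.H19.Flav
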