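import Mathlib
import Cfsg.Prelude.Def_Blocks
import Cfsg.Prelude.Def_Characters
import Cfsg.Agent.Lib.H23.BlockEquiv
import Cfsg.Agent.Lib.H23.CliffordCorr
import Cfsg.Agent.Lib.H24.CharBasic

/-!
# S4563 + S4564, piece END1 (helper19): the stabilizer complement `Y₀`

`Y₀ = {y ∈ N_H(W₀) | ζ₀^y = ζ₀}` satisfies `W₀ ≤ Y₀`, `Y₀ ∩ W₁ ≤ W₀`, `N_H(W₀) ⊆ W₁ Y₀`.
-/

set_option autoImplicit false

namespace Cfsg.Agent.Lib.H19.FRS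

open Cfsg

/-- Conjugation by an element normalizing `W`, as an automorphism of `W`. -/
def conjNormEquiv {H : Type*} [Group H] (W : Subgroup H) (y : H)
    (hy : y ∈ Subgroup.normalizer (W : Set H)) : ↥W ≃* ↥W where
  toFun w := ⟨y * w * y⁻¹, (Subgroup.mem_normalizer_iff.mp hy w).mp w.2⟩
  invFun w := ⟨y⁻¹ * w * y, (Subgroup.mem_normalizer_iff''.mp hy w).mp w.2⟩
  left_inv w := by
    apply Subtype.ext
    simp only [mul_assoc, inv_mul_cancel_left, inv_mul_cancel, mul_one]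
  right_inv w := by
    apply Subtype.ext
    simp only [mul_assoc, mul_inv_cancel_left, mul_inv_cancel, mul_one]
  map_mul' a b := by
    apply Subtype.ext
    simp only [Subgroup.coe_mul, mul_assoc, inv_mul_cancel_left]

theorem conjNormEquiv_coe {H : Type*} [Group H] (W : Subgroup H) (y : H)
    (hy : y ∈ Subgroup.normalizer (W : Set H)) (w : ↥W) :
    ((conjNormEquiv W y hy w : ↥W) : H) = y * w * y⁻¹ := rfl

/-- The extension by zero of `ζ₀`, avoiding dependent membership proofs. -/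
noncomputable def extZero {H : Type*} [Group H] (W : Subgroup H) (f : ↥W → ℂ) : H → ℂ :=
  by
    classical
    exact fun h => if hh : h ∈ W then f ⟨h, hh⟩ else 0

theorem extZero_mem {H : Type*} [Group H] (W : Subgroup H) (f : ↥W → ℂ) (h : H) (hh : h ∈ W) :
    extZero W f h = f ⟨h, hh⟩ := by
  unfold extZero
  exact dif_pos hh

/-- The stabilizer in `N_H(W)` of a function on `W`. -/
noncomputable def stabSub {H : Type*} [Group H] (W : Subgroup H) (f : ↥W → ℂ) : Subgroup H where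
  carrier := {y | y ∈ Subgroup.normalizer (W : Set H) ∧
    ∀ w ∈ W, extZero W f (y * w * y⁻¹) = extZero W f w}
  one_mem' := by
    refine ⟨Subgroup.one_mem _, fun w _ => ?_⟩
    simp
  mul_mem' := by
    rintro a b ⟨ha, ha'⟩ ⟨hb, hb'⟩
    refine ⟨Subgroup.mul_mem _ ha hb, fun w hw => ?_⟩
    have h1 : b * w * b⁻¹ ∈ W := (Subgroup.mem_normalizer_iff.mp hb w).mp hw
    have h2 : a * b * w * (a * b)⁻¹ = a * (b * w * b⁻¹) * a⁻¹ := by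
      simp only [mul_inv_rev, mul_assoc]
    rw [h2, ha' _ h1, hb' _ hw]
  inv_mem' := by
    rintro a ⟨ha, ha'⟩
    refine ⟨Subgroup.inv_mem _ ha, fun w hw => ?_⟩
    have h1 : a⁻¹ * w * a ∈ W := (Subgroup.mem_normalizer_iff''.mp ha w).mp hw
    have h2 := ha' _ h1
    have h3 : a * (a⁻¹ * w * a) * a⁻¹ = w := by
      simp only [mul_assoc, mul_inv_cancel_left, mul_inv_cancel, mul_one]
    rw [h3] at h2
    rw [inv_inv]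
    exact h2.symm

theorem mem_stabSub {H : Type*} [Group H] (W : Subgroup H) (f : ↥W → ℂ) (y : H) :
    y ∈ stabSub W f ↔ y ∈ Subgroup.normalizer (W : Set H) ∧
      ∀ w ∈ W, extZero W f (y * w * y⁻¹) = extZero W f w := Iff.rfl

theorem exists_stab {H : Type*} [Group H] [Finite H] (Z W₀ W₁ : Subgroup H) [hZ : Z.Normal]
    [Fintype ↥Z] [Fintype ↥W₀] (hZW₀ : Z ≤ W₀) (hW : W₀ ≤ W₁)
    (hnorm : W₁ ≤ Subgroup.normalizer (W₀ : Set H))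
    (θ : IrrCharacter ↥Z)
    (hθ : ∀ (h : H) (z : ↥Z), (θ : ↥Z → ℂ) ⟨h * z * h⁻¹, hZ.conj_mem z z.2 h⟩ = (θ : ↥Z → ℂ) z)
    (ζ₀ : IrrCharacter ↥W₀)
    (hover : classInner (fun z : ↥Z => (ζ₀ : ↥W₀ → ℂ) ⟨z, hZW₀ z.2⟩) (θ : ↥Z → ℂ) ≠ 0)
    (hstab : ∀ t ∈ W₁, (∀ (w : H) (hw : w ∈ W₀) (hw' : t * w * t⁻¹ ∈ W₀),
        (ζ₀ : ↥W₀ → ℂ) ⟨t * w * t⁻¹, hw'⟩ = (ζ₀ : ↥W₀ → ℂ) ⟨w, hw⟩) → t ∈ W₀)
    (htrans : ∀ ζ : IrrCharacter ↥W₀,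
        classInner (fun z : ↥Z => (ζ : ↥W₀ → ℂ) ⟨z, hZW₀ z.2⟩) (θ : ↥Z → ℂ) ≠ 0 →
        ∃ x ∈ W₁, ∀ (w : H) (hw : w ∈ W₀) (hw' : x * w * x⁻¹ ∈ W₀),
          (ζ : ↥W₀ → ℂ) ⟨w, hw⟩ = (ζ₀ : ↥W₀ → ℂ) ⟨x * w * x⁻¹, hw'⟩) :
    ∃ Y₀ : Subgroup H, W₀ ≤ Y₀ ∧ Y₀ ⊓ W₁ ≤ W₀ ∧
      ∀ y ∈ Subgroup.normalizer (W₀ : Set H), ∃ x ∈ W₁, x⁻¹ * y ∈ Y₀ := by
  refine ⟨stabSub W₀ (ζ₀ : ↥W₀ → ℂ), ?_, ?_, ?_⟩
  · -- `W₀ ≤ Y₀`: class function property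
    intro y hy
    rw [mem_stabSub]
    refine ⟨Subgroup.le_normalizer hy, fun w hw => ?_⟩
    have h1 : y * w * y⁻¹ ∈ W₀ := W₀.mul_mem (W₀.mul_mem hy hw) (W₀.inv_mem hy)
    rw [extZero_mem _ _ _ h1, extZero_mem _ _ _ hw]
    exact Cfsg.Agent.Lib.H24.irr_conj ζ₀ ⟨w, hw⟩ ⟨y, hy⟩
  · -- `Y₀ ⊓ W₁ ≤ W₀`
    intro t ht
    obtain ⟨ht0, ht1⟩ := Subgroup.mem_inf.mp ht
    rw [mem_stabSub] at ht0
    refine hstab t ht1 (fun w hw hw' => ?_)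
    have h := ht0.2 w hw
    rw [extZero_mem _ _ _ hw', extZero_mem _ _ _ hw] at h
    exact h
  · -- `N_H(W₀) ⊆ W₁ Y₀`
    intro y hy
    have hyi : y⁻¹ ∈ Subgroup.normalizer (W₀ : Set H) := Subgroup.inv_mem _ hy
    have hyZ : y⁻¹ ∈ Subgroup.normalizer (Z : Set H) := by
      rw [Subgroup.normalizer_eq_top]
      exact Subgroup.mem_top _
    set e : ↥W₀ ≃* ↥W₀ := conjNormEquiv W₀ y⁻¹ hyi with he
    set ι : ↥Z ≃* ↥Z := conjNormEquiv Z y⁻¹ hyZ with hι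
    set ζ : IrrCharacter ↥W₀ := Cfsg.Agent.Lib.H23.irrEquiv e ζ₀ with hζ
    have hζv : ∀ w : ↥W₀, (ζ : ↥W₀ → ℂ) w = (ζ₀ : ↥W₀ → ℂ) (e w) := fun w => rfl
    have hover' : classInner (fun z : ↥Z => (ζ : ↥W₀ → ℂ) ⟨z, hZW₀ z.2⟩) (θ : ↥Z → ℂ) ≠ 0 := by
      have h1 : (fun z : ↥Z => (ζ : ↥W₀ → ℂ) ⟨z, hZW₀ z.2⟩) =
          (fun z : ↥Z => (ζ₀ : ↥W₀ → ℂ) ⟨z, hZW₀ z.2⟩) ∘ ι := by
        funext z
        rfl
      have h2 : (θ : ↥Z → ℂ) = (θ : ↥Z → ℂ) ∘ ι := by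
        funext z
        exact (hθ y⁻¹ z).symm
      rw [h1, h2, Cfsg.Agent.Lib.H23.classInner_comp_equiv]
      exact hover
    obtain ⟨x₁, hx₁, hx₁'⟩ := htrans ζ hover'
    refine ⟨x₁⁻¹, W₁.inv_mem hx₁, ?_⟩
    rw [inv_inv, mem_stabSub]
    refine ⟨Subgroup.mul_mem _ (hnorm hx₁) hy, fun w hw => ?_⟩
    have hw1 : y * w * y⁻¹ ∈ W₀ := (Subgroup.mem_normalizer_iff.mp hy w).mp hw
    have hw2 : x₁ * (y * w * y⁻¹) * x₁⁻¹ ∈ W₀ :=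
      (Subgroup.mem_normalizer_iff.mp (hnorm hx₁) _).mp hw1
    have h3 : x₁ * y * w * (x₁ * y)⁻¹ = x₁ * (y * w * y⁻¹) * x₁⁻¹ := by
      simp only [mul_inv_rev, mul_assoc]
    rw [h3, extZero_mem _ _ _ hw2, extZero_mem _ _ _ hw, ← hx₁' _ hw1 hw2, hζv]
    have h4 : e ⟨y * w * y⁻¹, hw1⟩ = ⟨w, hw⟩ := by
      apply Subtype.ext
      rw [he, conjNormEquiv_coe]
      simp only [inv_inv, mul_assoc, inv_mul_cancel_left, inv_mul_cancel, mul_one]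
    rw [h4]

end Cfsg.Agent.Lib.H19.FRS
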