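import Mathlib
import Cfsg.Agent.Lib.H28.G23M.Words
import Cfsg.Agent.Lib.H28.TitsM.Steinberg
import Cfsg.Agent.Lib.H19.G23L3

set_option autoImplicit false

/-!
# S2101 piece LF (helper19): the generators of `G₂(3)` with the relations `Rels` lift through a central extension
-/

namespace Cfsg.Agent.Lib.H19.G23M

open Cfsg.Agent.Lib.H28.G23M Cfsg.Agent.Lib.H28.TitsM

/-- `ev` only depends on the first twelve values -/
theorem ev_congr {G : Type*} [Group G] {x y : ℕ → G} (h : ∀ i < 12, x i = y i) (w : List ℕ) :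
    ev x w = ev y w := by
  unfold ev
  congr 1
  apply List.map_congr_left
  intro l _
  unfold lv
  rw [h (l % 12) (Nat.mod_lt _ (by norm_num))]

/-- an element commuting with `u` and `v` modulo a central kernel commutes with their commutator -/
theorem comm_mul_of_comm_mod {G Γ : Type*} [Group G] [Group Γ] (σ : Γ →* G)
    (hc : σ.ker ≤ Subgroup.center Γ) {u v w : Γ} (hu : σ u * σ w = σ w * σ u)
    (hv : σ v * σ w = σ w * σ v) :
    (u * v * u⁻¹ * v⁻¹) * w = w * (u * v * u⁻¹ * v⁻¹) := by
  have hz1 : u⁻¹ * w⁻¹ * u * w ∈ Subgroup.center Γ := by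
    apply hc
    rw [MonoidHom.mem_ker]
    simp only [map_mul, map_inv]
    rw [mul_assoc _ (σ u), hu]
    group
  have hz2 : v⁻¹ * w⁻¹ * v * w ∈ Subgroup.center Γ := by
    apply hc
    rw [MonoidHom.mem_ker]
    simp only [map_mul, map_inv]
    rw [mul_assoc _ (σ v), hv]
    group
  have h1 := Cfsg.Agent.Lib.H1.CExt.comm_central hz1 hz2 u v
  rw [commutatorElement_def, commutatorElement_def] at h1
  have e : w⁻¹ * (u * v * u⁻¹ * v⁻¹) * w = u * v * u⁻¹ * v⁻¹ := by
    conv_rhs => rw [← h1]
    group
  calc (u * v * u⁻¹ * v⁻¹) * w = w * (w⁻¹ * (u * v * u⁻¹ * v⁻¹) * w) := by group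
    _ = w * (u * v * u⁻¹ * v⁻¹) := by rw [e]

/-- the lifted generators as a function of the index -/
def liftFun {Γ : Type*} [Group Γ] (a01 a12 a02 a20 a21 a10 b01 b12 b02 b20 b21 b10 : Γ) (i : ℕ) : Γ :=
  if i = 0 then a01 else if i = 6 then a12 else if i = 1 then a02 else if i = 10 then a20
  else if i = 5 then a21 else if i = 11 then a10 else if i = 2 then b01 else if i = 7 then b12
  else if i = 3 then b02 else if i = 8 then b20 else if i = 4 then b21 else if i = 9 then b10 else 1

/-- **LF** with **L3** as a hypothesis -/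
theorem exists_lift_rels_of {G Γ : Type*} [Group G] [Group Γ] (σ : Γ →* G)
    (hL3 : ∀ {e01 e12 e02 e20 e21 e10 : G}, St3 e01 e12 e02 e20 e21 e10 →
      ∃ f01 f12 f02 f20 f21 f10 : Γ, St3 f01 f12 f02 f20 f21 f10 ∧ σ f01 = e01 ∧ σ f12 = e12 ∧ σ f02 = e02 ∧
        σ f20 = e20 ∧ σ f21 = e21 ∧ σ f10 = e10)
    (hc : σ.ker ≤ Subgroup.center Γ) (X : ℕ → G) (hX : Rels X) (hXc : ∀ c ∈ cenL, ev X c = 1) :
    ∃ x : ℕ → Γ, (∀ i < 12, σ (x i) = X i) ∧ Rels x := by
  -- the two `St3` in `G`
  have hLong : St3 (X 0) (X 6) (X 1) (X 10) (X 5) (X 11) := by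
    refine ⟨hX.cube 0 (by norm_num), hX.cube 6 (by norm_num), hX.cube 1 (by norm_num),
      hX.cube 10 (by norm_num), hX.cube 5 (by norm_num), hX.cube 11 (by norm_num),
      hX.comm (0, 1) (by decide), hX.comm (0, 5) (by decide), (hX.comm (6, 1) (by decide)).symm,
      (hX.comm (6, 11) (by decide)).symm, (hX.comm (10, 11) (by decide)).symm, hX.comm (10, 5) (by decide),
      hX.st (0, 6, 1) (by decide), hX.st (1, 5, 0) (by decide), hX.st (11, 1, 6) (by decide),
      hX.st (6, 10, 11) (by decide), hX.st (10, 0, 5) (by decide), hX.st (5, 11, 10) (by decide)⟩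
  have hShort : St3 (X 2) (X 7) (X 3) (X 8) (X 4) (X 9) := by
    refine ⟨hX.cube 2 (by norm_num), hX.cube 7 (by norm_num), hX.cube 3 (by norm_num),
      hX.cube 8 (by norm_num), hX.cube 4 (by norm_num), hX.cube 9 (by norm_num),
      hX.comm (2, 3) (by decide), hX.comm (2, 4) (by decide), (hX.comm (7, 3) (by decide)).symm,
      (hX.comm (7, 9) (by decide)).symm, (hX.comm (8, 9) (by decide)).symm, hX.comm (8, 4) (by decide),
      hX.st (2, 7, 3) (by decide), hX.st (3, 4, 2) (by decide), hX.st (9, 3, 7) (by decide),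
      hX.st (7, 8, 9) (by decide), hX.st (8, 2, 4) (by decide), hX.st (4, 9, 8) (by decide)⟩
  obtain ⟨a01, a12, a02, a20, a21, a10, ha, ha01, ha12, ha02, ha20, ha21, ha10⟩ := hL3 hLong
  obtain ⟨b01, b12, b02, b20, b21, b10, hb, hb01, hb12, hb02, hb20, hb21, hb10⟩ := hL3 hShort
  -- commuting pairs in `G`
  have hG : ∀ i k, i < 12 → k < 12 → (commWord i k ∈ cenL ∨ (i, k) ∈ commL ∨ (k, i) ∈ commL) →
      X i * X k = X k * X i := by
    intro i k hi hk h
    rcases h with h | h | h
    · have h1 := hXc _ h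
      rw [ev_commWord, lv_of_lt X hi, lv_of_lt X hk, mul_inv_eq_one, mul_inv_eq_iff_eq_mul] at h1
      exact h1
    · exact hX.comm (i, k) h
    · exact (hX.comm (k, i) h).symm
  have key : ∀ {u v w : Γ} {i j k : ℕ}, σ u = X i → σ v = X j → σ w = X k → i < 12 → j < 12 → k < 12 →
      (commWord i k ∈ cenL ∨ (i, k) ∈ commL ∨ (k, i) ∈ commL) →
      (commWord j k ∈ cenL ∨ (j, k) ∈ commL ∨ (k, j) ∈ commL) →
      (u * v * u⁻¹ * v⁻¹) * w = w * (u * v * u⁻¹ * v⁻¹) := by
    intro u v w i j k hu hv hw hi hj hk h1 h2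
    apply comm_mul_of_comm_mod σ hc
    · rw [hu, hw]; exact hG i k hi hk h1
    · rw [hv, hw]; exact hG j k hj hk h2
  let x : ℕ → Γ := liftFun a01 a12 a02 a20 a21 a10 b01 b12 b02 b20 b21 b10
  have hσ : ∀ i < 12, σ (x i) = X i := by
    intro i hi
    interval_cases i
    · exact ha01
    · exact ha02
    · exact hb01
    · exact hb02
    · exact hb21
    · exact ha21
    · exact ha12
    · exact hb12
    · exact hb20
    · exact hb10
    · exact ha20
    · exact ha10
  refine ⟨x, hσ, ?_, ?_, ?_, ?_⟩
  · intro i hi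
    interval_cases i
    · exact ha.c01
    · exact ha.c02
    · exact hb.c01
    · exact hb.c02
    · exact hb.c21
    · exact ha.c21
    · exact ha.c12
    · exact hb.c12
    · exact hb.c20
    · exact hb.c10
    · exact ha.c20
    · exact ha.c10
  · intro s hs
    simp only [stL, List.mem_cons, List.not_mem_nil, or_false] at hs
    rcases hs with rfl | rfl | rfl | rfl | rfl | rfl | rfl | rfl | rfl | rfl | rfl | rfl
    · exact ha.s01_12
    · exact ha.s12_20
    · exact ha.s02_21
    · exact ha.s20_01
    · exact ha.s21_10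
    · exact ha.s10_02
    · exact hb.s01_12
    · exact hb.s12_20
    · exact hb.s02_21
    · exact hb.s20_01
    · exact hb.s21_10
    · exact hb.s10_02
  · intro p hp
    simp only [commL, List.mem_cons, List.not_mem_nil, or_false] at hp
    rcases hp with rfl | rfl | rfl | rfl | rfl | rfl | rfl | rfl | rfl | rfl | rfl | rfl |
      rfl | rfl | rfl | rfl | rfl | rfl | rfl | rfl | rfl | rfl | rfl | rfl
    · exact ha.k01_02
    · exact ha.k01_21
    · exact ha.k02_12.symm
    · exact ha.k10_12.symm
    · exact ha.k20_21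
    · exact ha.k10_20.symm
    · exact hb.k01_02
    · exact hb.k01_21
    · exact hb.k02_12.symm
    · exact hb.k10_12.symm
    · exact hb.k20_21
    · exact hb.k10_20.symm
    · -- (0, 2)
      have h := key ha02 ha21 hb01 (by norm_num) (by norm_num) (by norm_num) (by decide) (by decide)
      rw [ha.s02_21] at h
      exact h
    · -- (0, 3)
      have h := key ha02 ha21 hb02 (by norm_num) (by norm_num) (by norm_num) (by decide) (by decide)
      rw [ha.s02_21] at h
      exact h
    · -- (1, 2)
      have h := key ha01 ha12 hb01 (by norm_num) (by norm_num) (by norm_num) (by decide) (by decide)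
      rw [ha.s01_12] at h
      exact h
    · -- (1, 4)
      have h := key ha01 ha12 hb21 (by norm_num) (by norm_num) (by norm_num) (by decide) (by decide)
      rw [ha.s01_12] at h
      exact h
    · -- (5, 3)
      have h := key ha20 ha01 hb02 (by norm_num) (by norm_num) (by norm_num) (by decide) (by decide)
      rw [ha.s20_01] at h
      exact h
    · -- (5, 7)
      have h := key ha20 ha01 hb12 (by norm_num) (by norm_num) (by norm_num) (by decide) (by decide)
      rw [ha.s20_01] at h
      exact h
    · -- (6, 4)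
      have h := key ha10 ha02 hb21 (by norm_num) (by norm_num) (by norm_num) (by decide) (by decide)
      rw [ha.s10_02] at h
      exact h
    · -- (6, 8)
      have h := key ha10 ha02 hb20 (by norm_num) (by norm_num) (by norm_num) (by decide) (by decide)
      rw [ha.s10_02] at h
      exact h
    · -- (10, 7)
      have h := key ha21 ha10 hb12 (by norm_num) (by norm_num) (by norm_num) (by decide) (by decide)
      rw [ha.s21_10] at h
      exact h
    · -- (10, 9)
      have h := key ha21 ha10 hb10 (by norm_num) (by norm_num) (by norm_num) (by decide) (by decide)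
      rw [ha.s21_10] at h
      exact h
    · -- (11, 8)
      have h := key ha12 ha20 hb20 (by norm_num) (by norm_num) (by norm_num) (by decide) (by decide)
      rw [ha.s12_20] at h
      exact h
    · -- (11, 9)
      have h := key ha12 ha20 hb10 (by norm_num) (by norm_num) (by norm_num) (by decide) (by decide)
      rw [ha.s12_20] at h
      exact h
  · intro c hcc q _
    have hker : ev x c ∈ σ.ker := by
      rw [MonoidHom.mem_ker, map_ev, ev_congr hσ, hXc c hcc]
    exact (Subgroup.mem_center_iff.mp (hc hker) (x q)).symm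

/-- **LF**: lifting the generators -/
theorem exists_lift_rels {G Γ : Type*} [Group G] [Group Γ] (σ : Γ →* G) (hs : Function.Surjective σ)
    (hc : σ.ker ≤ Subgroup.center Γ) (X : ℕ → G) (hX : Rels X) (hXc : ∀ c ∈ cenL, ev X c = 1) :
    ∃ x : ℕ → Γ, (∀ i < 12, σ (x i) = X i) ∧ Rels x :=
  exists_lift_rels_of σ (fun h => st3_exists_lift σ hs hc h) hc X hX hXc

end Cfsg.Agent.Lib.H19.G23M
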