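import Mathlib
import Cfsg.Prelude.Def_Blocks
import Cfsg.Prelude.Def_Characters
import Cfsg.Agent.Lib.H23.GagDefs
import Cfsg.Agent.Lib.H6.GAGPICHAR
import Cfsg.Agent.Lib.H24.GlaubProd
import Cfsg.Agent.Lib.L0.CharOps

/-!
# S4561 piece THETA (helper19): `ϑ` is an irreducible character of the base group of `Tw H₀ p`
-/

set_option autoImplicit false

universe u

namespace Cfsg.Agent.Lib.H19.GAG

open Cfsg Cfsg.Agent.Lib.H23.Gag

section tw

variable {H₀ : Type u} [Group H₀] [Finite H₀] (p : ℕ) [Fact p.Prime]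

/-- the base group is `H₀^p × (ZMod p)²` -/
def baseHom (H₀ : Type u) [Group H₀] (p : ℕ) :
    ↥(Tw.base H₀ p) →* (Cp p → H₀) × Multiplicative (ZMod p × ZMod p) where
  toFun x := (x.1.f, Multiplicative.ofAdd (x.1.v, x.1.c))
  map_one' := rfl
  map_mul' := by
    intro x y
    have hx : x.1.s = 1 := x.2
    refine Prod.ext ?_ ?_
    · show (x.1 * y.1).f = x.1.f * y.1.f
      rw [Tw.mul_f]
      congr 1
      funext t
      rw [hx, inv_one, one_mul]
    · show Multiplicative.ofAdd ((x.1 * y.1).v, (x.1 * y.1).c) =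
        Multiplicative.ofAdd (x.1.v, x.1.c) * Multiplicative.ofAdd (y.1.v, y.1.c)
      rw [← ofAdd_add, Tw.mul_v, Tw.mul_c, hx]
      simp

omit [Finite H₀] in
theorem baseHom_surjective : Function.Surjective (baseHom H₀ p) := by
  rintro ⟨f, vc⟩
  refine ⟨⟨⟨f, 1, (Multiplicative.toAdd vc).1, (Multiplicative.toAdd vc).2⟩, rfl⟩, ?_⟩
  rfl

/-- the linear character `(v, c) ↦ ω^c` -/
noncomputable def muHom (p : ℕ) [NeZero p] : Multiplicative (ZMod p × ZMod p) →* ℂˣ :=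
  ((ZMod.stdAddChar (N := p)).toMonoidHom.comp
    (AddMonoidHom.toMultiplicative (AddMonoidHom.snd (ZMod p) (ZMod p)))).toHomUnits

theorem muHom_apply (p : ℕ) [NeZero p] (a : Multiplicative (ZMod p × ZMod p)) :
    ((muHom p a : ℂˣ) : ℂ) = ZMod.stdAddChar (Multiplicative.toAdd a).2 := rfl

/-- THETA.  `ϑ` is an irreducible character of the base group. -/
theorem isIrrCharacter_theta (χ₀ : IrrCharacter H₀) :
    IsIrrCharacter ↥(Tw.base H₀ p) (Tw.theta p (χ₀ : H₀ → ℂ)) := by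
  classical
  have : Fintype H₀ := Fintype.ofFinite H₀
  have : NeZero p := ⟨(Fact.out : p.Prime).ne_zero⟩
  have h1 : IsIrrCharacter (Cp p → H₀) (fun f => ∏ t, (χ₀ : H₀ → ℂ) (f t)) :=
    Cfsg.Agent.Lib.H6.GAG.isIrrCharacter_piChar (χ₀ : H₀ → ℂ) χ₀.2
  have h2 := Cfsg.Agent.Lib.H24.Glaub.isIrrCharacter_prod_hom
    (C := Cp p → H₀) (S := Multiplicative (ZMod p × ZMod p)) _ h1 (muHom p)
  have h3 := Cfsg.Agent.Lib.L0.isIrrCharacter_comp_of_surjective (baseHom H₀ p)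
    (baseHom_surjective p) h2
  convert h3 using 1
  funext x
  show (∏ t : Cp p, (χ₀ : H₀ → ℂ) (x.1.f t)) * (ZMod.stdAddChar x.1.c : ℂ) =
    (∏ t : Cp p, (χ₀ : H₀ → ℂ) ((baseHom H₀ p x).1 t)) * ((muHom p (baseHom H₀ p x).2 : ℂˣ) : ℂ)
  rw [muHom_apply]
  rfl

end tw

end Cfsg.Agent.Lib.H19.GAG
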