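import Mathlib
import Cfsg.Agent.Lib.H17.GHDefs

/-!
# S4402, piece KA (core): assembly of the concrete pieces K1..K7 into `Data T` (helper19)

`dataTreeOf` takes the conclusions of K1, K2, K3, K4, K5, K6, K7 (exact statements of
`tools/blueprints/S4402_sigs.lean`) as hypotheses and builds `Data T`.  The only field that is not a conjunct of a
K-piece is `z_mem_As`; it is proved here: `hsw` and `hsw * zc` lie in `Omc` and `zc = hsw * (hsw * zc)`.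
-/

set_option autoImplicit false
set_option linter.dupNamespace false

namespace Cfsg.Agent.Lib.H19.GH

open Subgroup Cfsg.Agent.Lib.H17.GH Cfsg.Agent.Lib.H14.A8Sylow

theorem hsw_mem_Omc : hsw ∈ Omc := by
  refine ⟨?_, ?_, ?_⟩
  · rw [mem_T]; decide
  · decide
  · decide

theorem hsw_mul_zc_mem_Omc : hsw * zc ∈ Omc := by
  refine ⟨?_, ?_, ?_⟩
  · rw [mem_T]; decide
  · decide
  · decide

theorem zc_eq_hsw_mul : zc = hsw * (hsw * zc) := by decide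

theorem zc_mem_Asc : zc ∈ Asc := by
  rw [zc_eq_hsw_mul]
  exact Subgroup.mul_mem _ (Subgroup.subset_closure hsw_mem_Omc)
    (Subgroup.subset_closure hsw_mul_zc_mem_Omc)

/-- KA (core). Assembly of the conclusions of K1..K7 into `Data T`. -/
noncomputable def dataTreeOf
    (k1 : Nat.card T = 128 ∧ zc ∈ T ∧ zc ≠ 1 ∧ zc * zc = 1 ∧
      ∀ x ∈ T, (∀ y ∈ T, x * y = y * x) ↔ (x = 1 ∨ x = zc))
    (k2 : A1c ≤ T ∧ A2c ≤ T ∧ (∀ g ∈ T, ∀ a ∈ A1c, g * a * g⁻¹ ∈ A1c) ∧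
      (∀ g ∈ T, ∀ a ∈ A2c, g * a * g⁻¹ ∈ A2c) ∧ (∀ a ∈ A1c, a * a = 1) ∧ (∀ a ∈ A2c, a * a = 1) ∧
      Nat.card A1c = 16 ∧ Nat.card A2c = 16 ∧ A1c ≠ A2c)
    (k3 : ∀ x ∈ T, x * x = 1 → (∀ g ∈ T, (g * x * g⁻¹) * x = x * (g * x * g⁻¹)) →
      x ∈ A1c ∨ x ∈ A2c)
    (k4 : (∀ x, x ∈ Omc ↔ (x ∈ T ∧ x * x = 1 ∧ ¬ ∃ a ∈ A1c, ∃ b ∈ A2c, x = a * b)) ∧
      Omc.ncard = 8)
    (k5 : Nat.card Asc = 32 ∧ (∀ a ∈ Asc, a * a = 1 ∨ a * a = zc) ∧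
      (∀ a ∈ Asc, ∀ b ∈ Asc, a * b = b * a ∨ a * b = b * a * zc))
    (k6 : ∀ y ∈ T, (∀ x ∈ Omc, y * x = x * y) → y = 1 ∨ y = zc)
    (k7 : (∀ p ∈ T, ∃ a ∈ A1c, ∃ b ∈ A2c, ∃ c ∈ Asc, p = a * b * c) ∧
      (∀ a ∈ A1c, ∀ a' ∈ A1c, a ∉ Asc → a' ∉ Asc → a⁻¹ * a' ∈ Asc) ∧
      (∀ a ∈ A2c, ∀ a' ∈ A2c, a ∉ Asc → a' ∉ Asc → a⁻¹ * a' ∈ Asc) ∧
      (∀ p ∈ T, ∀ q ∈ T, p * q * p⁻¹ * q⁻¹ ∈ Asc)) : Data T where
  z := zc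
  A1 := A1c
  A2 := A2c
  As := Asc
  Om := Omc
  card_P := k1.1
  z_mem := k1.2.1
  z_ne := k1.2.2.1
  z_sq := k1.2.2.2.1
  center_iff := k1.2.2.2.2
  A1_le := k2.1
  A2_le := k2.2.1
  A1_conj := k2.2.2.1
  A2_conj := k2.2.2.2.1
  A1_sq := k2.2.2.2.2.1
  A2_sq := k2.2.2.2.2.2.1
  A1_card := k2.2.2.2.2.2.2.1
  A2_card := k2.2.2.2.2.2.2.2.1
  A1_ne_A2 := k2.2.2.2.2.2.2.2.2
  good := k3
  Om_iff := k4.1
  Om_card := k4.2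
  As_eq := rfl
  As_card := k5.1
  z_mem_As := zc_mem_Asc
  As_sq := k5.2.1
  As_comm := k5.2.2
  cent_Om := k6
  prod := k7.1
  A1_idx := k7.2.1
  A2_idx := k7.2.2.1
  comm_P := k7.2.2.2

end Cfsg.Agent.Lib.H19.GH
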