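import Mathlib
import Cfsg.Agent.Lib.H17.GHDefs
import Cfsg.Agent.Lib.H19.GHKACore
import Cfsg.Agent.Lib.H21.GHK1
import Cfsg.Agent.Lib.H18.GHK2
import Cfsg.Agent.Lib.H25.GHK3
import Cfsg.Agent.Lib.H25.GHK4
import Cfsg.Agent.Lib.H6.GHK5
import Cfsg.Agent.Lib.H6.GHK7

/-!
# S4402, piece KA: the concrete instance `dataTree : Data T` (helper19)

Assembly (`dataTreeOf`, `Lib/H19/GHKACore.lean`) of the landed concrete pieces:
K1 `card_T_center` + K6 `cent_Omc` (helper21), K2 `A1c_A2c` (helper18), K3 `good_T` + K4 `Omc_iff_card`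
(helper25), K5 `Asc_facts` + K7 `prod_idx_comm` (helper6).
-/

set_option autoImplicit false
set_option linter.dupNamespace false

namespace Cfsg.Agent.Lib.H19.GH

open Subgroup Cfsg.Agent.Lib.H17.GH Cfsg.Agent.Lib.H14.A8Sylow

/-- KA. The concrete instance (assembly of the concrete pieces K1..K7). -/
noncomputable def dataTree : Data T :=
  dataTreeOf Cfsg.Agent.Lib.H21.GH.card_T_center Cfsg.Agent.Lib.H18.GH.A1c_A2c
    Cfsg.Agent.Lib.H25.GH.good_T Cfsg.Agent.Lib.H25.GH.Omc_iff_card Cfsg.Agent.Lib.H6.GH.Asc_facts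
    Cfsg.Agent.Lib.H21.GH.cent_Omc Cfsg.Agent.Lib.H6.GH.prod_idx_comm

end Cfsg.Agent.Lib.H19.GH
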