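import Mathlib
import Cfsg.Prelude.Def_Local
import Cfsg.Agent.Lib.H19.PLength
import Cfsg.Agent.Lib.H10.PSolvable
import Cfsg.Agent.Lib.H10.PSolvable2
import Cfsg.Agent.Lib.H7.Kazarin2
import Cfsg.Agent.Lib.H1.SchurZassenhaus
import Cfsg.Agent.S0120
import Cfsg.Agent.Lib.H9.PPrimeCore
import Cfsg.Agent.Lib.H22.PPrimeCore
import Cfsg.Agent.Lib.H1.PCore

/-!
# The Gaschütz–Yen theorem (elementary proof)

If `G` is `p`-soluble, `p` odd, and `Aut G` is transitive on the subgroups of order `p`,
then `G` has `p`-length at most one.  The proof uses only the Frattini argument for a Hall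
complement of `O_p` in `O_{p,p'}`, Schur–Zassenhaus and the fact that a `p'`-automorphism of a
`p`-group (`p` odd) trivial on the elements of order `p` is trivial.
-/

set_option autoImplicit false

namespace Cfsg.Agent.Lib.H19.GYen

open Cfsg
open scoped Pointwise

universe u

section Frattini

variable {G : Type u} [Group G] [Finite G]

/-- Frattini argument for a Hall complement: if `P ≤ K` are normal in `G`, `P` is solvable of order
coprime to `|K : P|`, and `K₀ ≤ K` has order `|K : P|`, then every coset of `P` meets `N_G(K₀)`. -/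
theorem exists_mul_mem_normalizer {P K K₀ : Subgroup G} [hPn : P.Normal] [hKn : K.Normal]
    (hPK : P ≤ K) (hK₀ : K₀ ≤ K) (hcard : Nat.card K₀ = P.relIndex K)
    (hcop : (Nat.card P).Coprime (P.relIndex K)) (hsol : Group.IsSolvable P) (g : G) :
    ∃ u ∈ P, u * g ∈ Subgroup.normalizer (K₀ : Set G) := by
  classical
  -- the conjugate complement
  set K₁ : Subgroup G := K₀.map (MulAut.conj g).toMonoidHom with hK₁
  have hK₁K : K₁ ≤ K := by
    rintro _ ⟨k, hk, rfl⟩
    exact hKn.conj_mem k (hK₀ hk) g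
  have hcard₁ : Nat.card K₁ = P.relIndex K := by
    rw [← hcard]
    exact (Nat.card_congr (K₀.equivMapOfInjective _ (MulAut.conj g).injective).toEquiv).symm
  -- work inside `K`
  set N' : Subgroup K := P.subgroupOf K with hN'
  have hN'n : N'.Normal := hPn.subgroupOf K
  have hN'card : Nat.card N' = Nat.card P :=
    Nat.card_congr (Subgroup.subgroupOfEquivOfLe hPK).toEquiv
  have hN'idx : N'.index = P.relIndex K := rfl
  have hKcard : Nat.card K = Nat.card P * P.relIndex K := by
    rw [← hN'card, ← hN'idx]; exact (Subgroup.card_mul_index N').symm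
  have hcompl : ∀ L : Subgroup G, L ≤ K → Nat.card L = P.relIndex K →
      Subgroup.IsComplement' N' (L.subgroupOf K) := by
    intro L hL hLc
    have hLc' : Nat.card (L.subgroupOf K) = P.relIndex K := by
      rw [← hLc]; exact Nat.card_congr (Subgroup.subgroupOfEquivOfLe hL).toEquiv
    apply Subgroup.isComplement'_of_card_mul_and_disjoint
    · rw [hN'card, hLc', hKcard]
    · rw [disjoint_iff]
      rw [← disjoint_iff]
      apply Subgroup.disjoint_of_coprime_natCard
      rw [hN'card, hLc']; exact hcop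
  have hc0 := hcompl K₀ hK₀ hcard
  have hc1 := hcompl K₁ hK₁K hcard₁
  have hcop' : (Nat.card N').Coprime N'.index := by rw [hN'card, hN'idx]; exact hcop
  have hsol' : Group.IsSolvable N' :=
    Group.isSolvable_of_isSolvable_injective (f := (Subgroup.subgroupOfEquivOfLe hPK).toMonoidHom)
      (Subgroup.subgroupOfEquivOfLe hPK).injective
  obtain ⟨n, hn, hconj⟩ := Cfsg.Agent.Lib.H1.sz_conj_quotient hcop' hc0 hc1 (Or.inl hsol')
  refine ⟨(n : G)⁻¹, P.inv_mem (Subgroup.mem_subgroupOf.1 hn), ?_⟩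
  -- `n K₀ n⁻¹ = g K₀ g⁻¹`
  have key : ∀ k : G, k ∈ K₀ → ∃ k' ∈ K₀, (n : G) * k * (n : G)⁻¹ = g * k' * g⁻¹ := by
    intro k hk
    have hkK : k ∈ K := hK₀ hk
    have h1 : (⟨k, hkK⟩ : K) ∈ K₀.subgroupOf K := Subgroup.mem_subgroupOf.2 hk
    have h2 : n * ⟨k, hkK⟩ * n⁻¹ ∈ MulAut.conj n • K₀.subgroupOf K :=
      ⟨_, h1, by simp [MulAut.conj_apply]⟩
    rw [hconj] at h2
    have h3 : ((n * ⟨k, hkK⟩ * n⁻¹ : K) : G) ∈ K₁ := Subgroup.mem_subgroupOf.1 h2
    obtain ⟨k', hk', hk'e⟩ := h3
    refine ⟨k', hk', ?_⟩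
    rw [MulEquiv.coe_toMonoidHom, MulAut.conj_apply] at hk'e
    rw [hk'e]
    simp
  have hcardeq : ∀ x : G, (∀ k ∈ K₀, x * k * x⁻¹ ∈ K₀) → x ∈ Subgroup.normalizer (K₀ : Set G) := by
    intro x hx
    have hle : K₀.map (MulAut.conj x).toMonoidHom ≤ K₀ := by
      rintro _ ⟨k, hk, rfl⟩
      exact hx k hk
    have heq : K₀.map (MulAut.conj x).toMonoidHom = K₀ := by
      apply Subgroup.eq_of_le_of_card_ge hle
      exact (Nat.card_congr (K₀.equivMapOfInjective _ (MulAut.conj x).injective).toEquiv).le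
    rw [Subgroup.mem_normalizer_iff]
    intro h
    constructor
    · intro hh; exact hx h hh
    · intro hh
      have : x * h * x⁻¹ ∈ K₀.map (MulAut.conj x).toMonoidHom := by rw [heq]; exact hh
      obtain ⟨k, hk, hke⟩ := this
      rw [MulEquiv.coe_toMonoidHom, MulAut.conj_apply] at hke
      have : k = h := by
        have := congrArg (fun t => x⁻¹ * t * x) hke
        simpa [mul_assoc] using this
      rwa [← this]
  apply hcardeq
  intro k hk
  -- `(n⁻¹ g) k (n⁻¹ g)⁻¹ = n⁻¹ (g k g⁻¹) n`; and `g k g⁻¹ = n k'' n⁻¹` for some `k'' ∈ K₀`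
  -- use bijectivity: the map `k ↦ g⁻¹ n k n⁻¹ g` is an injection `K₀ → K₀`, hence onto
  have hinj : ∀ k ∈ K₀, g⁻¹ * (n : G) * k * ((n : G)⁻¹ * g) ∈ K₀ := by
    intro k hk
    obtain ⟨k', hk', he⟩ := key k hk
    have : g⁻¹ * (n : G) * k * ((n : G)⁻¹ * g) = g⁻¹ * ((n : G) * k * (n : G)⁻¹) * g := by group
    rw [this, he]
    have : g⁻¹ * (g * k' * g⁻¹) * g = k' := by group
    rw [this]; exact hk'
  have hx := hcardeq (g⁻¹ * (n : G)) (by
    intro k hk
    have := hinj k hk
    have e : g⁻¹ * (n : G) * k * (g⁻¹ * (n : G))⁻¹ = g⁻¹ * (n : G) * k * ((n : G)⁻¹ * g) := by group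
    rw [e]; exact this)
  have hx' := (Subgroup.normalizer (K₀ : Set G)).inv_mem hx
  have e2 : (g⁻¹ * (n : G))⁻¹ = (n : G)⁻¹ * g := by group
  rw [e2] at hx'
  have := (Subgroup.mem_normalizer_iff.1 hx' k).1 hk
  exact this

end Frattini

section Core

variable {G : Type u} [Group G] [Finite G] {p : ℕ} [hp : Fact p.Prime]

/-- Hypothesis (T): every characteristic subgroup of order divisible by `p` contains all
elements of order `p`. -/
def CharT (p : ℕ) (G : Type u) [Group G] : Prop :=
  ∀ C : Subgroup G, C.Characteristic → p ∣ Nat.card C → ∀ x : G, orderOf x = p → x ∈ C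

omit [Finite G] in
theorem exists_orderOf_eq_of_isPGroup [Finite G] {D : Subgroup G} (hD : IsPGroup p D) (hne : D ≠ ⊥) :
    ∃ z ∈ D, orderOf z = p := by
  obtain ⟨k, hk⟩ := hD.exists_card_eq
  have hk0 : k ≠ 0 := by
    rintro rfl
    rw [pow_zero] at hk
    exact hne (Subgroup.eq_bot_of_card_eq D hk)
  have hdvd : p ∣ Nat.card D := by rw [hk]; exact dvd_pow_self p hk0
  obtain ⟨z, hz⟩ := exists_prime_orderOf_dvd_card' p hdvd
  exact ⟨z, z.2, by rw [← hz, Subgroup.orderOf_coe]⟩

/-- core of the Gaschütz–Yen argument -/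
theorem index_pCore_coprime (hp2 : p ≠ 2) (hG : IsPSolvable p G) (hO : pPrimeCore p G = ⊥)
    (hT : CharT p G) : (pCore p G).index.Coprime p := by
  classical
  by_contra hcon
  have hdvd : p ∣ (pCore p G).index := by
    by_contra h
    exact hcon ((Nat.Prime.coprime_iff_not_dvd hp.out).2 h).symm
  have hPn : (pCore p G).Normal := Cfsg.Agent.Lib.H1.pCore_normal p G
  have hPp : IsPGroup p (pCore p G) := Cfsg.Agent.Lib.H1.pCore_isPGroup p G
  have hPc : (pCore p G).Characteristic := Cfsg.Agent.Lib.H1.pCore_characteristic p G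
  have hCP := Cfsg.Agent.Lib.H10.centralizer_pCore_le_of_isPSolvable p hG hO
  set P := pCore p G with hP
  -- `P ≠ ⊥`
  have hPne : P ≠ ⊥ := by
    intro h
    rw [h] at hdvd
    have h1 : Subgroup.centralizer ((⊥ : Subgroup G) : Set G) ≤ ⊥ := by rw [h] at hCP; exact hCP
    have h2 : (⊤ : Subgroup G) ≤ ⊥ := by
      refine le_trans ?_ h1
      intro x _
      rw [Subgroup.mem_centralizer_iff]
      intro y hy
      have : y = 1 := by simpa using hy
      rw [this]; simp
    have h3 : (⊥ : Subgroup G) = ⊤ := le_antisymm bot_le h2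
    rw [h3, Subgroup.index_top] at hdvd
    exact hp.out.one_lt.ne' (Nat.dvd_one.1 hdvd)
  have hPcard : p ∣ Nat.card P := by
    obtain ⟨z, hz, hzo⟩ := exists_orderOf_eq_of_isPGroup hPp hPne
    rw [← hzo]
    have := orderOf_dvd_natCard (⟨z, hz⟩ : P)
    rwa [Subgroup.orderOf_mk] at this
  -- the quotient and `K`
  set Kb : Subgroup (G ⧸ P) := pPrimeCore p (G ⧸ P) with hKb
  have hKbn : Kb.Normal := Cfsg.Agent.Lib.H22.pPrimeCore_normal p
  have hKbc : Kb.Characteristic := Cfsg.Agent.Lib.H9.pPrimeCore_characteristic p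
  set K : Subgroup G := Kb.comap (QuotientGroup.mk' P) with hK
  have hKn : K.Normal := hKbn.comap _
  have hKc : K.Characteristic := Cfsg.Agent.Lib.H19.comap_mk'_characteristic P hPc Kb hKbc
  have hPK : P ≤ K := by
    intro x hx
    rw [hK, Subgroup.mem_comap]
    have : QuotientGroup.mk' P x = 1 := (QuotientGroup.eq_one_iff x).2 hx
    rw [this]; exact Kb.one_mem
  have hrel : P.relIndex K = Nat.card Kb := Cfsg.Agent.Lib.H19.relIndex_comap_mk' P Kb
  have hKbcop : (Nat.card Kb).Coprime p := Cfsg.Agent.Lib.H22.card_pPrimeCore_coprime p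
  obtain ⟨m, hm⟩ := hPp.exists_card_eq
  have hcop : (Nat.card P).Coprime (P.relIndex K) := by
    rw [hm, hrel]
    exact (Nat.Coprime.pow_right m hKbcop).symm
  -- Schur–Zassenhaus complement
  have hN'n : (P.subgroupOf K).Normal := hPn.subgroupOf K
  have hN'card : Nat.card (P.subgroupOf K) = Nat.card P :=
    Nat.card_congr (Subgroup.subgroupOfEquivOfLe hPK).toEquiv
  obtain ⟨H₀, hH₀⟩ := Subgroup.exists_right_complement'_of_coprime
    (N := P.subgroupOf K) (by rw [hN'card]; exact hcop)
  set K₀ : Subgroup G := H₀.map K.subtype with hK₀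
  have hK₀K : K₀ ≤ K := by
    rintro _ ⟨k, _, rfl⟩
    exact k.2
  have hK₀card : Nat.card K₀ = P.relIndex K := by
    have h1 : Nat.card K₀ = Nat.card H₀ :=
      (Nat.card_congr (H₀.equivMapOfInjective _ K.subtype_injective).toEquiv).symm
    rw [h1]
    exact hH₀.symm.index_eq_card.symm
  have hsolP : Group.IsSolvable P := by
    haveI : Group.IsNilpotent P := hPp.isNilpotent
    infer_instance
  have hfrat := fun g => exists_mul_mem_normalizer hPK hK₀K hK₀card hcop hsolP g
  have hK₀cop : (Nat.card K₀).Coprime p := by rw [hK₀card, hrel]; exact hKbcop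
  have hdisj : P ⊓ K₀ = ⊥ := by
    rw [← disjoint_iff]
    apply Subgroup.disjoint_of_coprime_natCard
    rw [hK₀card]; exact hcop
  -- `D = P ⊓ N(K₀)` centralizes `K₀`
  set D : Subgroup G := P ⊓ Subgroup.normalizer (K₀ : Set G) with hD
  have hDcent : ∀ x ∈ D, ∀ k ∈ K₀, x * k = k * x := by
    intro x hx k hk
    have hxP : x ∈ P := (Subgroup.mem_inf.1 hx).1
    have hxN : x ∈ Subgroup.normalizer (K₀ : Set G) := (Subgroup.mem_inf.1 hx).2
    have h1 : x * k * x⁻¹ ∈ K₀ := (Subgroup.mem_normalizer_iff.1 hxN k).1 hk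
    have h2 : x * k * x⁻¹ * k⁻¹ ∈ K₀ := K₀.mul_mem h1 (K₀.inv_mem hk)
    have h3 : x * k * x⁻¹ * k⁻¹ ∈ P := by
      have : x * k * x⁻¹ * k⁻¹ = x * (k * x⁻¹ * k⁻¹) := by group
      rw [this]
      exact P.mul_mem hxP (hPn.conj_mem _ (P.inv_mem hxP) k)
    have h4 : x * k * x⁻¹ * k⁻¹ ∈ P ⊓ K₀ := Subgroup.mem_inf.2 ⟨h3, h2⟩
    rw [hdisj, Subgroup.mem_bot] at h4
    have : x * k = (x * k * x⁻¹ * k⁻¹) * (k * x) := by group
    rw [this, h4, one_mul]
  by_cases hDbot : D = ⊥
  · -- an element of order `p` outside `P`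
    have hdvd' : p ∣ Nat.card (G ⧸ P) := by
      rw [← Subgroup.index_eq_card]; exact hdvd
    obtain ⟨xb, hxb⟩ := exists_prime_orderOf_dvd_card' p hdvd'
    obtain ⟨g, rfl⟩ := QuotientGroup.mk'_surjective P xb
    obtain ⟨u, hu, hug⟩ := hfrat g
    set y := u * g with hy
    have hmk : QuotientGroup.mk' P y = QuotientGroup.mk' P g := by
      have h1 : QuotientGroup.mk' P u = 1 := (QuotientGroup.eq_one_iff u).2 hu
      rw [hy, map_mul, h1, one_mul]
    have hyp : y ^ p ∈ P := by
      rw [← QuotientGroup.eq_one_iff, ← QuotientGroup.mk'_apply, map_pow, hmk, ← hxb, pow_orderOf_eq_one]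
    have hypN : y ^ p ∈ Subgroup.normalizer (K₀ : Set G) := Subgroup.pow_mem _ hug p
    have hyD : y ^ p ∈ D := Subgroup.mem_inf.2 ⟨hyp, hypN⟩
    rw [hDbot, Subgroup.mem_bot] at hyD
    have hy1 : y ≠ 1 := by
      intro h
      rw [h, map_one] at hmk
      have : orderOf (QuotientGroup.mk' P g) = 1 := by rw [← hmk, orderOf_one]
      rw [hxb] at this
      exact hp.out.one_lt.ne' this
    have hyo : orderOf y = p := orderOf_eq_prime hyD hy1
    have hyP : y ∈ P := hT P hPc hPcard y hyo
    have : QuotientGroup.mk' P g = 1 := by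
      rw [← hmk]; exact (QuotientGroup.eq_one_iff y).2 hyP
    rw [this, orderOf_one] at hxb
    exact hp.out.one_lt.ne' hxb.symm
  · -- `D ≠ ⊥`: then `K₀` centralizes `Ω₁(P)`, hence `P`
    have hDp : IsPGroup p D := hPp.to_le inf_le_left
    obtain ⟨z, hzD, hzo⟩ := exists_orderOf_eq_of_isPGroup hDp hDbot
    -- (T) for `Z(P)`
    set C₁ : Subgroup G := P ⊓ Subgroup.centralizer (P : Set G) with hC₁
    have hC₁c : C₁.Characteristic := by
      haveI := hPc
      exact Subgroup.characteristic_inf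
    have hC₁card : p ∣ Nat.card C₁ := by
      -- the centre of the nontrivial `p`-group `P` is nontrivial
      haveI : Nontrivial P := (Subgroup.nontrivial_iff_ne_bot P).2 hPne
      have hcen : Subgroup.center P ≠ ⊥ := (hPp.bot_lt_center).ne'
      have hcp : IsPGroup p (Subgroup.center P) := hPp.to_subgroup _
      obtain ⟨k, hk⟩ := hcp.exists_card_eq
      have hk0 : k ≠ 0 := by
        rintro rfl
        rw [pow_zero] at hk
        exact hcen (Subgroup.eq_bot_of_card_eq _ hk)
      have h1 : p ∣ Nat.card (Subgroup.center P) := by rw [hk]; exact dvd_pow_self p hk0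
      obtain ⟨w, hw⟩ := exists_prime_orderOf_dvd_card' p h1
      have hwC : ((w : P) : G) ∈ C₁ := by
        refine Subgroup.mem_inf.2 ⟨(w : P).2, ?_⟩
        rw [Subgroup.mem_centralizer_iff]
        intro y hy
        have := Subgroup.mem_center_iff.1 w.2 ⟨y, hy⟩
        exact congrArg Subtype.val this
      have hwo : orderOf ((w : P) : G) = p := by
        rw [Subgroup.orderOf_coe, Subgroup.orderOf_coe, hw]
      rw [← hwo]
      have := orderOf_dvd_natCard (⟨((w : P) : G), hwC⟩ : C₁)
      rwa [Subgroup.orderOf_mk] at this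
    have hzC₁ : z ∈ C₁ := hT C₁ hC₁c hC₁card z hzo
    -- (T) for `P ⊓ C(K)`
    set C₂ : Subgroup G := P ⊓ Subgroup.centralizer (K : Set G) with hC₂
    have hC₂c : C₂.Characteristic := by
      haveI := hPc
      haveI := hKc
      exact Subgroup.characteristic_inf
    have hKsup : K ≤ P ⊔ K₀ := by
      -- `|P ⊔ K₀| ≥ |K|`
      have hle : P ⊔ K₀ ≤ K := sup_le hPK hK₀K
      have hcardK : Nat.card K = Nat.card P * P.relIndex K := by
        rw [← hN'card]
        exact (Subgroup.card_mul_index (P.subgroupOf K)).symm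
      have h1 : Nat.card P * Nat.card K₀ ∣ Nat.card (P ⊔ K₀ : Subgroup G) := by
        apply Nat.Coprime.mul_dvd_of_dvd_of_dvd
        · rw [hK₀card]; exact hcop
        · exact Subgroup.card_dvd_of_le le_sup_left
        · exact Subgroup.card_dvd_of_le le_sup_right
      have h2 : Nat.card K ≤ Nat.card (P ⊔ K₀ : Subgroup G) := by
        rw [hcardK, ← hK₀card]
        exact Nat.le_of_dvd Nat.card_pos h1
      exact (Subgroup.eq_of_le_of_card_ge hle h2).ge
    have hzK : z ∈ Subgroup.centralizer (K : Set G) := by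
      have hz1 : P ≤ Subgroup.centralizer ({z} : Set G) := by
        intro y hy
        rw [Subgroup.mem_centralizer_singleton_iff]
        have := Subgroup.mem_centralizer_iff.1 (Subgroup.mem_inf.1 hzC₁).2 y hy
        exact this
      have hz2 : K₀ ≤ Subgroup.centralizer ({z} : Set G) := by
        intro k hk
        rw [Subgroup.mem_centralizer_singleton_iff]
        exact (hDcent z hzD k hk).symm
      have hz3 : K ≤ Subgroup.centralizer ({z} : Set G) := hKsup.trans (sup_le hz1 hz2)
      rw [Subgroup.mem_centralizer_iff]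
      intro y hy
      have := Subgroup.mem_centralizer_singleton_iff.1 (hz3 hy)
      exact this
    have hzC₂ : z ∈ C₂ := Subgroup.mem_inf.2 ⟨(Subgroup.mem_inf.1 hzC₁).1, hzK⟩
    have hC₂card : p ∣ Nat.card C₂ := by
      rw [← hzo]
      have := orderOf_dvd_natCard (⟨z, hzC₂⟩ : C₂)
      rwa [Subgroup.orderOf_mk] at this
    have hall : ∀ x : G, orderOf x = p → x ∈ C₂ := hT C₂ hC₂c hC₂card
    -- `K₀` centralizes `P`
    have hK₀cent : K₀ ≤ Subgroup.centralizer (P : Set G) := by
      intro k hk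
      set a : MulAut P := MulAut.conjNormal k with ha
      have hak : ∀ n : ℕ, a ^ n = MulAut.conjNormal (k ^ n) := by
        intro n; rw [ha, map_pow]
      have hao : orderOf a ∣ orderOf k := by
        apply orderOf_dvd_of_pow_eq_one
        rw [hak, pow_orderOf_eq_one, map_one]
      have hkcard : orderOf k ∣ Nat.card K₀ := by
        have := orderOf_dvd_natCard (⟨k, hk⟩ : K₀)
        rwa [Subgroup.orderOf_mk] at this
      have hacop : Nat.Coprime (orderOf a) p :=
        Nat.Coprime.coprime_dvd_left (hao.trans hkcard) hK₀cop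
      have hfix : ∀ x : P, x ^ p = 1 → a x = x := by
        intro x hx
        by_cases hx1 : x = 1
        · rw [hx1, map_one]
        · have hxo : orderOf (x : G) = p := by
            rw [Subgroup.orderOf_coe]; exact orderOf_eq_prime hx hx1
          have hxC := hall x hxo
          have hkK : k ∈ K := hK₀K hk
          have hcomm := Subgroup.mem_centralizer_iff.1 (Subgroup.mem_inf.1 hxC).2 k hkK
          apply Subtype.ext
          rw [ha, MulAut.conjNormal_apply]
          rw [hcomm]; group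
      have ha1 : a = 1 := Cfsg.Agent.S0120.result hp2 (hPp.of_equiv (MulEquiv.refl _)) a hacop hfix
      rw [Subgroup.mem_centralizer_iff]
      intro y hy
      have := congrArg (fun f : MulAut P => ((f ⟨y, hy⟩ : P) : G)) ha1
      simp only [ha, MulAut.conjNormal_apply, MulAut.one_apply] at this
      -- `k * y * k⁻¹ = y`
      have h2 : y * k = k * y := by
        calc y * k = (k * y * k⁻¹) * k := by rw [this]
          _ = k * y := by group
      exact h2
    have hK₀bot : K₀ = ⊥ := by
      have : K₀ ≤ P ⊓ K₀ := le_inf (hK₀cent.trans hCP) le_rfl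
      rw [hdisj] at this
      exact le_bot_iff.1 this
    -- so `K = P`, `O_{p'}(G/P) = 1`, and `G/P` is trivial
    have hKbcard : Nat.card Kb = 1 := by
      rw [← hrel, ← hK₀card, hK₀bot]; exact Subgroup.card_bot
    have hKbbot : pPrimeCore p (G ⧸ P) = ⊥ := Subgroup.eq_bot_of_card_eq _ hKbcard
    have hQsol : IsPSolvable p (G ⧸ P) := Cfsg.Agent.Lib.H10.isPSolvable_quotient hG P
    have hQP : pCore p (G ⧸ P) = ⊥ := Cfsg.Agent.Lib.H7.Kaz.pCore_quotient_pCore_eq_bot p
    have hQC := Cfsg.Agent.Lib.H10.centralizer_pCore_le_of_isPSolvable p hQsol hKbbot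
    rw [hQP] at hQC
    have htop : (⊤ : Subgroup (G ⧸ P)) ≤ ⊥ := by
      refine le_trans ?_ hQC
      intro x _
      rw [Subgroup.mem_centralizer_iff]
      intro y hy
      have : y = 1 := by simpa using hy
      rw [this]; simp
    have hcard1 : Nat.card (G ⧸ P) = 1 := by
      have h3 : (⊥ : Subgroup (G ⧸ P)) = ⊤ := le_antisymm bot_le htop
      rw [← Subgroup.card_top (G := G ⧸ P), ← h3]; exact Subgroup.card_bot
    rw [Subgroup.index_eq_card, hcard1] at hdvd
    exact hp.out.one_lt.ne' (Nat.dvd_one.1 hdvd)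

end Core

section Final

variable {G : Type u} [Group G] [Finite G] {p : ℕ} [hp : Fact p.Prime]

open Cfsg.Agent.Lib.H19

theorem plengthLE_one_of_charT (hp2 : p ≠ 2) (hG : IsPSolvable p G) (hO : pPrimeCore p G = ⊥)
    (hT : CharT p G) : PLengthLE p 1 G := by
  rw [plengthLE_iff]
  have hPn : (pCore p G).Normal := Cfsg.Agent.Lib.H1.pCore_normal p G
  have hPp : IsPGroup p (pCore p G) := Cfsg.Agent.Lib.H1.pCore_isPGroup p G
  have h0 : Reach p 0 (⊥ : Subgroup G) := Reach.zero
  have h1 : Reach p 1 (⊥ : Subgroup G) :=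
    Reach.even h0 (by decide) le_rfl inferInstance (by rw [Subgroup.relIndex_self]; exact Nat.coprime_one_left p)
  have h2 : Reach p 2 (pCore p G) := by
    refine Reach.odd h1 (by decide) bot_le hPn ?_
    obtain ⟨m, hm⟩ := hPp.exists_card_eq
    exact ⟨m, by rw [Subgroup.relIndex_bot_left, hm]⟩
  have h3 : Reach p 3 (⊤ : Subgroup G) := by
    refine Reach.even h2 (by decide) le_top inferInstance ?_
    rw [Subgroup.relIndex_top_right]
    exact index_pCore_coprime hp2 hG hO hT
  exact h3

/-- lifting an element of order `p` through a quotient by a normal `p'`-subgroup -/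
theorem exists_lift_orderOf (N : Subgroup G) [N.Normal] (hN : (Nat.card N).Coprime p)
    (xb : G ⧸ N) (hxb : orderOf xb = p) :
    ∃ v : G, orderOf v = p ∧
      Subgroup.zpowers (QuotientGroup.mk' N v) = Subgroup.zpowers xb := by
  classical
  set W : Subgroup G := (Subgroup.zpowers xb).comap (QuotientGroup.mk' N) with hW
  obtain ⟨g, rfl⟩ := QuotientGroup.mk'_surjective N xb
  have hgW : g ∈ W := by
    rw [hW, Subgroup.mem_comap]; exact Subgroup.mem_zpowers _
  have hdvd : p ∣ Nat.card W := by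
    have h1 : orderOf (QuotientGroup.mk' N g) ∣ orderOf g := orderOf_map_dvd _ g
    have h2 : orderOf g ∣ Nat.card W := by
      have := orderOf_dvd_natCard (⟨g, hgW⟩ : W)
      rwa [Subgroup.orderOf_mk] at this
    rw [hxb] at h1
    exact h1.trans h2
  obtain ⟨w, hw⟩ := exists_prime_orderOf_dvd_card' p hdvd
  have hwo : orderOf (w : G) = p := by rw [Subgroup.orderOf_coe, hw]
  refine ⟨w, hwo, ?_⟩
  have hmem : QuotientGroup.mk' N (w : G) ∈ Subgroup.zpowers (QuotientGroup.mk' N g) := w.2
  have hle : Subgroup.zpowers (QuotientGroup.mk' N (w : G)) ≤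
      Subgroup.zpowers (QuotientGroup.mk' N g) := by
    rw [Subgroup.zpowers_le]; exact hmem
  have hne : QuotientGroup.mk' N (w : G) ≠ 1 := by
    intro h
    have hwN : (w : G) ∈ N := (QuotientGroup.eq_one_iff _).1 h
    have h3 : orderOf (w : G) ∣ Nat.card N := by
      have := orderOf_dvd_natCard (⟨(w : G), hwN⟩ : N)
      rwa [Subgroup.orderOf_mk] at this
    rw [hwo] at h3
    have : p ∣ Nat.gcd (Nat.card N) p := Nat.dvd_gcd h3 dvd_rfl
    rw [hN] at this
    exact hp.out.one_lt.ne' (Nat.dvd_one.1 this)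
  have ho : orderOf (QuotientGroup.mk' N (w : G)) = p := by
    have h1 : orderOf (QuotientGroup.mk' N (w : G)) ∣ p := by
      rw [← hwo]; exact orderOf_map_dvd _ _
    rcases (Nat.dvd_prime hp.out).1 h1 with h | h
    · exact absurd (orderOf_eq_one_iff.1 h) hne
    · exact h
  apply Subgroup.eq_of_le_of_card_ge hle
  rw [Nat.card_zpowers, Nat.card_zpowers, ho, hxb]

theorem charT_quotient_aux (N : Subgroup G) [N.Normal] (hNc : N.Characteristic)
    (hNcop : (Nat.card N).Coprime p)
    (htrans : ∀ U V : Subgroup G, Nat.card U = p → Nat.card V = p →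
      ∃ a : MulAut G, U.map a.toMonoidHom = V) :
    CharT p (G ⧸ N) := by
  classical
  intro C hC hdvd xb hxb
  set Ct : Subgroup G := C.comap (QuotientGroup.mk' N) with hCt
  have hCtc : Ct.Characteristic := comap_mk'_characteristic N hNc C hC
  obtain ⟨c, hc⟩ := exists_prime_orderOf_dvd_card' p hdvd
  have hco : orderOf ((c : C) : G ⧸ N) = p := by rw [Subgroup.orderOf_coe, hc]
  obtain ⟨v₁, hv₁o, hv₁z⟩ := exists_lift_orderOf N hNcop ((c : C) : G ⧸ N) hco
  obtain ⟨v₂, hv₂o, hv₂z⟩ := exists_lift_orderOf N hNcop xb hxb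
  have hv₁C : v₁ ∈ Ct := by
    rw [hCt, Subgroup.mem_comap]
    have h1 : QuotientGroup.mk' N v₁ ∈ Subgroup.zpowers ((c : C) : G ⧸ N) := by
      rw [← hv₁z]; exact Subgroup.mem_zpowers _
    have h2 : Subgroup.zpowers ((c : C) : G ⧸ N) ≤ C := by
      rw [Subgroup.zpowers_le]; exact c.2
    exact h2 h1
  obtain ⟨a, ha⟩ := htrans (Subgroup.zpowers v₁) (Subgroup.zpowers v₂)
    (by rw [Nat.card_zpowers, hv₁o]) (by rw [Nat.card_zpowers, hv₂o])
  have hv₂C : v₂ ∈ Ct := by
    have h1 : v₂ ∈ (Subgroup.zpowers v₁).map a.toMonoidHom := by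
      rw [ha]; exact Subgroup.mem_zpowers _
    have h2 : (Subgroup.zpowers v₁).map a.toMonoidHom ≤ Ct.map a.toMonoidHom :=
      Subgroup.map_mono (by rw [Subgroup.zpowers_le]; exact hv₁C)
    have h3 : Ct.map a.toMonoidHom = Ct := Subgroup.characteristic_iff_map_eq.1 hCtc a
    rw [h3] at h2
    exact h2 h1
  have h4 : QuotientGroup.mk' N v₂ ∈ C := hv₂C
  have h5 : Subgroup.zpowers xb ≤ C := by
    rw [← hv₂z, Subgroup.zpowers_le]; exact h4
  exact h5 (Subgroup.mem_zpowers _)

theorem charT_quotient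
    (htrans : ∀ U V : Subgroup G, Nat.card U = p → Nat.card V = p →
      ∃ a : MulAut G, U.map a.toMonoidHom = V) :
    CharT p (G ⧸ pPrimeCore p G) :=
  charT_quotient_aux (pPrimeCore p G) (Cfsg.Agent.Lib.H9.pPrimeCore_characteristic p)
    (Cfsg.Agent.Lib.H22.card_pPrimeCore_coprime p) htrans

/-- **Gaschütz–Yen**. -/
theorem gaschutz_yen (hp2 : p ≠ 2) (hG : IsPSolvable p G)
    (htrans : ∀ U V : Subgroup G, Nat.card U = p → Nat.card V = p →
      ∃ a : MulAut G, U.map a.toMonoidHom = V) : PLengthLE p 1 G := by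
  have hQ : PLengthLE p 1 (G ⧸ pPrimeCore p G) :=
    plengthLE_one_of_charT hp2 (Cfsg.Agent.Lib.H10.isPSolvable_quotient hG _)
      (Cfsg.Agent.Lib.H9.pPrimeCore_quotient_eq_bot p) (charT_quotient htrans)
  have hN : PLengthLE p 0 ↥(pPrimeCore p G) :=
    plengthLE_zero_of_coprime (Cfsg.Agent.Lib.H22.card_pPrimeCore_coprime p)
  have := plengthLE_of_extension (pPrimeCore p G) hN hQ
  simpa using this

end Final

end Cfsg.Agent.Lib.H19.GYen
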