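import Mathlib

/-!
# Cyclic submodules of nilpotent operators (helper19)

* `fphi N φ v a` : the operator `w ↦ ∑_{i<a} φ(N^(a-1-i) w) • N^i v`; it commutes with `N` when
  `N^a = 0`, has range in the cyclic submodule `cyc N v`, and `fphi v ≡ φ(N^(a-1) v) • v` modulo
  `range N`.
* `eq_top_of_forall_sub_mem_range` : a Nakayama-type lemma.
* `finrank_cyc_le` : `dim cyc N v ≤ s` if `N^s = 0`.
-/

set_option autoImplicit false

namespace Cfsg.Agent.Lib.H19.HH

open Module

variable {k : Type*} [Field k] {V : Type*} [AddCommGroup V] [Module k V]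

/-- the cyclic submodule generated by `v` -/
def cyc (N : Module.End k V) (v : V) : Submodule k V :=
  Submodule.span k (Set.range fun i : ℕ => (N ^ i) v)

theorem pow_apply_mem_cyc (N : Module.End k V) (v : V) (i : ℕ) : (N ^ i) v ∈ cyc N v :=
  Submodule.subset_span ⟨i, rfl⟩

theorem apply_mem_cyc {N : Module.End k V} {v u : V} (hu : u ∈ cyc N v) : N u ∈ cyc N v := by
  unfold cyc at hu ⊢
  induction hu using Submodule.span_induction with
  | mem u hu =>
    obtain ⟨i, rfl⟩ := hu
    apply Submodule.subset_span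
    refine ⟨i + 1, ?_⟩
    show (N ^ (i + 1)) v = N ((N ^ i) v)
    rw [pow_succ', Module.End.mul_apply]
  | zero => simp
  | add a b _ _ ha hb => rw [map_add]; exact Submodule.add_mem _ ha hb
  | smul c a _ ha => rw [map_smul]; exact Submodule.smul_mem _ c ha

theorem pow_apply_mem_cyc' {N : Module.End k V} {v u : V} (hu : u ∈ cyc N v) (j : ℕ) :
    (N ^ j) u ∈ cyc N v := by
  induction j with
  | zero => simpa using hu
  | succ j ih =>
    rw [pow_succ', Module.End.mul_apply]
    exact apply_mem_cyc ih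

theorem finrank_cyc_le [FiniteDimensional k V] {N : Module.End k V} {s : ℕ} (hN : N ^ s = 0)
    (v : V) : finrank k (cyc N v) ≤ s := by
  classical
  have h1 : cyc N v ≤ Submodule.span k
      ((Finset.image (fun i : ℕ => (N ^ i) v) (Finset.range s) : Finset V) : Set V) := by
    unfold cyc
    apply Submodule.span_le.2
    rintro _ ⟨i, rfl⟩
    by_cases hi : i < s
    · apply Submodule.subset_span
      simp only [Finset.coe_image, Finset.coe_range, Set.mem_image, Set.mem_Iio]
      exact ⟨i, hi, rfl⟩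
    · have : N ^ i = 0 := by
        obtain ⟨c, rfl⟩ := Nat.exists_eq_add_of_le (not_lt.1 hi)
        rw [pow_add, hN, zero_mul]
      simp [this]
  calc finrank k (cyc N v) ≤ finrank k (Submodule.span k
      ((Finset.image (fun i : ℕ => (N ^ i) v) (Finset.range s) : Finset V) : Set V)) :=
        Submodule.finrank_mono h1
    _ ≤ (Finset.image (fun i : ℕ => (N ^ i) v) (Finset.range s)).card :=
        finrank_span_finset_le_card _
    _ ≤ (Finset.range s).card := Finset.card_image_le
    _ = s := Finset.card_range s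

/-- Nakayama-type lemma for nilpotent operators -/
theorem eq_top_of_forall_sub_mem_range {N : Module.End k V} {s : ℕ} (hN : N ^ s = 0)
    (U : Submodule k V) (hU : ∀ u ∈ U, N u ∈ U)
    (h : ∀ w : V, ∃ u ∈ U, w - u ∈ LinearMap.range N) : U = ⊤ := by
  have hUj : ∀ j : ℕ, ∀ u ∈ U, (N ^ j) u ∈ U := by
    intro j
    induction j with
    | zero => intro u hu; simpa using hu
    | succ j ih =>
      intro u hu
      rw [pow_succ', Module.End.mul_apply]
      exact hU _ (ih u hu)
  have key : ∀ j : ℕ, ∀ w : V, ∃ u ∈ U, w - u ∈ LinearMap.range (N ^ j) := by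
    intro j
    induction j with
    | zero =>
      intro w
      exact ⟨0, U.zero_mem, by simp⟩
    | succ j ih =>
      intro w
      obtain ⟨u, hu, w', hw'⟩ := ih w
      obtain ⟨u', hu', w'', hw''⟩ := h w'
      refine ⟨u + (N ^ j) u', U.add_mem hu (hUj j u' hu'), w'', ?_⟩
      rw [pow_succ, Module.End.mul_apply, hw'', map_sub, hw']
      abel
  rw [eq_top_iff]
  intro w _
  obtain ⟨u, hu, w', hw'⟩ := key s w
  rw [hN, LinearMap.zero_apply] at hw'
  have : w = u := (sub_eq_zero.1 hw'.symm)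
  rw [this]
  exact hu

/-- the operator `w ↦ ∑_{i<a} φ(N^(a-1-i) w) • N^i v` -/
def fphi (N : Module.End k V) (φ : Module.Dual k V) (v : V) (a : ℕ) : Module.End k V :=
  ∑ i ∈ Finset.range a, (LinearMap.smulRight φ ((N ^ i) v)) ∘ₗ (N ^ (a - 1 - i))

theorem fphi_apply (N : Module.End k V) (φ : Module.Dual k V) (v : V) (a : ℕ) (w : V) :
    fphi N φ v a w = ∑ i ∈ Finset.range a, φ ((N ^ (a - 1 - i)) w) • (N ^ i) v := by
  simp [fphi, LinearMap.sum_apply]

theorem fphi_apply_mem_cyc (N : Module.End k V) (φ : Module.Dual k V) (v : V) (a : ℕ) (w : V) :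
    fphi N φ v a w ∈ cyc N v := by
  rw [fphi_apply]
  apply Submodule.sum_mem
  intro i _
  exact Submodule.smul_mem _ _ (pow_apply_mem_cyc N v i)

theorem fphi_comm {N : Module.End k V} (φ : Module.Dual k V) (v : V) {a : ℕ} (hN : N ^ a = 0) :
    fphi N φ v a * N = N * fphi N φ v a := by
  apply LinearMap.ext
  intro w
  rw [Module.End.mul_apply, Module.End.mul_apply, fphi_apply, fphi_apply, map_sum]
  rcases Nat.eq_zero_or_pos a with ha | ha
  · subst ha; simp
  obtain ⟨b, rfl⟩ := Nat.exists_eq_succ_of_ne_zero ha.ne'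
  -- left: ∑_{i<b+1} φ(N^(b-i) N w) N^i v ; right : ∑_{i<b+1} φ(N^(b-i) w) N^(i+1) v
  have hL : ∑ i ∈ Finset.range (b + 1), φ ((N ^ (b + 1 - 1 - i)) (N w)) • (N ^ i) v =
      ∑ i ∈ Finset.range b, φ ((N ^ (b - 1 - i)) (N w)) • (N ^ (i + 1)) v := by
    rw [Finset.sum_range_succ']
    have h0 : φ ((N ^ (b + 1 - 1 - 0)) (N w)) • (N ^ 0) v = 0 := by
      have : (N ^ (b + 1 - 1 - 0)) (N w) = (N ^ (b + 1)) w := by
        rw [pow_succ, Module.End.mul_apply]; simp
      rw [this, hN]; simp
    rw [h0, add_zero]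
    apply Finset.sum_congr rfl
    intro i hi
    have : b + 1 - 1 - (i + 1) = b - 1 - i := by omega
    rw [this]
  have hR : ∑ i ∈ Finset.range (b + 1), N (φ ((N ^ (b + 1 - 1 - i)) w) • (N ^ i) v) =
      ∑ i ∈ Finset.range b, φ ((N ^ (b - i)) w) • (N ^ (i + 1)) v := by
    rw [Finset.sum_range_succ]
    have h0 : N (φ ((N ^ (b + 1 - 1 - b)) w) • (N ^ b) v) = 0 := by
      rw [map_smul]
      have : N ((N ^ b) v) = (N ^ (b + 1)) v := by
        rw [pow_succ', Module.End.mul_apply]
      rw [this, hN]; simp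
    rw [h0, add_zero]
    apply Finset.sum_congr rfl
    intro i hi
    rw [map_smul]
    have h1 : b + 1 - 1 - i = b - i := by omega
    have h2 : N ((N ^ i) v) = (N ^ (i + 1)) v := by
      rw [pow_succ', Module.End.mul_apply]
    rw [h1, h2]
  rw [hL, hR]
  apply Finset.sum_congr rfl
  intro i hi
  have hi' := Finset.mem_range.1 hi
  have : (N ^ (b - 1 - i)) (N w) = (N ^ (b - i)) w := by
    have h3 : b - i = (b - 1 - i) + 1 := by omega
    rw [h3, pow_succ, Module.End.mul_apply]
  rw [this]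

theorem fphi_apply_self_sub (N : Module.End k V) (φ : Module.Dual k V) (v : V) {a : ℕ}
    (ha : 0 < a) :
    fphi N φ v a v - φ ((N ^ (a - 1)) v) • v ∈ LinearMap.range N := by
  obtain ⟨b, rfl⟩ := Nat.exists_eq_succ_of_ne_zero ha.ne'
  rw [fphi_apply, Finset.sum_range_succ']
  have h0 : φ ((N ^ (b + 1 - 1 - 0)) v) • (N ^ 0) v = φ ((N ^ (b + 1 - 1)) v) • v := by simp
  rw [h0, add_sub_cancel_right]
  apply Submodule.sum_mem
  intro i _
  apply Submodule.smul_mem
  refine ⟨(N ^ i) v, ?_⟩
  rw [pow_succ', Module.End.mul_apply]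

end Cfsg.Agent.Lib.H19.HH
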