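import Mathlib
import Cfsg.Agent.Lib.H19.ModRepSchur

/-!
# Schur averaging and Fourier inversion for an irreducible family (helper19)

Let `ρ` be irreducible on the subgroup `Q` over an algebraically closed field in which `|Q| ≠ 0`.

* `avg_eq` : `∑_{g∈Q} ρ g C ρ g⁻¹ = (|Q| tr C / dim V) • 1`, and `dim V ≠ 0` in `k`.
* `fourier_inversion` : `∑_{g∈Q} tr(ρ g⁻¹ A) • ρ g = (|Q| / dim V) • A`.
-/

set_option autoImplicit false

namespace Cfsg.Agent.Lib.H19.HH

open Module Cfsg.Agent.Lib.H19.ModRep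

variable {k : Type*} [Field k] {Γ : Type*} [Group Γ] {V : Type*} [AddCommGroup V] [Module k V]

theorem avg_comm (ρ : Representation k Γ V) (Q : Subgroup Γ) [Fintype Q] (C : Module.End k V)
    (n : Γ) (hn : n ∈ Q) :
    (∑ g : Q, ρ (g : Γ) * C * ρ ((g : Γ)⁻¹)) * ρ n =
      ρ n * ∑ g : Q, ρ (g : Γ) * C * ρ ((g : Γ)⁻¹) := by
  rw [Finset.sum_mul, Finset.mul_sum]
  symm
  apply Fintype.sum_equiv (Equiv.mulLeft (⟨n, hn⟩ : Q))
  intro g
  simp only [Equiv.coe_mulLeft, Subgroup.coe_mul, mul_inv_rev, map_mul]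
  have h1 : ρ n⁻¹ * ρ n = 1 := by rw [← map_mul, inv_mul_cancel, map_one]
  simp only [mul_assoc, h1, mul_one]

theorem trace_avg (ρ : Representation k Γ V) (Q : Subgroup Γ) [Fintype Q] (C : Module.End k V) :
    LinearMap.trace k V (∑ g : Q, ρ (g : Γ) * C * ρ ((g : Γ)⁻¹)) =
      (Fintype.card Q : k) * LinearMap.trace k V C := by
  rw [map_sum]
  have h : ∀ g : Q, LinearMap.trace k V (ρ (g : Γ) * C * ρ ((g : Γ)⁻¹)) =
      LinearMap.trace k V C := by
    intro g
    rw [LinearMap.trace_mul_comm, ← mul_assoc, ← map_mul, inv_mul_cancel, map_one, one_mul]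
  rw [Finset.sum_congr rfl fun g _ => h g, Finset.sum_const, Finset.card_univ, nsmul_eq_mul]

theorem exists_trace_eq_one [FiniteDimensional k V] [Nontrivial V] :
    ∃ C : Module.End k V, LinearMap.trace k V C = 1 := by
  obtain ⟨v, hv⟩ := exists_ne (0 : V)
  obtain ⟨φ, hφ⟩ := Module.Projective.exists_dual_eq_one k hv
  exact ⟨φ.smulRight v, by rw [LinearMap.trace_smulRight, hφ]⟩

/-- Schur averaging. -/
theorem avg_eq [IsAlgClosed k] [FiniteDimensional k V] (ρ : Representation k Γ V)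
    (Q : Subgroup Γ) [Fintype Q] (hQk : (Fintype.card Q : k) ≠ 0) (hirr : IrrOn ρ Q) :
    (finrank k V : k) ≠ 0 ∧ ∀ C : Module.End k V,
      ∑ g : Q, ρ (g : Γ) * C * ρ ((g : Γ)⁻¹) =
        ((Fintype.card Q : k) * LinearMap.trace k V C / (finrank k V : k)) •
          (1 : Module.End k V) := by
  have := hirr.1
  have key : ∀ C : Module.End k V, ∃ c : k,
      ∑ g : Q, ρ (g : Γ) * C * ρ ((g : Γ)⁻¹) = c • (1 : Module.End k V) ∧
      (Fintype.card Q : k) * LinearMap.trace k V C = c * (finrank k V : k) := by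
    intro C
    obtain ⟨c, hc⟩ := schur_on hirr _ (fun n hn => avg_comm ρ Q C n hn)
    refine ⟨c, hc, ?_⟩
    rw [← trace_avg, hc, map_smul, LinearMap.trace_one, smul_eq_mul]
  have hd : (finrank k V : k) ≠ 0 := by
    obtain ⟨C, hC⟩ := exists_trace_eq_one (k := k) (V := V)
    obtain ⟨c, -, hc⟩ := key C
    rw [hC, mul_one] at hc
    intro h0
    rw [h0, mul_zero] at hc
    exact hQk hc
  refine ⟨hd, fun C => ?_⟩
  obtain ⟨c, hc, hc'⟩ := key C
  rw [hc, hc', mul_div_assoc, div_self hd, mul_one]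

/-- the rank one case of Fourier inversion -/
theorem avg_rank_one [IsAlgClosed k] [FiniteDimensional k V] (ρ : Representation k Γ V)
    (Q : Subgroup Γ) [Fintype Q] (hQk : (Fintype.card Q : k) ≠ 0) (hirr : IrrOn ρ Q)
    (φ : Module.Dual k V) (v w : V) :
    ∑ g : Q, φ (ρ ((g : Γ)⁻¹) w) • ρ (g : Γ) v =
      ((Fintype.card Q : k) / (finrank k V : k)) • φ v • w := by
  have h := (avg_eq ρ Q hQk hirr).2 (φ.smulRight v)
  have h2 := congrArg (fun f : Module.End k V => f w) h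
  simp only [LinearMap.sum_apply, Module.End.mul_apply, LinearMap.smulRight_apply, map_smul,
    LinearMap.trace_smulRight, LinearMap.smul_apply, Module.End.one_apply] at h2
  rw [h2, smul_smul]
  congr 1
  ring

/-- Fourier inversion. -/
theorem fourier_inversion [IsAlgClosed k] [FiniteDimensional k V] (ρ : Representation k Γ V)
    (Q : Subgroup Γ) [Fintype Q] (hQk : (Fintype.card Q : k) ≠ 0) (hirr : IrrOn ρ Q)
    (A : Module.End k V) :
    ∑ g : Q, LinearMap.trace k V (ρ ((g : Γ)⁻¹) * A) • ρ (g : Γ) =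
      ((Fintype.card Q : k) / (finrank k V : k)) • A := by
  classical
  let b := Module.finBasis k V
  apply LinearMap.ext
  intro w
  have htr : ∀ g : Q, LinearMap.trace k V (ρ ((g : Γ)⁻¹) * A) =
      ∑ j, b.coord j (ρ ((g : Γ)⁻¹) (A (b j))) := by
    intro g
    rw [LinearMap.trace_eq_matrix_trace k b, Matrix.trace]
    apply Finset.sum_congr rfl
    intro j _
    rw [Matrix.diag_apply, LinearMap.toMatrix_apply, Module.End.mul_apply]
    rfl
  rw [LinearMap.sum_apply]
  have h0 : ∀ g : Q, (LinearMap.trace k V (ρ ((g : Γ)⁻¹) * A) • ρ (g : Γ)) w =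
      ∑ j, b.coord j (ρ ((g : Γ)⁻¹) (A (b j))) • ρ (g : Γ) w := by
    intro g
    rw [LinearMap.smul_apply, htr, Finset.sum_smul]
  rw [Finset.sum_congr rfl fun g _ => h0 g, Finset.sum_comm]
  have h1 : ∀ j, ∑ g : Q, b.coord j (ρ ((g : Γ)⁻¹) (A (b j))) • ρ (g : Γ) w =
      ((Fintype.card Q : k) / (finrank k V : k)) • b.coord j w • A (b j) :=
    fun j => avg_rank_one ρ Q hQk hirr (b.coord j) w (A (b j))
  rw [Finset.sum_congr rfl fun j _ => h1 j, ← Finset.smul_sum]
  congr 1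
  conv_rhs => rw [← b.sum_repr w]
  rw [map_sum]
  apply Finset.sum_congr rfl
  intro j _
  rw [map_smul]
  rfl

end Cfsg.Agent.Lib.H19.HH
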