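import Mathlib

/-!
# Sums over a set with a free group action (helper19)

`orbit_sum` : if the finite group `H` acts on `Y`, `X` is a finite `H`-stable subset on which the
action is free, then `∑_{u∈X} f u = ∑_{h∈H} ∑_{r∈R} f (h • r)` for a set `R` of representatives.
`sum_zpowers_eq_sum_range` : a sum over `zpowers x` as a sum over `range (orderOf x)`.
-/

set_option autoImplicit false

namespace Cfsg.Agent.Lib.H19.HH

theorem orbit_sum {H : Type*} [Group H] [Fintype H] {Y : Type*} [MulAction H Y] [DecidableEq Y]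
    (X : Finset Y) (hX : ∀ h : H, ∀ u ∈ X, h • u ∈ X)
    (hfree : ∀ u ∈ X, ∀ h : H, h • u = u → h = 1)
    {M : Type*} [AddCommMonoid M] (f : Y → M) :
    ∃ R : Finset Y, R ⊆ X ∧ ∑ u ∈ X, f u = ∑ h : H, ∑ r ∈ R, f (h • r) := by
  classical
  let rep : Y → Y := fun u => Quotient.out (Quotient.mk (MulAction.orbitRel H Y) u)
  have hrep : ∀ u : Y, ∃ g : H, g • u = rep u := by
    intro u
    have h1 : (MulAction.orbitRel H Y).r (rep u) u := Quotient.mk_out (s := MulAction.orbitRel H Y) u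
    have h2 : rep u ∈ MulAction.orbit H u := h1
    obtain ⟨g, hg⟩ := h2
    exact ⟨g, hg⟩
  have hrep_smul : ∀ (g : H) (u : Y), rep (g • u) = rep u := by
    intro g u
    have : Quotient.mk (MulAction.orbitRel H Y) (g • u) = Quotient.mk (MulAction.orbitRel H Y) u := by
      apply Quotient.sound
      exact ⟨g, rfl⟩
    show Quotient.out (Quotient.mk (MulAction.orbitRel H Y) (g • u)) = _
    rw [this]
  refine ⟨X.filter (fun u => rep u = u), Finset.filter_subset _ _, ?_⟩
  rw [← Finset.sum_product']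
  symm
  refine Finset.sum_bij (fun p _ => p.1 • p.2) ?_ ?_ ?_ ?_
  · intro p hp
    rw [Finset.mem_product, Finset.mem_filter] at hp
    exact hX _ _ hp.2.1
  · rintro ⟨h₁, r₁⟩ hp₁ ⟨h₂, r₂⟩ hp₂ heq
    rw [Finset.mem_product, Finset.mem_filter] at hp₁ hp₂
    simp only at heq hp₁ hp₂
    have hr : r₁ = r₂ := by
      rw [← hp₁.2.2, ← hp₂.2.2, ← hrep_smul h₁ r₁, ← hrep_smul h₂ r₂, heq]
    subst hr
    have : (h₂⁻¹ * h₁) • r₁ = r₁ := by
      rw [mul_smul, heq, inv_smul_smul]
    have h3 := hfree r₁ hp₁.2.1 _ this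
    have : h₁ = h₂ := by
      rw [inv_mul_eq_one] at h3
      exact h3.symm
    rw [this]
  · intro u hu
    obtain ⟨g, hg⟩ := hrep u
    refine ⟨(g⁻¹, rep u), ?_, ?_⟩
    · rw [Finset.mem_product, Finset.mem_filter]
      refine ⟨Finset.mem_univ _, ?_, ?_⟩
      · rw [← hg]; exact hX g u hu
      · show rep (rep u) = rep u
        rw [← hg, hrep_smul, hg]
    · show g⁻¹ • rep u = u
      rw [← hg, inv_smul_smul]
  · intro p _
    rfl

/-- version of `orbit_sum` for an action given by a homomorphism to permutations -/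
theorem orbit_sum' {H : Type*} [Group H] [Fintype H] {Y : Type*} [DecidableEq Y]
    (c : H →* Equiv.Perm Y)
    (X : Finset Y) (hX : ∀ h : H, ∀ u ∈ X, c h u ∈ X)
    (hfree : ∀ u ∈ X, ∀ h : H, c h u = u → h = 1)
    {M : Type*} [AddCommMonoid M] (f : Y → M) :
    ∃ R : Finset Y, R ⊆ X ∧ ∑ u ∈ X, f u = ∑ h : H, ∑ r ∈ R, f (c h r) := by
  letI : MulAction H Y := MulAction.compHom Y c
  exact orbit_sum X hX hfree f

theorem sum_zpowers_eq_sum_range {G : Type*} [Group G] {x : G} (hx : IsOfFinOrder x)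
    [Fintype (Subgroup.zpowers x)] {M : Type*} [AddCommMonoid M] (f : G → M) :
    ∑ h : Subgroup.zpowers x, f (h : G) = ∑ i ∈ Finset.range (orderOf x), f (x ^ i) := by
  rw [← Fin.sum_univ_eq_sum_range (fun i => f (x ^ i)) (orderOf x)]
  symm
  apply Fintype.sum_equiv (finEquivZPowers hx)
  intro i
  rw [finEquivZPowers_apply]

end Cfsg.Agent.Lib.H19.HH
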