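import Mathlib

/-!
# Hall–Higman critical case: polynomial identity and conjugation filtration (helper19)

* `geom_sum_eq_sub_one_pow` : in an algebra over a field of characteristic `p`,
  `∑_{i < p^m} c^i = (c - 1)^(p^m - 1)`.
* `Filt N j` : the span of the operators `N^a B N^b`, `a + b = j`.
* `sum_conj_mem_filt` : `∑_{i<p^m} T^i B T^{-i} ∈ Filt (T - 1) (p^m - 1)`.
-/

set_option autoImplicit false

namespace Cfsg.Agent.Lib.H19.HH

open Polynomial

theorem poly_geom_sum (k : Type*) [Field k] (p : ℕ) [Fact p.Prime] [CharP k p] (m : ℕ) :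
    (∑ i ∈ Finset.range (p ^ m), (X : k[X]) ^ i) = (X - 1) ^ (p ^ m - 1) := by
  have hpos : 0 < p ^ m := pow_pos (Fact.out : p.Prime).pos m
  have h1 : (X - 1 : k[X]) * ∑ i ∈ Finset.range (p ^ m), X ^ i = X ^ p ^ m - 1 := mul_geom_sum _ _
  have h2 : (X - 1 : k[X]) ^ p ^ m = X ^ p ^ m - 1 := by
    rw [sub_pow_char_pow, one_pow]
  have h3 : (X - 1 : k[X]) * (X - 1) ^ (p ^ m - 1) = (X - 1) ^ p ^ m := by
    rw [← pow_succ', Nat.sub_add_cancel hpos]
  have hne : (X - 1 : k[X]) ≠ 0 := by
    have := X_sub_C_ne_zero (1 : k)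
    simpa using this
  exact mul_left_cancel₀ hne (h1.trans (h2.symm.trans h3.symm))

theorem geom_sum_eq_sub_one_pow {k : Type*} [Field k] (p : ℕ) [Fact p.Prime] [CharP k p] (m : ℕ)
    {A : Type*} [Ring A] [Algebra k A] (c : A) :
    (∑ i ∈ Finset.range (p ^ m), c ^ i) = (c - 1) ^ (p ^ m - 1) := by
  have := congrArg (aeval c) (poly_geom_sum k p m)
  simpa using this

theorem sub_one_pow_char_pow {k : Type*} [Field k] (p : ℕ) [Fact p.Prime] [CharP k p] (m : ℕ)
    {A : Type*} [Ring A] [Algebra k A] (c : A) :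
    (c - 1) ^ (p ^ m) = c ^ (p ^ m) - 1 := by
  have h2 : ((X : k[X]) - 1) ^ p ^ m = X ^ p ^ m - 1 := by
    rw [sub_pow_char_pow, one_pow]
  have := congrArg (aeval c) h2
  simpa using this

theorem pow_finrank_eq_zero {k : Type*} [Field k] {V : Type*} [AddCommGroup V] [Module k V]
    [FiniteDimensional k V] {N : Module.End k V} {s : ℕ} (hN : N ^ s = 0) :
    N ^ Module.finrank k V = 0 := by
  have h1 : IsNilpotent N := ⟨s, hN⟩
  have h2 := (LinearMap.isNilpotent_iff_charpoly N).1 h1
  have h3 := LinearMap.aeval_self_charpoly N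
  rw [h2] at h3
  simpa using h3

section filt

variable {k : Type*} [Field k] {V : Type*} [AddCommGroup V] [Module k V]

/-- the span of the operators `N^a B N^b` with `a + b = j` -/
def Filt (N : Module.End k V) (j : ℕ) : Submodule k (Module.End k V) :=
  Submodule.span k {A | ∃ a b : ℕ, ∃ B : Module.End k V, a + b = j ∧ A = N ^ a * B * N ^ b}

theorem mem_filt_zero (N B : Module.End k V) : B ∈ Filt N 0 :=
  Submodule.subset_span ⟨0, 0, B, rfl, by simp⟩

theorem filt_ad {N : Module.End k V} {j : ℕ} {A : Module.End k V} (h : A ∈ Filt N j) :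
    N * A - A * N ∈ Filt N (j + 1) := by
  unfold Filt at h ⊢
  induction h using Submodule.span_induction with
  | mem A hA =>
    obtain ⟨a, b, B, hab, rfl⟩ := hA
    apply Submodule.sub_mem
    · apply Submodule.subset_span
      refine ⟨a + 1, b, B, by omega, ?_⟩
      rw [pow_succ']
      simp only [mul_assoc]
    · apply Submodule.subset_span
      refine ⟨a, b + 1, B, by omega, ?_⟩
      rw [pow_succ]
      simp only [mul_assoc]
  | zero => simp
  | add A B _ _ hA hB =>
    have : N * (A + B) - (A + B) * N = (N * A - A * N) + (N * B - B * N) := by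
      rw [mul_add, add_mul]; abel
    rw [this]
    exact Submodule.add_mem _ hA hB
  | smul c A _ hA =>
    have : N * (c • A) - (c • A) * N = c • (N * A - A * N) := by
      rw [mul_smul_comm, smul_mul_assoc, smul_sub]
    rw [this]
    exact Submodule.smul_mem _ c hA

theorem filt_mul_right {N : Module.End k V} {j : ℕ} {A : Module.End k V} (h : A ∈ Filt N j)
    (C : Module.End k V) (hC : Commute N C) : A * C ∈ Filt N j := by
  unfold Filt at h ⊢
  induction h using Submodule.span_induction with
  | mem A hA =>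
    obtain ⟨a, b, B, hab, rfl⟩ := hA
    apply Submodule.subset_span
    refine ⟨a, b, B * C, hab, ?_⟩
    have h1 : N ^ b * C = C * N ^ b := (hC.pow_left b).eq
    rw [mul_assoc (N ^ a * B), h1]
    simp only [mul_assoc]
  | zero => simp
  | add A B _ _ hA hB =>
    rw [add_mul]
    exact Submodule.add_mem _ hA hB
  | smul c A _ hA =>
    rw [smul_mul_assoc]
    exact Submodule.smul_mem _ c hA

theorem filt_pow_mul_eq_zero {N : Module.End k V} {s j i : ℕ} {A : Module.End k V}
    (hN : N ^ s = 0) (h : A ∈ Filt N j) (hij : 2 * s ≤ i + j + 1) : N ^ i * A = 0 := by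
  unfold Filt at h
  induction h using Submodule.span_induction with
  | mem A hA =>
    obtain ⟨a, b, B, hab, rfl⟩ := hA
    by_cases hb : s ≤ b
    · have : N ^ b = 0 := by
        obtain ⟨c, rfl⟩ := Nat.exists_eq_add_of_le hb
        rw [pow_add, hN, zero_mul]
      rw [this]; simp
    · have hia : s ≤ i + a := by omega
      have : N ^ i * (N ^ a * B * N ^ b) = N ^ (i + a) * B * N ^ b := by
        rw [pow_add]; simp only [mul_assoc]
      rw [this]
      obtain ⟨c, hc⟩ := Nat.exists_eq_add_of_le hia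
      rw [hc, pow_add, hN]; simp
  | zero => simp
  | add A B _ _ hA hB => rw [mul_add, hA, hB, add_zero]
  | smul c A _ hA => rw [mul_smul_comm, hA, smul_zero]

theorem filt_apply_mem_range {N : Module.End k V} {s j : ℕ} {A : Module.End k V}
    (hN : N ^ s = 0) (h : A ∈ Filt N j) (hj : s ≤ j) (w : V) : A w ∈ LinearMap.range N := by
  unfold Filt at h
  induction h using Submodule.span_induction with
  | mem A hA =>
    obtain ⟨a, b, B, hab, rfl⟩ := hA
    rcases Nat.eq_zero_or_pos a with ha | ha
    · have hb : s ≤ b := by omega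
      have : N ^ b = 0 := by
        obtain ⟨c, rfl⟩ := Nat.exists_eq_add_of_le hb
        rw [pow_add, hN, zero_mul]
      rw [this]; simp
    · obtain ⟨a', rfl⟩ := Nat.exists_eq_succ_of_ne_zero ha.ne'
      refine ⟨(N ^ a' * B * N ^ b) w, ?_⟩
      rw [pow_succ']
      simp [mul_assoc]
  | zero => simp
  | add A B _ _ hA hB =>
    rw [LinearMap.add_apply]
    exact Submodule.add_mem _ hA hB
  | smul c A _ hA =>
    rw [LinearMap.smul_apply]
    exact Submodule.smul_mem _ c hA

/-- conjugation by `T` (with inverse `Ti`) as an operator on `End V` -/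
def cj (T Ti : Module.End k V) : Module.End k (Module.End k V) :=
  LinearMap.mulLeft k T ∘ₗ LinearMap.mulRight k Ti

theorem cj_apply (T Ti B : Module.End k V) : cj T Ti B = T * B * Ti := by
  simp [cj, mul_assoc]

theorem cj_pow_apply (T Ti : Module.End k V) (i : ℕ) (B : Module.End k V) :
    (cj T Ti ^ i) B = T ^ i * B * Ti ^ i := by
  induction i generalizing B with
  | zero => simp
  | succ i ih =>
    rw [pow_succ, Module.End.mul_apply, ih, cj_apply, pow_succ, pow_succ']
    simp only [mul_assoc]

theorem cj_sub_one_apply {T Ti : Module.End k V} (h1 : T * Ti = 1) (B : Module.End k V) :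
    (cj T Ti - 1) B = ((T - 1) * B - B * (T - 1)) * Ti := by
  rw [LinearMap.sub_apply, cj_apply, Module.End.one_apply]
  have : ((T - 1) * B - B * (T - 1)) * Ti = T * B * Ti - B * (T * Ti) := by
    noncomm_ring
  rw [this, h1, mul_one]

theorem cj_sub_one_pow_mem {T Ti : Module.End k V} (h1 : T * Ti = 1) (h2 : Ti * T = 1) (j : ℕ)
    (B : Module.End k V) : ((cj T Ti - 1) ^ j) B ∈ Filt (T - 1) j := by
  induction j with
  | zero => simpa using mem_filt_zero (T - 1) B
  | succ j ih =>
    rw [pow_succ', Module.End.mul_apply, cj_sub_one_apply h1]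
    apply filt_mul_right (filt_ad ih)
    have hc : Commute T Ti := by
      unfold Commute SemiconjBy
      rw [h1, h2]
    exact (hc.sub_left (Commute.one_left Ti))

theorem sum_conj_mem_filt (p : ℕ) [Fact p.Prime] [CharP k p] (m : ℕ) {T Ti : Module.End k V}
    (h1 : T * Ti = 1) (h2 : Ti * T = 1) (B : Module.End k V) :
    (∑ i ∈ Finset.range (p ^ m), T ^ i * B * Ti ^ i) ∈ Filt (T - 1) (p ^ m - 1) := by
  have h3 := geom_sum_eq_sub_one_pow (k := k) p m (cj T Ti)
  have h4 : (∑ i ∈ Finset.range (p ^ m), T ^ i * B * Ti ^ i) =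
      (∑ i ∈ Finset.range (p ^ m), cj T Ti ^ i) B := by
    rw [LinearMap.sum_apply]
    exact Finset.sum_congr rfl fun i _ => (cj_pow_apply T Ti i B).symm
  rw [h4, h3]
  exact cj_sub_one_pow_mem h1 h2 _ B

end filt

end Cfsg.Agent.Lib.H19.HH
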