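import Mathlib
import Cfsg.Agent.Lib.H19.HHPoly
import Cfsg.Agent.Lib.H19.HHCyc
import Cfsg.Agent.Lib.H19.HHPerm
import Cfsg.Agent.Lib.H19.HHFourier

/-!
# The critical case of the Hall–Higman theorem (helper19)

`core_alpha` : operators commuting with `ρ x` are of the form `l • 1 + ∑_{i<p^m} T^i B T^{-i}`.
`core` : the degree `s` of the minimal polynomial `(X-1)^s` of `ρ x` satisfies
`p^m - 1 ≤ s ≤ p^m`, and `dim V = p^m - 1` if `s = p^m - 1`.
-/

set_option autoImplicit false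

namespace Cfsg.Agent.Lib.H19.HH

open Module Cfsg.Agent.Lib.H19.ModRep

variable {k : Type*} [Field k] {Γ : Type*} [Group Γ] {V : Type*} [AddCommGroup V] [Module k V]

theorem core_alpha [IsAlgClosed k] [FiniteDimensional k V] [Finite Γ]
    (ρ : Representation k Γ V) (Q : Subgroup Γ) [hQn : Q.Normal] (hQk : (Nat.card Q : k) ≠ 0)
    (hirr : IrrOn ρ Q) (x : Γ)
    (hfree : ∀ u ∈ Q, ∀ y ∈ Subgroup.zpowers x, y ≠ 1 → y * u * y⁻¹ = u →
      ∃ c : k, ρ u = c • (1 : Module.End k V))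
    (A : Module.End k V) (hA : A * ρ x = ρ x * A) :
    ∃ (l : k) (B : Module.End k V),
      A = l • (1 : Module.End k V) +
        ∑ i ∈ Finset.range (orderOf x), ρ x ^ i * B * ρ x⁻¹ ^ i := by
  classical
  have : Fintype Γ := Fintype.ofFinite Γ
  have : Fintype Q := Fintype.ofFinite Q
  have hQk' : (Fintype.card Q : k) ≠ 0 := by rwa [Fintype.card_eq_nat_card]
  obtain ⟨hd, -⟩ := avg_eq ρ Q hQk' hirr
  have hF := fourier_inversion ρ Q hQk' hirr A
  set c₀ : k := (Fintype.card Q : k) / (finrank k V : k) with hc₀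
  have hc₀0 : c₀ ≠ 0 := div_ne_zero hQk' hd
  -- the coefficient function
  set a : Γ → k := fun g => LinearMap.trace k V (ρ g⁻¹ * A) with ha
  -- commutation with powers of x
  have hAy : ∀ y ∈ Subgroup.zpowers x, A * ρ y = ρ y * A := by
    intro y hy
    obtain ⟨n, rfl⟩ := Subgroup.mem_zpowers_iff.1 hy
    have hx1 : ∀ j : ℕ, A * ρ (x ^ j) = ρ (x ^ j) * A := by
      intro j
      induction j with
      | zero => simp
      | succ j ih =>
        rw [pow_succ, map_mul, ← mul_assoc, ih, mul_assoc, hA, mul_assoc]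
    have hx2 : ∀ g : Γ, A * ρ g = ρ g * A → A * ρ g⁻¹ = ρ g⁻¹ * A := by
      intro g hg
      have e1 : ρ g⁻¹ * ρ g = 1 := by rw [← map_mul, inv_mul_cancel, map_one]
      have e2 : ρ g * ρ g⁻¹ = 1 := by rw [← map_mul, mul_inv_cancel, map_one]
      calc A * ρ g⁻¹ = ρ g⁻¹ * (ρ g * A) * ρ g⁻¹ := by rw [← mul_assoc, e1, one_mul]
        _ = ρ g⁻¹ * (A * ρ g) * ρ g⁻¹ := by rw [hg]
        _ = ρ g⁻¹ * A := by rw [mul_assoc, mul_assoc, e2, mul_one]
    rcases Int.eq_nat_or_neg n with ⟨j, rfl | rfl⟩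
    · rw [zpow_natCast]; exact hx1 j
    · rw [zpow_neg, zpow_natCast]; exact hx2 _ (hx1 j)
  have ha_inv : ∀ y ∈ Subgroup.zpowers x, ∀ u : Γ, a (y * u * y⁻¹) = a u := by
    intro y hy u
    simp only [ha]
    have e2 : ρ y * ρ y⁻¹ = 1 := by rw [← map_mul, mul_inv_cancel, map_one]
    have : ρ (y * u * y⁻¹)⁻¹ * A = ρ y * (ρ u⁻¹ * A * ρ y⁻¹) := by
      have h3 : (y * u * y⁻¹)⁻¹ = y * u⁻¹ * y⁻¹ := by group
      rw [h3, map_mul, map_mul]
      have h4 := hAy y⁻¹ (Subgroup.inv_mem _ hy)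
      simp only [mul_assoc]
      rw [h4]
    rw [this, LinearMap.trace_mul_comm, mul_assoc, mul_assoc]
    have e1 : ρ y⁻¹ * ρ y = 1 := by rw [← map_mul, inv_mul_cancel, map_one]
    rw [e1, mul_one]
  -- rewrite the sum over `Q` as a sum over a finset of `Γ`
  set Qf : Finset Γ := Finset.univ.filter (fun g => g ∈ Q) with hQf
  have hsum : ∑ g ∈ Qf, a g • ρ g = c₀ • A := by
    rw [← hF]
    exact Finset.sum_subtype Qf (fun g => by simp [hQf]) (fun g => a g • ρ g)
  set isS : Γ → Prop := fun u => ∃ c : k, ρ u = c • (1 : Module.End k V) with hisS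
  have hsplit := Finset.sum_filter_add_sum_filter_not Qf isS (fun g => a g • ρ g)
  -- the scalar part
  obtain ⟨l', hl'⟩ : ∃ l' : k, ∑ g ∈ Qf.filter isS, a g • ρ g = l' • (1 : Module.End k V) := by
    have hmem : ∑ g ∈ Qf.filter isS, a g • ρ g ∈ Submodule.span k {(1 : Module.End k V)} := by
      apply Submodule.sum_mem
      intro g hg
      obtain ⟨c, hc⟩ := (Finset.mem_filter.1 hg).2
      rw [hc, smul_smul]
      exact Submodule.smul_mem _ _ (Submodule.mem_span_singleton_self _)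
    obtain ⟨l', hl'⟩ := Submodule.mem_span_singleton.1 hmem
    exact ⟨l', hl'.symm⟩
  -- the free part
  let cH : Subgroup.zpowers x →* Equiv.Perm Γ :=
    (MulAut.toPerm Γ).comp ((MulAut.conj : Γ →* MulAut Γ).comp (Subgroup.zpowers x).subtype)
  have hcH : ∀ (h : Subgroup.zpowers x) (u : Γ), cH h u = (h : Γ) * u * (h : Γ)⁻¹ := fun h u => rfl
  set X : Finset Γ := Qf.filter (fun u => ¬ isS u) with hXdef
  have hXstab : ∀ h : Subgroup.zpowers x, ∀ u ∈ X, cH h u ∈ X := by
    intro h u hu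
    rw [hXdef, Finset.mem_filter, hQf, Finset.mem_filter] at hu ⊢
    rw [hcH]
    refine ⟨⟨Finset.mem_univ _, hQn.conj_mem u hu.1.2 h⟩, ?_⟩
    rintro ⟨c, hc⟩
    apply hu.2
    refine ⟨c, ?_⟩
    have e1 : ρ (h : Γ)⁻¹ * ρ (h : Γ) = 1 := by rw [← map_mul, inv_mul_cancel, map_one]
    have e3 : u = (h : Γ)⁻¹ * ((h : Γ) * u * (h : Γ)⁻¹) * (h : Γ) := by group
    rw [e3, map_mul, map_mul, hc, mul_smul_comm, smul_mul_assoc, mul_one, e1]
  have hXfree : ∀ u ∈ X, ∀ h : Subgroup.zpowers x, cH h u = u → h = 1 := by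
    intro u hu h hh
    rw [hXdef, Finset.mem_filter, hQf, Finset.mem_filter] at hu
    by_contra hne
    apply hu.2
    rw [hcH] at hh
    exact hfree u hu.1.2 h h.2 (fun h1 => hne (Subtype.ext h1)) hh
  obtain ⟨R, -, hR⟩ := orbit_sum' cH X hXstab hXfree (fun g => a g • ρ g)
  set B' : Module.End k V := ∑ r ∈ R, a r • ρ r with hB'
  have hfreepart : ∑ g ∈ X, a g • ρ g =
      ∑ i ∈ Finset.range (orderOf x), ρ x ^ i * B' * ρ x⁻¹ ^ i := by
    rw [hR]
    have h1 : ∀ h : Subgroup.zpowers x, ∑ r ∈ R, a (cH h r) • ρ (cH h r) =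
        ρ (h : Γ) * B' * ρ ((h : Γ)⁻¹) := by
      intro h
      rw [hB', Finset.mul_sum, Finset.sum_mul]
      apply Finset.sum_congr rfl
      intro r _
      rw [hcH, ha_inv _ h.2, map_mul, map_mul, mul_smul_comm, smul_mul_assoc]
    rw [Finset.sum_congr rfl fun h _ => h1 h]
    rw [sum_zpowers_eq_sum_range (isOfFinOrder_of_finite x)
      (fun g => ρ g * B' * ρ g⁻¹)]
    apply Finset.sum_congr rfl
    intro i _
    rw [map_pow, ← inv_pow, map_pow]
  refine ⟨c₀⁻¹ * l', c₀⁻¹ • B', ?_⟩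
  have hfin : c₀ • A = l' • (1 : Module.End k V) +
      ∑ i ∈ Finset.range (orderOf x), ρ x ^ i * B' * ρ x⁻¹ ^ i := by
    rw [← hsum, ← hsplit, hl', ← hfreepart]
  have : A = c₀⁻¹ • (c₀ • A) := by rw [smul_smul, inv_mul_cancel₀ hc₀0, one_smul]
  rw [this, hfin, smul_add, smul_smul, Finset.smul_sum]
  congr 1
  apply Finset.sum_congr rfl
  intro i _
  rw [mul_smul_comm, smul_mul_assoc]

/-- The critical case of the Hall–Higman theorem. -/
theorem core [IsAlgClosed k] [FiniteDimensional k V] [Finite Γ] (p : ℕ) [Fact p.Prime] [CharP k p]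
    (ρ : Representation k Γ V) (Q : Subgroup Γ) [hQn : Q.Normal] (hQk : (Nat.card Q : k) ≠ 0)
    (hirr : IrrOn ρ Q) (x : Γ) (m : ℕ) (hx : orderOf x = p ^ m)
    (hxf : ρ x = 1 → x = 1)
    (hfree : ∀ u ∈ Q, ∀ y ∈ Subgroup.zpowers x, y ≠ 1 → y * u * y⁻¹ = u →
      ∃ c : k, ρ u = c • (1 : Module.End k V))
    (s : ℕ) (hs : (ρ x - 1) ^ s = 0) (hmin : ∀ t < s, (ρ x - 1) ^ t ≠ 0) :
    p ^ m - 1 ≤ s ∧ s ≤ p ^ m ∧ (s = p ^ m - 1 → finrank k V = p ^ m - 1) := by
  have hnt := hirr.1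
  set T := ρ x with hT
  set Ti := ρ x⁻¹ with hTi
  set N := T - 1 with hN
  have h1 : T * Ti = 1 := by rw [hT, hTi, ← map_mul, mul_inv_cancel, map_one]
  have h2 : Ti * T = 1 := by rw [hT, hTi, ← map_mul, inv_mul_cancel, map_one]
  have hPpos : 0 < p ^ m := pow_pos (Fact.out : p.Prime).pos m
  have hTP : T ^ (p ^ m) = 1 := by rw [hT, ← map_pow, ← hx, pow_orderOf_eq_one, map_one]
  have hNP : N ^ (p ^ m) = 0 := by
    rw [hN, sub_one_pow_char_pow (k := k) p m T, hTP, sub_self]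
  have hsP : s ≤ p ^ m := by
    by_contra hlt
    push Not at hlt
    exact hmin _ hlt hNP
  have hs1 : 1 ≤ s := by
    by_contra hlt
    have h0 : s = 0 := by omega
    rw [h0, pow_zero] at hs
    exact one_ne_zero hs
  -- the structure of the commutant
  have halpha : ∀ A : Module.End k V, A * T = T * A → ∃ (l : k) (S : Module.End k V),
      A = l • (1 : Module.End k V) + S ∧ S ∈ Filt N (p ^ m - 1) := by
    intro A hA
    obtain ⟨l, B, hlB⟩ := core_alpha ρ Q hQk hirr x hfree A hA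
    refine ⟨l, _, hlB, ?_⟩
    rw [hx]
    exact sum_conj_mem_filt p m h1 h2 B
  have hNT : N * T = T * N := by rw [hN, sub_mul, mul_sub, one_mul, mul_one]
  by_cases hlt : s = p ^ m
  · refine ⟨by omega, hsP, fun h => by omega⟩
  have hsP1 : s ≤ p ^ m - 1 := by omega
  -- `N` itself lies in the filtration
  obtain ⟨l, S, hNS, hS⟩ := halpha N hNT
  have hNs1 : N ^ (s - 1) ≠ 0 := hmin _ (by omega)
  have hl0 : l = 0 := by
    have e1 : N ^ (s - 1) * N = 0 := by
      rw [← pow_succ, Nat.sub_add_cancel hs1, hs]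
    have e2 : N ^ (s - 1) * S = 0 := filt_pow_mul_eq_zero hs hS (by omega)
    have e3 : N ^ (s - 1) * N = l • N ^ (s - 1) := by
      have e4 : N ^ (s - 1) * N = N ^ (s - 1) * (l • (1 : Module.End k V) + S) :=
        congrArg (fun z => N ^ (s - 1) * z) hNS
      rw [e4, mul_add, e2, add_zero, mul_smul_comm, mul_one]
    rw [e1] at e3
    rcases smul_eq_zero.1 e3.symm with h | h
    · exact h
    · exact absurd h hNs1
  rw [hl0, zero_smul, zero_add] at hNS
  rw [← hNS] at hS
  -- the case `s = 1`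
  by_cases hs1' : s = 1
  · have hN0 : N = 0 := by rw [hs1', pow_one] at hs; exact hs
    have hT1 : T = 1 := sub_eq_zero.1 hN0
    have hx1 : x = 1 := hxf hT1
    rw [hx1, orderOf_one] at hx
    refine ⟨by omega, hsP, fun h => by omega⟩
  have hs2 : 2 ≤ s := by omega
  have hseq : s = p ^ m - 1 := by
    by_contra hne
    have hle : s ≤ p ^ m - 2 := by omega
    have e1 : N ^ (s - 2) * N = 0 := filt_pow_mul_eq_zero hs hS (by omega)
    apply hNs1
    rw [← e1, ← pow_succ]
    congr 1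
    omega
  refine ⟨by omega, hsP, fun _ => ?_⟩
  -- the dimension
  rw [← hseq]
  obtain ⟨v, hv⟩ : ∃ v : V, (N ^ (s - 1)) v ≠ 0 := by
    by_contra hall
    push Not at hall
    apply hNs1
    apply LinearMap.ext
    intro w
    rw [hall w, LinearMap.zero_apply]
  obtain ⟨φ, hφ⟩ := Module.Projective.exists_dual_eq_one k hv
  set e := fphi N φ v s with he
  have heN : e * N = N * e := fphi_comm φ v hs
  have heT : e * T = T * e := by
    have : T = N + 1 := by rw [hN, sub_add_cancel]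
    rw [this, mul_add, add_mul, heN, mul_one, one_mul]
  obtain ⟨l, S', heS, hS'⟩ := halpha e heT
  have hS'range : ∀ w : V, S' w ∈ LinearMap.range N := fun w =>
    filt_apply_mem_range hs hS' hsP1 w
  have hvrange : v ∉ LinearMap.range N := by
    rintro ⟨w, rfl⟩
    apply hv
    have : (N ^ (s - 1)) (N w) = (N ^ s) w := by
      rw [← Module.End.mul_apply, ← pow_succ, Nat.sub_add_cancel hs1]
    rw [this, hs, LinearMap.zero_apply]
  have hl1 : l = 1 := by
    by_contra hne
    apply hvrange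
    have e1 := fphi_apply_self_sub N φ v (a := s) (by omega)
    rw [hφ, one_smul, ← he, heS, LinearMap.add_apply, LinearMap.smul_apply,
      Module.End.one_apply] at e1
    have e2 : (l - 1) • v ∈ LinearMap.range N := by
      have : (l - 1) • v = (l • v + S' v - v) - S' v := by
        rw [sub_smul, one_smul]; abel
      rw [this]
      exact Submodule.sub_mem _ e1 (hS'range v)
    have hl1' : l - 1 ≠ 0 := sub_ne_zero.2 hne
    have : v = (l - 1)⁻¹ • ((l - 1) • v) := by
      rw [smul_smul, inv_mul_cancel₀ hl1', one_smul]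
    rw [this]
    exact Submodule.smul_mem _ _ e2
  have htop : cyc N v = ⊤ := by
    apply eq_top_of_forall_sub_mem_range hs (cyc N v) (fun u hu => apply_mem_cyc hu)
    intro w
    refine ⟨e w, fphi_apply_mem_cyc N φ v s w, ?_⟩
    have : w - e w = - S' w := by
      rw [heS, hl1, one_smul, LinearMap.add_apply, Module.End.one_apply]; abel
    rw [this]
    exact Submodule.neg_mem _ (hS'range w)
  apply le_antisymm
  · have := finrank_cyc_le hs v
    rw [htop, finrank_top] at this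
    exact this
  · by_contra hlt'
    push Not at hlt'
    exact hmin _ hlt' (pow_finrank_eq_zero hs)

end Cfsg.Agent.Lib.H19.HH
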