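import Mathlib
import Cfsg.Agent.Lib.H19.ModRepBasic

/-!
# Weight spaces of an abelian `p'`-subgroup under normalizing elements (helper19)

For `Z ≤ Γ` acting through commuting semisimple operators (`|Z|` invertible in `k`) we decompose a
representation into the simultaneous eigenspaces `wtf ρ Z χ` (`χ : Γ → k` any function, only its
values on `Z` matter).  An element `g` normalizing `Z` maps `wtf χ` to `wtf (twf g χ)`.

* `twf_eq_of_quadratic` : if `g` has odd order and `(ρ g - 1)^2 = 0`, then `g` fixes every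
  character with a nonzero weight space.
* `apply_eq_self_of_moved` : if `a` stabilizes all weight spaces, `b` of odd order moves `χ`
  and `(ρ a - 1)(ρ b - 1)^2 = 0`, then `ρ a` is the identity on `wtf χ`.
-/

set_option autoImplicit false
set_option linter.unusedSectionVars false

namespace Cfsg.Agent.Lib.H19.HH

open Module Cfsg.Agent.Lib.H19.ModRep

variable {k : Type*} [Field k] {Γ : Type*} [Group Γ] {V : Type*} [AddCommGroup V] [Module k V]

section defs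

variable (ρ : Representation k Γ V) (Z : Subgroup Γ)

/-- weight space for a total function `χ : Γ → k` -/
def wtf (χ : Γ → k) : Submodule k V := wt ρ Z (fun z : Z => χ (z : Γ))

theorem mem_wtf {χ : Γ → k} {w : V} : w ∈ wtf ρ Z χ ↔ ∀ z ∈ Z, ρ z w = χ z • w := by
  unfold wtf
  rw [mem_wt]
  constructor
  · intro h z hz
    exact h ⟨z, hz⟩
  · intro h z
    exact h z z.2

/-- extension of a function on `Z` by zero -/
noncomputable def extf (χ : Z → k) : Γ → k := by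
  classical
  exact fun x => if h : x ∈ Z then χ ⟨x, h⟩ else 0

theorem wtf_extf (χ : Z → k) : wtf ρ Z (extf Z χ) = wt ρ Z χ := by
  unfold wtf
  congr 1
  funext z
  unfold extf
  simp [z.2]

/-- the twist of a function by conjugation -/
def twf (g : Γ) (χ : Γ → k) : Γ → k := fun x => χ (g⁻¹ * x * g)

theorem twf_mul (g h : Γ) (χ : Γ → k) : twf (g * h) χ = twf g (twf h χ) := by
  funext x
  unfold twf
  congr 1
  group

theorem twf_one (χ : Γ → k) : twf (1 : Γ) χ = χ := by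
  funext x
  unfold twf
  simp

/-- the characters `χ` and `χ'` agree on `Z` -/
def EqOn (χ χ' : Γ → k) : Prop := ∀ z ∈ Z, χ z = χ' z

variable {Z}

theorem wtf_congr {χ χ' : Γ → k} (h : EqOn Z χ χ') : wtf ρ Z χ = wtf ρ Z χ' := by
  unfold wtf
  congr 1
  funext z
  exact h z z.2

variable {ρ}

theorem apply_mem_wtf_twf {g : Γ} (hg : g ∈ Subgroup.normalizer (Z : Set Γ)) {χ : Γ → k} {w : V}
    (hw : w ∈ wtf ρ Z χ) : ρ g w ∈ wtf ρ Z (twf g χ) := by
  rw [mem_wtf] at hw ⊢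
  intro z hz
  have hz' : g⁻¹ * z * g ∈ Z := by
    have := (Subgroup.mem_normalizer_iff'.1 hg (g⁻¹ * z)).2
    apply this
    simpa using hz
  have h1 := hw _ hz'
  have e : z * g = g * (g⁻¹ * z * g) := by group
  rw [← Module.End.mul_apply, ← map_mul, e, map_mul, Module.End.mul_apply, h1, map_smul]
  rfl

theorem eqOn_twf_mul {g h : Γ} (hg : g ∈ Subgroup.normalizer (Z : Set Γ)) {χ : Γ → k}
    (h1 : EqOn Z (twf g χ) χ) (h2 : EqOn Z (twf h χ) χ) : EqOn Z (twf (g * h) χ) χ := by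
  intro z hz
  rw [twf_mul]
  have hz' : g⁻¹ * z * g ∈ Z := by
    have := (Subgroup.mem_normalizer_iff'.1 hg (g⁻¹ * z)).2
    apply this
    simpa using hz
  show twf h χ (g⁻¹ * z * g) = χ z
  rw [h2 _ hz']
  exact h1 z hz

theorem eqOn_twf_pow {g : Γ} (hg : g ∈ Subgroup.normalizer (Z : Set Γ)) {χ : Γ → k}
    (h1 : EqOn Z (twf g χ) χ) (j : ℕ) : EqOn Z (twf (g ^ j) χ) χ := by
  induction j with
  | zero =>
    rw [pow_zero, twf_one]
    intro z _
    rfl
  | succ j ih =>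
    rw [pow_succ']
    exact eqOn_twf_mul hg h1 ih

/-- if `g²` fixes `χ` and `g` has odd order then `g` fixes `χ` -/
theorem eqOn_twf_of_sq {g : Γ} (hg : g ∈ Subgroup.normalizer (Z : Set Γ)) {χ : Γ → k} {n : ℕ}
    (hn : Odd n) (hgn : g ^ n = 1) (h2 : EqOn Z (twf (g * g) χ) χ) : EqOn Z (twf g χ) χ := by
  obtain ⟨m, rfl⟩ := hn
  have hgg : g * g ∈ Subgroup.normalizer (Z : Set Γ) := Subgroup.mul_mem _ hg hg
  have h3 := eqOn_twf_pow hgg h2 (m + 1)
  have e : (g * g) ^ (m + 1) = g := by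
    rw [← sq, ← pow_mul]
    have : 2 * (m + 1) = (2 * m + 1) + 1 := by ring
    rw [this, pow_succ, hgn, one_mul]
  rwa [e] at h3

/-- if `g` fixes `twf g χ` (on `Z`) then it fixes `χ` -/
theorem eqOn_twf_of_twf {g : Γ} (hg : g ∈ Subgroup.normalizer (Z : Set Γ)) {χ : Γ → k}
    (h : EqOn Z (twf (g * g) χ) (twf g χ)) : EqOn Z (twf g χ) χ := by
  intro z hz
  have hz' : g * z * g⁻¹ ∈ Z := (Subgroup.mem_normalizer_iff.1 hg z).1 hz
  have h1 := h _ hz'
  rw [twf_mul] at h1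
  unfold twf at h1 ⊢
  have e1 : g⁻¹ * (g⁻¹ * (g * z * g⁻¹) * g) * g = g⁻¹ * z * g := by group
  have e2 : g⁻¹ * (g * z * g⁻¹) * g = z := by group
  rw [e1, e2] at h1
  exact h1

end defs

section main

variable [Finite Γ] [FiniteDimensional k V] (ρ : Representation k Γ V) (Z : Subgroup Γ)

theorem isSemisimple_apply_of_mem (hZ : (Nat.card Z : k) ≠ 0) (z : Z) :
    Module.End.IsSemisimple (ρ (z : Γ)) :=
  isSemisimple_apply (Γ := ↥Z) hZ (ρ.comp Z.subtype) z

theorem wt_eq' (hZ : (Nat.card Z : k) ≠ 0) (χ : Z → k) :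
    wt ρ Z χ = ⨅ a : Z, End.maxGenEigenspace (ρ (a : Γ)) (χ a) := by
  unfold wt
  congr 1
  funext a
  exact ((isSemisimple_apply_of_mem ρ Z hZ a).isFinitelySemisimple.maxGenEigenspace_eq_eigenspace
    (χ a)).symm

theorem iSupIndep_wt' (hZ : (Nat.card Z : k) ≠ 0)
    (hcomm : ∀ a b : Z, Commute (ρ (a : Γ)) (ρ (b : Γ))) : iSupIndep (wt ρ Z) := by
  have h1 : wt ρ Z = fun χ : Z → k => ⨅ a : Z, End.maxGenEigenspace (ρ (a : Γ)) (χ a) := by
    funext χ
    exact wt_eq' ρ Z hZ χ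
  rw [h1]
  apply End.independent_iInf_maxGenEigenspace_of_forall_mapsTo
  intro a b φ
  exact End.mapsTo_maxGenEigenspace_of_comm (hcomm b a) φ

theorem iSup_wt_eq_top' [IsAlgClosed k] (hZ : (Nat.card Z : k) ≠ 0)
    (hcomm : ∀ a b : Z, Commute (ρ (a : Γ)) (ρ (b : Γ))) : ⨆ χ : Z → k, wt ρ Z χ = ⊤ := by
  have h1 : wt ρ Z = fun χ : Z → k => ⨅ a : Z, End.maxGenEigenspace (ρ (a : Γ)) (χ a) := by
    funext χ
    exact wt_eq' ρ Z hZ χ
  rw [h1]
  apply End.iSup_iInf_maxGenEigenspace_eq_top_of_iSup_maxGenEigenspace_eq_top_of_commute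
  · intro a b _
    exact hcomm a b
  · intro a
    exact End.iSup_maxGenEigenspace_eq_top _

variable {ρ Z}

/-- three vectors in weight spaces of pairwise distinct characters with zero sum vanish -/
theorem eq_zero_of_add_add_eq_zero (hZ : (Nat.card Z : k) ≠ 0)
    (hcomm : ∀ a b : Z, Commute (ρ (a : Γ)) (ρ (b : Γ))) {χ₀ χ₁ χ₂ : Γ → k}
    (h01 : ¬ EqOn Z χ₁ χ₀) (h02 : ¬ EqOn Z χ₂ χ₀) {x₀ x₁ x₂ : V}
    (hx₀ : x₀ ∈ wtf ρ Z χ₀) (hx₁ : x₁ ∈ wtf ρ Z χ₁) (hx₂ : x₂ ∈ wtf ρ Z χ₂)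
    (hsum : x₀ + x₁ + x₂ = 0) : x₀ = 0 := by
  have hind := iSupIndep_wt' ρ Z hZ hcomm
  have hd := hind (fun z : Z => χ₀ (z : Γ))
  rw [Submodule.disjoint_def] at hd
  apply hd x₀ hx₀
  have e : x₀ = -(x₁ + x₂) := by
    rw [eq_neg_iff_add_eq_zero, ← add_assoc]
    exact hsum
  rw [e]
  apply Submodule.neg_mem
  apply Submodule.add_mem
  · have hne : (fun z : Z => χ₁ (z : Γ)) ≠ (fun z : Z => χ₀ (z : Γ)) := by
      intro h
      apply h01
      intro z hz
      exact congrFun h ⟨z, hz⟩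
    exact Submodule.mem_iSup_of_mem _ (Submodule.mem_iSup_of_mem hne hx₁)
  · have hne : (fun z : Z => χ₂ (z : Γ)) ≠ (fun z : Z => χ₀ (z : Γ)) := by
      intro h
      apply h02
      intro z hz
      exact congrFun h ⟨z, hz⟩
    exact Submodule.mem_iSup_of_mem _ (Submodule.mem_iSup_of_mem hne hx₂)

theorem sub_one_sq_apply (T : Module.End k V) (w : V) :
    (T - 1) ((T - 1) w) = w + (-2 : k) • T w + T (T w) := by
  simp only [LinearMap.sub_apply, Module.End.one_apply, map_sub]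
  rw [neg_smul, two_smul]
  abel

/-- an element of odd order acting quadratically fixes every character with nonzero weight space -/
theorem twf_eq_of_quadratic (hZ : (Nat.card Z : k) ≠ 0)
    (hcomm : ∀ a b : Z, Commute (ρ (a : Γ)) (ρ (b : Γ))) {g : Γ}
    (hg : g ∈ Subgroup.normalizer (Z : Set Γ)) {n : ℕ} (hn : Odd n) (hgn : g ^ n = 1)
    (hq : ∀ w : V, (ρ g - 1) ((ρ g - 1) w) = 0) {χ : Γ → k} {w : V} (hw : w ∈ wtf ρ Z χ)
    (hw0 : w ≠ 0) : EqOn Z (twf g χ) χ := by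
  by_contra h1
  apply hw0
  have h2 : ¬ EqOn Z (twf (g * g) χ) χ := fun h => h1 (eqOn_twf_of_sq hg hn hgn h)
  have hx₁ : (-2 : k) • ρ g w ∈ wtf ρ Z (twf g χ) :=
    Submodule.smul_mem _ _ (apply_mem_wtf_twf hg hw)
  have hx₂ : ρ g (ρ g w) ∈ wtf ρ Z (twf (g * g) χ) := by
    rw [twf_mul]
    exact apply_mem_wtf_twf hg (apply_mem_wtf_twf hg hw)
  have hsum : w + (-2 : k) • ρ g w + ρ g (ρ g w) = 0 := by
    rw [← sub_one_sq_apply]
    exact hq w
  exact eq_zero_of_add_add_eq_zero hZ hcomm h1 h2 hw hx₁ hx₂ hsum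

/-- `a` stabilizing all weight spaces acts trivially on the weight spaces moved by `b` -/
theorem apply_eq_self_of_moved (hZ : (Nat.card Z : k) ≠ 0)
    (hcomm : ∀ a b : Z, Commute (ρ (a : Γ)) (ρ (b : Γ))) {a b : Γ}
    (hb : b ∈ Subgroup.normalizer (Z : Set Γ)) {n : ℕ} (hn : Odd n) (hbn : b ^ n = 1)
    (hstab : ∀ (χ : Γ → k) (w : V), w ∈ wtf ρ Z χ → ρ a w ∈ wtf ρ Z χ)
    (hi : ∀ w : V, (ρ a - 1) ((ρ b - 1) ((ρ b - 1) w)) = 0) {χ : Γ → k}
    (hmoved : ¬ EqOn Z (twf b χ) χ) {w : V} (hw : w ∈ wtf ρ Z χ) : ρ a w = w := by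
  have h2 : ¬ EqOn Z (twf (b * b) χ) χ := fun h => hmoved (eqOn_twf_of_sq hb hn hbn h)
  have hsub : ∀ (χ' : Γ → k) (x : V), x ∈ wtf ρ Z χ' → (ρ a - 1) x ∈ wtf ρ Z χ' := by
    intro χ' x hx
    rw [LinearMap.sub_apply, Module.End.one_apply]
    exact Submodule.sub_mem _ (hstab χ' x hx) hx
  have hx₀ := hsub χ w hw
  have hx₁ : (ρ a - 1) ((-2 : k) • ρ b w) ∈ wtf ρ Z (twf b χ) :=
    hsub _ _ (Submodule.smul_mem _ _ (apply_mem_wtf_twf hb hw))
  have hx₂ : (ρ a - 1) (ρ b (ρ b w)) ∈ wtf ρ Z (twf (b * b) χ) := by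
    apply hsub
    rw [twf_mul]
    exact apply_mem_wtf_twf hb (apply_mem_wtf_twf hb hw)
  have hsum : (ρ a - 1) w + (ρ a - 1) ((-2 : k) • ρ b w) + (ρ a - 1) (ρ b (ρ b w)) = 0 := by
    rw [← map_add, ← map_add, ← sub_one_sq_apply]
    exact hi w
  have := eq_zero_of_add_add_eq_zero hZ hcomm hmoved h2 hx₀ hx₁ hx₂ hsum
  rw [LinearMap.sub_apply, Module.End.one_apply, sub_eq_zero] at this
  exact this

/-- two endomorphisms agreeing on all weight spaces are equal -/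
theorem eq_of_eqOn_wt [IsAlgClosed k] (hZ : (Nat.card Z : k) ≠ 0)
    (hcomm : ∀ a b : Z, Commute (ρ (a : Γ)) (ρ (b : Γ))) {f g : Module.End k V}
    (h : ∀ (χ : Z → k) (w : V), w ∈ wt ρ Z χ → f w = g w) : f = g := by
  apply LinearMap.ext
  intro v
  have hv : v ∈ (⨆ χ : Z → k, wt ρ Z χ) := by
    rw [iSup_wt_eq_top' ρ Z hZ hcomm]
    exact Submodule.mem_top
  have hle : (⨆ χ : Z → k, wt ρ Z χ) ≤ LinearMap.eqLocus f g := by
    apply iSup_le
    intro χ w hw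
    exact h χ w hw
  exact hle hv

end main

end Cfsg.Agent.Lib.H19.HH
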