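import Mathlib
import Cfsg.Agent.Lib.H1.CoprimeAbelian

/-!
# A `3`-group acting on a group with central quotient of order at most `4` (helper19)

If `B` is a `3`-group normalizing `K` and `K / Z(K)` has at most four elements, then `B` acts on
`K / Z(K)` through an abelian group, so `[B, B]` acts trivially on `K / Z(K)`.
-/

set_option autoImplicit false
set_option linter.unusedSectionVars false

namespace Cfsg.Agent.Lib.H19.HH

open Cfsg.Agent.Lib.H1
open scoped commutatorElement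

variable {G : Type*} [Group G] {K B : Subgroup G}

theorem center_le_comap_conj (hBK : B ≤ Subgroup.normalizer (K : Set G)) (b : B) :
    Subgroup.center ↥K ≤ (Subgroup.center ↥K).comap (conjHomOfNormalizer hBK b) := by
  intro z hz
  rw [Subgroup.mem_comap, Subgroup.mem_center_iff]
  intro y
  have hy' : (b : G)⁻¹ * y * (b : G) ∈ K := by
    have := (Subgroup.mem_normalizer_iff.1 (hBK (B.inv_mem b.2)) y).1 y.2
    simpa using this
  have h1 := Subgroup.mem_center_iff.1 hz ⟨_, hy'⟩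
  have h2 : ((b : G)⁻¹ * y * (b : G)) * z = z * ((b : G)⁻¹ * y * (b : G)) := congrArg Subtype.val h1
  apply Subtype.ext
  simp only [Subgroup.coe_mul, conjHomOfNormalizer_apply]
  calc (y : G) * ((b : G) * z * (b : G)⁻¹)
      = (b : G) * (((b : G)⁻¹ * y * (b : G)) * z) * (b : G)⁻¹ := by group
    _ = (b : G) * (z * ((b : G)⁻¹ * y * (b : G))) * (b : G)⁻¹ := by rw [h2]
    _ = (b : G) * z * (b : G)⁻¹ * y := by group

/-- the action of `b ∈ B` on `K / Z(K)` -/
def quotAct (hBK : B ≤ Subgroup.normalizer (K : Set G)) (b : B) :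
    (↥K ⧸ Subgroup.center ↥K) →* (↥K ⧸ Subgroup.center ↥K) :=
  QuotientGroup.map _ _ (conjHomOfNormalizer hBK b) (center_le_comap_conj hBK b)

theorem quotAct_mk (hBK : B ≤ Subgroup.normalizer (K : Set G)) (b : B) (w : K) :
    quotAct hBK b (QuotientGroup.mk w) = QuotientGroup.mk (conjHomOfNormalizer hBK b w) := rfl

theorem quotAct_mul (hBK : B ≤ Subgroup.normalizer (K : Set G)) (b b' : B)
    (x : ↥K ⧸ Subgroup.center ↥K) : quotAct hBK (b * b') x = quotAct hBK b (quotAct hBK b' x) := by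
  induction x using QuotientGroup.induction_on with
  | H w =>
    rw [quotAct_mk, quotAct_mk, quotAct_mk, conjHomOfNormalizer_mul]

theorem quotAct_one (hBK : B ≤ Subgroup.normalizer (K : Set G))
    (x : ↥K ⧸ Subgroup.center ↥K) : quotAct hBK 1 x = x := by
  induction x using QuotientGroup.induction_on with
  | H w =>
    rw [quotAct_mk]
    congr 1
    apply Subtype.ext
    simp [conjHomOfNormalizer_apply]

/-- the permutation representation of `B` on `K / Z(K)` -/
def quotPerm (hBK : B ≤ Subgroup.normalizer (K : Set G)) :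
    ↥B →* Equiv.Perm (↥K ⧸ Subgroup.center ↥K) where
  toFun b :=
    { toFun := quotAct hBK b
      invFun := quotAct hBK b⁻¹
      left_inv := fun x => by rw [← quotAct_mul, inv_mul_cancel, quotAct_one]
      right_inv := fun x => by rw [← quotAct_mul, mul_inv_cancel, quotAct_one] }
  map_one' := by
    ext x
    exact quotAct_one hBK x
  map_mul' b b' := by
    ext x
    exact quotAct_mul hBK b b' x

theorem quotPerm_apply (hBK : B ≤ Subgroup.normalizer (K : Set G)) (b : B) (w : K) :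
    quotPerm hBK b (QuotientGroup.mk w) = QuotientGroup.mk (conjHomOfNormalizer hBK b w) := rfl

variable [Finite G]

theorem commutative_of_three_group_perm {X : Type*} [Finite X] (hX : Nat.card X ≤ 4)
    (R : Subgroup (Equiv.Perm X)) (hR : IsPGroup 3 R) : ∀ a ∈ R, ∀ b ∈ R, a * b = b * a := by
  have hdvd : Nat.card R ∣ 24 := by
    have h1 : Nat.card R ∣ Nat.card (Equiv.Perm X) := Subgroup.card_subgroup_dvd_card R
    rw [Nat.card_perm] at h1
    have h2 : (Nat.card X).factorial ∣ Nat.factorial 4 := Nat.factorial_dvd_factorial hX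
    exact h1.trans h2
  have : Fact (Nat.Prime 3) := ⟨Nat.prime_three⟩
  obtain ⟨j, hj⟩ := IsPGroup.iff_card.1 hR
  have hj1 : j ≤ 1 := by
    by_contra hcon
    have h2 : 2 ≤ j := by omega
    have h9 : 3 ^ 2 ∣ 24 := by
      refine dvd_trans ?_ hdvd
      rw [hj]
      exact pow_dvd_pow 3 h2
    omega
  intro a ha b hb
  interval_cases j
  · rw [pow_zero] at hj
    have hbot : R = ⊥ := Subgroup.card_eq_one.1 hj
    rw [hbot, Subgroup.mem_bot] at ha hb
    rw [ha, hb]
  · rw [pow_one] at hj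
    have hc : IsCyclic R := isCyclic_of_prime_card hj
    have := (IsCyclic.isMulCommutative (α := R)).is_comm.comm ⟨a, ha⟩ ⟨b, hb⟩
    exact congrArg Subtype.val this

/-- `[B, B]` acts trivially on `K / Z(K)` when the latter has at most four elements -/
theorem commutator_acts_trivially (hBK : B ≤ Subgroup.normalizer (K : Set G))
    (hB : IsPGroup 3 B) {u v : G} (hu : u ∈ K) (hv : v ∈ K)
    (hcov : ∀ w ∈ K, ∃ i j : ℕ, i < 2 ∧ j < 2 ∧
      ∀ x ∈ K, (w * u ^ i * v ^ j) * x = x * (w * u ^ i * v ^ j)) :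
    ∀ c ∈ ⁅B, B⁆, ∀ w ∈ K, ∀ x ∈ K, (c * w * c⁻¹ * w⁻¹) * x = x * (c * w * c⁻¹ * w⁻¹) := by
  classical
  set X := ↥K ⧸ Subgroup.center ↥K with hX
  -- `X` has at most four elements
  let f : Fin 2 × Fin 2 → X := fun ij =>
    QuotientGroup.mk (⟨u, hu⟩ ^ (ij.1 : ℕ) * ⟨v, hv⟩ ^ (ij.2 : ℕ) : K)⁻¹
  have hf : Function.Surjective f := by
    intro x
    induction x using QuotientGroup.induction_on with
    | H w =>
      obtain ⟨i, j, hi, hj, hc⟩ := hcov w w.2
      refine ⟨(⟨i, hi⟩, ⟨j, hj⟩), ?_⟩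
      show QuotientGroup.mk _ = QuotientGroup.mk w
      rw [QuotientGroup.eq, inv_inv, Subgroup.mem_center_iff]
      intro y
      have hww := hc w w.2
      have e1 : u ^ i * v ^ j * (w : G) = (w : G) * u ^ i * v ^ j := by
        have : (w : G) * (u ^ i * v ^ j * (w : G)) = (w : G) * ((w : G) * u ^ i * v ^ j) := by
          calc (w : G) * (u ^ i * v ^ j * (w : G)) = (w : G) * u ^ i * v ^ j * (w : G) := by group
            _ = (w : G) * ((w : G) * u ^ i * v ^ j) := hww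
        exact mul_left_cancel this
      apply Subtype.ext
      simp only [Subgroup.coe_mul, Subgroup.coe_pow]
      rw [e1]
      exact (hc y y.2).symm
  have hXcard : Nat.card X ≤ 4 := by
    have h1 := Nat.card_le_card_of_surjective f hf
    have h2 : Nat.card (Fin 2 × Fin 2) = 4 := by
      rw [Nat.card_prod, Nat.card_fin]
    omega
  -- the image of `B` in `Perm X` is commutative
  set φ := quotPerm hBK with hφ
  have hR : IsPGroup 3 φ.range := hB.of_surjective φ.rangeRestrict φ.rangeRestrict_surjective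
  have hcomm := commutative_of_three_group_perm hXcard φ.range hR
  -- so commutators lie in the kernel
  have hker : ⁅B, B⁆ ≤ (φ.ker).map B.subtype := by
    rw [Subgroup.commutator_le]
    intro b₁ hb₁ b₂ hb₂
    refine ⟨⁅(⟨b₁, hb₁⟩ : B), ⟨b₂, hb₂⟩⁆, ?_, rfl⟩
    rw [SetLike.mem_coe, MonoidHom.mem_ker, map_commutatorElement, commutatorElement_eq_one_iff_mul_comm]
    exact hcomm _ ⟨_, rfl⟩ _ ⟨_, rfl⟩
  intro c hc w hw x hx
  obtain ⟨c', hc', rfl⟩ := hker hc
  have h1 : φ c' (QuotientGroup.mk ⟨w, hw⟩) = QuotientGroup.mk ⟨w, hw⟩ := by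
    rw [MonoidHom.mem_ker.1 hc']
    rfl
  rw [hφ, quotPerm_apply, QuotientGroup.eq, Subgroup.mem_center_iff] at h1
  -- `(c w c⁻¹)⁻¹ w` is central, hence so is `c w c⁻¹ w⁻¹`
  have hcw : (c' : G) * w * (c' : G)⁻¹ ∈ K :=
    (Subgroup.mem_normalizer_iff.1 (hBK c'.2) w).1 hw
  have h2 : ∀ y ∈ K, (((c' : G) * w * (c' : G)⁻¹)⁻¹ * w) * y = y * (((c' : G) * w * (c' : G)⁻¹)⁻¹ * w) := by
    intro y hy
    have := h1 ⟨y, hy⟩
    have h3 := congrArg Subtype.val this
    simp only [Subgroup.coe_mul, Subgroup.coe_inv, conjHomOfNormalizer_apply] at h3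
    exact h3.symm
  set t := (c' : G) * w * (c' : G)⁻¹ with ht
  have e : t * w⁻¹ = t * (t⁻¹ * w)⁻¹ * t⁻¹ := by group
  show (t * w⁻¹) * x = x * (t * w⁻¹)
  have h4 := h2 (t⁻¹ * x * t) (K.mul_mem (K.mul_mem (K.inv_mem hcw) hx) hcw)
  have h5 : (t⁻¹ * w)⁻¹ * (t⁻¹ * x * t) = (t⁻¹ * x * t) * (t⁻¹ * w)⁻¹ := by
    calc (t⁻¹ * w)⁻¹ * (t⁻¹ * x * t) = (t⁻¹ * w)⁻¹ * (t⁻¹ * x * t * (t⁻¹ * w)) * (t⁻¹ * w)⁻¹ := by group
      _ = (t⁻¹ * w)⁻¹ * (t⁻¹ * w * (t⁻¹ * x * t)) * (t⁻¹ * w)⁻¹ := by rw [h4]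
      _ = (t⁻¹ * x * t) * (t⁻¹ * w)⁻¹ := by group
  calc t * w⁻¹ * x = t * ((t⁻¹ * w)⁻¹ * (t⁻¹ * x * t)) * t⁻¹ := by group
    _ = t * ((t⁻¹ * x * t) * (t⁻¹ * w)⁻¹) * t⁻¹ := by rw [h5]
    _ = x * (t * w⁻¹) := by group

end Cfsg.Agent.Lib.H19.HH
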