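import Mathlib
import Cfsg.Prelude.Def_Local
import Cfsg.Agent.Lib.H1.PSolvDual
import Cfsg.Agent.Lib.H1.CoprimeSylow
import Cfsg.Agent.Lib.H22.PPrimeCore

/-!
# The group theoretic reduction for Hall–Higman Theorem B (helper19)

`exists_minimal_qsub` : in a `p`-solvable group with `O_p(G) = 1`, for an element `x` of order
`p^n` (`n ≥ 1`) and `y = x^(p^(n-1))` there is a prime `q ≠ p` and an `x`-invariant `q`-subgroup `Q`
with `Q = [Q, y]`, `y` acting nontrivially on `Q`, and `C_Q(y) ≤ Z(Q)`.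
-/

set_option autoImplicit false

namespace Cfsg.Agent.Lib.H19.HH

open Cfsg.Agent.Lib.H1

universe u

variable {G : Type u} [Group G]

/-- coprime action of an element of order `p` : if `y` centralizes all `[y, u]` then it
centralizes the `q`-group `Q`. -/
theorem commute_of_commute_commutators [Finite G] {p q : ℕ} (hp : p.Prime) (hq : q.Prime)
    (hpq : p ≠ q) {Q : Subgroup G} (hQ : IsPGroup q Q) {y : G} (hyp : y ^ p = 1)
    (hyQ : ∀ u ∈ Q, y * u * y⁻¹ ∈ Q)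
    (h : ∀ u ∈ Q, y * (y * u * y⁻¹ * u⁻¹) = (y * u * y⁻¹ * u⁻¹) * y) :
    ∀ u ∈ Q, y * u = u * y := by
  intro u hu
  set c := y * u * y⁻¹ * u⁻¹ with hc
  have hcQ : c ∈ Q := Q.mul_mem (hyQ u hu) (Q.inv_mem hu)
  have hyc : y * c = c * y := h u hu
  have hpow : ∀ j : ℕ, y ^ j * u * (y ^ j)⁻¹ = c ^ j * u := by
    intro j
    induction j with
    | zero => simp
    | succ j ih =>
      have e1 : y ^ (j + 1) * u * (y ^ (j + 1))⁻¹ = y * (y ^ j * u * (y ^ j)⁻¹) * y⁻¹ := by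
        rw [pow_succ']; group
      have hycj : y * c ^ j = c ^ j * y := (Commute.pow_right (show Commute y c from hyc) j).eq
      rw [e1, ih, ← mul_assoc, hycj, mul_assoc, mul_assoc]
      have e2 : y * (u * y⁻¹) = c * u := by rw [hc]; group
      rw [e2, ← mul_assoc, ← pow_succ]
  have h1 := hpow p
  rw [hyp, inv_one, mul_one, one_mul] at h1
  have hcp : c ^ p = 1 := by
    have : c ^ p * u = 1 * u := by rw [← h1, one_mul]
    exact mul_right_cancel this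
  obtain ⟨a, ha⟩ := hQ ⟨c, hcQ⟩
  have hca : c ^ (q ^ a) = 1 := congrArg Subtype.val ha
  have hcop : Nat.Coprime p (q ^ a) := Nat.Coprime.pow_right a ((Nat.coprime_primes hp hq).2 hpq)
  have hc1 : c = 1 := by
    have h2 : orderOf c ∣ p := orderOf_dvd_of_pow_eq_one hcp
    have h3 : orderOf c ∣ q ^ a := orderOf_dvd_of_pow_eq_one hca
    have h4 : orderOf c ∣ 1 := by
      rw [← Nat.Coprime.gcd_eq_one hcop]
      exact Nat.dvd_gcd h2 h3
    exact orderOf_eq_one_iff.1 (Nat.dvd_one.1 h4)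
  have : y * u * y⁻¹ * u⁻¹ = 1 := by rw [← hc, hc1]
  calc y * u = (y * u * y⁻¹ * u⁻¹) * u * y := by group
    _ = u * y := by rw [this, one_mul]

/-- the minimal situation -/
theorem minimal_props [Finite G] {p q : ℕ} (hp : p.Prime) (hq : q.Prime) (hpq : p ≠ q) {x y : G}
    (hxy : x * y = y * x) (hyp : y ^ p = 1) (hyx : y ∈ Subgroup.zpowers x)
    {Q : Subgroup G} (hQ : IsPGroup q Q) (hxQ : ∀ g ∈ Q, x * g * x⁻¹ ∈ Q)
    (hnc : ∃ u ∈ Q, y * u ≠ u * y)
    (hmin : ∀ Q' : Subgroup G, IsPGroup q Q' → (∀ g ∈ Q', x * g * x⁻¹ ∈ Q') →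
      (∃ u ∈ Q', y * u ≠ u * y) → Nat.card Q ≤ Nat.card Q') :
    Q ≤ Subgroup.closure {c | ∃ u ∈ Q, c = y * u * y⁻¹ * u⁻¹} ∧
      (∀ u ∈ Q, y * u = u * y → ∀ v ∈ Q, u * v = v * u) := by
  classical
  -- `y` normalizes `Q`
  have hyQ : ∀ u ∈ Q, y * u * y⁻¹ ∈ Q := by
    have hxj : ∀ j : ℕ, ∀ a ∈ Q, x ^ j * a * (x ^ j)⁻¹ ∈ Q := by
      intro j
      induction j with
      | zero => intro a ha; simpa using ha
      | succ j ih =>
        intro a ha
        have h1 := hxQ _ (ih a ha)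
        have e : x ^ (j + 1) * a * (x ^ (j + 1))⁻¹ = x * (x ^ j * a * (x ^ j)⁻¹) * x⁻¹ := by
          rw [pow_succ']
          group
        rw [e]
        exact h1
    have hfin : IsOfFinOrder x := isOfFinOrder_of_finite x
    obtain ⟨j, rfl⟩ := (Submonoid.mem_powers_iff _ _).1 (hfin.mem_powers_iff_mem_zpowers.2 hyx)
    exact hxj j
  set S : Set G := {c | ∃ u ∈ Q, c = y * u * y⁻¹ * u⁻¹} with hS
  set D := Subgroup.closure S with hD
  have hDQ : D ≤ Q := by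
    rw [hD, Subgroup.closure_le]
    rintro c ⟨u, hu, rfl⟩
    exact Q.mul_mem (hyQ u hu) (Q.inv_mem hu)
  have hDx : ∀ d ∈ D, x * d * x⁻¹ ∈ D := by
    intro d hd
    rw [hD] at hd
    induction hd using Subgroup.closure_induction with
    | mem c hc =>
      obtain ⟨u, hu, rfl⟩ := hc
      apply Subgroup.subset_closure
      refine ⟨x * u * x⁻¹, hxQ u hu, ?_⟩
      have hxy' : x * y⁻¹ = y⁻¹ * x := by
        calc x * y⁻¹ = y⁻¹ * (y * x) * y⁻¹ := by group
          _ = y⁻¹ * (x * y) * y⁻¹ := by rw [hxy]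
          _ = y⁻¹ * x := by group
      calc x * (y * u * y⁻¹ * u⁻¹) * x⁻¹ = (x * y) * u * (y⁻¹ * u⁻¹ * x⁻¹) := by group
        _ = (y * x) * u * (y⁻¹ * u⁻¹ * x⁻¹) := by rw [hxy]
        _ = y * (x * u) * y⁻¹ * (u⁻¹ * x⁻¹) := by group
        _ = y * (x * u) * (x⁻¹ * x) * y⁻¹ * (u⁻¹ * x⁻¹) := by group
        _ = y * (x * u * x⁻¹) * (x * y⁻¹) * (u⁻¹ * x⁻¹) := by group
        _ = y * (x * u * x⁻¹) * (y⁻¹ * x) * (u⁻¹ * x⁻¹) := by rw [hxy']
        _ = y * (x * u * x⁻¹) * y⁻¹ * (x * u * x⁻¹)⁻¹ := by group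
    | one => simp
    | mul a b _ _ ha hb =>
      have e : x * (a * b) * x⁻¹ = (x * a * x⁻¹) * (x * b * x⁻¹) := by group
      rw [e]
      exact Subgroup.mul_mem _ ha hb
    | inv a _ ha =>
      have e : x * a⁻¹ * x⁻¹ = (x * a * x⁻¹)⁻¹ := by group
      rw [e]
      exact Subgroup.inv_mem _ ha
  have hDq : IsPGroup q D := hQ.to_le hDQ
  have hDnc : ∃ u ∈ D, y * u ≠ u * y := by
    by_contra hall
    push Not at hall
    obtain ⟨u, hu, hne⟩ := hnc
    apply hne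
    apply commute_of_commute_commutators hp hq hpq hQ hyp hyQ _ u hu
    intro v hv
    exact hall _ (Subgroup.subset_closure ⟨v, hv, rfl⟩)
  have hDeq : D = Q := by
    apply Subgroup.eq_of_le_of_card_ge hDQ
    exact hmin D hDq hDx hDnc
  refine ⟨by rw [hDeq], ?_⟩
  -- proper invariant subgroups are centralized by `y`
  have hprop : ∀ Q₁ : Subgroup G, Q₁ ≤ Q → Q₁ ≠ Q → (∀ g ∈ Q₁, x * g * x⁻¹ ∈ Q₁) →
      ∀ u ∈ Q₁, y * u = u * y := by
    intro Q₁ hle hne hx₁ u hu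
    by_contra hyu
    have h1 := hmin Q₁ (hQ.to_le hle) hx₁ ⟨u, hu, hyu⟩
    exact hne (Subgroup.eq_of_le_of_card_ge hle h1)
  -- the commutator subgroup
  have hQne : Q ≠ ⊥ := by
    intro h
    obtain ⟨u, hu, hne⟩ := hnc
    rw [h, Subgroup.mem_bot] at hu
    rw [hu] at hne
    simp at hne
  have hQ'lt : ⁅Q, Q⁆ ≠ Q := by
    intro heq
    have : Fact q.Prime := ⟨hq⟩
    have hnil : Group.IsNilpotent ↥Q := hQ.isNilpotent
    have hsol : Group.IsSolvable ↥Q := inferInstance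
    have hnt : Nontrivial ↥Q := (Subgroup.nontrivial_iff_ne_bot Q).2 hQne
    have h1 := Group.IsSolvable.commutator_lt_top_of_nontrivial ↥Q
    apply h1.ne
    apply Subgroup.map_injective Q.subtype_injective
    rw [Subgroup.map_subtype_commutator, heq, ← MonoidHom.range_eq_map, Q.range_subtype]
  have hQ'le : ⁅Q, Q⁆ ≤ Q := Subgroup.commutator_le_self Q
  have hQ'x : ∀ g ∈ ⁅Q, Q⁆, x * g * x⁻¹ ∈ ⁅Q, Q⁆ := by
    intro g hg
    have h1 : (⁅Q, Q⁆).map (MulAut.conj x).toMonoidHom ≤ ⁅Q, Q⁆ := by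
      rw [Subgroup.map_commutator]
      apply Subgroup.commutator_mono
      · rintro _ ⟨a, ha, rfl⟩
        exact hxQ a ha
      · rintro _ ⟨a, ha, rfl⟩
        exact hxQ a ha
    exact h1 ⟨g, hg, rfl⟩
  have hQ'y : ∀ u ∈ ⁅Q, Q⁆, y * u = u * y := hprop _ hQ'le hQ'lt hQ'x
  -- three subgroups lemma
  set Y := Subgroup.zpowers y with hY
  set C := Q ⊓ Subgroup.centralizer (Y : Set G) with hC
  have h1 : ⁅⁅Q, C⁆, Y⁆ = ⊥ := by
    rw [Subgroup.commutator_eq_bot_iff_le_centralizer]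
    refine (Subgroup.commutator_mono le_rfl inf_le_left).trans ?_
    intro u hu
    rw [Subgroup.mem_centralizer_iff]
    intro z hz
    obtain ⟨j, rfl⟩ := Subgroup.mem_zpowers_iff.1 hz
    have : Commute y u := hQ'y u hu
    exact (this.zpow_left j).eq
  have h2 : ⁅⁅C, Y⁆, Q⁆ = ⊥ := by
    have : ⁅C, Y⁆ = ⊥ := by
      rw [Subgroup.commutator_eq_bot_iff_le_centralizer]
      exact inf_le_right
    rw [this, Subgroup.commutator_bot_left]
  have h3 : ⁅⁅Y, Q⁆, C⁆ = ⊥ := Subgroup.commutator_commutator_eq_bot_of_rotate h1 h2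
  have hQYQ : D ≤ ⁅Y, Q⁆ := by
    rw [hD, Subgroup.closure_le]
    rintro c ⟨u, hu, rfl⟩
    exact Subgroup.commutator_mem_commutator (Subgroup.mem_zpowers y) hu
  rw [hDeq] at hQYQ
  have h4 : ⁅Q, C⁆ = ⊥ := by
    rw [eq_bot_iff, ← h3]
    exact Subgroup.commutator_mono hQYQ le_rfl
  rw [Subgroup.commutator_eq_bot_iff_le_centralizer] at h4
  intro u hu hyu v hv
  have huC : u ∈ C := by
    rw [hC, Subgroup.mem_inf, Subgroup.mem_centralizer_iff]
    refine ⟨hu, ?_⟩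
    intro z hz
    obtain ⟨j, rfl⟩ := Subgroup.mem_zpowers_iff.1 hz
    have : Commute y u := hyu
    exact (this.zpow_left j).eq
  have := Subgroup.mem_centralizer_iff.1 (h4 hv) u huC
  exact this

/-- **The group theoretic reduction.** -/
theorem exists_minimal_qsub [Finite G] (p : ℕ) [hpf : Fact p.Prime]
    (hG : Cfsg.IsPSolvable p G) (hO : Cfsg.pCore p G = ⊥) (x : G) (n : ℕ) (hn : 1 ≤ n)
    (hx : orderOf x = p ^ n) :
    ∃ (q : ℕ) (Q : Subgroup G), q.Prime ∧ p ≠ q ∧ IsPGroup q Q ∧ (∀ g ∈ Q, x * g * x⁻¹ ∈ Q) ∧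
      Q ≤ Subgroup.closure
        {c | ∃ u ∈ Q, c = x ^ (p ^ (n - 1)) * u * (x ^ (p ^ (n - 1)))⁻¹ * u⁻¹} ∧
      (∃ u ∈ Q, x ^ (p ^ (n - 1)) * u ≠ u * x ^ (p ^ (n - 1))) ∧
      (∀ u ∈ Q, x ^ (p ^ (n - 1)) * u = u * x ^ (p ^ (n - 1)) → ∀ v ∈ Q, u * v = v * u) := by
  classical
  have hp : p.Prime := hpf.out
  set y := x ^ (p ^ (n - 1)) with hy
  have hyord : orderOf y = p := by
    rw [hy, orderOf_pow_of_dvd (pow_pos hp.pos _).ne'
      (by rw [hx]; exact pow_dvd_pow p (Nat.sub_le n 1)), hx, Nat.pow_div (Nat.sub_le n 1) hp.pos]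
    have : n - (n - 1) = 1 := by omega
    rw [this, pow_one]
  have hyp : y ^ p = 1 := by rw [← hyord, pow_orderOf_eq_one]
  have hy1 : y ≠ 1 := by
    intro h
    rw [h, orderOf_one] at hyord
    exact hp.one_lt.ne hyord
  have hyx : y ∈ Subgroup.zpowers x := Subgroup.pow_mem _ (Subgroup.mem_zpowers x) _
  have hxy : x * y = y * x := by
    rw [hy, ← pow_succ', ← pow_succ]
  -- the `p'`-core
  set K := Cfsg.pPrimeCore p G with hK
  have hKn : K.Normal := Cfsg.Agent.Lib.H22.pPrimeCore_normal p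
  have hKp : (Nat.card K).Coprime p := Cfsg.Agent.Lib.H22.card_pPrimeCore_coprime p
  have hCK : Subgroup.centralizer (K : Set G) ≤ K :=
    Cfsg.Agent.Lib.H1.PSolvDual.centralizer_pPrimeCore_le_of_isPSolvable p hG hO
  have hyK : y ∉ K := by
    intro hyK
    have h1 : orderOf y ∣ Nat.card K := Subgroup.orderOf_dvd_natCard K hyK
    rw [hyord] at h1
    exact (Nat.Prime.coprime_iff_not_dvd hp).1 hKp.symm h1
  have hyC : y ∉ Subgroup.centralizer (K : Set G) := fun h => hyK (hCK h)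
  -- the coprime action of `⟨x⟩` on `K`
  set A := Subgroup.zpowers x with hA
  have hAcard : Nat.card A = p ^ n := by rw [hA, Nat.card_zpowers, hx]
  have hAK : CoprimeAction A K :=
    { normalizes := by rw [Subgroup.normalizer_eq_top]; exact le_top
      coprime := by
        rw [hAcard]
        exact Nat.Coprime.pow_left n hKp.symm
      solvable := Or.inl inferInstance }
  -- a prime `q` and an invariant Sylow `q`-subgroup not centralized by `y`
  obtain ⟨q, hq, Q₀, hQ₀, hAQ₀, hQ₀nc⟩ : ∃ q : ℕ, q.Prime ∧ ∃ Q₀ : Subgroup G,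
      IsSylowOf q K Q₀ ∧ A ≤ Subgroup.normalizer (Q₀ : Set G) ∧ ∃ u ∈ Q₀, y * u ≠ u * y := by
    by_contra hcon
    push Not at hcon
    apply hyC
    set C := K ⊓ Subgroup.centralizer ({y} : Set G) with hC
    have hCle : C ≤ K := inf_le_left
    have hdvd : Nat.card K ∣ Nat.card C := by
      rw [← Nat.factorization_prime_le_iff_dvd Nat.card_pos.ne' Nat.card_pos.ne']
      intro q hq
      have : Fact q.Prime := ⟨hq⟩
      obtain ⟨Q₀, hQ₀, hAQ₀⟩ := coprime_exists_invariant_sylow hAK q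
      have hQ₀C : Q₀ ≤ C := by
        intro u hu
        rw [hC, Subgroup.mem_inf, Subgroup.mem_centralizer_iff]
        refine ⟨hQ₀.le hu, ?_⟩
        intro z hz
        rw [Set.mem_singleton_iff] at hz
        rw [hz]
        exact hcon q hq Q₀ hQ₀ hAQ₀ u hu
      have h1 : Nat.card Q₀ ∣ Nat.card C := Subgroup.card_dvd_of_le hQ₀C
      rw [hQ₀.card_eq] at h1
      exact (hq.pow_dvd_iff_le_factorization Nat.card_pos.ne').1 h1
    have hCK' : C = K := Subgroup.eq_of_le_of_card_ge hCle (Nat.le_of_dvd Nat.card_pos hdvd)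
    rw [Subgroup.mem_centralizer_iff]
    intro u hu
    have hu' : u ∈ K := hu
    rw [← hCK', hC, Subgroup.mem_inf, Subgroup.mem_centralizer_iff] at hu'
    exact (hu'.2 y rfl).symm
  have hQ₀q : IsPGroup q Q₀ := by
    have : Fact q.Prime := ⟨hq⟩
    exact hQ₀.isPGroup
  have hpq : p ≠ q := by
    intro h
    subst h
    -- `Q₀` is a `p`-subgroup of the `p'`-group `K`, hence trivial
    obtain ⟨u, hu, hne⟩ := hQ₀nc
    apply hne
    have h1 : Nat.card Q₀ ∣ Nat.card K := Subgroup.card_dvd_of_le hQ₀.le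
    obtain ⟨a, ha⟩ := IsPGroup.iff_card.1 hQ₀q
    have ha0 : a = 0 := by
      by_contra h0
      have : p ∣ Nat.card K := by
        refine dvd_trans ?_ h1
        rw [ha]
        exact dvd_pow_self p h0
      exact (Nat.Prime.coprime_iff_not_dvd hp).1 hKp.symm this
    rw [ha0, pow_zero] at ha
    have hbot : Q₀ = ⊥ := Subgroup.card_eq_one.1 ha
    rw [hbot, Subgroup.mem_bot] at hu
    rw [hu, mul_one, one_mul]
  have hxQ₀ : ∀ g ∈ Q₀, x * g * x⁻¹ ∈ Q₀ := by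
    intro g hg
    have := hAQ₀ (Subgroup.mem_zpowers x)
    exact (Subgroup.mem_normalizer_iff.1 this g).1 hg
  -- choose `Q` of minimal order
  let PQ : ℕ → Prop := fun c => ∃ Q : Subgroup G, IsPGroup q Q ∧ (∀ g ∈ Q, x * g * x⁻¹ ∈ Q) ∧
    (∃ u ∈ Q, y * u ≠ u * y) ∧ Nat.card Q = c
  have hex : ∃ c, PQ c := ⟨Nat.card Q₀, Q₀, hQ₀q, hxQ₀, hQ₀nc, rfl⟩
  obtain ⟨Q, hQq, hxQ, hQnc, hQcard⟩ := Nat.find_spec hex
  have hmin : ∀ Q' : Subgroup G, IsPGroup q Q' → (∀ g ∈ Q', x * g * x⁻¹ ∈ Q') →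
      (∃ u ∈ Q', y * u ≠ u * y) → Nat.card Q ≤ Nat.card Q' := by
    intro Q' h1 h2 h3
    rw [hQcard]
    exact Nat.find_min' hex ⟨Q', h1, h2, h3, rfl⟩
  obtain ⟨hG0, hG2⟩ := minimal_props hp hq hpq hxy hyp hyx hQq hxQ hQnc hmin
  exact ⟨q, Q, hq, hpq, hQq, hxQ, hG0, hQnc, hG2⟩

end Cfsg.Agent.Lib.H19.HH
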