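import Mathlib
import Cfsg.Agent.Lib.H1.CoprimeSylow
import Cfsg.Agent.Lib.H1.CoprimeAction
import Cfsg.Agent.Lib.H7.Coprime
import Cfsg.Agent.Lib.H19.HHGroup

/-!
# A minimal invariant `p'`-subgroup not centralized by a normal subgroup `A` of a `p`-group `B`
(helper19)

`MinConf B A K` : `K` is `B`-invariant, not centralized by `A`, and every proper `B`-invariant
subgroup of `K` is centralized by `A`.  For `B` a `p`-group, `A ⊴ B` and `K` a `p'`-group:
`K` is a `q`-group, `K = [K, A]`, `K' ≤ Z(K)`, and there is `a ∈ A` with `K = [K, a]`,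
`C_K(a) ≤ Z(K)`, `[a, B] ≤ C_A(K)`.
-/

set_option autoImplicit false
set_option linter.unusedSectionVars false

namespace Cfsg.Agent.Lib.H19.HH

open Cfsg.Agent.Lib.H1
open scoped commutatorElement

variable {G : Type*} [Group G]

/-- a minimal `B`-invariant subgroup not centralized by `A` -/
structure MinConf (B A K : Subgroup G) : Prop where
  hBK : B ≤ Subgroup.normalizer (K : Set G)
  hnc : ¬ K ≤ Subgroup.centralizer (A : Set G)
  hmin : ∀ L : Subgroup G, L ≤ K → B ≤ Subgroup.normalizer (L : Set G) →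
    ¬ L ≤ Subgroup.centralizer (A : Set G) → L = K

variable [Finite G]

theorem exists_minConf {B A K₀ : Subgroup G} (hBK₀ : B ≤ Subgroup.normalizer (K₀ : Set G))
    (hnc : ¬ K₀ ≤ Subgroup.centralizer (A : Set G)) : ∃ K : Subgroup G, K ≤ K₀ ∧ MinConf B A K := by
  classical
  set S : Set (Subgroup G) := {K | K ≤ K₀ ∧ B ≤ Subgroup.normalizer (K : Set G) ∧
    ¬ K ≤ Subgroup.centralizer (A : Set G)} with hS
  have hne : S.Nonempty := ⟨K₀, le_rfl, hBK₀, hnc⟩
  obtain ⟨K, hK, hKmin⟩ := Set.exists_min_image S (fun K => Nat.card K) (Set.toFinite S) hne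
  refine ⟨K, hK.1, hK.2.1, hK.2.2, ?_⟩
  intro L hLK hBL hLnc
  have hL : L ∈ S := ⟨hLK.trans hK.1, hBL, hLnc⟩
  exact Subgroup.eq_of_le_of_card_ge hLK (hKmin L hL)

variable {p : ℕ} [hp : Fact p.Prime] {B A K : Subgroup G}

theorem MinConf.ne_bot (h : MinConf B A K) : K ≠ ⊥ := by
  intro h0
  apply h.hnc
  rw [h0]
  exact bot_le

theorem MinConf.coprimeAction (h : MinConf B A K) (hB : IsPGroup p B)
    (hcop : (Nat.card K).Coprime p) : CoprimeAction B K where
  normalizes := h.hBK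
  coprime := by
    obtain ⟨n, hn⟩ := IsPGroup.iff_card.1 hB
    rw [hn]
    exact (Nat.Coprime.pow_right n hcop).symm
  solvable := Or.inl (by
    have : Group.IsNilpotent B := hB.isNilpotent
    infer_instance)

/-- `K` is a `q`-group -/
theorem MinConf.exists_isPGroup (h : MinConf B A K) (hB : IsPGroup p B)
    (hcop : (Nat.card K).Coprime p) : ∃ q : ℕ, q.Prime ∧ q ≠ p ∧ IsPGroup q K := by
  have hact := h.coprimeAction hB hcop
  have hex : ∃ q : ℕ, q.Prime ∧ IsPGroup q K := by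
    by_contra hcon
    push Not at hcon
    apply h.hnc
    set C := K ⊓ Subgroup.centralizer (A : Set G) with hC
    have hCle : C ≤ K := inf_le_left
    have hdvd : Nat.card K ∣ Nat.card C := by
      rw [← Nat.factorization_prime_le_iff_dvd Nat.card_pos.ne' Nat.card_pos.ne']
      intro q hq
      have : Fact q.Prime := ⟨hq⟩
      obtain ⟨Q₀, hQ₀, hBQ₀⟩ := coprime_exists_invariant_sylow hact q
      have hQ₀ne : Q₀ ≠ K := by
        intro he
        apply hcon q hq
        rw [← he]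
        exact hQ₀.isPGroup
      have hQ₀A : Q₀ ≤ Subgroup.centralizer (A : Set G) := by
        by_contra hnc
        exact hQ₀ne (h.hmin Q₀ hQ₀.le hBQ₀ hnc)
      have hQ₀C : Q₀ ≤ C := le_inf hQ₀.le hQ₀A
      have h1 : Nat.card Q₀ ∣ Nat.card C := Subgroup.card_dvd_of_le hQ₀C
      rw [hQ₀.card_eq] at h1
      exact (hq.pow_dvd_iff_le_factorization Nat.card_pos.ne').1 h1
    have hCK' : C = K := Subgroup.eq_of_le_of_card_ge hCle (Nat.le_of_dvd Nat.card_pos hdvd)
    rw [← hCK']
    exact inf_le_right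
  obtain ⟨q, hq, hKq⟩ := hex
  refine ⟨q, hq, ?_, hKq⟩
  intro hqp
  subst hqp
  apply h.ne_bot
  obtain ⟨n, hn⟩ := IsPGroup.iff_card.1 hKq
  have hn0 : n = 0 := by
    by_contra h0
    have : q ∣ Nat.card K := by
      rw [hn]
      exact dvd_pow_self q h0
    exact (Nat.Prime.coprime_iff_not_dvd hq).1 hcop.symm this
  rw [hn0, pow_zero] at hn
  exact Subgroup.card_eq_one.1 hn

theorem le_normalizer_commutator {B X Y : Subgroup G} (hX : B ≤ Subgroup.normalizer (X : Set G))
    (hY : B ≤ Subgroup.normalizer (Y : Set G)) :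
    B ≤ Subgroup.normalizer ((⁅X, Y⁆ : Subgroup G) : Set G) := by
  intro b hb
  rw [Subgroup.mem_normalizer_iff_map_conj_eq, Subgroup.map_commutator,
    Subgroup.mem_normalizer_iff_map_conj_eq.1 (hX hb),
    Subgroup.mem_normalizer_iff_map_conj_eq.1 (hY hb)]

/-- `K = [K, A]` -/
theorem MinConf.commutator_eq (h : MinConf B A K) (hB : IsPGroup p B) (hAB : A ≤ B)
    (hBA : B ≤ Subgroup.normalizer (A : Set G)) (hcop : (Nat.card K).Coprime p) :
    ⁅K, A⁆ = K := by
  have hAK : A ≤ Subgroup.normalizer (K : Set G) := hAB.trans h.hBK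
  have hle : ⁅K, A⁆ ≤ K := Subgroup.le_normalizer_iff_commutator_le_left.1 hAK
  by_contra hne
  have hBn : B ≤ Subgroup.normalizer ((⁅K, A⁆ : Subgroup G) : Set G) :=
    le_normalizer_commutator h.hBK hBA
  have h1 : ⁅K, A⁆ ≤ Subgroup.centralizer (A : Set G) := by
    by_contra hnc
    exact hne (h.hmin _ hle hBn hnc)
  have h2 : ⁅⁅K, A⁆, A⁆ = ⊥ := Subgroup.commutator_eq_bot_iff_le_centralizer.2 h1
  have hcopA : (Nat.card A).Coprime (Nat.card K) := by
    obtain ⟨n, hn⟩ := IsPGroup.iff_card.1 (hB.to_le hAB)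
    rw [hn]
    exact (Nat.Coprime.pow_right n hcop).symm
  have h3 := Cfsg.Agent.Lib.H7.commutator_eq_bot_of_commutator_commutator_eq_bot hcopA hAK h2
  exact h.hnc (Subgroup.commutator_eq_bot_iff_le_centralizer.1 h3)

/-- proper `B`-invariant normal subgroups of `K` are central -/
theorem MinConf.le_centralizer_of_normal (h : MinConf B A K) (hB : IsPGroup p B) (hAB : A ≤ B)
    (hBA : B ≤ Subgroup.normalizer (A : Set G)) (hcop : (Nat.card K).Coprime p)
    {L : Subgroup G} (hLK : L ≤ K) (hKL : K ≤ Subgroup.normalizer (L : Set G))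
    (hBL : B ≤ Subgroup.normalizer (L : Set G)) (hne : L ≠ K) :
    L ≤ Subgroup.centralizer (K : Set G) := by
  have hLA : L ≤ Subgroup.centralizer (A : Set G) := by
    by_contra hnc
    exact hne (h.hmin L hLK hBL hnc)
  have h1 : ⁅⁅K, L⁆, A⁆ = ⊥ := by
    rw [Subgroup.commutator_eq_bot_iff_le_centralizer, Subgroup.commutator_comm]
    exact (Subgroup.le_normalizer_iff_commutator_le_left.1 hKL).trans hLA
  have h2 : ⁅⁅L, A⁆, K⁆ = ⊥ := by
    rw [Subgroup.commutator_eq_bot_iff_le_centralizer.2 hLA]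
    exact Subgroup.commutator_bot_left K
  have h3 : ⁅⁅A, K⁆, L⁆ = ⊥ := Subgroup.commutator_commutator_eq_bot_of_rotate h1 h2
  rw [Subgroup.commutator_comm A K, h.commutator_eq hB hAB hBA hcop, Subgroup.commutator_comm] at h3
  exact Subgroup.commutator_eq_bot_iff_le_centralizer.1 h3

theorem MinConf.commutator_self_ne (h : MinConf B A K) (hB : IsPGroup p B)
    (hcop : (Nat.card K).Coprime p) : ⁅K, K⁆ ≠ K := by
  obtain ⟨q, hq, -, hKq⟩ := h.exists_isPGroup hB hcop
  have : Fact q.Prime := ⟨hq⟩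
  intro he
  have hnil : Group.IsNilpotent K := hKq.isNilpotent
  have hnt : Nontrivial K := (Subgroup.nontrivial_iff_ne_bot K).2 h.ne_bot
  have h1 : _root_.commutator K < ⊤ := Group.IsSolvable.commutator_lt_top_of_nontrivial K
  have h2 : (_root_.commutator K).map K.subtype = ⁅K, K⁆ := Subgroup.map_subtype_commutator K
  apply h1.ne
  apply Subgroup.map_injective K.subtype_injective
  rw [h2, he, ← MonoidHom.range_eq_map, Subgroup.range_subtype]

/-- `K' ≤ Z(K)` -/
theorem MinConf.commutator_self_le (h : MinConf B A K) (hB : IsPGroup p B) (hAB : A ≤ B)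
    (hBA : B ≤ Subgroup.normalizer (A : Set G)) (hcop : (Nat.card K).Coprime p) :
    ⁅K, K⁆ ≤ Subgroup.centralizer (K : Set G) :=
  h.le_centralizer_of_normal hB hAB hBA hcop (Subgroup.commutator_le_self K)
    (Subgroup.normalizer_commutator_ge_left K K) (le_normalizer_commutator h.hBK h.hBK)
    (h.commutator_self_ne hB hcop)

/-- `K' ≤ C(A)` -/
theorem MinConf.commutator_self_le_centralizer (h : MinConf B A K) (hB : IsPGroup p B)
    (hcop : (Nat.card K).Coprime p) : ⁅K, K⁆ ≤ Subgroup.centralizer (A : Set G) := by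
  by_contra hnc
  exact h.commutator_self_ne hB hcop
    (h.hmin _ (Subgroup.commutator_le_self K) (le_normalizer_commutator h.hBK h.hBK) hnc)

/-- iterated commutators with `B` -/
def itComm (A B : Subgroup G) : ℕ → Subgroup G
  | 0 => A
  | j + 1 => ⁅itComm A B j, B⁆

theorem itComm_le_lcs {A B : Subgroup G} (hAB : A ≤ B) (j : ℕ) :
    itComm A B j ≤ B.lowerCentralSeries j := by
  induction j with
  | zero => exact hAB
  | succ j ih =>
    rw [Subgroup.lowerCentralSeries_succ]
    exact Subgroup.commutator_mono ih le_rfl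

theorem itComm_le {A B : Subgroup G} (hBA : B ≤ Subgroup.normalizer (A : Set G)) (j : ℕ) :
    itComm A B j ≤ A := by
  induction j with
  | zero => exact le_rfl
  | succ j ih =>
    exact (Subgroup.commutator_mono ih le_rfl).trans
      (Subgroup.le_normalizer_iff_commutator_le_left.1 hBA)

/-- an element of `A` not centralizing `K` that is central modulo `C_A(K)` -/
theorem MinConf.exists_central (h : MinConf B A K) (hB : IsPGroup p B) (hAB : A ≤ B)
    (hBA : B ≤ Subgroup.normalizer (A : Set G)) :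
    ∃ a ∈ A, a ∉ Subgroup.centralizer (K : Set G) ∧
      ∀ b ∈ B, b * a * b⁻¹ * a⁻¹ ∈ A ⊓ Subgroup.centralizer (K : Set G) := by
  classical
  have hnil : Group.IsNilpotent B := hB.isNilpotent
  obtain ⟨n, hn⟩ := (Subgroup.isNilpotent_iff_lowerCentralSeries B).1 hnil
  have hex : ∃ j, itComm A B j ≤ Subgroup.centralizer (K : Set G) :=
    ⟨n, (itComm_le_lcs hAB n).trans (hn ▸ bot_le)⟩
  have h0 : Nat.find hex ≠ 0 := by
    intro h0
    have h1 := Nat.find_spec hex
    rw [h0] at h1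
    apply h.hnc
    intro u hu
    rw [Subgroup.mem_centralizer_iff]
    intro a ha
    have := Subgroup.mem_centralizer_iff.1 (h1 ha) u hu
    exact this.symm
  obtain ⟨j, hj⟩ := Nat.exists_eq_succ_of_ne_zero h0
  have h1 : ¬ itComm A B j ≤ Subgroup.centralizer (K : Set G) :=
    Nat.find_min hex (by rw [hj]; exact Nat.lt_succ_self j)
  obtain ⟨a, haj, hanc⟩ := SetLike.not_le_iff_exists.1 h1
  refine ⟨a, itComm_le hBA j haj, hanc, ?_⟩
  intro b hb
  have h2 : ⁅a, b⁆ ∈ itComm A B (j + 1) := Subgroup.commutator_mem_commutator haj hb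
  have h3 : b * a * b⁻¹ * a⁻¹ = ⁅a, b⁆⁻¹ := by
    rw [commutatorElement_inv]
    rfl
  rw [h3]
  apply Subgroup.inv_mem
  refine ⟨itComm_le hBA (j + 1) h2, ?_⟩
  have := Nat.find_spec hex
  rw [hj] at this
  exact this h2

/-- `K = [K, a]` for such an `a` -/
theorem MinConf.le_closure (h : MinConf B A K) {q : ℕ} (hq : q.Prime) (hpq : p ≠ q)
    (hKq : IsPGroup q K) (hAB : A ≤ B) {a : G} (ha : a ∈ A)
    (hanc : a ∉ Subgroup.centralizer (K : Set G)) (hap : a ^ p = 1)
    (hcen : ∀ b ∈ B, b * a * b⁻¹ * a⁻¹ ∈ A ⊓ Subgroup.centralizer (K : Set G)) :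
    K ≤ Subgroup.closure {c | ∃ u ∈ K, c = a * u * a⁻¹ * u⁻¹} := by
  set S : Set G := {c | ∃ u ∈ K, c = a * u * a⁻¹ * u⁻¹} with hS
  set E := Subgroup.closure S with hE
  have haK : ∀ u ∈ K, a * u * a⁻¹ ∈ K := fun u hu =>
    (Subgroup.mem_normalizer_iff.1 (h.hBK (hAB ha)) u).1 hu
  have hEK : E ≤ K := by
    rw [hE, Subgroup.closure_le]
    rintro c ⟨u, hu, rfl⟩
    exact K.mul_mem (haK u hu) (K.inv_mem hu)
  have hconj : ∀ b ∈ B, ∀ g ∈ E, b * g * b⁻¹ ∈ E := by
    intro b hb g hg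
    induction hg using Subgroup.closure_induction with
    | mem c hc =>
      obtain ⟨u, hu, rfl⟩ := hc
      apply Subgroup.subset_closure
      have hu' : b * u * b⁻¹ ∈ K := (Subgroup.mem_normalizer_iff.1 (h.hBK hb) u).1 hu
      refine ⟨b * u * b⁻¹, hu', ?_⟩
      set d := b * a * b⁻¹ * a⁻¹ with hd
      have hdK := (hcen b hb).2
      have hdc : d * (a * (b * u * b⁻¹) * a⁻¹) = (a * (b * u * b⁻¹) * a⁻¹) * d :=
        (Subgroup.mem_centralizer_iff.1 hdK _ (haK _ hu')).symm
      have e1 : b * (a * u * a⁻¹ * u⁻¹) * b⁻¹ =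
          d * (a * (b * u * b⁻¹) * a⁻¹) * d⁻¹ * (b * u * b⁻¹)⁻¹ := by
        rw [hd]; group
      rw [e1, hdc, mul_assoc _ d, mul_inv_cancel, mul_one]
    | one => simp
    | mul x y _ _ hx hy =>
      have : b * (x * y) * b⁻¹ = (b * x * b⁻¹) * (b * y * b⁻¹) := by group
      rw [this]
      exact E.mul_mem hx hy
    | inv x _ hx =>
      have : b * x⁻¹ * b⁻¹ = (b * x * b⁻¹)⁻¹ := by group
      rw [this]
      exact E.inv_mem hx
  have hBE : B ≤ Subgroup.normalizer (E : Set G) := by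
    intro b hb
    rw [Subgroup.mem_normalizer_iff]
    intro g
    constructor
    · exact hconj b hb g
    · intro hg
      have := hconj b⁻¹ (B.inv_mem hb) _ hg
      have e : b⁻¹ * (b * g * b⁻¹) * b⁻¹⁻¹ = g := by group
      rwa [e] at this
  by_contra hne
  have hEne : E ≠ K := fun he => hne (he ▸ le_rfl)
  have hEA : E ≤ Subgroup.centralizer (A : Set G) := by
    by_contra hnc
    exact hEne (h.hmin E hEK hBE hnc)
  apply hanc
  rw [Subgroup.mem_centralizer_iff]
  intro u hu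
  have := commute_of_commute_commutators hp.out hq hpq hKq hap haK (fun u hu => by
    have hc : a * u * a⁻¹ * u⁻¹ ∈ E := Subgroup.subset_closure ⟨u, hu, rfl⟩
    exact (Subgroup.mem_centralizer_iff.1 (hEA hc) a ha)) u hu
  exact this.symm

/-- `C_K(a) ≤ Z(K)` -/
theorem MinConf.centralizer_le_center (h : MinConf B A K) (hB : IsPGroup p B)
    (hcop : (Nat.card K).Coprime p) {a : G} (ha : a ∈ A)
    (hcl : K ≤ Subgroup.closure {c | ∃ u ∈ K, c = a * u * a⁻¹ * u⁻¹}) :
    ∀ u ∈ K, a * u = u * a → ∀ v ∈ K, u * v = v * u := by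
  set A' := Subgroup.zpowers a with hA'
  set C := K ⊓ Subgroup.centralizer (A' : Set G) with hC
  have hA'A : A' ≤ A := by
    rw [hA', Subgroup.zpowers_le]
    exact ha
  have h1 : ⁅⁅K, C⁆, A'⁆ = ⊥ := by
    rw [Subgroup.commutator_eq_bot_iff_le_centralizer]
    calc ⁅K, C⁆ ≤ ⁅K, K⁆ := Subgroup.commutator_mono le_rfl inf_le_left
      _ ≤ Subgroup.centralizer (A : Set G) := h.commutator_self_le_centralizer hB hcop
      _ ≤ Subgroup.centralizer (A' : Set G) := Subgroup.centralizer_le hA'A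
  have h2 : ⁅⁅C, A'⁆, K⁆ = ⊥ := by
    have : ⁅C, A'⁆ = ⊥ := Subgroup.commutator_eq_bot_iff_le_centralizer.2 inf_le_right
    rw [this]
    exact Subgroup.commutator_bot_left K
  have h3 : ⁅⁅A', K⁆, C⁆ = ⊥ := Subgroup.commutator_commutator_eq_bot_of_rotate h1 h2
  have h4 : K ≤ ⁅A', K⁆ := by
    refine hcl.trans ?_
    rw [Subgroup.closure_le]
    rintro c ⟨u, hu, rfl⟩
    exact Subgroup.commutator_mem_commutator (Subgroup.mem_zpowers a) hu
  have h5 : ⁅K, C⁆ = ⊥ := by
    rw [eq_bot_iff, ← h3]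
    exact Subgroup.commutator_mono h4 le_rfl
  intro u hu hau v hv
  have huC : u ∈ C := by
    refine ⟨hu, ?_⟩
    show u ∈ Subgroup.centralizer ((Subgroup.zpowers a : Subgroup G) : Set G)
    rw [Subgroup.mem_centralizer_iff]
    intro x hx
    obtain ⟨n, rfl⟩ := Subgroup.mem_zpowers_iff.1 hx
    have hc : Commute a u := hau
    exact ((hc.zpow_left n).eq)
  have h6 := Subgroup.commutator_eq_bot_iff_le_centralizer.1 h5
  exact (Subgroup.mem_centralizer_iff.1 (h6 hv) u huC)

end Cfsg.Agent.Lib.H19.HH
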