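import Mathlib
import Cfsg.Agent.Lib.H19.HHD1
import Cfsg.Agent.Lib.H19.HHD2
import Cfsg.Agent.Lib.H19.HHPoly

/-!
# Theorem Q: the set-up and the weight space step (helper19)

`QData p ρ U B A K` collects the hypotheses: `B` a `p`-group, `A ⊴ B`, `A ≤ B'` (in a
transport-friendly form), `K` a `B`-invariant `p'`-group, `U` a `K`- and `B`-invariant subspace on
which `(a-1)(a'-1) = 0` and `(a-1)(b-1)^2 = 0`.  `QConcl` says that `K` and `A` commute on `U`.
-/

set_option autoImplicit false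
set_option linter.unusedSectionVars false

namespace Cfsg.Agent.Lib.H19.HH

open Module Cfsg.Agent.Lib.H19.ModRep

universe u v

variable {k : Type v} [Field k]

/-- the hypotheses of Theorem Q -/
structure QData {Γ : Type u} [Group Γ] {V : Type u} [AddCommGroup V] [Module k V] (p : ℕ)
    (ρ : Representation k Γ V) (U : Submodule k V) (B A K : Subgroup Γ) : Prop where
  hB : IsPGroup p B
  hAB : A ≤ B
  hBA : B ≤ Subgroup.normalizer (A : Set Γ)
  hder : ∀ T : Subgroup Γ, (∀ b₁ ∈ B, ∀ b₂ ∈ B, b₁ * b₂ * b₁⁻¹ * b₂⁻¹ ∈ T) → A ≤ T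
  hK : (Nat.card K).Coprime p
  hBK : B ≤ Subgroup.normalizer (K : Set Γ)
  hUK : ∀ g ∈ K, ∀ w ∈ U, ρ g w ∈ U
  hUB : ∀ g ∈ B, ∀ w ∈ U, ρ g w ∈ U
  hii : ∀ a ∈ A, ∀ a' ∈ A, ∀ w ∈ U, (ρ a - 1) ((ρ a' - 1) w) = 0
  hi : ∀ a ∈ A, ∀ b ∈ B, ∀ w ∈ U, (ρ a - 1) ((ρ b - 1) ((ρ b - 1) w)) = 0

/-- the conclusion of Theorem Q -/
def QConcl {Γ : Type u} [Group Γ] {V : Type u} [AddCommGroup V] [Module k V]
    (ρ : Representation k Γ V) (U : Submodule k V) (A K : Subgroup Γ) : Prop :=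
  ∀ g ∈ K, ∀ a ∈ A, ∀ w ∈ U, ρ g (ρ a w) = ρ a (ρ g w)

/-- Theorem Q in dimension `d` -/
def QGeneral (k : Type v) [Field k] (p d : ℕ) : Prop :=
  ∀ (Γ : Type u) [Group Γ] [Finite Γ] (V : Type u) [AddCommGroup V] [Module k V]
    [FiniteDimensional k V] (ρ : Representation k Γ V) (U : Submodule k V) (B A K : Subgroup Γ),
    finrank k U = d → QData p ρ U B A K → QConcl ρ U A K

variable {Γ : Type u} [Group Γ] {V : Type u} [AddCommGroup V] [Module k V]

/-- a quadratic element of a faithful representation in characteristic `p` has `a ^ p = 1` -/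
theorem pow_eq_one_of_quadratic {p : ℕ} [Fact p.Prime] [CharP k p] {ρ : Representation k Γ V}
    (hfaith : Function.Injective ρ) {a : Γ} (hq : ∀ w : V, (ρ a - 1) ((ρ a - 1) w) = 0) :
    a ^ p = 1 := by
  apply hfaith
  rw [map_pow, map_one]
  have h1 := sub_one_pow_char_pow (k := k) p 1 (ρ a)
  rw [pow_one] at h1
  have h2 : (ρ a - 1) ^ p = 0 := by
    have hp2 : 2 ≤ p := (Fact.out : p.Prime).two_le
    obtain ⟨m, rfl⟩ := Nat.exists_eq_add_of_le hp2
    rw [pow_add, sq]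
    have : (ρ a - 1) * (ρ a - 1) = 0 := by
      apply LinearMap.ext
      intro w
      rw [Module.End.mul_apply]
      exact hq w
    rw [this, zero_mul]
  rw [h2] at h1
  exact (sub_eq_zero.1 h1.symm)

variable [Finite Γ] [FiniteDimensional k V]

/-- a quadratic element of odd order stabilizes all weight spaces -/
theorem apply_mem_wtf_of_quadratic {ρ : Representation k Γ V} {Z : Subgroup Γ}
    (hZ : (Nat.card Z : k) ≠ 0) (hcomm : ∀ a b : Z, Commute (ρ (a : Γ)) (ρ (b : Γ))) {g : Γ}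
    (hg : g ∈ Subgroup.normalizer (Z : Set Γ)) {n : ℕ} (hn : Odd n) (hgn : g ^ n = 1)
    (hq : ∀ w : V, (ρ g - 1) ((ρ g - 1) w) = 0) (χ : Γ → k) (w : V) (hw : w ∈ wtf ρ Z χ) :
    ρ g w ∈ wtf ρ Z χ := by
  by_cases hw0 : w = 0
  · rw [hw0, map_zero]
    exact Submodule.zero_mem _
  · have h1 := twf_eq_of_quadratic hZ hcomm hg hn hgn hq hw hw0
    have h2 := apply_mem_wtf_twf hg hw
    rwa [wtf_congr ρ h1] at h2

/-- **The weight space step.** -/
theorem scalar_or_centralizes [IsAlgClosed k] {p : ℕ} [Fact p.Prime] [CharP k p] (hp2 : p ≠ 2)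
    {d : ℕ} (IH : ∀ d' < d, QGeneral.{u, v} k p d') {ρ : Representation k Γ V}
    (hfaith : Function.Injective ρ) (hd : finrank k V = d) {B A K : Subgroup Γ}
    (hdata : QData p ρ ⊤ B A K) :
    (∃ χ : (K ⊓ Subgroup.centralizer (K : Set Γ) : Subgroup Γ) → k,
      wt ρ (K ⊓ Subgroup.centralizer (K : Set Γ)) χ = ⊤) ∨
      K ≤ Subgroup.centralizer (A : Set Γ) := by
  classical
  have hp : p.Prime := Fact.out
  set Z : Subgroup Γ := K ⊓ Subgroup.centralizer (K : Set Γ) with hZdef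
  by_cases hex : ∃ χ : Z → k, wt ρ Z χ = ⊤
  · exact Or.inl hex
  right
  push Not at hex
  -- basic facts
  have hquad : ∀ a ∈ A, ∀ w : V, (ρ a - 1) ((ρ a - 1) w) = 0 := fun a ha w =>
    hdata.hii a ha a ha w Submodule.mem_top
  have hAp : ∀ a ∈ A, a ^ p = 1 := fun a ha => pow_eq_one_of_quadratic hfaith (hquad a ha)
  have hpodd : Odd p := hp.odd_of_ne_two hp2
  have hBodd : ∀ b ∈ B, ∃ n : ℕ, Odd n ∧ b ^ n = 1 := by
    intro b hb
    obtain ⟨j, hj⟩ := hdata.hB ⟨b, hb⟩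
    refine ⟨p ^ j, hpodd.pow, ?_⟩
    have := congrArg Subtype.val hj
    simpa using this
  have hZK : Z ≤ K := inf_le_left
  have hZcommG : ∀ x ∈ Z, ∀ y ∈ Z, x * y = y * x := by
    intro x hx y hy
    exact (Subgroup.mem_centralizer_iff.1 hx.2 y (hZK hy)).symm
  have hZcomm : ∀ a b : Z, Commute (ρ (a : Γ)) (ρ (b : Γ)) := by
    intro a b
    show ρ a * ρ b = ρ b * ρ a
    rw [← map_mul, ← map_mul, hZcommG a a.2 b b.2]
  have hZk : (Nat.card Z : k) ≠ 0 := by
    intro h0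
    have h1 := (CharP.cast_eq_zero_iff k p _).1 h0
    have h2 : p ∣ Nat.card K := h1.trans (Subgroup.card_dvd_of_le hZK)
    exact (Nat.Prime.coprime_iff_not_dvd hp).1 hdata.hK.symm h2
  have hNZ : Subgroup.normalizer (K : Set Γ) ≤ Subgroup.normalizer (Z : Set Γ) := by
    intro g hg
    have hg' : g⁻¹ ∈ Subgroup.normalizer (K : Set Γ) := Subgroup.inv_mem _ hg
    have key : ∀ g : Γ, g ∈ Subgroup.normalizer (K : Set Γ) → g⁻¹ ∈ Subgroup.normalizer (K : Set Γ) →
        ∀ z ∈ Z, g * z * g⁻¹ ∈ Z := by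
      intro g hg hg' z hz
      refine ⟨(Subgroup.mem_normalizer_iff.1 hg z).1 hz.1, ?_⟩
      show g * z * g⁻¹ ∈ Subgroup.centralizer (K : Set Γ)
      rw [Subgroup.mem_centralizer_iff]
      intro y hy
      have hy' : g⁻¹ * y * g ∈ K := by
        have := (Subgroup.mem_normalizer_iff.1 hg' y).1 hy
        simpa using this
      have h1 := Subgroup.mem_centralizer_iff.1 hz.2 _ hy'
      calc y * (g * z * g⁻¹) = g * ((g⁻¹ * y * g) * z) * g⁻¹ := by group
        _ = g * (z * (g⁻¹ * y * g)) * g⁻¹ := by rw [h1]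
        _ = g * z * g⁻¹ * y := by group
    rw [Subgroup.mem_normalizer_iff]
    intro z
    constructor
    · exact key g hg hg' z
    · intro hz
      have := key g⁻¹ hg' (by simpa using hg) _ hz
      have e : g⁻¹ * (g * z * g⁻¹) * g⁻¹⁻¹ = z := by group
      rwa [e] at this
  have hBZ : B ≤ Subgroup.normalizer (Z : Set Γ) := hdata.hBK.trans hNZ
  have hKZ : K ≤ Subgroup.normalizer (Z : Set Γ) := Subgroup.le_normalizer.trans hNZ
  -- `A` stabilizes the weight spaces
  have hstab : ∀ a ∈ A, ∀ (χ : Γ → k) (w : V), w ∈ wtf ρ Z χ → ρ a w ∈ wtf ρ Z χ := by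
    intro a ha χ w hw
    exact apply_mem_wtf_of_quadratic hZk hZcomm (hBZ (hdata.hAB ha)) hpodd (hAp a ha)
      (hquad a ha) χ w hw
  -- `K` stabilizes the weight spaces
  have hKstab : ∀ g ∈ K, ∀ (χ : Γ → k) (w : V), w ∈ wtf ρ Z χ → ρ g w ∈ wtf ρ Z χ := by
    intro g hg χ w hw
    have h2 := apply_mem_wtf_twf (hKZ hg) hw
    have h1 : EqOn Z (twf g χ) χ := by
      intro z hz
      unfold twf
      congr 1
      have := Subgroup.mem_centralizer_iff.1 hz.2 g hg
      calc g⁻¹ * z * g = g⁻¹ * (z * g) := by group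
        _ = g⁻¹ * (g * z) := by rw [this]
        _ = z := by group
    rwa [wtf_congr ρ h1] at h2
  -- the main argument
  intro g hg
  rw [Subgroup.mem_centralizer_iff]
  intro a ha
  apply hfaith
  rw [map_mul, map_mul]
  apply eq_of_eqOn_wt hZk hZcomm
  intro χ w hw
  rw [← wtf_extf] at hw
  set χ' := extf Z χ with hχ'
  rw [Module.End.mul_apply, Module.End.mul_apply]
  by_cases hfix : ∀ b ∈ B, EqOn Z (twf b χ') χ'
  · -- the `B`-fixed case : induction
    have hUB : ∀ b ∈ B, ∀ x ∈ wtf ρ Z χ', ρ b x ∈ wtf ρ Z χ' := by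
      intro b hb x hx
      have h2 := apply_mem_wtf_twf (hBZ hb) hx
      rwa [wtf_congr ρ (hfix b hb)] at h2
    have hne : wtf ρ Z χ' ≠ ⊤ := by
      rw [hχ', wtf_extf]
      exact hex χ
    have hlt : finrank k (wtf ρ Z χ') < d := by
      rw [← hd]
      exact Submodule.finrank_lt hne
    have hdata' : QData p ρ (wtf ρ Z χ') B A K :=
      { hB := hdata.hB
        hAB := hdata.hAB
        hBA := hdata.hBA
        hder := hdata.hder
        hK := hdata.hK
        hBK := hdata.hBK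
        hUK := fun g hg x hx => hKstab g hg χ' x hx
        hUB := hUB
        hii := fun a ha a' ha' x _ => hdata.hii a ha a' ha' x Submodule.mem_top
        hi := fun a ha b hb x _ => hdata.hi a ha b hb x Submodule.mem_top }
    have := IH _ hlt Γ V ρ (wtf ρ Z χ') B A K rfl hdata'
    exact (this g hg a ha w hw).symm
  · -- the moved case
    push Not at hfix
    obtain ⟨b, hb, hmv⟩ := hfix
    obtain ⟨n, hn, hbn⟩ := hBodd b hb
    have hia : ∀ x : V, (ρ a - 1) ((ρ b - 1) ((ρ b - 1) x)) = 0 := fun x =>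
      hdata.hi a ha b hb x Submodule.mem_top
    have h1 : ρ a w = w :=
      apply_eq_self_of_moved hZk hZcomm (hBZ hb) hn hbn (hstab a ha) hia hmv hw
    have h2 : ρ a (ρ g w) = ρ g w :=
      apply_eq_self_of_moved hZk hZcomm (hBZ hb) hn hbn (hstab a ha) hia hmv
        (hKstab g hg χ' w hw)
    rw [h1, h2]

end Cfsg.Agent.Lib.H19.HH
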