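import Mathlib
import Cfsg.Agent.Lib.H19.ModRepSchur

/-!
# Irreducible representations of `q`-groups have `q`-power degree (helper19)

`finrank_eq_prime_pow` : if `ρ` is irreducible on the `q`-subgroup `Q` over an algebraically closed
field then `dim V = q ^ b`.
-/

set_option autoImplicit false

namespace Cfsg.Agent.Lib.H19.HH

open Module Cfsg.Agent.Lib.H19.ModRep

universe u v

section basic

variable {k : Type*} [Field k] {Γ : Type*} [Group Γ] {V : Type*} [AddCommGroup V] [Module k V]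

/-- the subgroup of the elements acting as scalars -/
def scalarSubgroup (ρ : Representation k Γ V) : Subgroup Γ where
  carrier := {g | ∃ c : k, ρ g = c • (1 : Module.End k V)}
  one_mem' := ⟨1, by simp⟩
  mul_mem' := by
    rintro a b ⟨c, hc⟩ ⟨d, hd⟩
    refine ⟨c * d, ?_⟩
    rw [map_mul, hc, hd, smul_mul_assoc, one_mul, smul_smul]
  inv_mem' := by
    rintro a ⟨c, hc⟩
    refine ⟨c⁻¹, ?_⟩
    by_cases h0 : c = 0
    · have h1 : (1 : Module.End k V) = 0 := by
        rw [← map_one ρ, ← mul_inv_cancel a, map_mul, hc, h0, zero_smul, zero_mul]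
      have h2 : ∀ f : Module.End k V, f = 0 := fun f => by rw [← mul_one f, h1, mul_zero]
      rw [h2 (ρ a⁻¹), h2 (c⁻¹ • (1 : Module.End k V))]
    · have h1 : ρ a⁻¹ * ρ a = 1 := by rw [← map_mul, inv_mul_cancel, map_one]
      rw [hc, mul_smul_comm, mul_one] at h1
      rw [← h1, smul_smul, inv_mul_cancel₀ h0, one_smul]

theorem mem_scalarSubgroup {ρ : Representation k Γ V} {g : Γ} :
    g ∈ scalarSubgroup ρ ↔ ∃ c : k, ρ g = c • (1 : Module.End k V) := Iff.rfl

instance scalarSubgroup_normal (ρ : Representation k Γ V) : (scalarSubgroup ρ).Normal := by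
  constructor
  intro n hn g
  obtain ⟨c, hc⟩ := hn
  refine ⟨c, ?_⟩
  rw [map_mul, map_mul, hc, mul_smul_comm, mul_one, smul_mul_assoc, ← map_mul, mul_inv_cancel,
    map_one]

/-- If all elements of `N` act as scalars and `N` acts irreducibly then `dim V = 1`. -/
theorem finrank_eq_one_of_scalar {ρ : Representation k Γ V} {N : Subgroup Γ} (hirr : IrrOn ρ N)
    (h : ∀ g ∈ N, ∃ c : k, ρ g = c • (1 : Module.End k V)) : finrank k V = 1 := by
  have hnt := hirr.1
  obtain ⟨v, hv⟩ := exists_ne (0 : V)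
  have hinv : InvOn ρ N (Submodule.span k {v}) := by
    intro g hg u hu
    obtain ⟨c, hc⟩ := h g hg
    rw [hc, LinearMap.smul_apply, Module.End.one_apply]
    exact Submodule.smul_mem _ _ hu
  rcases hirr.2 _ hinv with h1 | h1
  · exfalso
    apply hv
    have : v ∈ Submodule.span k {v} := Submodule.mem_span_singleton_self v
    rw [h1, Submodule.mem_bot] at this
    exact this
  · rw [← finrank_top k V, ← h1]
    exact finrank_span_singleton hv

theorem finrank_eq_sum_of_internal {ι : Type*} [Fintype ι] [DecidableEq ι]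
    [FiniteDimensional k V] {A : ι → Submodule k V}
    (hA : DirectSum.IsInternal A) : finrank k V = ∑ j, finrank k (A j) := by
  rw [← Module.finrank_directSum]
  exact (LinearEquiv.ofBijective (DirectSum.coeLinearMap A) hA).symm.finrank_eq

/-- The Clifford step: a non-scalar element `a₀` which is central modulo scalars produces a
proper subgroup `H` and an `H`-irreducible subspace `W` with `dim V = q^c dim W`, `c ≥ 1`. -/
theorem clifford_step [IsAlgClosed k] [FiniteDimensional k V] [Finite Γ] (q : ℕ) [Fact q.Prime]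
    (hΓ : IsPGroup q Γ) (ρ : Representation k Γ V) (hirr : IrrOn ρ ⊤) (a₀ : Γ)
    (ha₀ : a₀ ∉ scalarSubgroup ρ)
    (hcomm : ∀ g : Γ, g⁻¹ * a₀ * g * a₀⁻¹ ∈ scalarSubgroup ρ) :
    ∃ (H : Subgroup Γ) (W : Submodule k V) (c : ℕ), 1 ≤ c ∧
      finrank k V = q ^ c * finrank k W ∧ InvOn ρ H W ∧ W ≠ ⊥ ∧
      ∀ U : Submodule k V, U ≤ W → InvOn ρ H U → U = ⊥ ∨ U = W := by
  classical
  have hnt := hirr.1
  set T₀ := ρ a₀ with hT₀
  set T₀i := ρ a₀⁻¹ with hT₀i
  have hTT : T₀ * T₀i = 1 := by rw [hT₀, hT₀i, ← map_mul, mul_inv_cancel, map_one]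
  have hTT' : T₀i * T₀ = 1 := by rw [hT₀, hT₀i, ← map_mul, inv_mul_cancel, map_one]
  have hgg : ∀ g : Γ, ρ g * ρ g⁻¹ = 1 := fun g => by rw [← map_mul, mul_inv_cancel, map_one]
  have hgg' : ∀ g : Γ, ρ g⁻¹ * ρ g = 1 := fun g => by rw [← map_mul, inv_mul_cancel, map_one]
  have hex : ∀ g : Γ, ∃ c : k, T₀ * ρ g = c • (ρ g * T₀) := by
    intro g
    obtain ⟨c, hc⟩ := hcomm g
    refine ⟨c, ?_⟩
    rw [map_mul, map_mul, map_mul] at hc
    calc T₀ * ρ g = ρ g * (ρ g⁻¹ * T₀ * ρ g * T₀i) * T₀ := by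
          simp only [mul_assoc]
          rw [hTT', mul_one, ← mul_assoc (ρ g), hgg, one_mul]
      _ = c • (ρ g * T₀) := by
          rw [← hT₀, ← hT₀i] at hc
          rw [hc, mul_smul_comm, mul_one, smul_mul_assoc]
  have hne : ∀ g : Γ, ρ g * T₀ ≠ 0 := by
    intro g h0
    have : (ρ g * T₀) * (T₀i * ρ g⁻¹) = 1 := by
      rw [mul_assoc, ← mul_assoc T₀, hTT, one_mul, hgg]
    rw [h0, zero_mul] at this
    exact zero_ne_one this
  have huniq : ∀ (g : Γ) (c d : k), T₀ * ρ g = c • (ρ g * T₀) → T₀ * ρ g = d • (ρ g * T₀) →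
      c = d := by
    intro g c d hc hd
    have : (c - d) • (ρ g * T₀) = 0 := by rw [sub_smul, ← hc, ← hd, sub_self]
    rcases smul_eq_zero.1 this with h | h
    · exact sub_eq_zero.1 h
    · exact absurd h (hne g)
  let θ₀ : Γ → k := fun g => Classical.choose (hex g)
  have hθ₀ : ∀ g, T₀ * ρ g = θ₀ g • (ρ g * T₀) := fun g => Classical.choose_spec (hex g)
  let θm : Γ →* k :=
    { toFun := θ₀
      map_one' := by
        apply huniq 1 _ _ (hθ₀ 1)
        rw [map_one, one_smul, mul_one, one_mul]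
      map_mul' := by
        intro g h
        apply huniq (g * h) _ _ (hθ₀ (g * h))
        rw [map_mul, ← mul_assoc, hθ₀ g, smul_mul_assoc, mul_assoc, hθ₀ h, mul_smul_comm,
          smul_smul, mul_assoc] }
  let θ : Γ →* kˣ := θm.toHomUnits
  have hθ : ∀ g, T₀ * ρ g = ((θ g : kˣ) : k) • (ρ g * T₀) := fun g => hθ₀ g
  obtain ⟨μ₀, hμ₀⟩ := Module.End.exists_eigenvalue T₀
  have hμ₀0 : μ₀ ≠ 0 := by
    intro h0
    obtain ⟨v, hv⟩ := hμ₀.exists_hasEigenvector
    have h1 : T₀ v = 0 := by rw [hv.apply_eq_smul, h0, zero_smul]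
    apply hv.2
    have : v = T₀i (T₀ v) := by rw [← Module.End.mul_apply, hTT', Module.End.one_apply]
    rw [this, h1, map_zero]
  let E : kˣ → Submodule k V := fun ω => End.eigenspace T₀ ((ω : k) * μ₀)
  have hmap : ∀ (g : Γ) (ω : kˣ), ∀ v ∈ E ω, ρ g v ∈ E (θ g * ω) := by
    intro g ω v hv
    have hv' : T₀ v = ((ω : k) * μ₀) • v := End.mem_eigenspace_iff.1 hv
    show ρ g v ∈ End.eigenspace T₀ (((θ g * ω : kˣ) : k) * μ₀)
    rw [End.mem_eigenspace_iff]
    have := congrArg (fun f : Module.End k V => f v) (hθ g)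
    simp only [Module.End.mul_apply, LinearMap.smul_apply] at this
    rw [this, hv', map_smul, smul_smul, Units.val_mul, mul_assoc]
  have hmap' : ∀ (g : Γ) (ω : kˣ), (E ω).map (ρ g) ≤ E (θ g * ω) := by
    rintro g ω _ ⟨v, hv, rfl⟩
    exact hmap g ω v hv
  have hrank_le : ∀ (g : Γ) (ω : kˣ), finrank k (E (θ g * ω)) ≤ finrank k (E ω) := by
    intro g ω
    have h1 : E (θ g * ω) ≤ (E ω).map (ρ g) := by
      intro v hv
      refine ⟨ρ g⁻¹ v, ?_, ?_⟩
      · have := hmap g⁻¹ _ v hv
        rwa [← mul_assoc, ← map_mul, inv_mul_cancel, map_one, one_mul] at this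
      · rw [← Module.End.mul_apply, hgg, Module.End.one_apply]
    exact (Submodule.finrank_mono h1).trans (Submodule.finrank_map_le _ _)
  have hrank : ∀ (g : Γ), finrank k (E (θ g)) = finrank k (E 1) := by
    intro g
    apply le_antisymm
    · have := hrank_le g 1
      rwa [mul_one] at this
    · have := hrank_le g⁻¹ (θ g)
      rwa [← map_mul, inv_mul_cancel, map_one] at this
  -- the index type
  have hfin : Finite θ.range := Finite.of_surjective θ.rangeRestrict θ.rangeRestrict_surjective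
  have : Fintype θ.range := Fintype.ofFinite _
  let A : θ.range → Submodule k V := fun ω => E (ω : kˣ)
  have hinj : Function.Injective (fun ω : θ.range => (((ω : kˣ) : k) * μ₀)) := by
    intro ω ω' h
    have h1 : ((ω : kˣ) : k) = ((ω' : kˣ) : k) := mul_right_cancel₀ hμ₀0 h
    exact Subtype.ext (Units.ext h1)
  have hind : iSupIndep A := (End.eigenspaces_iSupIndep T₀).comp hinj
  let ω₁ : θ.range := ⟨1, one_mem _⟩
  have hA1 : A ω₁ = End.eigenspace T₀ μ₀ := by
    show End.eigenspace T₀ (((1 : kˣ) : k) * μ₀) = _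
    rw [Units.val_one, one_mul]
  have hA1ne : A ω₁ ≠ ⊥ := by rw [hA1]; exact hμ₀
  have hsup : ⨆ ω, A ω = ⊤ := by
    have hinv : InvOn ρ ⊤ (⨆ ω, A ω) := by
      intro g _ u hu
      have h1 : (⨆ ω, A ω).map (ρ g) ≤ ⨆ ω, A ω := by
        rw [Submodule.map_iSup]
        apply iSup_le
        intro ω
        refine (hmap' g ω).trans ?_
        exact le_iSup A ⟨θ g * ω, mul_mem (MonoidHom.mem_range.2 ⟨g, rfl⟩) ω.2⟩
      exact h1 ⟨u, hu, rfl⟩
    rcases hirr.2 _ hinv with h | h
    · exfalso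
      apply hA1ne
      rw [eq_bot_iff, ← h]
      exact le_iSup A ω₁
    · exact h
  have hint : DirectSum.IsInternal A :=
    DirectSum.isInternal_submodule_of_iSupIndep_of_iSup_eq_top hind hsup
  have hdim : finrank k V = Nat.card θ.range * finrank k (A ω₁) := by
    rw [finrank_eq_sum_of_internal hint]
    have : ∀ ω : θ.range, finrank k (A ω) = finrank k (A ω₁) := by
      intro ω
      obtain ⟨g, hg⟩ := MonoidHom.mem_range.1 ω.2
      show finrank k (E (ω : kˣ)) = finrank k (E 1)
      rw [← hg]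
      exact hrank g
    rw [Finset.sum_congr rfl fun ω _ => this ω, Finset.sum_const, Finset.card_univ,
      smul_eq_mul, Fintype.card_eq_nat_card]
  obtain ⟨c, hc⟩ := hΓ.index θ.ker
  rw [Subgroup.index_ker] at hc
  have hc1 : 1 ≤ c := by
    by_contra hlt
    have hc0 : c = 0 := by omega
    rw [hc0, pow_zero] at hc
    apply ha₀
    have hall : ∀ g : Γ, θ g = 1 := by
      intro g
      have hsub : Subsingleton θ.range := (Nat.card_eq_one_iff_unique.1 hc).1
      have := Subsingleton.elim (⟨θ g, MonoidHom.mem_range.2 ⟨g, rfl⟩⟩ : θ.range) ω₁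
      exact congrArg Subtype.val this
    apply schur_on hirr T₀
    intro g _
    rw [hθ g, hall g, Units.val_one, one_smul]
  refine ⟨θ.ker, A ω₁, c, hc1, ?_, ?_, hA1ne, ?_⟩
  · rw [hdim, hc]
  · intro g hg u hu
    have := hmap g 1 u hu
    rwa [MonoidHom.mem_ker.1 hg, one_mul] at this
  · intro U hUW hUinv
    by_cases hU0 : U = ⊥
    · left; exact hU0
    right
    apply le_antisymm hUW
    -- representatives
    have hγ : ∀ ω : θ.range, ∃ g : Γ, θ g = ω := fun ω => MonoidHom.mem_range.1 ω.2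
    let γ : θ.range → Γ := fun ω => Classical.choose (hγ ω)
    have hγs : ∀ ω : θ.range, θ (γ ω) = ω := fun ω => Classical.choose_spec (hγ ω)
    set U' : Submodule k V := ⨆ ω : θ.range, U.map (ρ (γ ω)) with hU'
    have hUh : ∀ h ∈ θ.ker, U.map (ρ h) ≤ U := by
      rintro h hh _ ⟨u, hu, rfl⟩
      exact hUinv h hh u hu
    have hU'inv : InvOn ρ ⊤ U' := by
      intro g _ u hu
      have h1 : U'.map (ρ g) ≤ U' := by
        rw [hU', Submodule.map_iSup]
        apply iSup_le
        intro ω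
        let ω' : θ.range := ⟨θ g * ω, mul_mem (MonoidHom.mem_range.2 ⟨g, rfl⟩) ω.2⟩
        set h := (γ ω')⁻¹ * g * γ ω with hh
        have hhker : h ∈ θ.ker := by
          rw [MonoidHom.mem_ker, hh, map_mul, map_mul, map_inv, hγs, hγs]
          show ((θ g * ω : kˣ))⁻¹ * θ g * ω = 1
          rw [mul_assoc, inv_mul_cancel]
        have hgg2 : g * γ ω = γ ω' * h := by rw [hh]; group
        rw [← Submodule.map_comp]
        have : (ρ g) ∘ₗ (ρ (γ ω)) = (ρ (γ ω')) ∘ₗ (ρ h) := by
          show ρ g * ρ (γ ω) = ρ (γ ω') * ρ h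
          rw [← map_mul, ← map_mul, hgg2]
        rw [this, Submodule.map_comp]
        exact (Submodule.map_mono (hUh h hhker)).trans (le_iSup (fun ω => U.map (ρ (γ ω))) ω')
      exact h1 ⟨u, hu, rfl⟩
    have hU'top : U' = ⊤ := by
      rcases hirr.2 _ hU'inv with h | h
      · exfalso
        apply hU0
        rw [eq_bot_iff]
        intro u hu
        have h1 : ρ (γ ω₁) u ∈ U' :=
          (le_iSup (fun ω => U.map (ρ (γ ω))) ω₁) ⟨u, hu, rfl⟩
        rw [h, Submodule.mem_bot] at h1
        have : u = ρ (γ ω₁)⁻¹ (ρ (γ ω₁) u) := by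
          rw [← Module.End.mul_apply, hgg', Module.End.one_apply]
        rw [this, h1, map_zero]
        exact Submodule.zero_mem _
      · exact h
    intro w hw
    have hwU' : w ∈ U' := by rw [hU'top]; trivial
    rw [hU', iSup_split_single _ ω₁] at hwU'
    obtain ⟨u₁, hu₁, r, hr, hsum⟩ := Submodule.mem_sup.1 hwU'
    have hu₁U : u₁ ∈ U := by
      have hk : γ ω₁ ∈ θ.ker := by
        rw [MonoidHom.mem_ker, hγs]
      exact hUh _ hk hu₁
    have hrle : (⨆ (ω : θ.range) (_ : ω ≠ ω₁), U.map (ρ (γ ω))) ≤ ⨆ (ω : θ.range) (_ : ω ≠ ω₁), A ω := by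
      apply iSup₂_mono
      intro ω _
      rintro _ ⟨u, hu, rfl⟩
      have := hmap (γ ω) 1 u (hUW hu)
      rwa [hγs, mul_one] at this
    have hr' : r ∈ ⨆ (ω : θ.range) (_ : ω ≠ ω₁), A ω := hrle hr
    have hrW : r ∈ A ω₁ := by
      have : r = w - u₁ := by rw [← hsum]; abel
      rw [this]
      exact Submodule.sub_mem _ hw (hUW hu₁U)
    have hr0 : r = 0 := by
      have hdisj := hind ω₁
      rw [Submodule.disjoint_def] at hdisj
      exact hdisj r hrW hr'
    rw [← hsum, hr0, add_zero]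
    exact hu₁U

end basic

theorem qpow_aux {k : Type*} [Field k] [IsAlgClosed k] (q : ℕ) [Fact q.Prime] :
    ∀ n : ℕ, ∀ (Γ : Type u) [Group Γ] [Finite Γ] (V : Type v) [AddCommGroup V] [Module k V]
      [FiniteDimensional k V] (ρ : Representation k Γ V), finrank k V = n → IsPGroup q Γ →
      IrrOn ρ ⊤ → ∃ b : ℕ, n = q ^ b := by
  intro n
  induction n using Nat.strong_induction_on with
  | _ n ih =>
  intro Γ _ _ V _ _ _ ρ hn hΓ hirr
  by_cases hall : scalarSubgroup ρ = ⊤
  · refine ⟨0, ?_⟩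
    rw [← hn, pow_zero]
    apply finrank_eq_one_of_scalar hirr
    intro g _
    have : g ∈ scalarSubgroup ρ := by rw [hall]; trivial
    exact this
  · have hnt : Nontrivial (Γ ⧸ scalarSubgroup ρ) := by
      by_contra hnn
      rw [not_nontrivial_iff_subsingleton] at hnn
      apply hall
      rw [eq_top_iff]
      intro g _
      rw [← QuotientGroup.eq_one_iff]
      exact Subsingleton.elim _ _
    have hq : IsPGroup q (Γ ⧸ scalarSubgroup ρ) := hΓ.to_quotient _
    have hcen := hq.center_nontrivial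
    obtain ⟨z, hz⟩ := exists_ne (1 : Subgroup.center (Γ ⧸ scalarSubgroup ρ))
    obtain ⟨a₀, ha₀⟩ := QuotientGroup.mk_surjective (z : Γ ⧸ scalarSubgroup ρ)
    have ha₀S : a₀ ∉ scalarSubgroup ρ := by
      intro h
      apply hz
      apply Subtype.ext
      rw [← ha₀]
      exact (QuotientGroup.eq_one_iff a₀).2 h
    have hcomm : ∀ g : Γ, g⁻¹ * a₀ * g * a₀⁻¹ ∈ scalarSubgroup ρ := by
      intro g
      rw [← QuotientGroup.eq_one_iff]
      have hzc := Subgroup.mem_center_iff.1 z.2 (QuotientGroup.mk g)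
      rw [QuotientGroup.mk_mul, QuotientGroup.mk_mul, QuotientGroup.mk_mul, QuotientGroup.mk_inv,
        QuotientGroup.mk_inv, ha₀, mul_assoc ((g : Γ ⧸ scalarSubgroup ρ)⁻¹), ← hzc, ← mul_assoc,
        inv_mul_cancel, one_mul, mul_inv_cancel]
    obtain ⟨H, W, c, hc1, hdim, hinvW, hW0, hWirr⟩ := clifford_step q hΓ ρ hirr a₀ ha₀S hcomm
    let σ : Representation k ↥H V := ρ.comp H.subtype
    have hσW : Inv σ W := fun h u hu => hinvW h h.2 u hu
    have hτirr : IrrOn (sub σ W hσW) ⊤ := by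
      refine ⟨Submodule.nontrivial_iff_ne_bot.2 hW0, ?_⟩
      intro U' hU'
      have hUW : U'.map W.subtype ≤ W := by
        rintro _ ⟨u, -, rfl⟩
        exact u.2
      have hUinv : InvOn ρ H (U'.map W.subtype) := by
        rintro h hh _ ⟨u, hu, rfl⟩
        exact ⟨sub σ W hσW ⟨h, hh⟩ u, hU' ⟨h, hh⟩ (Subgroup.mem_top _) u hu, rfl⟩
      rcases hWirr _ hUW hUinv with h | h
      · left
        apply Submodule.map_injective_of_injective W.subtype_injective
        rw [Submodule.map_bot]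
        exact h
      · right
        apply Submodule.map_injective_of_injective W.subtype_injective
        rw [Submodule.map_subtype_top]
        exact h
    have hWpos : 0 < finrank k W := by
      have := Submodule.nontrivial_iff_ne_bot.2 hW0
      exact finrank_pos
    have hq2 : 2 ≤ q ^ c := by
      have h2 : 2 ≤ q := (Fact.out : q.Prime).two_le
      calc 2 ≤ q := h2
        _ = q ^ 1 := (pow_one q).symm
        _ ≤ q ^ c := Nat.pow_le_pow_right (by omega) hc1
    have hlt : finrank k W < n := by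
      rw [← hn, hdim]
      nlinarith
    obtain ⟨b, hb⟩ := ih (finrank k W) hlt ↥H ↥W (sub σ W hσW) rfl (hΓ.to_subgroup H) hτirr
    exact ⟨c + b, by rw [← hn, hdim, hb, pow_add]⟩

/-- An irreducible representation of a `q`-group over an algebraically closed field has
`q`-power degree. -/
theorem finrank_eq_prime_pow {k : Type*} [Field k] [IsAlgClosed k] {Γ : Type*} [Group Γ]
    [Finite Γ] {V : Type*} [AddCommGroup V] [Module k V] [FiniteDimensional k V] (q : ℕ)
    [Fact q.Prime] (ρ : Representation k Γ V) (Q : Subgroup Γ) (hQ : IsPGroup q Q)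
    (hirr : IrrOn ρ Q) : ∃ b : ℕ, finrank k V = q ^ b := by
  have hirr' : IrrOn (ρ.comp Q.subtype) ⊤ := by
    refine ⟨hirr.1, ?_⟩
    intro U hU
    apply hirr.2 U
    intro n hn u hu
    exact hU ⟨n, hn⟩ (Subgroup.mem_top _) u hu
  exact qpow_aux q (finrank k V) ↥Q V (ρ.comp Q.subtype) rfl hQ hirr'

end Cfsg.Agent.Lib.H19.HH
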