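import Mathlib
import Cfsg.Agent.Lib.H19.ModRepSchur
import Cfsg.Agent.Lib.H19.HHPoly

/-!
# Clifford theory for a cyclic extension, via twisted homomorphisms (helper19)

* `IrrSub ρ Q W` : `W` is a minimal nonzero `Q`-invariant subspace.
* `exists_invariant_irrSub` (key lemma): a nonzero `z`-twisted `Q`-endomorphism of an irreducible
  subspace `W` produces an irreducible subspace invariant under `ρ z`.
* `clifford_cyclic` : there are `t`, an irreducible `W₁` invariant under `ρ (x^t)` and a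
  `Q`-equivariant projection `P₀` onto `W₁` killing `ρ (x^s) W₁` for `0 < s < t`.
* `pow_sub_one_apply_ne_zero` : the resulting lower bound for the nilpotency degree of `ρ x - 1`.
-/

set_option autoImplicit false

namespace Cfsg.Agent.Lib.H19.HH

open Module Cfsg.Agent.Lib.H19.ModRep

variable {k : Type*} [Field k] {Γ : Type*} [Group Γ] {V : Type*} [AddCommGroup V] [Module k V]

/-- `W` is a minimal nonzero `Q`-invariant subspace -/
def IrrSub (ρ : Representation k Γ V) (Q : Subgroup Γ) (W : Submodule k V) : Prop :=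
  W ≠ ⊥ ∧ InvOn ρ Q W ∧ ∀ U : Submodule k V, U ≤ W → InvOn ρ Q U → U = ⊥ ∨ U = W

/-- Maschke for a subgroup whose order is invertible. -/
theorem exists_compl_on' [Finite Γ] (ρ : Representation k Γ V) (N : Subgroup Γ)
    (hk : (Nat.card N : k) ≠ 0) (U : Submodule k V) (hU : InvOn ρ N U) :
    ∃ T : Submodule k V, InvOn ρ N T ∧ IsCompl U T := by
  have : NeZero (Nat.card ↥N : k) := ⟨hk⟩
  let σ : Representation k ↥N V := ρ.comp N.subtype
  have hU' : Inv σ U := fun n u hu => hU n n.2 u hu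
  obtain ⟨T, hT, hc⟩ := exists_compl σ U hU'
  exact ⟨T, fun n hn u hu => hT ⟨n, hn⟩ u hu, hc⟩

theorem exists_irrSub_le [FiniteDimensional k V] (ρ : Representation k Γ V) (Q : Subgroup Γ)
    (W₀ : Submodule k V) (hW₀ : W₀ ≠ ⊥) (hinv : InvOn ρ Q W₀) :
    ∃ W : Submodule k V, W ≤ W₀ ∧ IrrSub ρ Q W := by
  suffices H : ∀ d : ℕ, ∀ W₀ : Submodule k V, W₀ ≠ ⊥ → InvOn ρ Q W₀ → finrank k W₀ ≤ d →
      ∃ W : Submodule k V, W ≤ W₀ ∧ IrrSub ρ Q W from H _ W₀ hW₀ hinv le_rfl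
  intro d
  induction d with
  | zero =>
    intro W₀ hW₀ _ hd
    exact absurd (Submodule.finrank_eq_zero.mp (Nat.le_zero.mp hd)) hW₀
  | succ d ih =>
    intro W₀ hW₀ hinv hd
    by_cases hirr : ∀ U : Submodule k V, U ≤ W₀ → InvOn ρ Q U → U = ⊥ ∨ U = W₀
    · exact ⟨W₀, le_rfl, hW₀, hinv, hirr⟩
    · push Not at hirr
      obtain ⟨U, hUW, hUinv, hU0, hU1⟩ := hirr
      have hlt : finrank k U < finrank k W₀ :=
        Submodule.finrank_lt_finrank_of_lt (lt_of_le_of_ne hUW hU1)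
      obtain ⟨W, hWU, hW⟩ := ih U hU0 hUinv (by omega)
      exact ⟨W, hWU.trans hUW, hW⟩

/-- Schur's lemma on an irreducible subspace. -/
theorem schur_sub [IsAlgClosed k] [FiniteDimensional k V] {ρ : Representation k Γ V}
    {Q : Subgroup Γ} {W : Submodule k V} (hW : IrrSub ρ Q W) (f : Module.End k V)
    (hfW : ∀ w ∈ W, f w ∈ W) (hf : ∀ g ∈ Q, ∀ w ∈ W, f (ρ g w) = ρ g (f w)) :
    ∃ c : k, ∀ w ∈ W, f w = c • w := by
  have hnt : Nontrivial W := Submodule.nontrivial_iff_ne_bot.2 hW.1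
  let f' : Module.End k W := f.restrict hfW
  obtain ⟨μ, hμ⟩ := Module.End.exists_eigenvalue f'
  refine ⟨μ, ?_⟩
  set U : Submodule k V := (End.eigenspace f' μ).map W.subtype with hU
  have hUW : U ≤ W := by
    rintro _ ⟨u, -, rfl⟩
    exact u.2
  have hUinv : InvOn ρ Q U := by
    rintro g hg _ ⟨u, hu, rfl⟩
    refine ⟨⟨ρ g u, hW.2.1 g hg u u.2⟩, ?_, rfl⟩
    have hu : u ∈ End.eigenspace f' μ := hu
    show (⟨ρ g u, hW.2.1 g hg u u.2⟩ : W) ∈ End.eigenspace f' μ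
    rw [End.mem_eigenspace_iff] at hu ⊢
    apply Subtype.ext
    have h1 : f (u : V) = μ • (u : V) := by
      have := congrArg Subtype.val hu
      simpa [f'] using this
    show f (ρ g u) = μ • ρ g u
    rw [hf g hg u u.2, h1, map_smul]
  have hU0 : U ≠ ⊥ := by
    intro h0
    apply hμ
    apply Submodule.map_injective_of_injective W.subtype_injective
    rw [Submodule.map_bot]
    exact h0
  rcases hW.2.2 U hUW hUinv with h | h
  · exact absurd h hU0
  · intro w hw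
    rw [← h] at hw
    obtain ⟨u, hu, rfl⟩ := hw
    have hu : u ∈ End.eigenspace f' μ := hu
    rw [End.mem_eigenspace_iff] at hu
    have := congrArg Subtype.val hu
    simpa [f'] using this

/-- twisted Schur: a twisted endomorphism of an irreducible subspace is zero or injective -/
theorem twisted_injective {ρ : Representation k Γ V} {Q : Subgroup Γ} {W : Submodule k V}
    (hW : IrrSub ρ Q W) (z : Γ) (ψ : Module.End k V)
    (hψ : ∀ g ∈ Q, ∀ w ∈ W, ψ (ρ g w) = ρ (z * g * z⁻¹) (ψ w))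
    (hne : ∃ w ∈ W, ψ w ≠ 0) : ∀ w ∈ W, ψ w = 0 → w = 0 := by
  set U : Submodule k V := W ⊓ LinearMap.ker ψ with hU
  have hUinv : InvOn ρ Q U := by
    intro g hg u hu
    rw [hU, Submodule.mem_inf, LinearMap.mem_ker] at hu ⊢
    refine ⟨hW.2.1 g hg u hu.1, ?_⟩
    rw [hψ g hg u hu.1, hu.2, map_zero]
  rcases hW.2.2 U inf_le_left hUinv with h | h
  · intro w hw hw0
    have : w ∈ U := by
      rw [hU, Submodule.mem_inf, LinearMap.mem_ker]
      exact ⟨hw, hw0⟩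
    rw [h, Submodule.mem_bot] at this
    exact this
  · exfalso
    obtain ⟨w, hw, hw0⟩ := hne
    apply hw0
    rw [← h] at hw
    exact LinearMap.mem_ker.1 hw.2

/-- **Key lemma**: a nonzero `z`-twisted endomorphism of the irreducible subspace `W` gives an
irreducible subspace invariant under `ρ z`. -/
theorem exists_invariant_irrSub [IsAlgClosed k] [FiniteDimensional k V]
    {ρ : Representation k Γ V} {Q : Subgroup Γ} {W : Submodule k V} (hW : IrrSub ρ Q W) (z : Γ)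
    (hz' : ∀ g ∈ Q, z⁻¹ * g * z ∈ Q)
    (ψ : Module.End k V) (hψW : ∀ w ∈ W, ψ w ∈ W)
    (hψ : ∀ g ∈ Q, ∀ w ∈ W, ψ (ρ g w) = ρ (z * g * z⁻¹) (ψ w))
    (hne : ∃ w ∈ W, ψ w ≠ 0) :
    ∃ U : Submodule k V, IrrSub ρ Q U ∧ (∀ u ∈ U, ρ z u ∈ U) ∧
      ∀ g ∈ Q, (∀ u ∈ U, ρ g u = u) → ∀ w ∈ W, ρ g w = w := by
  classical
  have hnt : Nontrivial W := Submodule.nontrivial_iff_ne_bot.2 hW.1
  have hinj0 := twisted_injective hW z ψ hψ hne
  let ψ' : Module.End k W := ψ.restrict hψW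
  have hψ'inj : Function.Injective ψ' := by
    rw [← LinearMap.ker_eq_bot, LinearMap.ker_eq_bot']
    intro w hw
    apply Subtype.ext
    apply hinj0 w w.2
    have := congrArg Subtype.val hw
    simpa [ψ'] using this
  let ψe : W ≃ₗ[k] W := LinearEquiv.ofInjectiveEndo ψ' hψ'inj
  have hψe : ∀ w : W, ((ψe w : W) : V) = ψ w := fun w => rfl
  let α : ∀ g : Q, W →ₗ[k] W := fun g => (ρ (g : Γ)).restrict (fun w hw => hW.2.1 g g.2 w hw)
  have hα : ∀ (g : Q) (w : W), ((α g w : W) : V) = ρ (g : Γ) w := fun g w => rfl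
  have hsymm : ∀ (g : Q) (w : W),
      ψe.symm (α g w) = α ⟨z⁻¹ * g * z, hz' g g.2⟩ (ψe.symm w) := by
    intro g w
    rw [LinearEquiv.symm_apply_eq]
    apply Subtype.ext
    rw [hα g w]
    symm
    rw [hψe, hα, hψ _ (hz' g g.2) _ (ψe.symm w).2, ← hψe, LinearEquiv.apply_symm_apply]
    have e : z * (z⁻¹ * (g : Γ) * z) * z⁻¹ = g := by group
    show ρ (z * (z⁻¹ * (g : Γ) * z) * z⁻¹) w = ρ g w
    rw [e]
  let HH : Submodule k (W →ₗ[k] V) :=
    { carrier := {f | ∀ (g : Q) (w : W), f (α g w) = ρ (g : Γ) (f w)}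
      add_mem' := by
        intro a b ha hb g w
        rw [LinearMap.add_apply, LinearMap.add_apply, ha g w, hb g w, map_add]
      zero_mem' := by
        intro g w
        simp
      smul_mem' := by
        intro c a ha g w
        rw [LinearMap.smul_apply, LinearMap.smul_apply, ha g w, map_smul] }
  have hHH : ∀ f : W →ₗ[k] V, f ∈ HH ↔ ∀ (g : Q) (w : W), f (α g w) = ρ (g : Γ) (f w) :=
    fun f => Iff.rfl
  let Θ₀ : (W →ₗ[k] V) →ₗ[k] (W →ₗ[k] V) :=
    { toFun := fun f => (ρ z) ∘ₗ f ∘ₗ ψe.symm.toLinearMap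
      map_add' := by
        intro a b
        ext w
        simp
      map_smul' := by
        intro c a
        ext w
        simp }
  have hΘ₀ : ∀ (f : W →ₗ[k] V) (w : W), Θ₀ f w = ρ z (f (ψe.symm w)) := fun f w => rfl
  have hΘ : ∀ f ∈ HH, Θ₀ f ∈ HH := by
    intro f hf
    rw [hHH] at hf ⊢
    intro g w
    rw [hΘ₀, hΘ₀, hsymm, hf]
    show ρ z (ρ (z⁻¹ * g * z) (f (ψe.symm w))) = ρ g (ρ z (f (ψe.symm w)))
    rw [← Module.End.mul_apply, ← Module.End.mul_apply, ← map_mul, ← map_mul]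
    congr 2
    group
  let Θ : Module.End k HH := Θ₀.restrict hΘ
  have hsub : W.subtype ∈ HH := by
    rw [hHH]
    intro g w
    rfl
  have hntH : Nontrivial HH := by
    refine ⟨⟨⟨W.subtype, hsub⟩, 0, ?_⟩⟩
    intro h
    have h1 : W.subtype = 0 := congrArg Subtype.val h
    obtain ⟨w, hw⟩ := exists_ne (0 : W)
    apply hw
    apply Subtype.ext
    have := congrArg (fun f : W →ₗ[k] V => f w) h1
    simpa using this
  obtain ⟨c, hc⟩ := Module.End.exists_eigenvalue Θ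
  obtain ⟨f₀, hf₀⟩ := hc.exists_hasEigenvector
  have hf₀mem : (f₀ : W →ₗ[k] V) ∈ HH := f₀.2
  rw [hHH] at hf₀mem
  have hf₀ne : (f₀ : W →ₗ[k] V) ≠ 0 := by
    intro h
    apply hf₀.2
    exact Subtype.ext h
  have hΘf₀ : ∀ w : W, ρ z ((f₀ : W →ₗ[k] V) (ψe.symm w)) = c • (f₀ : W →ₗ[k] V) w := by
    intro w
    have h1 : Θ f₀ = c • f₀ := hf₀.apply_eq_smul
    have h2 : ((Θ f₀ : HH) : W →ₗ[k] V) = c • (f₀ : W →ₗ[k] V) := by rw [h1]; rfl
    have h3 := congrArg (fun f : W →ₗ[k] V => f w) h2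
    exact h3
  -- `f₀` is injective
  have hf₀inj : ∀ w : W, (f₀ : W →ₗ[k] V) w = 0 → w = 0 := by
    set U₀ : Submodule k V := (LinearMap.ker (f₀ : W →ₗ[k] V)).map W.subtype with hU₀
    have hU₀W : U₀ ≤ W := by
      rintro _ ⟨u, -, rfl⟩
      exact u.2
    have hU₀inv : InvOn ρ Q U₀ := by
      rintro g hg _ ⟨u, hu, rfl⟩
      refine ⟨α ⟨g, hg⟩ u, ?_, rfl⟩
      have hu : u ∈ LinearMap.ker (f₀ : W →ₗ[k] V) := hu
      show α ⟨g, hg⟩ u ∈ LinearMap.ker (f₀ : W →ₗ[k] V)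
      rw [LinearMap.mem_ker] at hu ⊢
      rw [hf₀mem, hu, map_zero]
    rcases hW.2.2 U₀ hU₀W hU₀inv with h | h
    · intro w hw
      have : (w : V) ∈ U₀ := ⟨w, LinearMap.mem_ker.2 hw, rfl⟩
      rw [h, Submodule.mem_bot] at this
      exact Subtype.ext this
    · exfalso
      apply hf₀ne
      apply LinearMap.ext
      intro w
      have : (w : V) ∈ U₀ := by rw [h]; exact w.2
      obtain ⟨u, hu, hu'⟩ := this
      have : u = w := Subtype.ext hu'
      rw [← this]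
      exact LinearMap.mem_ker.1 hu
  have hf₀inj' : Function.Injective (f₀ : W →ₗ[k] V) := by
    rw [← LinearMap.ker_eq_bot, LinearMap.ker_eq_bot']
    exact hf₀inj
  refine ⟨LinearMap.range (f₀ : W →ₗ[k] V), ⟨?_, ?_, ?_⟩, ?_, ?_⟩
  · intro h
    apply hf₀ne
    exact LinearMap.range_eq_bot.1 h
  · rintro g hg _ ⟨w, rfl⟩
    exact ⟨α ⟨g, hg⟩ w, hf₀mem ⟨g, hg⟩ w⟩
  · intro U' hU' hU'inv
    set U'' : Submodule k V := (U'.comap (f₀ : W →ₗ[k] V)).map W.subtype with hU''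
    have hU''W : U'' ≤ W := by
      rintro _ ⟨u, -, rfl⟩
      exact u.2
    have hU''inv : InvOn ρ Q U'' := by
      rintro g hg _ ⟨u, hu, rfl⟩
      refine ⟨α ⟨g, hg⟩ u, ?_, rfl⟩
      have hu : u ∈ U'.comap (f₀ : W →ₗ[k] V) := hu
      show α ⟨g, hg⟩ u ∈ U'.comap (f₀ : W →ₗ[k] V)
      rw [Submodule.mem_comap] at hu ⊢
      rw [hf₀mem]
      exact hU'inv g hg _ hu
    rcases hW.2.2 U'' hU''W hU''inv with h | h
    · left
      rw [eq_bot_iff]
      intro u hu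
      obtain ⟨w, rfl⟩ := hU' hu
      have : (w : V) ∈ U'' := ⟨w, hu, rfl⟩
      rw [h, Submodule.mem_bot] at this
      have hw0 : w = 0 := Subtype.ext this
      rw [hw0, map_zero]
      exact Submodule.zero_mem _
    · right
      apply le_antisymm hU'
      rintro _ ⟨w, rfl⟩
      have : (w : V) ∈ U'' := by rw [h]; exact w.2
      obtain ⟨u, hu, hu'⟩ := this
      have : u = w := Subtype.ext hu'
      rw [← this]
      exact hu
  · rintro _ ⟨w, rfl⟩
    have := hΘf₀ (ψe w)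
    rw [LinearEquiv.symm_apply_apply] at this
    rw [this]
    exact Submodule.smul_mem _ _ ⟨ψe w, rfl⟩
  · intro g hg hfix w hw
    have h1 : (f₀ : W →ₗ[k] V) (α ⟨g, hg⟩ ⟨w, hw⟩) = (f₀ : W →ₗ[k] V) ⟨w, hw⟩ := by
      rw [hf₀mem]
      exact hfix _ ⟨⟨w, hw⟩, rfl⟩
    have h2 := hf₀inj' h1
    exact congrArg Subtype.val h2

/-- a subspace invariant under `ρ z` is invariant under `ρ (z ^ j)` -/
theorem pow_apply_mem_of_invariant (ρ : Representation k Γ V) {W : Submodule k V} {z : Γ}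
    (h : ∀ w ∈ W, ρ z w ∈ W) (j : ℕ) : ∀ w ∈ W, ρ (z ^ j) w ∈ W := by
  induction j with
  | zero => intro w hw; simpa using hw
  | succ j ih =>
    intro w hw
    rw [pow_succ', map_mul, Module.End.mul_apply]
    exact h _ (ih w hw)

/-- **Clifford theory for a cyclic extension.** -/
theorem clifford_cyclic [IsAlgClosed k] [FiniteDimensional k V] [Finite Γ]
    (ρ : Representation k Γ V) (Q : Subgroup Γ) (hQk : (Nat.card Q : k) ≠ 0) (x : Γ)
    (hxQ : ∀ g ∈ Q, x * g * x⁻¹ ∈ Q)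
    (W₀ : Submodule k V) (hW₀ : IrrSub ρ Q W₀) (hnt₀ : ¬ ∀ g ∈ Q, ∀ w ∈ W₀, ρ g w = w) :
    ∃ (t : ℕ) (W₁ : Submodule k V) (P₀ : Module.End k V), 0 < t ∧ t ∣ orderOf x ∧
      IrrSub ρ Q W₁ ∧ (¬ ∀ g ∈ Q, ∀ w ∈ W₁, ρ g w = w) ∧ (∀ w ∈ W₁, ρ (x ^ t) w ∈ W₁) ∧
      (∀ w ∈ W₁, P₀ w = w) ∧
      (∀ s : ℕ, 0 < s → s < t → ∀ w ∈ W₁, P₀ (ρ (x ^ s) w) = 0) := by
  classical
  have hxord : 0 < orderOf x := orderOf_pos x
  -- powers of `x` normalize `Q`
  have hxQj : ∀ j : ℕ, ∀ g ∈ Q, x ^ j * g * (x ^ j)⁻¹ ∈ Q := by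
    intro j
    induction j with
    | zero => intro g hg; simpa using hg
    | succ j ih =>
      intro g hg
      have := hxQ _ (ih g hg)
      have e : x * (x ^ j * g * (x ^ j)⁻¹) * x⁻¹ = x ^ (j + 1) * g * (x ^ (j + 1))⁻¹ := by
        rw [pow_succ']; group
      rwa [e] at this
  have hxQj' : ∀ j : ℕ, ∀ g ∈ Q, (x ^ j)⁻¹ * g * (x ^ j) ∈ Q := by
    intro j g hg
    -- `(x^j)⁻¹ = x^(j * (orderOf x - 1))`
    have e : (x ^ j)⁻¹ = x ^ (j * (orderOf x - 1)) := by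
      rw [inv_eq_iff_mul_eq_one, ← pow_add]
      have : j + j * (orderOf x - 1) = orderOf x * j := by
        obtain ⟨n, hn⟩ := Nat.exists_eq_succ_of_ne_zero hxord.ne'
        rw [hn]; simp only [Nat.succ_sub_one, Nat.succ_eq_add_one]; ring
      rw [this, pow_mul, pow_orderOf_eq_one, one_pow]
    have := hxQj (j * (orderOf x - 1)) g hg
    rw [← e, inv_inv] at this
    exact this
  let PT : ℕ → Prop := fun t => 0 < t ∧ ∃ W : Submodule k V, IrrSub ρ Q W ∧
    (¬ ∀ g ∈ Q, ∀ w ∈ W, ρ g w = w) ∧ ∀ w ∈ W, ρ (x ^ t) w ∈ W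
  have hex : ∃ t, PT t := by
    refine ⟨orderOf x, hxord, W₀, hW₀, hnt₀, ?_⟩
    intro w hw
    rw [pow_orderOf_eq_one, map_one]
    exact hw
  set t := Nat.find hex with ht
  obtain ⟨ht0, W₁, hW₁, hnt₁, hW₁t⟩ := Nat.find_spec hex
  have htmin : ∀ s, s < t → ¬ PT s := fun s hs => Nat.find_min hex hs
  -- `t ∣ orderOf x`
  have htdvd : t ∣ orderOf x := by
    by_contra hnd
    have hs0 : 0 < orderOf x % t := Nat.pos_of_ne_zero (fun h => hnd (Nat.dvd_of_mod_eq_zero h))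
    have hslt : orderOf x % t < t := Nat.mod_lt _ ht0
    apply htmin _ hslt
    refine ⟨hs0, W₁, hW₁, hnt₁, ?_⟩
    -- `x ^ (ord % t) = (x ^ t) ^ (j * (ord - 1))` where `ord = t * j + ord % t`
    set j := orderOf x / t with hj
    have hdiv : t * j + orderOf x % t = orderOf x := Nat.div_add_mod _ _
    have e : x ^ (orderOf x % t) = (x ^ t) ^ (j * (orderOf x - 1)) := by
      have h1 : x ^ (orderOf x % t) * x ^ (t * j) = 1 := by
        rw [← pow_add, add_comm, hdiv, pow_orderOf_eq_one]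
      have h2 : x ^ (t * j) * (x ^ t) ^ (j * (orderOf x - 1)) = 1 := by
        rw [← pow_mul, ← pow_add]
        have : t * j + t * (j * (orderOf x - 1)) = orderOf x * (t * j) := by
          obtain ⟨n, hn⟩ := Nat.exists_eq_succ_of_ne_zero hxord.ne'
          rw [hn]; simp only [Nat.succ_sub_one, Nat.succ_eq_add_one]; ring
        rw [this, pow_mul, pow_orderOf_eq_one, one_pow]
      calc x ^ (orderOf x % t) = x ^ (orderOf x % t) * (x ^ (t * j) * (x ^ t) ^ (j * (orderOf x - 1))) := by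
            rw [h2, mul_one]
        _ = (x ^ t) ^ (j * (orderOf x - 1)) := by rw [← mul_assoc, h1, one_mul]
    rw [e]
    exact pow_apply_mem_of_invariant ρ hW₁t _
  -- the projection
  obtain ⟨C, hCinv, hC⟩ := exists_compl_on' ρ Q hQk W₁ hW₁.2.1
  set P₀ : Module.End k V := W₁.projection C hC with hP₀
  have hP₀mem : ∀ v : V, P₀ v ∈ W₁ := fun v => Submodule.projection_apply_mem hC v
  have hP₀id : ∀ w ∈ W₁, P₀ w = w := fun w hw => Submodule.projection_apply_of_mem_left hC hw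
  have hP₀eq : ∀ g ∈ Q, ∀ v : V, P₀ (ρ g v) = ρ g (P₀ v) := by
    intro g hg v
    have h1 : v = P₀ v + (v - P₀ v) := by abel
    have h2 : v - P₀ v ∈ C := Submodule.sub_projection_mem hC v
    conv_lhs => rw [h1]
    rw [map_add, map_add, hP₀id _ (hW₁.2.1 g hg _ (hP₀mem v)),
      Submodule.projection_apply_of_mem_right hC (hCinv g hg _ h2), add_zero]
  refine ⟨t, W₁, P₀, ht0, htdvd, hW₁, hnt₁, hW₁t, hP₀id, ?_⟩
  intro s hs0 hst w hw
  by_contra hne
  apply htmin s hst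
  -- the twisted endomorphism
  set ψ : Module.End k V := P₀ * ρ (x ^ s) with hψ
  have hψW : ∀ w ∈ W₁, ψ w ∈ W₁ := fun w _ => hP₀mem _
  have hψtw : ∀ g ∈ Q, ∀ w ∈ W₁, ψ (ρ g w) = ρ (x ^ s * g * (x ^ s)⁻¹) (ψ w) := by
    intro g hg w _
    rw [hψ, Module.End.mul_apply, Module.End.mul_apply, ← hP₀eq _ (hxQj s g hg)]
    congr 1
    rw [← Module.End.mul_apply, ← Module.End.mul_apply, ← map_mul, ← map_mul]
    congr 2
    group
  obtain ⟨U, hU, hUz, hUnt⟩ := exists_invariant_irrSub hW₁ (x ^ s) (hxQj' s) ψ hψW hψtw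
    ⟨w, hw, hne⟩
  refine ⟨hs0, U, hU, ?_, hUz⟩
  intro hall
  apply hnt₁
  intro g hg w hw
  exact hUnt g hg (hall g hg) w hw

/-- The lower bound for the nilpotency degree coming from `clifford_cyclic`. -/
theorem pow_sub_one_apply_ne_zero (p : ℕ) [Fact p.Prime] [CharP k p] (a : ℕ)
    (T : Module.End k V) (W₁ : Submodule k V) (P₀ : Module.End k V)
    (hP₀ : ∀ w ∈ W₁, P₀ w = w)
    (hP₀s : ∀ s : ℕ, 0 < s → s < p ^ a → ∀ w ∈ W₁, P₀ ((T ^ s) w) = 0)
    (hinv : ∀ w ∈ W₁, (T ^ (p ^ a)) w ∈ W₁) (r₁ : ℕ) (hr₁ : 1 ≤ r₁) (w : V) (hw : w ∈ W₁)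
    (hw0 : ((T ^ (p ^ a) - 1) ^ (r₁ - 1)) w ≠ 0) :
    ((T - 1) ^ (p ^ a * r₁ - 1)) w ≠ 0 := by
  have hpos : 0 < p ^ a := pow_pos (Fact.out : p.Prime).pos a
  have hinv' : ∀ j : ℕ, ∀ w ∈ W₁, ((T ^ (p ^ a) - 1) ^ j) w ∈ W₁ := by
    intro j
    induction j with
    | zero => intro w hw; simpa using hw
    | succ j ih =>
      intro w hw
      rw [pow_succ', Module.End.mul_apply, LinearMap.sub_apply, Module.End.one_apply]
      exact Submodule.sub_mem _ (hinv _ (ih w hw)) (ih w hw)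
  set u := ((T ^ (p ^ a) - 1) ^ (r₁ - 1)) w with hu
  have huW : u ∈ W₁ := hinv' _ w hw
  have e1 : (T - 1) ^ (p ^ a * r₁ - 1) = (T - 1) ^ (p ^ a - 1) * ((T - 1) ^ (p ^ a)) ^ (r₁ - 1) := by
    rw [← pow_mul, ← pow_add]
    congr 1
    obtain ⟨r', rfl⟩ := Nat.exists_eq_add_of_le hr₁
    have : p ^ a * (1 + r') = p ^ a + p ^ a * r' := by ring
    rw [this, Nat.add_sub_cancel_left]
    omega
  rw [e1, sub_one_pow_char_pow (k := k) p a T, ← geom_sum_eq_sub_one_pow (k := k) p a T,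
    Module.End.mul_apply, ← hu, LinearMap.sum_apply]
  intro h0
  apply hw0
  have h1 := congrArg P₀ h0
  rw [map_sum, map_zero, Finset.sum_eq_single_of_mem 0 (Finset.mem_range.2 hpos)] at h1
  · rw [pow_zero, Module.End.one_apply, hP₀ u huW] at h1
    exact h1
  · intro s _ hs0
    exact hP₀s s (Nat.pos_of_ne_zero hs0) (Finset.mem_range.1 ‹_›) u huW

end Cfsg.Agent.Lib.H19.HH
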