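import Mathlib
import Cfsg.Agent.Lib.H19.HHCrit
import Cfsg.Agent.Lib.H19.HHQPow
import Cfsg.Agent.Lib.H19.HHTw

/-!
# The critical case and the `q`-power degree theorem on an invariant irreducible subspace (helper19)

`core_sub`, `qpow_sub` : versions of `core` and `finrank_eq_prime_pow` for an irreducible subspace
`W` (`IrrSub ρ Q W`) invariant under `ρ x`, where `x` normalizes `Q`.
-/

set_option autoImplicit false

namespace Cfsg.Agent.Lib.H19.HH

open Module Cfsg.Agent.Lib.H19.ModRep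

variable {k : Type*} [Field k] {Γ : Type*} [Group Γ] {V : Type*} [AddCommGroup V] [Module k V]

theorem inv_conj_mem_of_conj_mem [Finite Γ] {A : Subgroup Γ} {x : Γ}
    (hxA : ∀ a ∈ A, x * a * x⁻¹ ∈ A) : ∀ a ∈ A, x⁻¹ * a * x ∈ A := by
  have hxjA : ∀ (j : ℕ), ∀ a ∈ A, x ^ j * a * (x ^ j)⁻¹ ∈ A := by
    intro j
    induction j with
    | zero => intro a ha; simpa using ha
    | succ j ih =>
      intro a ha
      have h1 := hxA _ (ih a ha)
      have e : x ^ (j + 1) * a * (x ^ (j + 1))⁻¹ = x * (x ^ j * a * (x ^ j)⁻¹) * x⁻¹ := by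
        rw [pow_succ']
        group
      rw [e]
      exact h1
  have hxinv : x⁻¹ = x ^ (orderOf x - 1) := by
    have h1 : x ^ (orderOf x - 1) * x = 1 := by
      rw [← pow_succ, Nat.sub_add_cancel (orderOf_pos x), pow_orderOf_eq_one]
    exact inv_eq_of_mul_eq_one_left h1
  intro a ha
  have := hxjA (orderOf x - 1) a ha
  rw [← hxinv, inv_inv] at this
  exact this

/-- the stabilizer of a subspace in a finite group -/
def stab [Finite Γ] (ρ : Representation k Γ V) (W : Submodule k V) : Subgroup Γ where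
  carrier := {g | ∀ w ∈ W, ρ g w ∈ W}
  one_mem' := by intro w hw; simpa using hw
  mul_mem' := by
    intro a b ha hb w hw
    rw [map_mul, Module.End.mul_apply]
    exact ha _ (hb w hw)
  inv_mem' := by
    intro a ha w hw
    have h1 : a⁻¹ = a ^ (orderOf a - 1) := by
      have h2 : a ^ (orderOf a - 1) * a = 1 := by
        rw [← pow_succ, Nat.sub_add_cancel (orderOf_pos a), pow_orderOf_eq_one]
      exact inv_eq_of_mul_eq_one_left h2
    rw [h1]
    exact pow_apply_mem_of_invariant ρ ha _ w hw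

theorem mem_stab [Finite Γ] {ρ : Representation k Γ V} {W : Submodule k V} {g : Γ} :
    g ∈ stab ρ W ↔ ∀ w ∈ W, ρ g w ∈ W := Iff.rfl

theorem qpow_sub [IsAlgClosed k] [FiniteDimensional k V] [Finite Γ] (q : ℕ) [Fact q.Prime]
    (ρ : Representation k Γ V) (Q : Subgroup Γ) (hQ : IsPGroup q Q) (W : Submodule k V)
    (hW : IrrSub ρ Q W) : ∃ b : ℕ, finrank k W = q ^ b := by
  let σ : Representation k ↥Q V := ρ.comp Q.subtype
  have hσW : Inv σ W := fun h u hu => hW.2.1 h h.2 u hu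
  have hirr : IrrOn (sub σ W hσW) ⊤ := by
    refine ⟨Submodule.nontrivial_iff_ne_bot.2 hW.1, ?_⟩
    intro U' hU'
    have hUW : U'.map W.subtype ≤ W := by
      rintro _ ⟨u, -, rfl⟩
      exact u.2
    have hUinv : InvOn ρ Q (U'.map W.subtype) := by
      rintro h hh _ ⟨u, hu, rfl⟩
      exact ⟨sub σ W hσW ⟨h, hh⟩ u, hU' ⟨h, hh⟩ (Subgroup.mem_top _) u hu, rfl⟩
    rcases hW.2.2 _ hUW hUinv with h | h
    · left
      apply Submodule.map_injective_of_injective W.subtype_injective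
      rw [Submodule.map_bot]
      exact h
    · right
      apply Submodule.map_injective_of_injective W.subtype_injective
      rw [Submodule.map_subtype_top]
      exact h
  exact qpow_aux q (finrank k W) ↥Q ↥W (sub σ W hσW) rfl hQ hirr

theorem core_sub [IsAlgClosed k] [FiniteDimensional k V] [Finite Γ] (p : ℕ) [Fact p.Prime]
    [CharP k p] (ρ : Representation k Γ V) (Q : Subgroup Γ) (hQk : (Nat.card Q : k) ≠ 0) (x : Γ)
    (hxQ : ∀ g ∈ Q, x * g * x⁻¹ ∈ Q) (W : Submodule k V) (hW : IrrSub ρ Q W)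
    (hWx : ∀ w ∈ W, ρ x w ∈ W) (m : ℕ) (hx : orderOf x = p ^ m)
    (hxnt : ∃ w ∈ W, ρ x w ≠ w)
    (hfree : ∀ u ∈ Q, ∀ y ∈ Subgroup.zpowers x, y ≠ 1 → y * u * y⁻¹ = u →
      ∃ c : k, ∀ w ∈ W, ρ u w = c • w)
    (s : ℕ) (hs : ∀ w ∈ W, ((ρ x - 1) ^ s) w = 0)
    (hmin : ∀ t < s, ∃ w ∈ W, ((ρ x - 1) ^ t) w ≠ 0) :
    p ^ m - 1 ≤ s ∧ s ≤ p ^ m ∧ (s = p ^ m - 1 → finrank k W = p ^ m - 1) := by
  classical
  have hxQ' : ∀ g ∈ Q, x⁻¹ * g * x ∈ Q := inv_conj_mem_of_conj_mem hxQ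
  have hXQ : Subgroup.zpowers x ≤ Subgroup.normalizer (Q : Set Γ) := by
    rw [Subgroup.zpowers_le, Subgroup.mem_normalizer_iff]
    intro h
    constructor
    · exact hxQ h
    · intro hh
      have := hxQ' _ hh
      have e : x⁻¹ * (x * h * x⁻¹) * x = h := by group
      rwa [e] at this
  set Γ₁ : Subgroup Γ := Subgroup.zpowers x ⊔ Q with hΓ₁
  have hQΓ₁ : Q ≤ Γ₁ := le_sup_right
  have hxΓ₁ : x ∈ Γ₁ := (le_sup_left : Subgroup.zpowers x ≤ Γ₁) (Subgroup.mem_zpowers x)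
  have hΓ₁stab : Γ₁ ≤ stab ρ W := by
    apply sup_le
    · rw [Subgroup.zpowers_le]
      exact hWx
    · intro g hg
      exact hW.2.1 g hg
  set Q₁ : Subgroup Γ₁ := Q.subgroupOf Γ₁ with hQ₁
  have hQ₁n : Q₁.Normal := Subgroup.normal_subgroupOf_sup_of_le_normalizer hXQ
  let x₁ : Γ₁ := ⟨x, hxΓ₁⟩
  let σ : Representation k ↥Γ₁ V := ρ.comp Γ₁.subtype
  have hσW : Inv σ W := fun g u hu => hΓ₁stab g.2 u hu
  let τ : Representation k ↥Γ₁ ↥W := sub σ W hσW
  have hτ : ∀ (g : Γ₁) (w : W), ((τ g w : W) : V) = ρ (g : Γ) w := fun g w => rfl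
  have hcard : Nat.card Q₁ = Nat.card Q :=
    Nat.card_congr (Subgroup.subgroupOfEquivOfLe hQΓ₁).toEquiv
  have hQk₁ : (Nat.card Q₁ : k) ≠ 0 := by rw [hcard]; exact hQk
  have hirr : IrrOn τ Q₁ := by
    refine ⟨Submodule.nontrivial_iff_ne_bot.2 hW.1, ?_⟩
    intro U' hU'
    have hUW : U'.map W.subtype ≤ W := by
      rintro _ ⟨u, -, rfl⟩
      exact u.2
    have hUinv : InvOn ρ Q (U'.map W.subtype) := by
      rintro h hh _ ⟨u, hu, rfl⟩
      refine ⟨τ ⟨h, hQΓ₁ hh⟩ u, hU' ⟨h, hQΓ₁ hh⟩ ?_ u hu, rfl⟩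
      exact Subgroup.mem_subgroupOf.2 hh
    rcases hW.2.2 _ hUW hUinv with h | h
    · left
      apply Submodule.map_injective_of_injective W.subtype_injective
      rw [Submodule.map_bot]
      exact h
    · right
      apply Submodule.map_injective_of_injective W.subtype_injective
      rw [Submodule.map_subtype_top]
      exact h
  have hx₁ : orderOf x₁ = p ^ m := by
    rw [← hx]
    exact Subgroup.orderOf_mk x hxΓ₁
  have hxf : τ x₁ = 1 → x₁ = 1 := by
    intro h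
    exfalso
    obtain ⟨w, hw, hne⟩ := hxnt
    apply hne
    have := congrArg (fun f : Module.End k W => ((f ⟨w, hw⟩ : W) : V)) h
    exact this
  have hfree₁ : ∀ u ∈ Q₁, ∀ y ∈ Subgroup.zpowers x₁, y ≠ 1 → y * u * y⁻¹ = u →
      ∃ c : k, τ u = c • (1 : Module.End k W) := by
    intro u hu y hy hy1 hyu
    have hyx : (y : Γ) ∈ Subgroup.zpowers x := by
      obtain ⟨n, rfl⟩ := Subgroup.mem_zpowers_iff.1 hy
      exact Subgroup.mem_zpowers_iff.2 ⟨n, by simp [x₁]⟩
    have hy1' : (y : Γ) ≠ 1 := fun h => hy1 (Subtype.ext h)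
    have hyu' : (y : Γ) * (u : Γ) * (y : Γ)⁻¹ = u := congrArg Subtype.val hyu
    obtain ⟨c, hc⟩ := hfree (u : Γ) (Subgroup.mem_subgroupOf.1 hu) (y : Γ) hyx hy1' hyu'
    refine ⟨c, ?_⟩
    apply LinearMap.ext
    intro w
    apply Subtype.ext
    rw [hτ, hc w w.2]
    rfl
  have hpow : ∀ (j : ℕ) (w : W), ((((τ x₁ - 1) ^ j) w : W) : V) = ((ρ x - 1) ^ j) (w : V) := by
    intro j
    induction j with
    | zero => intro w; simp
    | succ j ih =>
      intro w
      rw [pow_succ, Module.End.mul_apply, ih, pow_succ, Module.End.mul_apply]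
      congr 1
  have hs₁ : (τ x₁ - 1) ^ s = 0 := by
    apply LinearMap.ext
    intro w
    apply Subtype.ext
    rw [hpow, hs w w.2]
    rfl
  have hmin₁ : ∀ t < s, (τ x₁ - 1) ^ t ≠ 0 := by
    intro t ht h0
    obtain ⟨w, hw, hne⟩ := hmin t ht
    apply hne
    have := hpow t ⟨w, hw⟩
    rw [h0] at this
    exact this.symm
  exact core p τ Q₁ hQk₁ hirr x₁ m hx₁ hxf hfree₁ s hs₁ hmin₁

end Cfsg.Agent.Lib.H19.HH
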