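import Mathlib
import Cfsg.Agent.Lib.H19.HHSub

/-!
# Hall–Higman Theorem B over an algebraically closed field, reduced situation (helper19)

`thmB_core` : `Q` a `q`-subgroup normalized by `x` of order `p^n`, `y = x^(p^(n-1))`,
`Q = [Q, y]`, `C_Q(y) ≤ Z(Q)`, `ρ` faithful on `Q` in characteristic `p`. Then the nilpotency degree
`r` of `ρ x - 1` is `p^n`, or `p^n₀ - 1 = q^m`, `Q` is nonabelian and `p^(n-n₀)(p^n₀-1) ≤ r`.
-/

set_option autoImplicit false

namespace Cfsg.Agent.Lib.H19.HH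

open Module Cfsg.Agent.Lib.H19.ModRep

variable {k : Type*} [Field k] {Γ : Type*} [Group Γ] {V : Type*} [AddCommGroup V] [Module k V]

theorem pow_conj_mem {A : Subgroup Γ} {x : Γ} (hxA : ∀ a ∈ A, x * a * x⁻¹ ∈ A) (j : ℕ) :
    ∀ a ∈ A, x ^ j * a * (x ^ j)⁻¹ ∈ A := by
  induction j with
  | zero => intro a ha; simpa using ha
  | succ j ih =>
    intro a ha
    have h1 := hxA _ (ih a ha)
    have e : x ^ (j + 1) * a * (x ^ (j + 1))⁻¹ = x * (x ^ j * a * (x ^ j)⁻¹) * x⁻¹ := by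
      rw [pow_succ']
      group
    rw [e]
    exact h1

/-- the pointwise stabilizer of a subspace -/
def fixer (ρ : Representation k Γ V) (W : Submodule k V) : Subgroup Γ where
  carrier := {g | ∀ w ∈ W, ρ g w = w}
  one_mem' := by intro w _; simp
  mul_mem' := by
    intro a b ha hb w hw
    rw [map_mul, Module.End.mul_apply, hb w hw, ha w hw]
  inv_mem' := by
    intro a ha w hw
    have h1 : ρ a⁻¹ (ρ a w) = w := by
      rw [← Module.End.mul_apply, ← map_mul, inv_mul_cancel, map_one, Module.End.one_apply]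
    rw [ha w hw] at h1
    exact h1

theorem mem_fixer {ρ : Representation k Γ V} {W : Submodule k V} {g : Γ} :
    g ∈ fixer ρ W ↔ ∀ w ∈ W, ρ g w = w := Iff.rfl

/-- In a cyclic `p`-group every nontrivial subgroup contains the subgroup of order `p`. -/
theorem pow_mem_zpowers_of_ne_one {G : Type*} [Group G] {p m : ℕ} (hp : p.Prime) (hm : 1 ≤ m)
    {x₁ y' : G} (hx₁ : orderOf x₁ = p ^ m) (hy' : y' ∈ Subgroup.zpowers x₁) (hne : y' ≠ 1) :
    x₁ ^ (p ^ (m - 1)) ∈ Subgroup.zpowers y' := by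
  have hfin : IsOfFinOrder x₁ := by
    rw [← orderOf_pos_iff, hx₁]
    exact pow_pos hp.pos m
  obtain ⟨i₀, rfl⟩ := (Submonoid.mem_powers_iff _ _).1 (hfin.mem_powers_iff_mem_zpowers.2 hy')
  set d := Nat.gcd i₀ (p ^ m) with hd
  have hdmem : x₁ ^ d ∈ Subgroup.zpowers (x₁ ^ i₀) := by
    have hb := Nat.gcd_eq_gcd_ab i₀ (p ^ m)
    have h1 : x₁ ^ (d : ℤ) = (x₁ ^ i₀) ^ (Nat.gcdA i₀ (p ^ m)) := by
      rw [hd, hb, zpow_add, zpow_mul, zpow_mul, zpow_natCast, zpow_natCast, ← hx₁,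
        pow_orderOf_eq_one, one_zpow, mul_one]
    rw [zpow_natCast] at h1
    rw [h1]
    exact Subgroup.zpow_mem _ (Subgroup.mem_zpowers _) _
  obtain ⟨e, hem, hde⟩ := (Nat.dvd_prime_pow hp).1 (Nat.gcd_dvd_right i₀ (p ^ m))
  have helt : e < m := by
    by_contra hge
    have hem' : e = m := le_antisymm hem (not_lt.1 hge)
    apply hne
    have : p ^ m ∣ i₀ := by
      rw [← hem', ← hde]
      exact Nat.gcd_dvd_left _ _
    rw [← hx₁] at this
    exact orderOf_dvd_iff_pow_eq_one.1 this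
  have : x₁ ^ (p ^ (m - 1)) = (x₁ ^ d) ^ (p ^ (m - 1 - e)) := by
    rw [← pow_mul, hd, hde, ← pow_add]
    congr 2
    omega
  rw [this]
  exact Subgroup.pow_mem _ hdmem _

/-- If `Q` acts nontrivially (and `|Q|` is invertible) there is an irreducible subspace on which
`Q` acts nontrivially. -/
theorem exists_irrSub_nontrivial [FiniteDimensional k V] [Finite Γ] (ρ : Representation k Γ V)
    (Q : Subgroup Γ) (hQk : (Nat.card Q : k) ≠ 0) (hnt : ∃ g ∈ Q, ρ g ≠ 1) :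
    ∃ W : Submodule k V, IrrSub ρ Q W ∧ ¬ ∀ g ∈ Q, ∀ w ∈ W, ρ g w = w := by
  classical
  have : Fintype Q := Fintype.ofFinite Q
  set e : Module.End k V := ∑ g : Q, ρ (g : Γ) with he
  have heh : ∀ h ∈ Q, e * ρ h = e := by
    intro h hh
    rw [he, Finset.sum_mul]
    apply Fintype.sum_equiv (Equiv.mulRight (⟨h, hh⟩ : Q))
    intro g
    simp [map_mul]
  have hinv : InvOn ρ Q (LinearMap.ker e) := by
    intro h hh v hv
    rw [LinearMap.mem_ker] at hv ⊢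
    rw [← Module.End.mul_apply, heh h hh, hv]
  have hne : LinearMap.ker e ≠ ⊥ := by
    intro hbot
    obtain ⟨g₀, hg₀, hρ⟩ := hnt
    apply hρ
    apply LinearMap.ext
    intro v
    have h1 : ρ g₀ v - v ∈ LinearMap.ker e := by
      rw [LinearMap.mem_ker, map_sub, ← Module.End.mul_apply, heh g₀ hg₀, sub_self]
    rw [hbot, Submodule.mem_bot, sub_eq_zero] at h1
    rw [h1, Module.End.one_apply]
  obtain ⟨W, hWle, hW⟩ := exists_irrSub_le ρ Q _ hne hinv
  refine ⟨W, hW, ?_⟩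
  intro hall
  apply hW.1
  rw [eq_bot_iff]
  intro w hw
  have h1 : e w = 0 := LinearMap.mem_ker.1 (hWle hw)
  rw [he, LinearMap.sum_apply] at h1
  have h2 : ∀ g : Q, ρ (g : Γ) w = w := fun g => hall g g.2 w hw
  rw [Finset.sum_congr rfl fun g _ => h2 g, Finset.sum_const, Finset.card_univ,
    Fintype.card_eq_nat_card, ← Nat.cast_smul_eq_nsmul k] at h1
  rcases smul_eq_zero.1 h1 with h | h
  · exact absurd h hQk
  · rw [h]; exact Submodule.zero_mem _

theorem finrank_eq_one_of_scalar_sub {ρ : Representation k Γ V} {Q : Subgroup Γ}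
    {W : Submodule k V} (hW : IrrSub ρ Q W)
    (h : ∀ g ∈ Q, ∃ c : k, ∀ w ∈ W, ρ g w = c • w) : finrank k W = 1 := by
  obtain ⟨w, hw, hw0⟩ := (Submodule.ne_bot_iff _).1 hW.1
  have hle : Submodule.span k {w} ≤ W := (Submodule.span_singleton_le_iff_mem w W).2 hw
  have hinv : InvOn ρ Q (Submodule.span k {w}) := by
    intro g hg u hu
    obtain ⟨c, hc⟩ := h g hg
    rw [hc u (hle hu)]
    exact Submodule.smul_mem _ _ hu
  rcases hW.2.2 _ hle hinv with h1 | h1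
  · exfalso
    apply hw0
    have : w ∈ Submodule.span k {w} := Submodule.mem_span_singleton_self w
    rw [h1, Submodule.mem_bot] at this
    exact this
  · rw [← h1]
    exact finrank_span_singleton hw0

/-- **Hall–Higman Theorem B**, reduced situation over an algebraically closed field. -/
theorem thmB_core [IsAlgClosed k] [FiniteDimensional k V] [Finite Γ] (p q : ℕ) [Fact p.Prime]
    [Fact q.Prime] (hpq : p ≠ q) [CharP k p] (ρ : Representation k Γ V) (Q : Subgroup Γ)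
    (hQ : IsPGroup q Q) (x : Γ) (hxQ : ∀ g ∈ Q, x * g * x⁻¹ ∈ Q) (n : ℕ) (hn : 1 ≤ n)
    (hx : orderOf x = p ^ n) (hfaith : ∀ u ∈ Q, ρ u = 1 → u = 1)
    (hG0 : Q ≤ Subgroup.closure
      {c | ∃ u ∈ Q, c = x ^ (p ^ (n - 1)) * u * (x ^ (p ^ (n - 1)))⁻¹ * u⁻¹})
    (hG1 : ∃ u ∈ Q, x ^ (p ^ (n - 1)) * u ≠ u * x ^ (p ^ (n - 1)))
    (hG2 : ∀ u ∈ Q, x ^ (p ^ (n - 1)) * u = u * x ^ (p ^ (n - 1)) → ∀ v ∈ Q, u * v = v * u)
    (r : ℕ) (hr : (ρ x - 1) ^ r = 0) (hrmin : ∀ t < r, (ρ x - 1) ^ t ≠ 0) :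
    r = p ^ n ∨ ∃ n₀ m : ℕ, 1 ≤ n₀ ∧ n₀ ≤ n ∧ 1 ≤ m ∧ p ^ n₀ - 1 = q ^ m ∧
      (∃ u ∈ Q, ∃ v ∈ Q, u * v ≠ v * u) ∧ p ^ (n - n₀) * (p ^ n₀ - 1) ≤ r := by
  classical
  have hp : p.Prime := Fact.out
  have hq : q.Prime := Fact.out
  set y := x ^ (p ^ (n - 1)) with hy
  set T := ρ x with hT
  -- `|Q| ≠ 0` in `k`
  have hqk : (q : k) ≠ 0 := by
    intro h0
    have := (CharP.cast_eq_zero_iff k p q).1 h0
    exact hpq ((Nat.prime_dvd_prime_iff_eq hp hq).1 this)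
  have hQk : (Nat.card Q : k) ≠ 0 := by
    obtain ⟨a, ha⟩ := IsPGroup.iff_card.1 hQ
    rw [ha, Nat.cast_pow]
    exact pow_ne_zero _ hqk
  -- `r ≤ p ^ n`
  have hTP : T ^ (p ^ n) = 1 := by rw [hT, ← map_pow, ← hx, pow_orderOf_eq_one, map_one]
  have hNP : (T - 1) ^ (p ^ n) = 0 := by
    rw [sub_one_pow_char_pow (k := k) p n T, hTP, sub_self]
  have hrP : r ≤ p ^ n := by
    by_contra hlt
    push Not at hlt
    exact hrmin _ hlt hNP
  have hlower : ∀ j : ℕ, (∃ w : V, ((T - 1) ^ j) w ≠ 0) → j < r := by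
    intro j ⟨w, hw⟩
    by_contra hle
    push Not at hle
    apply hw
    obtain ⟨c, rfl⟩ := Nat.exists_eq_add_of_le hle
    rw [pow_add, hr, zero_mul, LinearMap.zero_apply]
  -- `Q` acts nontrivially
  have hQnt : ∃ g ∈ Q, ρ g ≠ 1 := by
    obtain ⟨u, hu, hyu⟩ := hG1
    refine ⟨u, hu, fun h1 => hyu ?_⟩
    rw [hfaith u hu h1, mul_one, one_mul]
  obtain ⟨W₀, hW₀, hW₀nt⟩ := exists_irrSub_nontrivial ρ Q hQk hQnt
  obtain ⟨t, W₁, P₀, ht0, htdvd, hW₁, hW₁nt, hW₁t, hP₀id, hP₀s⟩ :=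
    clifford_cyclic ρ Q hQk x hxQ W₀ hW₀ hW₀nt
  rw [hx] at htdvd
  obtain ⟨a, han, rfl⟩ := (Nat.dvd_prime_pow hp).1 htdvd
  have hP₀s' : ∀ s : ℕ, 0 < s → s < p ^ a → ∀ w ∈ W₁, P₀ ((T ^ s) w) = 0 := by
    intro s hs0 hs w hw
    rw [hT, ← map_pow]
    exact hP₀s s hs0 hs w hw
  have hW₁t' : ∀ w ∈ W₁, (T ^ (p ^ a)) w ∈ W₁ := by
    intro w hw
    rw [hT, ← map_pow]
    exact hW₁t w hw
  obtain ⟨w₁, hw₁, hw₁0⟩ := (Submodule.ne_bot_iff _).1 hW₁.1
  by_cases han' : a = n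
  · -- the regular case
    left
    subst han'
    have h1 := pow_sub_one_apply_ne_zero (k := k) p a T W₁ P₀ hP₀id hP₀s' hW₁t' 1 le_rfl w₁ hw₁
      (by simpa using hw₁0)
    rw [mul_one] at h1
    have := hlower _ ⟨w₁, h1⟩
    have hpos : 0 < p ^ a := pow_pos hp.pos a
    omega
  -- the critical case
  have halt : a < n := lt_of_le_of_ne han han'
  set m := n - a with hm
  have hm1 : 1 ≤ m := by omega
  set x₁ := x ^ (p ^ a) with hx₁
  have hx₁ord : orderOf x₁ = p ^ m := by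
    rw [hx₁, orderOf_pow_of_dvd (pow_pos hp.pos a).ne' (by rw [hx]; exact pow_dvd_pow p han), hx,
      Nat.pow_div han hp.pos]
  have hyx₁ : y = x₁ ^ (p ^ (m - 1)) := by
    rw [hy, hx₁, ← pow_mul, ← pow_add]
    congr 2
    omega
  have hx₁Q : ∀ g ∈ Q, x₁ * g * x₁⁻¹ ∈ Q := pow_conj_mem hxQ _
  have hT₁ : ρ x₁ = T ^ (p ^ a) := by rw [hx₁, map_pow]
  -- `x₁` acts nontrivially on `W₁`
  have hxnt : ∃ w ∈ W₁, ρ x₁ w ≠ w := by
    by_contra hall
    push Not at hall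
    apply hW₁nt
    have hx₁fix : x₁ ∈ fixer ρ W₁ := hall
    have hyfix : y ∈ fixer ρ W₁ := by
      rw [hyx₁]
      exact Subgroup.pow_mem _ hx₁fix _
    have hQfix : Q ≤ fixer ρ W₁ := by
      refine hG0.trans ?_
      rw [Subgroup.closure_le]
      rintro c ⟨u, hu, rfl⟩
      intro w hw
      have h1 : ρ u⁻¹ w ∈ W₁ := hW₁.2.1 _ (Subgroup.inv_mem _ hu) w hw
      have h2 : ρ y⁻¹ (ρ u⁻¹ w) = ρ u⁻¹ w := (Subgroup.inv_mem _ hyfix) _ h1
      rw [map_mul, map_mul, map_mul, Module.End.mul_apply, Module.End.mul_apply,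
        Module.End.mul_apply, h2, ← Module.End.mul_apply (ρ u), ← map_mul, mul_inv_cancel,
        map_one, Module.End.one_apply]
      exact hyfix w hw
    intro g hg w hw
    exact hQfix hg w hw
  -- the freeness hypothesis
  have hfree : ∀ u ∈ Q, ∀ y' ∈ Subgroup.zpowers x₁, y' ≠ 1 → y' * u * y'⁻¹ = u →
      ∃ c : k, ∀ w ∈ W₁, ρ u w = c • w := by
    intro u hu y' hy' hy'1 hy'u
    have hymem : y ∈ Subgroup.zpowers y' := by
      rw [hyx₁]
      exact pow_mem_zpowers_of_ne_one hp hm1 hx₁ord hy' hy'1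
    have hcomm' : y' * u = u * y' := by
      calc y' * u = (y' * u * y'⁻¹) * y' := by group
        _ = u * y' := by rw [hy'u]
    have hyu : y * u = u * y := by
      obtain ⟨j, hj⟩ := Subgroup.mem_zpowers_iff.1 hymem
      rw [← hj]
      exact ((Commute.zpow_left hcomm' j : Commute (y' ^ j) u)).eq
    have hcen := hG2 u hu hyu
    apply schur_sub hW₁ (ρ u) (fun w hw => hW₁.2.1 u hu w hw)
    intro g hg w _
    rw [← Module.End.mul_apply, ← Module.End.mul_apply, ← map_mul, ← map_mul, hcen g hg]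
  -- the nilpotency degree on `W₁`
  have hex : ∃ s : ℕ, ∀ w ∈ W₁, ((ρ x₁ - 1) ^ s) w = 0 := by
    refine ⟨p ^ m, fun w _ => ?_⟩
    rw [sub_one_pow_char_pow (k := k) p m (ρ x₁), ← map_pow, ← hx₁ord, pow_orderOf_eq_one,
      map_one, sub_self, LinearMap.zero_apply]
  set r₁ := Nat.find hex with hr₁
  have hr₁s : ∀ w ∈ W₁, ((ρ x₁ - 1) ^ r₁) w = 0 := Nat.find_spec hex
  have hr₁min : ∀ t < r₁, ∃ w ∈ W₁, ((ρ x₁ - 1) ^ t) w ≠ 0 := by
    intro t ht
    have := Nat.find_min hex ht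
    push Not at this
    exact this
  have hcore := core_sub p ρ Q hQk x₁ hx₁Q W₁ hW₁ (fun w hw => hW₁t w hw) m hx₁ord hxnt hfree r₁
    hr₁s hr₁min
  -- `r₁ ≥ 2`
  have hr₁2 : 2 ≤ r₁ := by
    by_contra hlt
    push Not at hlt
    obtain ⟨w, hw, hne⟩ := hxnt
    apply hne
    have h1 : ((ρ x₁ - 1) ^ 1 : Module.End k V) w = 0 := by
      have h2 := hr₁s w hw
      obtain ⟨c, hc⟩ := Nat.exists_eq_add_of_le (Nat.lt_succ_iff.1 hlt)
      rw [hc, add_comm, pow_add, Module.End.mul_apply, h2, map_zero]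
    rw [pow_one, LinearMap.sub_apply, Module.End.one_apply, sub_eq_zero] at h1
    exact h1
  -- the lower bound `p ^ a * r₁ ≤ r`
  have hbound : p ^ a * r₁ ≤ r := by
    obtain ⟨w, hw, hne⟩ := hr₁min (r₁ - 1) (by omega)
    rw [hT₁] at hne
    have h1 := pow_sub_one_apply_ne_zero (k := k) p a T W₁ P₀ hP₀id hP₀s' hW₁t' r₁ (by omega) w hw
      hne
    have := hlower _ ⟨w, h1⟩
    omega
  have hpam : p ^ a * p ^ m = p ^ n := by
    rw [← pow_add]
    congr 1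
    omega
  by_cases hr₁P : r₁ = p ^ m
  · left
    rw [hr₁P, hpam] at hbound
    omega
  right
  have hr₁eq : r₁ = p ^ m - 1 := by omega
  have hdim := hcore.2.2 hr₁eq
  obtain ⟨b, hb⟩ := qpow_sub q ρ Q hQ W₁ hW₁
  refine ⟨m, b, hm1, by omega, ?_, by rw [← hdim, hb], ?_, ?_⟩
  · by_contra hb0
    have hb0' : b = 0 := by omega
    rw [hb0', pow_zero] at hb
    omega
  · by_contra hcomm
    push Not at hcomm
    have hsc : ∀ g ∈ Q, ∃ c : k, ∀ w ∈ W₁, ρ g w = c • w := by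
      intro g hg
      apply schur_sub hW₁ (ρ g) (fun w hw => hW₁.2.1 g hg w hw)
      intro g' hg' w _
      rw [← Module.End.mul_apply, ← Module.End.mul_apply, ← map_mul, ← map_mul, hcomm g hg g' hg']
    have := finrank_eq_one_of_scalar_sub hW₁ hsc
    omega
  · have : n - m = a := by omega
    rw [this, ← hr₁eq]
    exact hbound

end Cfsg.Agent.Lib.H19.HH
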