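import Mathlib
import Cfsg.Agent.Lib.H19.HHTw
import Cfsg.Agent.Lib.H19.HHSub
import Cfsg.Agent.Lib.H19.HHMain

/-!
# Theorem Q: the two-dimensional module and the covering of `K / Z(K)` (helper19)
-/

set_option autoImplicit false
set_option linter.unusedSectionVars false

namespace Cfsg.Agent.Lib.H19.HH

open Module Cfsg.Agent.Lib.H19.ModRep

variable {k : Type*} [Field k] {Γ : Type*} [Group Γ] {V : Type*} [AddCommGroup V] [Module k V]

/-- an invariant irreducible subspace for a quadratic element of prime order -/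
theorem exists_invariant_irrSub_of_quadratic [IsAlgClosed k] [FiniteDimensional k V] [Finite Γ]
    {p : ℕ} [Fact p.Prime] (hp2 : p ≠ 2) (ρ : Representation k Γ V) (K : Subgroup Γ)
    (hKk : (Nat.card K : k) ≠ 0) {a : Γ} (haK : ∀ g ∈ K, a * g * a⁻¹ ∈ K) (hord : orderOf a = p)
    (hq : ∀ w : V, (ρ a - 1) ((ρ a - 1) w) = 0) (hnt : ∃ g ∈ K, ρ g ≠ 1) :
    ∃ W : Submodule k V, IrrSub ρ K W ∧ (¬ ∀ g ∈ K, ∀ w ∈ W, ρ g w = w) ∧
      ∀ w ∈ W, ρ a w ∈ W := by
  have hp : p.Prime := Fact.out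
  obtain ⟨W₀, hW₀, hnt₀⟩ := exists_irrSub_nontrivial ρ K hKk hnt
  obtain ⟨t, W₁, P₀, ht0, htdvd, hW₁, hnt₁, hinv, hP₁, hP₂⟩ :=
    clifford_cyclic ρ K hKk a haK W₀ hW₀ hnt₀
  rw [hord] at htdvd
  rcases (Nat.dvd_prime hp).1 htdvd with h1 | h1
  · subst h1
    refine ⟨W₁, hW₁, hnt₁, ?_⟩
    intro w hw
    have := hinv w hw
    rwa [pow_one] at this
  · exfalso
    subst h1
    have h3 : 3 ≤ t := by
      have := hp.two_le
      omega
    apply hW₁.1
    rw [eq_bot_iff]
    intro w hw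
    rw [Submodule.mem_bot]
    have h4 : w + (-2 : k) • ρ a w + ρ a (ρ a w) = 0 := by
      have := hq w
      simp only [LinearMap.sub_apply, Module.End.one_apply, map_sub] at this
      rw [neg_smul, two_smul]
      rw [← this]
      abel
    have h5 := congrArg P₀ h4
    rw [map_add, map_add, map_smul, map_zero] at h5
    have e1 : P₀ (ρ a w) = 0 := by
      have := hP₂ 1 (by omega) (by omega) w hw
      rwa [pow_one] at this
    have e2 : P₀ (ρ a (ρ a w)) = 0 := by
      have := hP₂ 2 (by omega) (by omega) w hw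
      rwa [sq, map_mul, Module.End.mul_apply] at this
    rw [e1, e2, smul_zero, add_zero, add_zero, hP₁ w hw] at h5
    exact h5

/-- the dimension of such a subspace -/
theorem finrank_eq_two_of_quadratic [IsAlgClosed k] [FiniteDimensional k V] [Finite Γ]
    {p : ℕ} [Fact p.Prime] [CharP k p] (hp2 : p ≠ 2) (ρ : Representation k Γ V) (K : Subgroup Γ)
    (hKk : (Nat.card K : k) ≠ 0) {a : Γ} (haK : ∀ g ∈ K, a * g * a⁻¹ ∈ K) (hord : orderOf a = p)
    (hq : ∀ w : V, (ρ a - 1) ((ρ a - 1) w) = 0) {W : Submodule k V} (hW : IrrSub ρ K W)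
    (hWa : ∀ w ∈ W, ρ a w ∈ W) (hxnt : ∃ w ∈ W, ρ a w ≠ w)
    (hfree : ∀ g ∈ K, a * g = g * a → ∃ c : k, ∀ w ∈ W, ρ g w = c • w) :
    p = 3 ∧ finrank k W = 2 := by
  have hp : p.Prime := Fact.out
  have hord' : orderOf a = p ^ 1 := by rw [pow_one]; exact hord
  have hfree' : ∀ g ∈ K, ∀ y ∈ Subgroup.zpowers a, y ≠ 1 → y * g * y⁻¹ = g →
      ∃ c : k, ∀ w ∈ W, ρ g w = c • w := by
    intro g hg y hy hy1 hyg
    apply hfree g hg
    have h1 := pow_mem_zpowers_of_ne_one hp le_rfl hord' hy hy1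
    rw [Nat.sub_self, pow_zero, pow_one] at h1
    obtain ⟨n, hn⟩ := Subgroup.mem_zpowers_iff.1 h1
    have hc : Commute y g := by
      show y * g = g * y
      calc y * g = y * g * y⁻¹ * y := by group
        _ = g * y := by rw [hyg]
    rw [← hn]
    exact (hc.zpow_left n).eq
  have hs : ∀ w ∈ W, (((ρ a - 1) ^ 2 : Module.End k V)) w = 0 := by
    intro w _
    rw [sq, Module.End.mul_apply]
    exact hq w
  have hmin : ∀ t < 2, ∃ w ∈ W, (((ρ a - 1) ^ t : Module.End k V)) w ≠ 0 := by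
    intro t ht
    interval_cases t
    · obtain ⟨w, hw, hw0⟩ := (Submodule.ne_bot_iff _).1 hW.1
      exact ⟨w, hw, by simpa using hw0⟩
    · obtain ⟨w, hw, hne⟩ := hxnt
      refine ⟨w, hw, ?_⟩
      rw [pow_one, LinearMap.sub_apply, Module.End.one_apply]
      exact sub_ne_zero.2 hne
  obtain ⟨h1, h2, h3⟩ := core_sub p ρ K hKk a haK W hW hWa 1 hord' hxnt hfree' 2 hs hmin
  rw [pow_one] at h1 h2 h3
  have hp3 : p = 3 := by
    have := hp.two_le
    omega
  refine ⟨hp3, ?_⟩
  have := h3 (by omega)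
  omega

/-- no line in a plane is invariant under two anticommuting invertible operators -/
theorem irrSub_closure_pair [FiniteDimensional k V] (ρ : Representation k Γ V) {K : Subgroup Γ}
    {W : Submodule k V} (hWK : InvOn ρ K W) (hW2 : finrank k W = 2) {x y : Γ} (hx : x ∈ K)
    (hy : y ∈ K) (hanti : ∀ w ∈ W, ρ x (ρ y w) = -(ρ y (ρ x w))) (h2 : (2 : k) ≠ 0) :
    IrrSub ρ (Subgroup.closure {x, y}) W := by
  have hle : Subgroup.closure {x, y} ≤ K := by
    rw [Subgroup.closure_le]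
    intro g hg
    rcases hg with rfl | rfl
    · exact hx
    · exact hy
  refine ⟨?_, fun g hg w hw => hWK g (hle hg) w hw, ?_⟩
  · intro h0
    rw [h0, finrank_bot] at hW2
    omega
  intro U hUW hUinv
  have hle2 : finrank k U ≤ 2 := hW2 ▸ Submodule.finrank_mono hUW
  by_cases h0 : finrank k U = 0
  · left
    exact Submodule.finrank_eq_zero.1 h0
  by_cases h2' : finrank k U = 2
  · right
    exact Submodule.eq_of_le_of_finrank_eq hUW (by rw [h2', hW2])
  exfalso
  have h1 : finrank k U = 1 := by omega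
  obtain ⟨e, he0, hspan⟩ := finrank_eq_one_iff'.1 h1
  have hxU : ρ x e ∈ U := hUinv x (Subgroup.subset_closure (by simp)) e e.2
  have hyU : ρ y e ∈ U := hUinv y (Subgroup.subset_closure (by simp)) e e.2
  obtain ⟨α, hα⟩ := hspan ⟨_, hxU⟩
  obtain ⟨β, hβ⟩ := hspan ⟨_, hyU⟩
  have hα' : ρ x (e : V) = α • (e : V) := by
    have := congrArg Subtype.val hα
    simpa using this.symm
  have hβ' : ρ y (e : V) = β • (e : V) := by
    have := congrArg Subtype.val hβ
    simpa using this.symm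
  have he0' : (e : V) ≠ 0 := fun h => he0 (Subtype.ext h)
  have h3 := hanti e (hUW e.2)
  rw [hβ', hα', map_smul, map_smul, hα', hβ', smul_smul, smul_smul, ← neg_smul] at h3
  have h4 : (β * α + α * β) • (e : V) = 0 := by
    rw [add_smul, h3, neg_smul, neg_add_cancel]
  rcases smul_eq_zero.1 h4 with h5 | h5
  · have h6 : (2 : k) * (α * β) = 0 := by
      rw [← h5]; ring
    rcases mul_eq_zero.1 h6 with h7 | h7
    · exact h2 h7
    · have hinj : ∀ g : Γ, ∀ w : V, ρ g w = 0 → w = 0 := by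
        intro g w hw
        have := congrArg (ρ g⁻¹) hw
        rwa [← Module.End.mul_apply, ← map_mul, inv_mul_cancel, map_one, Module.End.one_apply,
          map_zero] at this
      rcases mul_eq_zero.1 h7 with h8 | h8
      · rw [h8, zero_smul] at hα'
        exact he0' (hinj x _ hα')
      · rw [h8, zero_smul] at hβ'
        exact he0' (hinj y _ hβ')
  · exact he0' h5

end Cfsg.Agent.Lib.H19.HH
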