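import Mathlib
import Cfsg.Agent.Lib.H19.HHD5

/-!
# Theorem Q: `K / Z(K)` has at most four elements (helper19)
-/

set_option autoImplicit false
set_option linter.unusedSectionVars false

namespace Cfsg.Agent.Lib.H19.HH

open Module Cfsg.Agent.Lib.H19.ModRep

section ring

variable {R : Type*} [Ring R] {X Y W : R}

theorem sign_case_pp (hWX : W * X = X * W) (hWY : W * Y = Y * W) :
    W * X = X * W ∧ W * Y = Y * W := ⟨hWX, hWY⟩

theorem sign_case_mp (hXY : X * Y = -(Y * X)) (hWX : W * X = -(X * W)) (hWY : W * Y = Y * W) :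
    (W * Y) * X = X * (W * Y) ∧ (W * Y) * Y = Y * (W * Y) := by
  have hYX : Y * X = -(X * Y) := by rw [hXY, neg_neg]
  constructor
  · calc W * Y * X = W * (Y * X) := by rw [mul_assoc]
      _ = -(W * X * Y) := by rw [hYX, mul_neg, mul_assoc]
      _ = X * (W * Y) := by rw [hWX, neg_mul, neg_neg, mul_assoc]
  · rw [← mul_assoc Y W Y, hWY]

theorem sign_case_pm (hXY : X * Y = -(Y * X)) (hWX : W * X = X * W) (hWY : W * Y = -(Y * W)) :
    (W * X) * X = X * (W * X) ∧ (W * X) * Y = Y * (W * X) := by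
  constructor
  · rw [← mul_assoc X W X, hWX]
  · calc W * X * Y = W * (X * Y) := by rw [mul_assoc]
      _ = -(W * Y * X) := by rw [hXY, mul_neg, mul_assoc]
      _ = Y * (W * X) := by rw [hWY, neg_mul, neg_neg, mul_assoc]

theorem sign_case_mm (hXY : X * Y = -(Y * X)) (hWX : W * X = -(X * W)) (hWY : W * Y = -(Y * W)) :
    (W * X * Y) * X = X * (W * X * Y) ∧ (W * X * Y) * Y = Y * (W * X * Y) := by
  have hYX : Y * X = -(X * Y) := by rw [hXY, neg_neg]
  constructor
  · calc W * X * Y * X = W * X * (Y * X) := by rw [mul_assoc]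
      _ = -(W * X * X * Y) := by rw [hYX, mul_neg, ← mul_assoc]
      _ = -(-(X * W) * X * Y) := by rw [hWX]
      _ = X * W * X * Y := by simp only [neg_mul, neg_neg]
      _ = X * (W * X * Y) := by simp only [mul_assoc]
  · calc W * X * Y * Y = W * (X * Y) * Y := by rw [mul_assoc W X Y]
      _ = -(W * Y * X * Y) := by rw [hXY, mul_neg, neg_mul, ← mul_assoc]
      _ = -(-(Y * W) * X * Y) := by rw [hWY]
      _ = Y * W * X * Y := by simp only [neg_mul, neg_neg]
      _ = Y * (W * X * Y) := by simp only [mul_assoc]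

end ring

variable {k : Type*} [Field k] {Γ : Type*} [Group Γ] {V : Type*} [AddCommGroup V] [Module k V]

/-- commutation up to a sign in a group with scalar commutators acting irreducibly on a plane -/
theorem comm_scalar [FiniteDimensional k V] (ρ : Representation k Γ V) (K : Subgroup Γ)
    (hZs : ∀ z ∈ K, (∀ x ∈ K, z * x = x * z) → ∃ c : k, ∀ w : V, ρ z w = c • w)
    (hcl2 : ∀ x ∈ K, ∀ y ∈ K, ∀ t ∈ K, (x * y * x⁻¹ * y⁻¹) * t = t * (x * y * x⁻¹ * y⁻¹))
    {W : Submodule k V} (hWK : InvOn ρ K W) (hW2 : finrank k W = 2) {x y : Γ} (hx : x ∈ K)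
    (hy : y ∈ K) : ρ x * ρ y = ρ y * ρ x ∨ ρ x * ρ y = -(ρ y * ρ x) := by
  have hzK : x * y * x⁻¹ * y⁻¹ ∈ K :=
    K.mul_mem (K.mul_mem (K.mul_mem hx hy) (K.inv_mem hx)) (K.inv_mem hy)
  obtain ⟨c, hc⟩ := hZs _ hzK (hcl2 x hx y hy)
  have hrel : ρ x * ρ y = c • (ρ y * ρ x) := by
    have e : x * y = (x * y * x⁻¹ * y⁻¹) * (y * x) := by group
    rw [← map_mul, e, map_mul ρ (x * y * x⁻¹ * y⁻¹) (y * x), map_mul ρ y x]
    apply LinearMap.ext
    intro w
    rw [Module.End.mul_apply, hc, LinearMap.smul_apply]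
  -- the determinant on `W`
  let σ : Representation k ↥K ↥W := sub (ρ.comp K.subtype) W (fun g w hw => hWK g g.2 w hw)
  have hσ : σ ⟨x, hx⟩ * σ ⟨y, hy⟩ = c • (σ ⟨y, hy⟩ * σ ⟨x, hx⟩) := by
    apply LinearMap.ext
    intro w
    apply Subtype.ext
    have := congrArg (fun f : Module.End k V => f (w : V)) hrel
    simp only [Module.End.mul_apply, LinearMap.smul_apply] at this
    exact this
  have hdet := congrArg LinearMap.det hσ
  rw [map_mul, LinearMap.det_smul, map_mul, hW2] at hdet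
  have hne : ∀ g : K, LinearMap.det (σ g) ≠ 0 := by
    intro g h0
    have h1 : LinearMap.det (σ g) * LinearMap.det (σ g⁻¹) = 1 := by
      rw [← map_mul, ← map_mul, mul_inv_cancel, map_one, map_one]
    rw [h0, zero_mul] at h1
    exact zero_ne_one h1
  have hc2 : c ^ 2 = 1 := by
    have h3 : (c ^ 2 - 1) * (LinearMap.det (σ ⟨y, hy⟩) * LinearMap.det (σ ⟨x, hx⟩)) = 0 := by
      rw [sub_mul, one_mul, ← hdet]
      ring
    rcases mul_eq_zero.1 h3 with h4 | h4
    · exact sub_eq_zero.1 h4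
    · exact absurd h4 (mul_ne_zero (hne _) (hne _))
  rcases sq_eq_one_iff_of_ne_zero.1 hc2 with h | h
  · left
    rw [hrel, h, one_smul]
  · right
    rw [hrel, h, neg_one_smul]
where
  sq_eq_one_iff_of_ne_zero {c : k} : c ^ 2 = 1 ↔ c = 1 ∨ c = -1 := sq_eq_one_iff_of_side_cond
  sq_eq_one_iff_of_side_cond {c : k} : c ^ 2 = 1 ↔ c = 1 ∨ c = -1 := by
    rw [sq, mul_self_eq_one_iff]

/-- an element of `K` commuting with the non-commuting pair `x, y` is central -/
theorem central_of_commute_pair [IsAlgClosed k] [FiniteDimensional k V] (ρ : Representation k Γ V)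
    {K : Subgroup Γ} {W : Submodule k V} (hWK : InvOn ρ K W) (hW2 : finrank k W = 2)
    (hfW : ∀ g ∈ K, (∀ w ∈ W, ρ g w = w) → g = 1) (h2 : (2 : k) ≠ 0) {x y : Γ} (hx : x ∈ K)
    (hy : y ∈ K) (hanti : ρ x * ρ y = -(ρ y * ρ x)) {t : Γ} (ht : t ∈ K) (htx : t * x = x * t)
    (hty : t * y = y * t) : ∀ g ∈ K, t * g = g * t := by
  have hanti' : ∀ w ∈ W, ρ x (ρ y w) = -(ρ y (ρ x w)) := by
    intro w _
    have := congrArg (fun f : Module.End k V => f w) hanti
    simpa using this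
  have hirr := irrSub_closure_pair ρ hWK hW2 hx hy hanti' h2
  have hcl : Subgroup.closure {x, y} ≤ Subgroup.centralizer {t} := by
    rw [Subgroup.closure_le]
    intro g hg
    rw [SetLike.mem_coe, Subgroup.mem_centralizer_iff]
    intro s hs
    rw [Set.mem_singleton_iff] at hs
    subst hs
    rcases hg with rfl | rfl
    · exact htx
    · exact hty
  obtain ⟨c, hc⟩ := schur_sub hirr (ρ t) (fun w hw => hWK t ht w hw) (by
    intro g hg w _
    have h1 : t * g = g * t :=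
      (Subgroup.mem_centralizer_iff.1 (hcl hg) t (Set.mem_singleton t))
    rw [← Module.End.mul_apply, ← map_mul, h1, map_mul, Module.End.mul_apply])
  intro g hg
  have hgK : g⁻¹ * t⁻¹ * g * t ∈ K :=
    K.mul_mem (K.mul_mem (K.mul_mem (K.inv_mem hg) (K.inv_mem ht)) hg) ht
  have h1 : g⁻¹ * t⁻¹ * g * t = 1 := by
    apply hfW _ hgK
    intro w hw
    have hy1 : ρ g w ∈ W := hWK g hg w hw
    rw [map_mul, map_mul, map_mul, Module.End.mul_apply, Module.End.mul_apply,
      Module.End.mul_apply, hc w hw, map_smul, ← hc _ hy1, ← Module.End.mul_apply (ρ t⁻¹),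
      ← map_mul, inv_mul_cancel, map_one, Module.End.one_apply, ← Module.End.mul_apply,
      ← map_mul, inv_mul_cancel, map_one, Module.End.one_apply]
  calc t * g = g * t * (g⁻¹ * t⁻¹ * g * t)⁻¹ := by group
    _ = g * t := by rw [h1, inv_one, mul_one]

/-- **`K / Z(K)` is covered by four cosets.** -/
theorem exists_cover [IsAlgClosed k] [FiniteDimensional k V] (ρ : Representation k Γ V)
    (hfaith : Function.Injective ρ) (K : Subgroup Γ)
    (hZs : ∀ z ∈ K, (∀ x ∈ K, z * x = x * z) → ∃ c : k, ∀ w : V, ρ z w = c • w)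
    (hcl2 : ∀ x ∈ K, ∀ y ∈ K, ∀ t ∈ K, (x * y * x⁻¹ * y⁻¹) * t = t * (x * y * x⁻¹ * y⁻¹))
    {W : Submodule k V} (hWK : InvOn ρ K W) (hW2 : finrank k W = 2)
    (hfW : ∀ g ∈ K, (∀ w ∈ W, ρ g w = w) → g = 1) (h2 : (2 : k) ≠ 0) {x y : Γ} (hx : x ∈ K)
    (hy : y ∈ K) (hxy : x * y ≠ y * x) :
    ∀ w ∈ K, ∃ i j : ℕ, i < 2 ∧ j < 2 ∧
      ∀ g ∈ K, (w * x ^ i * y ^ j) * g = g * (w * x ^ i * y ^ j) := by
  have hXY : ρ x * ρ y = -(ρ y * ρ x) := by
    rcases comm_scalar ρ K hZs hcl2 hWK hW2 hx hy with h | h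
    · exfalso
      apply hxy
      apply hfaith
      rw [map_mul, map_mul, h]
    · exact h
  intro w hw
  have key : ∀ t ∈ K, ρ t * ρ x = ρ x * ρ t → ρ t * ρ y = ρ y * ρ t →
      ∀ g ∈ K, t * g = g * t := by
    intro t ht h1 h3
    apply central_of_commute_pair ρ hWK hW2 hfW h2 hx hy hXY ht
    · apply hfaith; rw [map_mul, map_mul, h1]
    · apply hfaith; rw [map_mul, map_mul, h3]
  rcases comm_scalar ρ K hZs hcl2 hWK hW2 hw hx with hWX | hWX <;>
  rcases comm_scalar ρ K hZs hcl2 hWK hW2 hw hy with hWY | hWY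
  · refine ⟨0, 0, by omega, by omega, ?_⟩
    rw [pow_zero, pow_zero, mul_one, mul_one]
    exact key w hw hWX hWY
  · obtain ⟨h1, h3⟩ := sign_case_pm hXY hWX hWY
    refine ⟨1, 0, by omega, by omega, ?_⟩
    rw [pow_one, pow_zero, mul_one]
    apply key _ (K.mul_mem hw hx)
    · rw [map_mul]; exact h1
    · rw [map_mul]; exact h3
  · obtain ⟨h1, h3⟩ := sign_case_mp hXY hWX hWY
    refine ⟨0, 1, by omega, by omega, ?_⟩
    rw [pow_one, pow_zero, mul_one]
    apply key _ (K.mul_mem hw hy)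
    · rw [map_mul]; exact h1
    · rw [map_mul]; exact h3
  · obtain ⟨h1, h3⟩ := sign_case_mm hXY hWX hWY
    refine ⟨1, 1, by omega, by omega, ?_⟩
    rw [pow_one, pow_one]
    apply key _ (K.mul_mem (K.mul_mem hw hx) hy)
    · rw [map_mul, map_mul]; exact h1
    · rw [map_mul, map_mul]; exact h3

end Cfsg.Agent.Lib.H19.HH
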