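import Mathlib
import Cfsg.Agent.Lib.H19.HHD3
import Cfsg.Agent.Lib.H19.HHD4
import Cfsg.Agent.Lib.H19.HHD6

/-!
# Theorem Q: the faithful case (helper19)
-/

set_option autoImplicit false
set_option linter.unusedSectionVars false
set_option maxHeartbeats 800000

namespace Cfsg.Agent.Lib.H19.HH

open Module Cfsg.Agent.Lib.H19.ModRep
open scoped commutatorElement

universe u v

variable {k : Type v} [Field k]

theorem q_faithful [IsAlgClosed k] {p : ℕ} [hpf : Fact p.Prime] [CharP k p] (hp2 : p ≠ 2) {d : ℕ}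
    (IH : ∀ d' < d, QGeneral.{u, v} k p d') {Γ : Type u} [Group Γ] [Finite Γ] {V : Type u}
    [AddCommGroup V] [Module k V] [FiniteDimensional k V] {ρ : Representation k Γ V}
    (hfaith : Function.Injective ρ) (hd : finrank k V = d) {B A K₀ : Subgroup Γ}
    (hdata : QData p ρ ⊤ B A K₀) : K₀ ≤ Subgroup.centralizer (A : Set Γ) := by
  classical
  have hp : p.Prime := hpf.out
  by_contra hnc
  obtain ⟨K, hKK₀, hmc⟩ := exists_minConf hdata.hBK hnc
  have hcop : (Nat.card K).Coprime p :=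
    Nat.Coprime.coprime_dvd_left (Subgroup.card_dvd_of_le hKK₀) hdata.hK
  have hdataK : QData p ρ ⊤ B A K :=
    { hB := hdata.hB
      hAB := hdata.hAB
      hBA := hdata.hBA
      hder := hdata.hder
      hK := hcop
      hBK := hmc.hBK
      hUK := fun _ _ _ _ => Submodule.mem_top
      hUB := hdata.hUB
      hii := hdata.hii
      hi := hdata.hi }
  obtain ⟨q, hq, hqp, hKq⟩ := hmc.exists_isPGroup hdata.hB hcop
  rcases scalar_or_centralizes hp2 IH hfaith hd hdataK with ⟨χ, hχ⟩ | hcen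
  swap
  · exact hmc.hnc hcen
  -- central elements of `K` are scalar
  have hZs : ∀ z ∈ K, (∀ x ∈ K, z * x = x * z) → ∃ c : k, ∀ w : V, ρ z w = c • w := by
    intro z hz hzc
    have hzZ : z ∈ K ⊓ Subgroup.centralizer (K : Set Γ) :=
      ⟨hz, Subgroup.mem_centralizer_iff.2 (fun x hx => (hzc x hx).symm)⟩
    refine ⟨χ ⟨z, hzZ⟩, fun w => ?_⟩
    have hw : w ∈ wt ρ (K ⊓ Subgroup.centralizer (K : Set Γ)) χ := by
      rw [hχ]; exact Submodule.mem_top
    exact (mem_wt ρ _).1 hw ⟨z, hzZ⟩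
  -- class at most two
  have hcl2 : ∀ x ∈ K, ∀ y ∈ K, ∀ t ∈ K,
      (x * y * x⁻¹ * y⁻¹) * t = t * (x * y * x⁻¹ * y⁻¹) := by
    intro x hx y hy t ht
    have h1 : x * y * x⁻¹ * y⁻¹ ∈ ⁅K, K⁆ := Subgroup.commutator_mem_commutator hx hy
    have h2 := hmc.commutator_self_le hdata.hB hdata.hAB hdata.hBA hcop h1
    exact (Subgroup.mem_centralizer_iff.1 h2 t ht).symm
  have hquad : ∀ a ∈ A, ∀ w : V, (ρ a - 1) ((ρ a - 1) w) = 0 := fun a ha w =>
    hdata.hii a ha a ha w Submodule.mem_top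
  have hAp : ∀ a ∈ A, a ^ p = 1 := fun a ha => pow_eq_one_of_quadratic hfaith (hquad a ha)
  -- the element `a`
  obtain ⟨a, haA, hanc, hcen⟩ := hmc.exists_central hdata.hB hdata.hAB hdata.hBA
  have hap := hAp a haA
  have hcl := hmc.le_closure hq hqp.symm hKq hdata.hAB haA hanc hap hcen
  have hCZ := hmc.centralizer_le_center hdata.hB hcop haA hcl
  have ha1 : a ≠ 1 := by
    rintro rfl
    exact hanc (Subgroup.one_mem _)
  have hord : orderOf a = p := orderOf_eq_prime hap ha1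
  have haK : ∀ g ∈ K, a * g * a⁻¹ ∈ K := fun g hg =>
    (Subgroup.mem_normalizer_iff.1 (hmc.hBK (hdata.hAB haA)) g).1 hg
  have hKk : (Nat.card K : k) ≠ 0 := by
    intro h0
    have h1 := (CharP.cast_eq_zero_iff k p _).1 h0
    exact (Nat.Prime.coprime_iff_not_dvd hp).1 hcop.symm h1
  have hnt : ∃ g ∈ K, ρ g ≠ 1 := by
    obtain ⟨g, hg1⟩ := (Subgroup.ne_bot_iff_exists_ne_one).1 hmc.ne_bot
    refine ⟨(g : Γ), g.2, fun h => hg1 (Subtype.ext (hfaith ?_))⟩
    rw [h, Subgroup.coe_one, map_one]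
  obtain ⟨W, hW, hWnt, hWa⟩ :=
    exists_invariant_irrSub_of_quadratic hp2 ρ K hKk haK hord (hquad a haA) hnt
  have hWK : InvOn ρ K W := hW.2.1
  -- inverse of an element fixing a vector fixes it
  have hinvfix : ∀ (g : Γ) (w : V), ρ g w = w → ρ g⁻¹ w = w := by
    intro g w h
    have := congrArg (ρ g⁻¹) h
    rw [← Module.End.mul_apply, ← map_mul, inv_mul_cancel, map_one, Module.End.one_apply] at this
    exact this.symm
  -- commutators of elements acting trivially act trivially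
  have hcommfix : ∀ g : Γ, (∀ w ∈ W, ρ g w = w) → ∀ x ∈ K, ∀ w ∈ W,
      ρ (g * x * g⁻¹ * x⁻¹) w = w := by
    intro g hgW x hx w hw
    have h1 : ρ x⁻¹ w ∈ W := hWK _ (K.inv_mem hx) w hw
    rw [map_mul, map_mul, map_mul, Module.End.mul_apply, Module.End.mul_apply,
      Module.End.mul_apply, hinvfix g _ (hgW _ h1), ← Module.End.mul_apply (ρ x), ← map_mul,
      mul_inv_cancel, map_one, Module.End.one_apply, hgW w hw]
  -- `a` acts nontrivially on `W`
  have hxnt : ∃ w ∈ W, ρ a w ≠ w := by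
    by_contra hall
    push Not at hall
    apply hWnt
    have hle : K ≤ fixer ρ W := by
      refine hcl.trans ?_
      rw [Subgroup.closure_le]
      rintro c ⟨g, hg, rfl⟩
      exact mem_fixer.2 (hcommfix a hall g hg)
    intro g hg w hw
    exact mem_fixer.1 (hle hg) w hw
  have hfree : ∀ g ∈ K, a * g = g * a → ∃ c : k, ∀ w ∈ W, ρ g w = c • w := by
    intro g hg hc
    obtain ⟨c, hc'⟩ := hZs g hg (hCZ g hg hc)
    exact ⟨c, fun w _ => hc' w⟩
  obtain ⟨hp3, hW2⟩ :=
    finrank_eq_two_of_quadratic hp2 ρ K hKk haK hord (hquad a haA) hW hWa hxnt hfree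
  obtain ⟨w0, hw0, hw0ne⟩ := (Submodule.ne_bot_iff _).1 hW.1
  -- a scalar acting trivially on `W` is trivial
  have hsc1 : ∀ g : Γ, (∃ c : k, ∀ w : V, ρ g w = c • w) → (∀ w ∈ W, ρ g w = w) → g = 1 := by
    rintro g ⟨c, hc⟩ hgW
    have h1 : c • w0 = w0 := by rw [← hc w0]; exact hgW w0 hw0
    have h2 : (c - 1) • w0 = 0 := by rw [sub_smul, one_smul, h1, sub_self]
    have hc1 : c = 1 := by
      rcases smul_eq_zero.1 h2 with h | h
      · exact sub_eq_zero.1 h
      · exact absurd h hw0ne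
    apply hfaith
    rw [map_one]
    apply LinearMap.ext
    intro w
    rw [hc w, hc1, one_smul, Module.End.one_apply]
  -- `K` is faithful on `W`
  have hfW : ∀ g ∈ K, (∀ w ∈ W, ρ g w = w) → g = 1 := by
    intro g hg hgW
    have hgc : ∀ x ∈ K, g * x = x * g := by
      intro x hx
      have hzK : g * x * g⁻¹ * x⁻¹ ∈ K :=
        K.mul_mem (K.mul_mem (K.mul_mem hg hx) (K.inv_mem hg)) (K.inv_mem hx)
      have h1 := hsc1 _ (hZs _ hzK (hcl2 g hg x hx)) (hcommfix g hgW x hx)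
      calc g * x = (g * x * g⁻¹ * x⁻¹) * (x * g) := by group
        _ = x * g := by rw [h1, one_mul]
    exact hsc1 g (hZs g hg hgc) hgW
  -- `K` is not abelian
  have hnab : ∃ x ∈ K, ∃ y ∈ K, x * y ≠ y * x := by
    by_contra hab
    push Not at hab
    apply hmc.hnc
    intro g hg
    rw [Subgroup.mem_centralizer_iff]
    intro a' _
    obtain ⟨c, hc⟩ := hZs g hg (hab g hg)
    apply hfaith
    rw [map_mul, map_mul]
    apply LinearMap.ext
    intro w
    rw [Module.End.mul_apply, Module.End.mul_apply, hc, hc, map_smul]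
  obtain ⟨x, hx, y, hy, hxy⟩ := hnab
  have h2k : (2 : k) ≠ 0 := by
    intro h0
    have h1 : ((2 : ℕ) : k) = 0 := by exact_mod_cast h0
    have h2 := (CharP.cast_eq_zero_iff k p 2).1 h1
    exact hp2 ((Nat.prime_dvd_prime_iff_eq hp Nat.prime_two).1 h2)
  have hcov := exists_cover ρ hfaith K hZs hcl2 hWK hW2 hfW h2k hx hy hxy
  -- `B` is a `3`-group
  subst hp3
  have hact := commutator_acts_trivially hmc.hBK hdata.hB hx hy hcov
  have haBB : a ∈ ⁅B, B⁆ :=
    hdata.hder ⁅B, B⁆ (fun b₁ hb₁ b₂ hb₂ => Subgroup.commutator_mem_commutator hb₁ hb₂) haA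
  have hKab : K ≤ Subgroup.centralizer (K : Set Γ) := by
    refine hcl.trans ?_
    rw [Subgroup.closure_le]
    rintro c ⟨g, hg, rfl⟩
    rw [SetLike.mem_coe, Subgroup.mem_centralizer_iff]
    intro t ht
    exact (hact a haBB g hg t ht).symm
  exact hxy (Subgroup.mem_centralizer_iff.1 (hKab hy) x hx)

end Cfsg.Agent.Lib.H19.HH
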