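import Mathlib
import Cfsg.Agent.Lib.H19.HHD7

/-!
# Theorem Q (helper19)

`qGeneral` : over an algebraically closed field `k` of odd characteristic `p`, let `B` be a
`p`-subgroup of a finite group `Γ`, `A ⊴ B` with `A ≤ B'`, `K` a `B`-invariant `p'`-subgroup and
`U` a `K`- and `B`-invariant subspace of a representation with `(a-1)(a'-1) = 0` and
`(a-1)(b-1)^2 = 0` on `U` (`a, a' ∈ A`, `b ∈ B`).  Then `K` and `A` commute on `U`.
-/

set_option autoImplicit false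
set_option linter.unusedSectionVars false
set_option maxHeartbeats 800000

namespace Cfsg.Agent.Lib.H19.HH

open Module Cfsg.Agent.Lib.H19.ModRep

universe u v

variable {k : Type v} [Field k]

theorem qGeneral_of_faithful [IsAlgClosed k] {p : ℕ} [hpf : Fact p.Prime] [CharP k p]
    (hp2 : p ≠ 2) {d : ℕ} (IH : ∀ d' < d, QGeneral.{u, v} k p d') : QGeneral.{u, v} k p d := by
  intro Γ _ _ V _ _ _ ρ U B A K hd hdata
  classical
  -- the group `Γ₁ = ⟨K, B⟩` acting on `U`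
  set Γ₁ : Subgroup Γ := K ⊔ B with hΓ₁
  have hKΓ₁ : K ≤ Γ₁ := le_sup_left
  have hBΓ₁ : B ≤ Γ₁ := le_sup_right
  have hAΓ₁ : A ≤ Γ₁ := hdata.hAB.trans hBΓ₁
  have hUinv : Inv (ρ.comp Γ₁.subtype) U := by
    intro g w hw
    have hg : (g : Γ) ∈ Γ₁ := g.2
    have hstab : Γ₁ ≤ stab ρ U := by
      rw [hΓ₁]
      apply sup_le
      · intro x hx
        exact hdata.hUK x hx
      · intro x hx
        exact hdata.hUB x hx
    exact hstab hg w hw
  let σ : Representation k ↥Γ₁ ↥U := sub (ρ.comp Γ₁.subtype) U hUinv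
  have hσ : ∀ (g : Γ₁) (w : U), ((σ g w : U) : V) = ρ (g : Γ) w := fun g w => rfl
  have hσ1 : ∀ (g : Γ₁) (w : U), (((σ g - 1) w : U) : V) = (ρ (g : Γ) - 1) (w : V) := by
    intro g w
    simp only [LinearMap.sub_apply, Module.End.one_apply, Submodule.coe_sub, hσ]
  let N : Subgroup ↥Γ₁ := MonoidHom.ker (σ : ↥Γ₁ →* Module.End k ↥U)
  let π : ↥Γ₁ →* ↥Γ₁ ⧸ N := QuotientGroup.mk' N
  let ρ' : Representation k (↥Γ₁ ⧸ N) ↥U := QuotientGroup.lift N σ le_rfl
  have hρ' : ∀ g : Γ₁, ρ' (π g) = σ g := fun g => rfl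
  have hπ : Function.Surjective π := QuotientGroup.mk'_surjective N
  have hfaith : Function.Injective ρ' := by
    intro x y hxy
    obtain ⟨g, rfl⟩ := hπ x
    obtain ⟨h, rfl⟩ := hπ y
    rw [hρ', hρ'] at hxy
    show (QuotientGroup.mk g : ↥Γ₁ ⧸ N) = QuotientGroup.mk h
    rw [QuotientGroup.eq]
    show σ (g⁻¹ * h) = 1
    rw [map_mul, ← hxy, ← map_mul, inv_mul_cancel, map_one]
  -- the transported subgroups
  set B₁ : Subgroup ↥Γ₁ := B.subgroupOf Γ₁ with hB₁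
  set A₁ : Subgroup ↥Γ₁ := A.subgroupOf Γ₁ with hA₁
  set K₁ : Subgroup ↥Γ₁ := K.subgroupOf Γ₁ with hK₁
  have hdata' : QData p ρ' ⊤ (B₁.map π) (A₁.map π) (K₁.map π) :=
    { hB := (hdata.hB.comap_subtype).map π
      hAB := Subgroup.map_mono (Subgroup.comap_mono hdata.hAB)
      hBA := by
        have h1 : B₁ ≤ Subgroup.normalizer (A₁ : Set ↥Γ₁) :=
          (Subgroup.comap_mono hdata.hBA).trans (Subgroup.le_normalizer_comap Γ₁.subtype)
        exact (Subgroup.map_mono h1).trans (Subgroup.le_normalizer_map π)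
      hder := by
        intro T hT
        have h1 : A ≤ (T.comap π).map Γ₁.subtype := by
          apply hdata.hder
          intro b₁ hb₁ b₂ hb₂
          refine ⟨⟨b₁, hBΓ₁ hb₁⟩ * ⟨b₂, hBΓ₁ hb₂⟩ * ⟨b₁, hBΓ₁ hb₁⟩⁻¹ * ⟨b₂, hBΓ₁ hb₂⟩⁻¹, ?_, rfl⟩
          rw [SetLike.mem_coe, Subgroup.mem_comap, map_mul, map_mul, map_mul, map_inv, map_inv]
          exact hT _ ⟨⟨b₁, hBΓ₁ hb₁⟩, hb₁, rfl⟩ _ ⟨⟨b₂, hBΓ₁ hb₂⟩, hb₂, rfl⟩
        rintro _ ⟨a, ha, rfl⟩
        obtain ⟨t, ht, hta⟩ := h1 ha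
        have : t = a := Subtype.ext hta
        rw [← this]
        exact ht
      hK := by
        have h1 : Nat.card (K₁.map π) ∣ Nat.card K₁ := Subgroup.card_map_dvd K₁ π
        have h2 : Nat.card K₁ = Nat.card K :=
          Nat.card_congr (Subgroup.subgroupOfEquivOfLe hKΓ₁).toEquiv
        rw [h2] at h1
        exact Nat.Coprime.coprime_dvd_left h1 hdata.hK
      hBK := by
        have h1 : B₁ ≤ Subgroup.normalizer (K₁ : Set ↥Γ₁) :=
          (Subgroup.comap_mono hdata.hBK).trans (Subgroup.le_normalizer_comap Γ₁.subtype)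
        exact (Subgroup.map_mono h1).trans (Subgroup.le_normalizer_map π)
      hUK := fun _ _ _ _ => Submodule.mem_top
      hUB := fun _ _ _ _ => Submodule.mem_top
      hii := by
        rintro _ ⟨a, ha, rfl⟩ _ ⟨a', ha', rfl⟩ w _
        rw [hρ', hρ']
        apply Subtype.ext
        rw [hσ1, hσ1]
        exact hdata.hii a ha a' ha' w w.2
      hi := by
        rintro _ ⟨a, ha, rfl⟩ _ ⟨b, hb, rfl⟩ w _
        rw [hρ', hρ']
        apply Subtype.ext
        rw [hσ1, hσ1, hσ1]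
        exact hdata.hi a ha b hb w w.2 }
  have hmain := q_faithful hp2 IH hfaith hd hdata'
  intro g hg a ha w hw
  have hgK : π ⟨g, hKΓ₁ hg⟩ ∈ K₁.map π := ⟨_, hg, rfl⟩
  have haA : π ⟨a, hAΓ₁ ha⟩ ∈ A₁.map π := ⟨_, ha, rfl⟩
  have hcomm := Subgroup.mem_centralizer_iff.1 (hmain hgK) _ haA
  have h1 := congrArg (fun x => ρ' x) hcomm
  simp only [map_mul, hρ'] at h1
  have h2 := congrArg (fun f : Module.End k ↥U => ((f ⟨w, hw⟩ : U) : V)) h1
  simp only [Module.End.mul_apply, hσ] at h2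
  exact h2.symm

/-- **Theorem Q.** -/
theorem qGeneral [IsAlgClosed k] {p : ℕ} [hpf : Fact p.Prime] [CharP k p] (hp2 : p ≠ 2) (d : ℕ) :
    QGeneral.{u, v} k p d := by
  induction d using Nat.strong_induction_on with
  | _ d IH => exact qGeneral_of_faithful hp2 IH

end Cfsg.Agent.Lib.H19.HH
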