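import Mathlib
import Cfsg.Agent.Lib.H19.HHMain
import Cfsg.Agent.Lib.H19.HHGroup
import Cfsg.Agent.Lib.H19.ModRepBC

/-!
# Hall–Higman Theorem B (helper19)

`thmB_general` : Theorem B for a faithful representation of a finite `p`-solvable group with
`O_p = 1` over any field of characteristic `p`.
-/

set_option autoImplicit false

namespace Cfsg.Agent.Lib.H19.HH

open Module Cfsg.Agent.Lib.H19.ModRep

theorem sylow_not_comm_of_sub {Γ : Type*} [Group Γ] [Finite Γ] {q : ℕ} [Fact q.Prime]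
    {Q : Subgroup Γ} (hQ : IsPGroup q Q) (hnc : ∃ u ∈ Q, ∃ v ∈ Q, u * v ≠ v * u)
    (S : Sylow q Γ) : ¬ IsMulCommutative S := by
  intro hS
  obtain ⟨u, hu, v, hv, huv⟩ := hnc
  obtain ⟨S₀, hS₀⟩ := hQ.exists_le_sylow
  obtain ⟨g, hg⟩ := MulAction.exists_smul_eq Γ S S₀
  have hmem : ∀ w ∈ Q, g⁻¹ * w * g ∈ (S : Subgroup Γ) := by
    intro w hw
    have h1 : w ∈ (S₀ : Subgroup Γ) := hS₀ hw
    rw [← hg, Sylow.coe_subgroup_smul, Subgroup.mem_pointwise_smul_iff_inv_smul_mem] at h1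
    simpa [MulAut.smul_def, MulAut.conj_apply] using h1
  apply huv
  have h2 : (⟨g⁻¹ * u * g, hmem u hu⟩ : S) * ⟨g⁻¹ * v * g, hmem v hv⟩ =
      ⟨g⁻¹ * v * g, hmem v hv⟩ * ⟨g⁻¹ * u * g, hmem u hu⟩ := hS.is_comm.comm _ _
  have h3 : (g⁻¹ * u * g) * (g⁻¹ * v * g) = (g⁻¹ * v * g) * (g⁻¹ * u * g) :=
    congrArg Subtype.val h2
  calc u * v = g * ((g⁻¹ * u * g) * (g⁻¹ * v * g)) * g⁻¹ := by group
    _ = g * ((g⁻¹ * v * g) * (g⁻¹ * u * g)) * g⁻¹ := by rw [h3]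
    _ = v * u := by group

theorem thmB_general {F : Type*} [Field F] (p : ℕ) [Fact p.Prime] [CharP F p] {Γ : Type*}
    [Group Γ] [Finite Γ] {V : Type*} [AddCommGroup V] [Module F V] [FiniteDimensional F V]
    (ρ₀ : Representation F Γ V) (hfaith : Function.Injective ρ₀)
    (hsol : Cfsg.IsPSolvable p Γ) (hO : Cfsg.pCore p Γ = ⊥) (x : Γ) (n : ℕ) (hn : 1 ≤ n)
    (hx : orderOf x = p ^ n) (r : ℕ) (hr : (ρ₀ x - 1) ^ r = 0)
    (hrmin : ∀ t < r, (ρ₀ x - 1) ^ t ≠ 0) :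
    r = p ^ n ∨ ∃ n₀ q m : ℕ, 1 ≤ n₀ ∧ n₀ ≤ n ∧ q.Prime ∧ 1 ≤ m ∧ p ^ n₀ - 1 = q ^ m ∧
      (∀ S : Sylow q Γ, ¬ IsMulCommutative S) ∧ p ^ (n - n₀) * (p ^ n₀ - 1) ≤ r := by
  obtain ⟨q, Q, hq, hpq, hQq, hxQ, hG0, hG1, hG2⟩ := exists_minimal_qsub p hsol hO x n hn hx
  have : Fact q.Prime := ⟨hq⟩
  have hbc : ∀ j : ℕ, (bc (AlgebraicClosure F) ρ₀ x - 1) ^ j =
      ((ρ₀ x - 1) ^ j).baseChange (AlgebraicClosure F) := by
    intro j
    rw [LinearMap.baseChange_pow, LinearMap.baseChange_sub, bc_apply]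
    congr 2
    exact (LinearMap.baseChange_one F V).symm
  have hfaith' : ∀ u ∈ Q, bc (AlgebraicClosure F) ρ₀ u = 1 → u = 1 := by
    intro u _ h
    apply hfaith
    rw [map_one]
    apply bc_injective (AlgebraicClosure F)
    rw [← bc_apply, h]
    exact (LinearMap.baseChange_one F V).symm
  have hr' : (bc (AlgebraicClosure F) ρ₀ x - 1) ^ r = 0 := by
    rw [hbc, hr, LinearMap.baseChange_zero]
  have hrmin' : ∀ t < r, (bc (AlgebraicClosure F) ρ₀ x - 1) ^ t ≠ 0 := by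
    intro t ht h0
    apply hrmin t ht
    apply bc_injective (AlgebraicClosure F)
    rw [← hbc, h0, LinearMap.baseChange_zero]
  rcases thmB_core (k := AlgebraicClosure F) p q hpq (bc (AlgebraicClosure F) ρ₀) Q hQq x hxQ n hn
    hx hfaith' hG0 hG1 hG2 r hr' hrmin' with h | ⟨n₀, m, h1, h2, h3, h4, h5, h6⟩
  · left; exact h
  · right
    exact ⟨n₀, q, m, h1, h2, hq, h3, h4, sylow_not_comm_of_sub hQq h5, h6⟩

end Cfsg.Agent.Lib.H19.HH
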