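import Mathlib
import Cfsg.Agent.Lib.H19.HHCyc

/-!
# Linear algebra for the wreath section (helper19)

For an operator `N` with `N^m w ≠ 0 = N^(m+1) w` the cyclic submodule `cyc N w` has dimension
`m + 1` and `ker N ⊓ cyc N w` is the line spanned by `N^m w`.
-/

set_option autoImplicit false

namespace Cfsg.Agent.Lib.H19.HH

open Module

variable {k : Type*} [Field k] {V : Type*} [AddCommGroup V] [Module k V]

theorem pow_apply_eq_zero_of_le {N : Module.End k V} {w : V} {m : ℕ} (h2 : (N ^ (m + 1)) w = 0)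
    {j : ℕ} (hj : m + 1 ≤ j) : (N ^ j) w = 0 := by
  obtain ⟨d, rfl⟩ := Nat.exists_eq_add_of_le hj
  rw [add_comm, pow_add, Module.End.mul_apply, h2, map_zero]

theorem linearIndependent_pow_apply (N : Module.End k V) (w : V) (m : ℕ) (h1 : (N ^ m) w ≠ 0)
    (h2 : (N ^ (m + 1)) w = 0) :
    LinearIndependent k (fun i : Fin (m + 1) => (N ^ (i : ℕ)) w) := by
  rw [Fintype.linearIndependent_iff]
  intro g hg
  have key : ∀ n : ℕ, ∀ i : Fin (m + 1), (i : ℕ) = n → g i = 0 := by
    intro n
    induction n using Nat.strong_induction_on with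
    | _ n ih =>
      intro i hi
      have hin : n ≤ m := by have := i.2; omega
      have h3 := congrArg (fun v => (N ^ (m - n)) v) hg
      simp only [map_sum, map_smul, map_zero] at h3
      rw [Finset.sum_eq_single i] at h3
      · rw [← Module.End.mul_apply, ← pow_add, hi, Nat.sub_add_cancel hin] at h3
        exact (smul_eq_zero.1 h3).resolve_right h1
      · intro j _ hji
        have hne : (j : ℕ) ≠ n := fun h => hji (Fin.ext (h.trans hi.symm))
        rcases lt_or_gt_of_ne hne with h | h
        · rw [ih _ h j rfl, zero_smul]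
        · rw [← Module.End.mul_apply, ← pow_add,
            pow_apply_eq_zero_of_le h2 (by omega), smul_zero]
      · intro h; exact absurd (Finset.mem_univ i) h
  intro i
  exact key _ i rfl

theorem cyc_eq_span_fin (N : Module.End k V) (w : V) (m : ℕ) (h2 : (N ^ (m + 1)) w = 0) :
    cyc N w = Submodule.span k (Set.range fun i : Fin (m + 1) => (N ^ (i : ℕ)) w) := by
  unfold cyc
  apply le_antisymm
  · apply Submodule.span_le.2
    rintro _ ⟨i, rfl⟩
    by_cases hi : i < m + 1
    · exact Submodule.subset_span ⟨⟨i, hi⟩, rfl⟩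
    · show (N ^ i) w ∈ _
      rw [pow_apply_eq_zero_of_le h2 (by omega)]
      exact Submodule.zero_mem _
  · apply Submodule.span_mono
    rintro _ ⟨i, rfl⟩
    exact ⟨i, rfl⟩

theorem finrank_cyc_eq (N : Module.End k V) (w : V) (m : ℕ) (h1 : (N ^ m) w ≠ 0)
    (h2 : (N ^ (m + 1)) w = 0) : finrank k (cyc N w) = m + 1 := by
  rw [cyc_eq_span_fin N w m h2, finrank_span_eq_card (linearIndependent_pow_apply N w m h1 h2),
    Fintype.card_fin]

theorem ker_inf_cyc_eq (N : Module.End k V) (w : V) (m : ℕ) (h1 : (N ^ m) w ≠ 0)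
    (h2 : (N ^ (m + 1)) w = 0) :
    LinearMap.ker N ⊓ cyc N w = Submodule.span k {(N ^ m) w} := by
  apply le_antisymm
  · rintro u ⟨hu1, hu2⟩
    have hu1 : N u = 0 := hu1
    have hu2 : u ∈ cyc N w := hu2
    rw [cyc_eq_span_fin N w m h2, Submodule.mem_span_range_iff_exists_fun] at hu2
    obtain ⟨c, rfl⟩ := hu2
    have hli := linearIndependent_pow_apply N w m h1 h2
    have hli' := hli.comp Fin.succ (Fin.succ_injective _)
    rw [Fintype.linearIndependent_iff] at hli'
    simp only [map_sum, map_smul] at hu1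
    rw [Fin.sum_univ_castSucc] at hu1
    have e1 : N ((N ^ ((Fin.last m : Fin (m + 1)) : ℕ)) w) = 0 := by
      rw [← Module.End.mul_apply, ← pow_succ', Fin.val_last, h2]
    rw [e1, smul_zero, add_zero] at hu1
    have hc : ∀ i : Fin m, c i.castSucc = 0 := by
      apply hli'
      rw [← hu1]
      apply Finset.sum_congr rfl
      intro i _
      congr 1
      show (N ^ ((Fin.succ i : Fin (m + 1)) : ℕ)) w = N ((N ^ ((Fin.castSucc i : Fin (m + 1)) : ℕ)) w)
      rw [← Module.End.mul_apply, ← pow_succ', Fin.val_succ, Fin.val_castSucc]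
    rw [Fin.sum_univ_castSucc]
    have e2 : ∑ i : Fin m, c i.castSucc • (N ^ ((Fin.castSucc i : Fin (m + 1)) : ℕ)) w = 0 := by
      apply Finset.sum_eq_zero
      intro i _
      rw [hc i, zero_smul]
    rw [e2, zero_add, Fin.val_last]
    exact Submodule.smul_mem _ _ (Submodule.mem_span_singleton_self _)
  · rw [Submodule.span_singleton_le_iff_mem]
    refine ⟨?_, pow_apply_mem_cyc N w m⟩
    show N ((N ^ m) w) = 0
    rw [← Module.End.mul_apply, ← pow_succ', h2]

theorem finrank_ker_inf_cyc (N : Module.End k V) (w : V) (m : ℕ) (h1 : (N ^ m) w ≠ 0)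
    (h2 : (N ^ (m + 1)) w = 0) :
    finrank k ↥(LinearMap.ker N ⊓ cyc N w) = 1 := by
  rw [ker_inf_cyc_eq N w m h1 h2]
  exact finrank_span_singleton h1

end Cfsg.Agent.Lib.H19.HH
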