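import Mathlib
import Cfsg.Prelude.Def_LocalEven
import Cfsg.Agent.Lib.H26.Involves

/-!
# The wreath-like section (helper19)

`WProp p W` is the property of the group `W` used in S3787 (a group of order `p^(p+1)` with an
elementary abelian normal subgroup `B` of order `p^p` and an element `t` of order `p` outside `B`
with `|C_B(t)| = p`).

`exists_wprop_section` : if `U₀` is an elementary abelian subgroup of order `p^p` normalized by
`y₀`, with `y₀^p` centralizing `U₀`, `⟨y₀^p⟩ ∩ U₀ = 1` and `|C_{U₀}(y₀)| = p`, then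
`U₀⟨y₀⟩ / ⟨y₀^p⟩` is such a group.
-/

set_option autoImplicit false

namespace Cfsg.Agent.Lib.H19.HH

universe u v

/-- the wreath-like property of the statement S3787 -/
def WProp (p : ℕ) (W : Type u) [Group W] : Prop :=
  ∃ (B : Subgroup W) (t : W), B.Normal ∧ IsMulCommutative B ∧ (∀ b ∈ B, b ^ p = 1) ∧
    Nat.card B = p ^ p ∧ orderOf t = p ∧ t ∉ B ∧ Nat.card W = p ^ (p + 1) ∧
    Nat.card ↥(B ⊓ Subgroup.centralizer ({t} : Set W)) = p

theorem card_map_of_injOn' {G : Type u} {G' : Type v} [Group G] [Group G'] (f : G →* G')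
    (K : Subgroup G) (h : ∀ a ∈ K, f a = 1 → a = 1) : Nat.card (K.map f) = Nat.card K := by
  apply Nat.card_image_of_injOn
  intro a ha b hb hab
  have h1 : f (a * b⁻¹) = 1 := by rw [map_mul, map_inv, hab, mul_inv_cancel]
  exact mul_inv_eq_one.1 (h _ (K.mul_mem ha (K.inv_mem hb)) h1)

theorem involves_of_surjective' {H : Type u} [Group H] {G₁ : Type v} [Group G₁] {G₂ : Type*}
    [Group G₂] (ψ : G₁ →* G₂) (hψ : Function.Surjective ψ) (h : Cfsg.Involves H G₂) :
    Cfsg.Involves H G₁ := by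
  obtain ⟨K₂, f, hf⟩ := Cfsg.Agent.Lib.H26.involves_iff.1 h
  refine Cfsg.Agent.Lib.H26.involves_of_le_range ψ K₂ ?_ f hf
  intro y _
  exact hψ y

theorem involves_of_mulEquiv' {H H' : Type*} [Group H] [Group H'] {G : Type*} [Group G]
    (e : H ≃* H') (h : Cfsg.Involves H G) : Cfsg.Involves H' G := by
  rw [Cfsg.Agent.Lib.H26.involves_iff] at h ⊢
  obtain ⟨K, f, hf⟩ := h
  exact ⟨K, e.toMonoidHom.comp f, e.surjective.comp hf⟩

section Quot

variable {E : Type u} [Group E] [Finite E] {p : ℕ} [hp : Fact p.Prime]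

omit [Finite E] hp in
theorem pow_central_of_gen (U : Subgroup E) (y : E) (hgen : U ⊔ Subgroup.zpowers y = ⊤)
    (hc : ∀ u ∈ U, y ^ p * u = u * y ^ p) (g : E) : g * y ^ p = y ^ p * g := by
  have h1 : U ⊔ Subgroup.zpowers y ≤ Subgroup.centralizer ({y ^ p} : Set E) := by
    apply sup_le
    · intro u hu
      rw [Subgroup.mem_centralizer_singleton_iff]
      exact (hc u hu).symm
    · rw [Subgroup.zpowers_le, Subgroup.mem_centralizer_singleton_iff]
      rw [← pow_succ, ← pow_succ']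
  rw [hgen] at h1
  have := h1 (Subgroup.mem_top g)
  rw [Subgroup.mem_centralizer_singleton_iff] at this
  exact this

omit [Finite E] hp in
theorem zpowers_pow_normal (U : Subgroup E) (y : E) (hgen : U ⊔ Subgroup.zpowers y = ⊤)
    (hc : ∀ u ∈ U, y ^ p * u = u * y ^ p) : (Subgroup.zpowers (y ^ p)).Normal := by
  refine ⟨fun n hn g => ?_⟩
  obtain ⟨i, rfl⟩ := hn
  have h1 : Commute g (y ^ p) := pow_central_of_gen U y hgen hc g
  have h2 : g * (y ^ p) ^ i * g⁻¹ = (y ^ p) ^ i := by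
    have := (h1.zpow_right i).eq
    rw [this, mul_inv_cancel_right]
  rw [h2]
  exact ⟨i, rfl⟩

omit [Finite E] in
theorem wprop_quotient (U : Subgroup E) [hUn : U.Normal] (y : E)
    (hUc : ∀ a ∈ U, ∀ b ∈ U, a * b = b * a)
    (hUe : ∀ a ∈ U, a ^ p = 1)
    (hUcard : Nat.card U = p ^ p)
    (hgen : U ⊔ Subgroup.zpowers y = ⊤)
    (hc : ∀ u ∈ U, y ^ p * u = u * y ^ p)
    (hcU : ∀ g ∈ Subgroup.zpowers (y ^ p), g ∈ U → g = 1)
    (hfix : Nat.card ↥(U ⊓ Subgroup.centralizer ({y} : Set E)) = p)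
    [hRn : (Subgroup.zpowers (y ^ p)).Normal] :
    WProp p (E ⧸ Subgroup.zpowers (y ^ p)) := by
  have hp1 : 1 < p := hp.out.one_lt
  have hcent : ∀ g : E, g * y ^ p = y ^ p * g := pow_central_of_gen U y hgen hc
  set π := QuotientGroup.mk' (Subgroup.zpowers (y ^ p)) with hπ
  have hπs : Function.Surjective π := QuotientGroup.mk'_surjective _
  have hker : ∀ a : E, π a = 1 ↔ a ∈ Subgroup.zpowers (y ^ p) :=
    fun a => QuotientGroup.eq_one_iff a
  have hinj : ∀ a ∈ U, π a = 1 → a = 1 := fun a ha h => hcU a ((hker a).1 h) ha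
  -- `π y ∉ B`
  have hty : π y ∉ U.map π := by
    rintro ⟨a, ha, hay⟩
    have h1 : π (a⁻¹ * y) = 1 := by rw [map_mul, map_inv, hay, inv_mul_cancel]
    obtain ⟨i, hi⟩ := (hker _).1 h1
    have hi : (y ^ p) ^ i = a⁻¹ * y := hi
    have hy : y = a * (y ^ p) ^ i := by rw [hi]; group
    have hci : ∀ g : E, g * (y ^ p) ^ i = (y ^ p) ^ i * g := by
      intro g
      have h1 : Commute g (y ^ p) := hcent g
      exact (h1.zpow_right i).eq
    have hall : U ≤ U ⊓ Subgroup.centralizer ({y} : Set E) := by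
      intro u hu
      refine Subgroup.mem_inf.2 ⟨hu, ?_⟩
      rw [Subgroup.mem_centralizer_singleton_iff]
      rw [hy, ← mul_assoc, hUc u hu a ha, mul_assoc, hci u, mul_assoc]
    have h2 : U ⊓ Subgroup.centralizer ({y} : Set E) = U := le_antisymm inf_le_left hall
    rw [h2, hUcard] at hfix
    have h3 : p ^ 1 < p ^ p := Nat.pow_lt_pow_right hp1 hp1
    rw [pow_one] at h3
    omega
  have htp : (π y) ^ p = 1 := by
    rw [← map_pow, hker]
    exact Subgroup.mem_zpowers _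
  have hBn : (U.map π).Normal := hUn.map π hπs
  refine ⟨U.map π, π y, hBn, ?_, ?_, ?_, ?_, hty, ?_, ?_⟩
  · refine ⟨⟨?_⟩⟩
    rintro ⟨_, a, ha, rfl⟩ ⟨_, b, hb, rfl⟩
    apply Subtype.ext
    show π a * π b = π b * π a
    rw [← map_mul, ← map_mul, hUc a ha b hb]
  · rintro _ ⟨a, ha, rfl⟩
    rw [← map_pow, hUe a ha, map_one]
  · rw [card_map_of_injOn' π U hinj, hUcard]
  · apply orderOf_eq_prime htp
    intro h
    apply hty
    rw [h]
    exact Subgroup.one_mem _
  · -- the order of the quotient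
    have h1 := Subgroup.card_eq_card_quotient_mul_card_subgroup (U.map π)
    rw [card_map_of_injOn' π U hinj, hUcard] at h1
    set ψ : E →* (E ⧸ Subgroup.zpowers (y ^ p)) ⧸ U.map π :=
      (QuotientGroup.mk' (U.map π)).comp π with hψ
    have hψs : Function.Surjective ψ := (QuotientGroup.mk'_surjective _).comp hπs
    have h2 : (U ⊔ Subgroup.zpowers y).map ψ = ⊤ := by
      rw [hgen]
      exact Subgroup.map_top_of_surjective ψ hψs
    have h3 : U.map ψ = ⊥ := by
      rw [hψ, ← Subgroup.map_map, QuotientGroup.map_mk'_self]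
    rw [Subgroup.map_sup, h3, bot_sup_eq, MonoidHom.map_zpowers] at h2
    have h4 : Nat.card ((E ⧸ Subgroup.zpowers (y ^ p)) ⧸ U.map π) = orderOf (ψ y) := by
      rw [← Nat.card_zpowers, h2, Subgroup.card_top]
    have h5 : orderOf (ψ y) = p := by
      apply orderOf_eq_prime
      · rw [← map_pow]
        show QuotientGroup.mk' (U.map π) (π (y ^ p)) = 1
        rw [map_pow, htp, map_one]
      · intro h
        apply hty
        exact (QuotientGroup.eq_one_iff _).1 h
    rw [h1, h4, h5, pow_succ, mul_comm]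
  · -- centralizer
    have h1 : U.map π ⊓ Subgroup.centralizer ({π y} : Set (E ⧸ Subgroup.zpowers (y ^ p))) =
        (U ⊓ Subgroup.centralizer ({y} : Set E)).map π := by
      ext b
      constructor
      · intro hb
        obtain ⟨⟨a, ha, rfl⟩, hb2⟩ := Subgroup.mem_inf.1 hb
        rw [Subgroup.mem_centralizer_singleton_iff] at hb2
        refine ⟨a, Subgroup.mem_inf.2 ⟨ha, ?_⟩, rfl⟩
        rw [Subgroup.mem_centralizer_singleton_iff]
        have h2 : π (a * y * a⁻¹ * y⁻¹) = 1 := by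
          rw [map_mul, map_mul, map_mul, map_inv, map_inv, hb2]
          group
        have h3 : a * y * a⁻¹ * y⁻¹ ∈ U := by
          have : a * y * a⁻¹ * y⁻¹ = a * (y * a⁻¹ * y⁻¹) := by group
          rw [this]
          exact U.mul_mem ha (hUn.conj_mem _ (U.inv_mem ha) y)
        have h4 := hinj _ h3 h2
        have : a * y = (a * y * a⁻¹ * y⁻¹) * (y * a) := by group
        rw [this, h4, one_mul]
      · rintro ⟨a, ha', rfl⟩
        obtain ⟨ha, ha2⟩ := Subgroup.mem_inf.1 ha'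
        rw [Subgroup.mem_centralizer_singleton_iff] at ha2
        refine Subgroup.mem_inf.2 ⟨⟨a, ha, rfl⟩, ?_⟩
        rw [Subgroup.mem_centralizer_singleton_iff, ← map_mul, ← map_mul, ha2]
    rw [h1, card_map_of_injOn' π _ (fun a ha => hinj a (Subgroup.mem_inf.1 ha).1), hfix]

end Quot

section Sub

variable {𝔼 : Type u} [Group 𝔼] [Finite 𝔼] {p : ℕ} [hp : Fact p.Prime]

theorem exists_wprop_section (U₀ : Subgroup 𝔼) (y₀ : 𝔼)
    (hUc : ∀ a ∈ U₀, ∀ b ∈ U₀, a * b = b * a)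
    (hUe : ∀ a ∈ U₀, a ^ p = 1)
    (hUcard : Nat.card U₀ = p ^ p)
    (hyU : ∀ a ∈ U₀, y₀ * a * y₀⁻¹ ∈ U₀)
    (hc : ∀ u ∈ U₀, y₀ ^ p * u = u * y₀ ^ p)
    (hcU : ∀ g ∈ Subgroup.zpowers (y₀ ^ p), g ∈ U₀ → g = 1)
    (hfix : Nat.card ↥(U₀ ⊓ Subgroup.centralizer ({y₀} : Set 𝔼)) = p) :
    ∃ (W : Type u) (_ : Group W) (_ : Finite W), WProp p W ∧ Cfsg.Involves W 𝔼 := by
  set E₁ : Subgroup 𝔼 := U₀ ⊔ Subgroup.zpowers y₀ with hE₁
  have hUE : U₀ ≤ E₁ := le_sup_left
  have hyE : y₀ ∈ E₁ := (le_sup_right : Subgroup.zpowers y₀ ≤ E₁) (Subgroup.mem_zpowers y₀)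
  have hnorm : E₁ ≤ Subgroup.normalizer (U₀ : Set 𝔼) := by
    apply sup_le Subgroup.le_normalizer
    rw [Subgroup.zpowers_le]
    exact Subgroup.mem_normalizer_fintype hyU
  have hUn : (U₀.subgroupOf E₁).Normal :=
    (Subgroup.normal_subgroupOf_iff_le_normalizer hUE).2 hnorm
  set y : ↥E₁ := ⟨y₀, hyE⟩ with hy
  have hgen : U₀.subgroupOf E₁ ⊔ Subgroup.zpowers y = ⊤ := by
    have h1 : (Subgroup.zpowers y₀).subgroupOf E₁ = Subgroup.zpowers y := by
      have h2 : (Subgroup.zpowers y).map E₁.subtype = Subgroup.zpowers y₀ := by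
        rw [MonoidHom.map_zpowers]; rfl
      rw [← h2]
      exact Subgroup.comap_map_eq_self_of_injective E₁.subtype_injective _
    rw [← h1, ← Subgroup.subgroupOf_sup hUE le_sup_right]
    exact Subgroup.subgroupOf_self _
  have hc' : ∀ u ∈ U₀.subgroupOf E₁, y ^ p * u = u * y ^ p := by
    intro u hu
    apply Subtype.ext
    simp only [Subgroup.coe_mul, Subgroup.coe_pow]
    exact hc _ (Subgroup.mem_subgroupOf.1 hu)
  have hRn : (Subgroup.zpowers (y ^ p)).Normal :=
    zpowers_pow_normal (U₀.subgroupOf E₁) y hgen hc'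
  refine ⟨↥E₁ ⧸ Subgroup.zpowers (y ^ p), inferInstance, inferInstance, ?_, ?_⟩
  · apply wprop_quotient (U₀.subgroupOf E₁) y
    · intro a ha b hb
      apply Subtype.ext
      simp only [Subgroup.coe_mul]
      exact hUc _ (Subgroup.mem_subgroupOf.1 ha) _ (Subgroup.mem_subgroupOf.1 hb)
    · intro a ha
      apply Subtype.ext
      simp only [Subgroup.coe_pow, Subgroup.coe_one]
      exact hUe _ (Subgroup.mem_subgroupOf.1 ha)
    · rw [Nat.card_congr (Subgroup.subgroupOfEquivOfLe hUE).toEquiv, hUcard]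
    · exact hgen
    · exact hc'
    · rintro g ⟨i, rfl⟩ hg
      have hg' : (((y ^ p) ^ i : ↥E₁) : 𝔼) ∈ U₀ := Subgroup.mem_subgroupOf.1 hg
      apply Subtype.ext
      have e : (((y ^ p) ^ i : ↥E₁) : 𝔼) = (y₀ ^ p) ^ i := by
        simp only [Subgroup.coe_zpow, Subgroup.coe_pow, hy]
      rw [e] at hg' ⊢
      exact hcU _ ⟨i, rfl⟩ hg'
    · have h1 : U₀.subgroupOf E₁ ⊓ Subgroup.centralizer ({y} : Set ↥E₁) =
          (U₀ ⊓ Subgroup.centralizer ({y₀} : Set 𝔼)).subgroupOf E₁ := by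
        ext a
        rw [Subgroup.mem_inf, Subgroup.mem_subgroupOf, Subgroup.mem_subgroupOf, Subgroup.mem_inf,
          Subgroup.mem_centralizer_singleton_iff, Subgroup.mem_centralizer_singleton_iff,
          Subtype.ext_iff]
        rfl
      rw [h1, Nat.card_congr
        (Subgroup.subgroupOfEquivOfLe (inf_le_left.trans hUE : U₀ ⊓ _ ≤ E₁)).toEquiv, hfix]
  · rw [Cfsg.Agent.Lib.H26.involves_iff]
    exact ⟨E₁, QuotientGroup.mk' _, QuotientGroup.mk'_surjective _⟩

end Sub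

end Cfsg.Agent.Lib.H19.HH
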