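import Mathlib
import Cfsg.Agent.Lib.H19.HHWrLin
import Cfsg.Agent.Lib.H19.HHWrSec
import Cfsg.Agent.Lib.H19.HHPoly

/-!
# From a Jordan block of size `p` to the wreath-like section (helper19)

`exists_wprop_of_module` : let `V` be a finite `𝔽_p`-space embedded (multiplicatively, via `j`)
in a finite group `𝔼`, `y₀ ∈ 𝔼` acting on the image of `j` by conjugation as the operator `T`,
with `y₀^p ∈ j(V)`. If `(T - 1)^(p-1) ≠ 0` then `𝔼` involves a group with `WProp`.
-/

set_option autoImplicit false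

namespace Cfsg.Agent.Lib.H19.HH

open Module

universe u v

section Jm

variable {𝔼 : Type u} [Group 𝔼] {V : Type v} [AddCommGroup V]

/-- the additive-to-multiplicative form of `j` -/
def Jm (j : Multiplicative V →* 𝔼) (v : V) : 𝔼 := j (Multiplicative.ofAdd v)

variable (j : Multiplicative V →* 𝔼)

theorem Jm_add (a b : V) : Jm j (a + b) = Jm j a * Jm j b := by
  unfold Jm; rw [ofAdd_add, map_mul]

theorem Jm_zero : Jm j 0 = 1 := by
  unfold Jm; rw [ofAdd_zero, map_one]

theorem Jm_neg (a : V) : Jm j (-a) = (Jm j a)⁻¹ := by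
  unfold Jm; rw [ofAdd_neg, map_inv]

theorem Jm_nsmul (n : ℕ) (a : V) : Jm j (n • a) = (Jm j a) ^ n := by
  unfold Jm; rw [ofAdd_nsmul, map_pow]

theorem Jm_zsmul (n : ℤ) (a : V) : Jm j (n • a) = (Jm j a) ^ n := by
  unfold Jm; rw [ofAdd_zsmul, map_zpow]

theorem Jm_comm (a b : V) : Jm j a * Jm j b = Jm j b * Jm j a := by
  rw [← Jm_add, ← Jm_add, add_comm]

theorem Jm_injective (hj : Function.Injective j) : Function.Injective (Jm j) := by
  intro a b h
  exact Multiplicative.ofAdd.injective (hj h)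

theorem Jm_conj_comm (a b : V) : Jm j a * Jm j b * (Jm j a)⁻¹ = Jm j b := by
  rw [Jm_comm, mul_inv_cancel_right]

/-- the subgroup of `𝔼` corresponding to an additive subgroup of `V` -/
def subOf (S : AddSubgroup V) : Subgroup 𝔼 := (AddSubgroup.toSubgroup S).map j

theorem mem_subOf (S : AddSubgroup V) (g : 𝔼) : g ∈ subOf j S ↔ ∃ s ∈ S, Jm j s = g := by
  unfold subOf
  rw [Subgroup.mem_map]
  constructor
  · rintro ⟨x, hx, rfl⟩
    exact ⟨Multiplicative.toAdd x, hx, rfl⟩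
  · rintro ⟨s, hs, rfl⟩
    exact ⟨Multiplicative.ofAdd s, hs, rfl⟩

theorem card_subOf (hj : Function.Injective j) (S : AddSubgroup V) :
    Nat.card (subOf j S) = Nat.card S := by
  symm
  apply Nat.card_congr
  refine Equiv.ofBijective (fun s : S => (⟨Jm j s, (mem_subOf j S _).2 ⟨s, s.2, rfl⟩⟩ : subOf j S))
    ⟨?_, ?_⟩
  · intro a b h
    apply Subtype.ext
    exact Jm_injective j hj (congrArg Subtype.val h)
  · rintro ⟨g, hg⟩
    obtain ⟨s, hs, rfl⟩ := (mem_subOf j S g).1 hg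
    exact ⟨⟨s, hs⟩, rfl⟩

end Jm

section Main

variable {𝔼 : Type u} [Group 𝔼] [Finite 𝔼] {p : ℕ} [hp : Fact p.Prime]
  {V : Type v} [AddCommGroup V] [Module (ZMod p) V] [Finite V]

omit [Finite 𝔼] [Finite V] in
theorem Jm_pow_conj (j : Multiplicative V →* 𝔼) (y₀ : 𝔼) (T : Module.End (ZMod p) V)
    (hT : ∀ v : V, Jm j (T v) = y₀ * Jm j v * y₀⁻¹) (i : ℕ) (v : V) :
    Jm j ((T ^ i) v) = y₀ ^ i * Jm j v * (y₀ ^ i)⁻¹ := by
  induction i generalizing v with
  | zero => simp
  | succ i ih =>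
    rw [pow_succ', Module.End.mul_apply, hT, ih, pow_succ']
    group

omit [Finite 𝔼] [Finite V] in
theorem Jm_mul_pow (j : Multiplicative V →* 𝔼) (y₀ : 𝔼) (T : Module.End (ZMod p) V)
    (hT : ∀ v : V, Jm j (T v) = y₀ * Jm j v * y₀⁻¹) (u : V) (k : ℕ) :
    (Jm j u * y₀) ^ k = Jm j (∑ i ∈ Finset.range k, (T ^ i) u) * y₀ ^ k := by
  induction k with
  | zero => simp [Jm_zero]
  | succ k ih =>
    rw [pow_succ, ih, Finset.sum_range_succ, Jm_add, Jm_pow_conj j y₀ T hT, pow_succ]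
    group

theorem exists_wprop_of_module (j : Multiplicative V →* 𝔼) (hj : Function.Injective j)
    (y₀ : 𝔼) (T : Module.End (ZMod p) V)
    (hT : ∀ v : V, Jm j (T v) = y₀ * Jm j v * y₀⁻¹)
    (hy : y₀ ^ p ∈ j.range) (w : V) (hw : ((T - 1) ^ (p - 1)) w ≠ 0) :
    ∃ (W : Type u) (_ : Group W) (_ : Finite W), WProp p W ∧ Cfsg.Involves W 𝔼 := by
  have hp1 : 1 ≤ p := hp.out.pos
  have hJinj := Jm_injective j hj
  obtain ⟨vc', hvc'⟩ := hy
  obtain ⟨vc, hvc⟩ : ∃ vc : V, Jm j vc = y₀ ^ p := ⟨Multiplicative.toAdd vc', hvc'⟩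
  -- `T^p = 1`
  have hTp : T ^ p = 1 := by
    apply LinearMap.ext
    intro v
    apply hJinj
    rw [Jm_pow_conj j y₀ T hT, ← hvc, Jm_conj_comm, Module.End.one_apply]
  set N : Module.End (ZMod p) V := T - 1 with hN
  have hNp : N ^ p = 0 := by
    have := sub_one_pow_char_pow (k := ZMod p) p 1 T
    rw [pow_one, hTp, sub_self] at this
    exact this
  obtain ⟨m, hm⟩ : ∃ m, p = m + 1 := ⟨p - 1, by omega⟩
  have hm' : p - 1 = m := by omega
  rw [hm'] at hw
  have h2 : (N ^ (m + 1)) w = 0 := by rw [← hm, hNp]; rfl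
  set S : Submodule (ZMod p) V := cyc N w with hS
  have hTS : ∀ s ∈ S, T s ∈ S := by
    intro s hs
    have : T s = N s + s := by rw [hN, LinearMap.sub_apply, Module.End.one_apply, sub_add_cancel]
    rw [this]
    exact S.add_mem (apply_mem_cyc hs) hs
  have hcardS : Nat.card S = p ^ p := by
    rw [Module.natCard_eq_pow_finrank (K := ZMod p) (V := S), finrank_cyc_eq N w m hw h2, ← hm,
      Nat.card_eq_fintype_card, ZMod.card]
  have hcardK : Nat.card ↥(LinearMap.ker N ⊓ S) = p := by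
    rw [Module.natCard_eq_pow_finrank (K := ZMod p) (V := ↥(LinearMap.ker N ⊓ S)),
      finrank_ker_inf_cyc N w m hw h2, pow_one, Nat.card_eq_fintype_card, ZMod.card]
  -- `T vc = vc`
  have hTvc : T vc = vc := by
    apply hJinj
    rw [hT, hvc, ← pow_succ', pow_succ, mul_inv_cancel_right]
  -- the choice of `y`
  obtain ⟨y, v', hyT, hyp, hv'⟩ : ∃ (y : 𝔼) (v' : V), (∀ v, Jm j (T v) = y * Jm j v * y⁻¹) ∧
      y ^ p = Jm j v' ∧ (v' ∈ S → v' = 0) := by
    by_cases hvcS : vc ∈ S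
    · have h3 : vc ∈ LinearMap.ker N ⊓ S := by
        refine ⟨?_, hvcS⟩
        show N vc = 0
        rw [hN, LinearMap.sub_apply, Module.End.one_apply, hTvc, sub_self]
      rw [ker_inf_cyc_eq N w m hw h2, Submodule.mem_span_singleton] at h3
      obtain ⟨a, ha⟩ := h3
      refine ⟨Jm j (-(a • w)) * y₀, 0, ?_, ?_, fun _ => rfl⟩
      · intro v
        rw [hT]
        have : Jm j (-(a • w)) * y₀ * Jm j v * (Jm j (-(a • w)) * y₀)⁻¹ =
            Jm j (-(a • w)) * (y₀ * Jm j v * y₀⁻¹) * (Jm j (-(a • w)))⁻¹ := by group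
        rw [this, ← hT, Jm_conj_comm]
      · rw [Jm_mul_pow j y₀ T hT, Jm_zero, ← hvc, ← Jm_add]
        have h4 : ∑ i ∈ Finset.range p, (T ^ i) (-(a • w)) = -vc := by
          have h5 := geom_sum_eq_sub_one_pow (k := ZMod p) p 1 T
          rw [pow_one, hm'] at h5
          have h6 := congrArg (fun A : Module.End (ZMod p) V => A (-(a • w))) h5
          simp only [LinearMap.sum_apply] at h6
          rw [h6, map_neg, map_smul, ha]
        rw [h4, neg_add_cancel, Jm_zero]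
    · exact ⟨y₀, vc, hT, hvc.symm, fun h => absurd h hvcS⟩
  -- the subgroup `U₀`
  have hmem := mem_subOf j S.toAddSubgroup
  have hfixeq : subOf j S.toAddSubgroup ⊓ Subgroup.centralizer ({y} : Set 𝔼) =
      subOf j (LinearMap.ker N ⊓ S).toAddSubgroup := by
    ext g
    rw [Subgroup.mem_inf, hmem, mem_subOf, Subgroup.mem_centralizer_singleton_iff]
    constructor
    · rintro ⟨⟨s, hs, rfl⟩, hg⟩
      refine ⟨s, ⟨?_, hs⟩, rfl⟩
      show N s = 0
      rw [hN, LinearMap.sub_apply, Module.End.one_apply, sub_eq_zero]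
      apply hJinj
      rw [hyT, ← hg, mul_inv_cancel_right]
    · rintro ⟨s, ⟨hs1, hs2⟩, rfl⟩
      have hs1 : N s = 0 := hs1
      refine ⟨⟨s, hs2, rfl⟩, ?_⟩
      have h3 : T s = s := by
        rw [hN, LinearMap.sub_apply, Module.End.one_apply, sub_eq_zero] at hs1
        exact hs1
      have h4 := hyT s
      rw [h3] at h4
      have h5 : y * Jm j s = Jm j s * y := by
        conv_rhs => rw [h4]
        group
      exact h5.symm
  apply exists_wprop_section (subOf j S.toAddSubgroup) y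
  · intro a ha b hb
    obtain ⟨s, _, rfl⟩ := (hmem a).1 ha
    obtain ⟨s', _, rfl⟩ := (hmem b).1 hb
    exact Jm_comm j s s'
  · intro a ha
    obtain ⟨s, _, rfl⟩ := (hmem a).1 ha
    rw [← Jm_nsmul]
    have : p • s = 0 := by
      rw [← Nat.cast_smul_eq_nsmul (ZMod p), ZMod.natCast_self, zero_smul]
    rw [this, Jm_zero]
  · rw [card_subOf j hj]
    exact hcardS
  · intro a ha
    obtain ⟨s, hs, rfl⟩ := (hmem a).1 ha
    rw [← hyT]
    exact (hmem _).2 ⟨T s, hTS s hs, rfl⟩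
  · intro u hu
    obtain ⟨s, _, rfl⟩ := (hmem u).1 hu
    rw [hyp]
    exact Jm_comm j v' s
  · rintro g ⟨i, rfl⟩ hg
    have hg : (y ^ p) ^ i ∈ subOf j S.toAddSubgroup := hg
    show (y ^ p) ^ i = 1
    rw [hyp, ← Jm_zsmul] at hg ⊢
    obtain ⟨s, hs, hsg⟩ := (hmem _).1 hg
    have hs' : s = i • v' := hJinj hsg
    have hsS : i • v' ∈ S := hs' ▸ hs
    have e : i • v' = ((i : ZMod p)) • v' := (Int.cast_smul_eq_zsmul (ZMod p) i v').symm
    have hz : i • v' = 0 := by
      by_cases hi : ((i : ZMod p)) = 0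
      · rw [e, hi, zero_smul]
      · have h3 : v' = ((i : ZMod p))⁻¹ • (i • v') := by
          rw [e, smul_smul, inv_mul_cancel₀ hi, one_smul]
        have h4 : v' ∈ S := by
          rw [h3]; exact S.smul_mem _ hsS
        rw [hv' h4, smul_zero]
    rw [hz, Jm_zero]
  · rw [hfixeq, card_subOf j hj]
    exact hcardK

end Main

end Cfsg.Agent.Lib.H19.HH
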