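import Mathlib
import Cfsg.Agent.Lib.H19.HHWrMod
import Cfsg.Agent.Lib.H19.HHFinal

/-!
# Theorem B produces the wreath-like section (helper19)

`exists_wprop_of_rep` : `H` a finite group with a normal subgroup `Q` such that `H / Q` is
`p`-soluble with `O_p(H/Q) = 1`, of order divisible by `p`, acting faithfully on the
`𝔽_p`-space `V`; `V` is embedded in a quotient `𝔼` of `H` compatibly with the action. If `p` is
odd and not a Fermat prime then `H` involves a group with `WProp`.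
-/

set_option autoImplicit false

namespace Cfsg.Agent.Lib.H19.HH

open Module

universe u v w

variable {H : Type u} [Group H] [Finite H] {p : ℕ} [hp : Fact p.Prime]

theorem exists_wprop_of_rep (hp2 : p ≠ 2) (hnf : ¬ ∃ k : ℕ, p = 2 ^ k + 1)
    (Q : Subgroup H) [Q.Normal] {V : Type v} [AddCommGroup V] [Module (ZMod p) V] [Finite V]
    (ρ₀ : Representation (ZMod p) (H ⧸ Q) V) (hfaith : Function.Injective ρ₀)
    (hsol : Cfsg.IsPSolvable p (H ⧸ Q)) (hOK : Cfsg.pCore p (H ⧸ Q) = ⊥)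
    (hdvd : p ∣ Nat.card (H ⧸ Q))
    {𝔼 : Type w} [Group 𝔼] [Finite 𝔼] (π : H →* 𝔼) (hπ : Function.Surjective π)
    (j : Multiplicative V →* 𝔼) (hj : Function.Injective j)
    (hequiv : ∀ (h : H) (v : V),
      Jm j (ρ₀ (QuotientGroup.mk h) v) = π h * Jm j v * (π h)⁻¹)
    (hpow : ∀ h : H, (QuotientGroup.mk h : H ⧸ Q) ^ p = 1 → π h ^ p ∈ j.range) :
    ∃ (W : Type w) (_ : Group W) (_ : Finite W), WProp p W ∧ Cfsg.Involves W H := by
  obtain ⟨xb, hxb⟩ := exists_prime_orderOf_dvd_card' p hdvd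
  -- the nilpotency index of `ρ₀ xb - 1`
  have hxbp : xb ^ p = 1 := by
    rw [← hxb]; exact pow_orderOf_eq_one xb
  have hex : ∃ r : ℕ, (ρ₀ xb - 1) ^ r = 0 := by
    refine ⟨p, ?_⟩
    have h1 := sub_one_pow_char_pow (k := ZMod p) p 1 (ρ₀ xb)
    rw [pow_one] at h1
    rw [h1, ← map_pow, hxbp, map_one, sub_self]
  classical
  set r := Nat.find hex with hr
  have hr0 : (ρ₀ xb - 1) ^ r = 0 := Nat.find_spec hex
  have hrmin : ∀ t < r, (ρ₀ xb - 1) ^ t ≠ 0 := fun t ht => Nat.find_min hex ht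
  have hB := thmB_general (F := ZMod p) p ρ₀ hfaith hsol hOK xb 1 le_rfl
    (by rw [pow_one]; exact hxb) r hr0 hrmin
  have hrp : r = p := by
    rcases hB with h | ⟨n₀, q, m, h1, h2, hq, hm, hpq, -, -⟩
    · rw [h, pow_one]
    · exfalso
      have hn₀ : n₀ = 1 := le_antisymm h2 h1
      subst hn₀
      rw [pow_one] at hpq
      have hodd : Odd p := hp.out.eq_two_or_odd'.resolve_left hp2
      obtain ⟨c, hc⟩ := hodd
      have h2q : 2 ∣ q ^ m := by
        rw [← hpq]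
        exact ⟨c, by omega⟩
      have h2q' : 2 ∣ q := Nat.Prime.dvd_of_dvd_pow Nat.prime_two h2q
      have hq2 : q = 2 := ((Nat.prime_dvd_prime_iff_eq Nat.prime_two hq).1 h2q').symm
      apply hnf
      refine ⟨m, ?_⟩
      rw [← hq2, ← hpq]
      have := hp.out.pos
      omega
  have hne : (ρ₀ xb - 1) ^ (p - 1) ≠ 0 := hrmin _ (by rw [hrp]; have := hp.out.pos; omega)
  obtain ⟨w, hw⟩ : ∃ w : V, ((ρ₀ xb - 1) ^ (p - 1)) w ≠ 0 := by
    by_contra hcon
    apply hne
    apply LinearMap.ext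
    intro w
    by_contra h
    exact hcon ⟨w, h⟩
  obtain ⟨x, rfl⟩ := QuotientGroup.mk_surjective xb
  have hxp : (QuotientGroup.mk x : H ⧸ Q) ^ p = 1 := hxbp
  obtain ⟨W, hWg, hWf, hW, hinv⟩ := exists_wprop_of_module j hj (π x) (ρ₀ (QuotientGroup.mk x))
    (hequiv x) (hpow x hxp) w hw
  exact ⟨W, hWg, hWf, hW, involves_of_surjective' π hπ hinv⟩

end Cfsg.Agent.Lib.H19.HH
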