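import Mathlib
import Cfsg.Agent.Lib.H7.HHAb4

/-!
# The Frattini quotient of a normal `p`-subgroup as an `𝔽_p`-representation (helper19)

`FrV p Q` is `Q / Φ(Q)` written additively, with its `ZMod p`-module structure (instances through
`Fact (IsPGroup p Q)`); `frRep p Q` the representation of `H / Q` on it; `frEmb p Q` its embedding
into `H / Φ(Q)`.
-/

set_option autoImplicit false

namespace Cfsg.Agent.Lib.H19.HH

open Cfsg.Agent.Lib.H7.HHAb

universe u

variable {H : Type u} [Group H] [Finite H] (p : ℕ) [hp : Fact p.Prime] (Q : Subgroup H)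
  [hQn : Q.Normal] [hQ : Fact (IsPGroup p ↥Q)]

/-- `Q / Φ(Q)`, additively -/
def FrV (_p : ℕ) (Q : Subgroup H) : Type u := Additive (↥Q ⧸ frattini ↥Q)

noncomputable instance instAddCommGroupFrV : AddCommGroup (FrV p Q) :=
  @Additive.addCommGroup _ (frCommGroup Q hQ.out)

instance instFiniteFrV : Finite (FrV p Q) :=
  inferInstanceAs (Finite (Additive (↥Q ⧸ frattini ↥Q)))

/-- constructor -/
def FrV.mk (a : ↥Q ⧸ frattini ↥Q) : FrV p Q := Additive.ofMul a

/-- destructor -/
def FrV.val {p : ℕ} {Q : Subgroup H} (v : FrV p Q) : ↥Q ⧸ frattini ↥Q := Additive.toMul v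

omit [Finite H] hp hQn hQ in
theorem FrV.mk_val (v : FrV p Q) : FrV.mk p Q v.val = v := rfl

omit [Finite H] hp hQn hQ in
theorem FrV.val_mk (a : ↥Q ⧸ frattini ↥Q) : (FrV.mk p Q a).val = a := rfl

theorem FrV.val_add (v w : FrV p Q) : (v + w).val = v.val * w.val := rfl

theorem FrV.val_zero : (0 : FrV p Q).val = 1 := rfl

theorem FrV.mk_mul (a b : ↥Q ⧸ frattini ↥Q) :
    FrV.mk p Q (a * b) = FrV.mk p Q a + FrV.mk p Q b := rfl

theorem FrV.mk_one : FrV.mk p Q 1 = 0 := rfl

omit [Finite H] hp hQn hQ in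
theorem FrV.val_injective : Function.Injective (FrV.val : FrV p Q → _) := fun _ _ h => h

theorem FrV.nsmul_eq_zero (v : FrV p Q) : p • v = 0 := by
  have h1 : ∀ n : ℕ, (n • v).val = v.val ^ n := by
    intro n
    induction n with
    | zero => rw [zero_smul, pow_zero]; rfl
    | succ n ih => rw [succ_nsmul, pow_succ, FrV.val_add, ih]
  apply FrV.val_injective
  rw [h1, frQuot_pow Q hQ.out]
  rfl

noncomputable instance instModuleFrV : Module (ZMod p) (FrV p Q) :=
  AddCommGroup.zmodModule (FrV.nsmul_eq_zero p Q)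

/-- the action of `k ∈ H / Q` as an additive map -/
noncomputable def frAdd (k : H ⧸ Q) : FrV p Q →+ FrV p Q where
  toFun v := FrV.mk p Q (frActQ Q hQ.out k v.val)
  map_zero' := by
    show FrV.mk p Q (frActQ Q hQ.out k 1) = 0
    rw [map_one]; rfl
  map_add' v w := by
    show FrV.mk p Q (frActQ Q hQ.out k (v.val * w.val)) = _
    rw [map_mul]; rfl

/-- the representation of `H / Q` on `Q / Φ(Q)` -/
noncomputable def frRep : Representation (ZMod p) (H ⧸ Q) (FrV p Q) where
  toFun k := AddMonoidHom.toZModLinearMap p (frAdd p Q k)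
  map_one' := by
    apply LinearMap.ext
    intro v
    show FrV.mk p Q (frActQ Q hQ.out 1 v.val) = v
    rw [map_one]; rfl
  map_mul' k k' := by
    apply LinearMap.ext
    intro v
    show FrV.mk p Q (frActQ Q hQ.out (k * k') v.val) =
      FrV.mk p Q (frActQ Q hQ.out k (frActQ Q hQ.out k' v.val))
    rw [map_mul]; rfl

theorem frRep_apply (k : H ⧸ Q) (v : FrV p Q) :
    frRep p Q k v = FrV.mk p Q (frActQ Q hQ.out k v.val) := rfl

variable [hΦ : ((frattini ↥Q).map Q.subtype).Normal]

/-- the embedding `Q / Φ(Q) → H / Φ(Q)` -/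
noncomputable def frEmb₀ : ↥Q ⧸ frattini ↥Q →* H ⧸ (frattini ↥Q).map Q.subtype :=
  QuotientGroup.lift (frattini ↥Q)
    ((QuotientGroup.mk' ((frattini ↥Q).map Q.subtype)).comp Q.subtype)
    (by
      intro k hk
      rw [MonoidHom.mem_ker]
      exact (QuotientGroup.eq_one_iff _).2 ⟨k, hk, rfl⟩)

omit [Finite H] hQn in
theorem frEmb₀_mk (k : ↥Q) :
    frEmb₀ Q (QuotientGroup.mk k) = QuotientGroup.mk' ((frattini ↥Q).map Q.subtype) (k : H) := rfl

omit [Finite H] hQn in
theorem frEmb₀_injective : Function.Injective (frEmb₀ Q) := by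
  rw [injective_iff_map_eq_one]
  intro a ha
  induction a using QuotientGroup.induction_on with
  | H k =>
  rw [frEmb₀_mk] at ha
  obtain ⟨k', hk', hkk⟩ := (QuotientGroup.eq_one_iff _).1 ha
  have : k' = k := Subtype.ext hkk
  rw [← this]
  exact (QuotientGroup.eq_one_iff _).2 hk'

/-- the embedding, on `Multiplicative (FrV p Q)` -/
noncomputable def frEmb : Multiplicative (FrV p Q) →* H ⧸ (frattini ↥Q).map Q.subtype where
  toFun v := frEmb₀ Q (Multiplicative.toAdd v).val
  map_one' := map_one (frEmb₀ Q)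
  map_mul' _ _ := map_mul (frEmb₀ Q) _ _

theorem frEmb_ofAdd (v : FrV p Q) : frEmb p Q (Multiplicative.ofAdd v) = frEmb₀ Q v.val := rfl

theorem frEmb_injective : Function.Injective (frEmb p Q) := by
  intro a b hab
  exact Multiplicative.toAdd.injective (FrV.val_injective p Q (frEmb₀_injective Q hab))

end Cfsg.Agent.Lib.H19.HH
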