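import Mathlib
import Cfsg.Agent.Lib.H19.HHWrAct
import Cfsg.Agent.Lib.H19.HHWrFr
import Cfsg.Agent.Lib.H7.HHAb6
import Cfsg.Agent.Lib.H26.PSolvableExt

/-!
# `p`-length one from the absence of `C_p ≀ C_p` sections (helper19)

`exists_wprop_of_not_plengthLE` : a finite `p`-soluble group (`p` odd, not a Fermat prime) of
`p`-length at least 2 involves a group with `WProp` (a wreath-like group of order `p^(p+1)`).
-/

set_option autoImplicit false

namespace Cfsg.Agent.Lib.H19.HH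

open Cfsg Cfsg.Agent.Lib.H7.HHAb

universe u

variable {H : Type u} [Group H] [Finite H] {p : ℕ} [hp : Fact p.Prime]

theorem exists_wprop_of_core (hp2 : p ≠ 2) (hnf : ¬ ∃ k : ℕ, p = 2 ^ k + 1)
    (hH : IsPSolvable p H) (hO : pPrimeCore p H = ⊥)
    (Q : Subgroup H) [hQn : Q.Normal] (hQ : Q = pCore p H) (hdvd : p ∣ Nat.card (H ⧸ Q)) :
    ∃ (W : Type u) (_ : Group W) (_ : Finite W), WProp p W ∧ Cfsg.Involves W H := by
  subst hQ
  have hQp : IsPGroup p ↥(pCore p H) := Cfsg.Agent.Lib.H1.pCore_isPGroup p H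
  have : Fact (IsPGroup p ↥(pCore p H)) := ⟨hQp⟩
  have hΦn : ((frattini ↥(pCore p H)).map (pCore p H).subtype).Normal :=
    Cfsg.Agent.Lib.H7.CycNorm.frattini_map_normal
  have hsol : IsPSolvable p (H ⧸ pCore p H) := Cfsg.Agent.Lib.H10.isPSolvable_quotient hH _
  have hOK : pCore p (H ⧸ pCore p H) = ⊥ :=
    Cfsg.Agent.Lib.H7.InvCent.pCore_quotient_eq_bot' p (pCore p H) rfl
  -- faithfulness
  have hker : ∀ k : H ⧸ pCore p H, frRep p (pCore p H) k = 1 → k = 1 := by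
    intro k hk
    obtain ⟨h, rfl⟩ := QuotientGroup.mk_surjective k
    rw [QuotientGroup.eq_one_iff]
    apply Cfsg.Agent.Lib.H7.CycNorm.mem_pCore_of_t2 hH hO
    intro v hv
    have h2 : frAct (pCore p H) h (QuotientGroup.mk ⟨v, hv⟩) = QuotientGroup.mk ⟨v, hv⟩ := by
      have h3 := congrArg (fun f : Module.End (ZMod p) (FrV p (pCore p H)) =>
        f (FrV.mk p (pCore p H) (QuotientGroup.mk ⟨v, hv⟩))) hk
      exact congrArg FrV.val h3
    rw [frAct_apply_mk] at h2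
    have h3 := QuotientGroup.eq.1 h2.symm
    have hΦn' : (frattini ↥(pCore p H)).Normal := inferInstance
    have h4 := hΦn'.conj_mem _ h3 ⟨v, hv⟩
    refine ⟨_, h4, ?_⟩
    simp only [Subgroup.subtype_apply, Subgroup.coe_mul, Subgroup.coe_inv,
      MulAut.conjNormal_apply]
    group
  have hfaith : Function.Injective (frRep p (pCore p H)) := by
    intro a b hab
    have h1 : frRep p (pCore p H) (a⁻¹ * b) = 1 := by
      rw [map_mul, ← hab, ← map_mul, inv_mul_cancel, map_one]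
    exact inv_mul_eq_one.1 (hker _ h1)
  apply exists_wprop_of_rep hp2 hnf (pCore p H) (frRep p (pCore p H)) hfaith hsol hOK hdvd
    (QuotientGroup.mk' ((frattini ↥(pCore p H)).map (pCore p H).subtype))
    (QuotientGroup.mk'_surjective _) (frEmb p (pCore p H)) (frEmb_injective p (pCore p H))
  · intro h v
    unfold Jm
    rw [frEmb_ofAdd, frEmb_ofAdd, frRep_apply, FrV.val_mk]
    obtain ⟨a, rfl⟩ : ∃ a, FrV.mk p (pCore p H) a = v := ⟨v.val, rfl⟩
    rw [FrV.val_mk]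
    induction a using QuotientGroup.induction_on with
    | H k =>
    show frEmb₀ (pCore p H) (frAct (pCore p H) h (QuotientGroup.mk k)) = _
    rw [frAct_apply_mk, frEmb₀_mk, frEmb₀_mk, MulAut.conjNormal_apply, map_mul, map_mul, map_inv]
  · intro h hh
    rw [← QuotientGroup.mk_pow, QuotientGroup.eq_one_iff] at hh
    refine ⟨Multiplicative.ofAdd (FrV.mk p (pCore p H) (QuotientGroup.mk ⟨h ^ p, hh⟩)), ?_⟩
    rw [frEmb_ofAdd, FrV.val_mk, frEmb₀_mk, ← map_pow]

theorem exists_wprop_of_not_plengthLE {G : Type u} [Group G] [Finite G] (hp2 : p ≠ 2)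
    (hnf : ¬ ∃ k : ℕ, p = 2 ^ k + 1) (hG : IsPSolvable p G) (hlen : ¬ PLengthLE p 1 G) :
    ∃ (W : Type u) (_ : Group W) (_ : Finite W), WProp p W ∧ Cfsg.Involves W G := by
  have hNn : (pPrimeCore p G).Normal := Cfsg.Agent.Lib.H22.pPrimeCore_normal p
  have hG1 : IsPSolvable p (G ⧸ pPrimeCore p G) := Cfsg.Agent.Lib.H10.isPSolvable_quotient hG _
  have hO1 : pPrimeCore p (G ⧸ pPrimeCore p G) = ⊥ :=
    Cfsg.Agent.Lib.H9.pPrimeCore_quotient_eq_bot p
  have hQn : (pCore p (G ⧸ pPrimeCore p G)).Normal := Cfsg.Agent.Lib.H1.pCore_normal p _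
  by_cases hdvd : p ∣ Nat.card ((G ⧸ pPrimeCore p G) ⧸ pCore p (G ⧸ pPrimeCore p G))
  · obtain ⟨W, hWg, hWf, hW, hinv⟩ := exists_wprop_of_core hp2 hnf hG1 hO1
      (pCore p (G ⧸ pPrimeCore p G)) rfl hdvd
    exact ⟨W, hWg, hWf, hW, involves_of_surjective' (QuotientGroup.mk' (pPrimeCore p G))
      (QuotientGroup.mk'_surjective _) hinv⟩
  · exfalso
    apply hlen
    have hl2 : PLengthLE p 0 ((G ⧸ pPrimeCore p G) ⧸ pCore p (G ⧸ pPrimeCore p G)) := by
      apply Cfsg.Agent.Lib.H19.plengthLE_zero_of_coprime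
      rw [Nat.coprime_comm]
      exact (Nat.Prime.coprime_iff_not_dvd hp.out).2 hdvd
    have hQp : IsPGroup p ↥(pCore p (G ⧸ pPrimeCore p G)) := Cfsg.Agent.Lib.H1.pCore_isPGroup p _
    obtain ⟨i, hi⟩ := IsPGroup.iff_card.1 hQp
    have hl1 : PLengthLE p 1 ↥(pCore p (G ⧸ pPrimeCore p G)) :=
      Cfsg.Agent.Lib.H19.plengthLE_one_of_isPGroup hi
    have hl3 : PLengthLE p (1 + 0) (G ⧸ pPrimeCore p G) :=
      Cfsg.Agent.Lib.H19.plengthLE_of_extension _ hl1 hl2
    have hl0 : PLengthLE p 0 ↥(pPrimeCore p G) :=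
      Cfsg.Agent.Lib.H19.plengthLE_zero_of_coprime (Cfsg.Agent.Lib.H22.card_pPrimeCore_coprime p)
    have hl4 : PLengthLE p (0 + (1 + 0)) G := Cfsg.Agent.Lib.H19.plengthLE_of_extension _ hl0 hl3
    exact hl4

end Cfsg.Agent.Lib.H19.HH
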