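import Mathlib
import Cfsg.Agent.Lib.H19.HHWrMain
import Cfsg.Agent.Lib.H19.HHD8
import Cfsg.Agent.Lib.H19.ModRepBC

/-!
# The last term of the derived series of a Sylow `p`-subgroup lies in `O_p` (helper19)

`derivedSeries_map_le_pCore` : `G` finite `p`-soluble, `p` odd, `O_{p'}(G) = 1`, `P` a Sylow
`p`-subgroup with `P^(d+1) = 1`.  Then `P^(d) ≤ O_p(G)`.
-/

set_option autoImplicit false
set_option linter.unusedSectionVars false
set_option maxHeartbeats 800000

namespace Cfsg.Agent.Lib.H19.HH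

open Cfsg Cfsg.Agent.Lib.H7.HHAb Cfsg.Agent.Lib.H19.ModRep
open scoped commutatorElement

universe u

variable {H : Type u} [Group H] [Finite H] {p : ℕ} [hp : Fact p.Prime]

/-- the representation on the Frattini quotient of `O_p(H)` is faithful when `O_{p'}(H) = 1` -/
theorem frRep_injective (hH : IsPSolvable p H) (hO : pPrimeCore p H = ⊥)
    [hQn : (pCore p H).Normal] [hQ : Fact (IsPGroup p ↥(pCore p H))] :
    Function.Injective (frRep p (pCore p H)) := by
  have hker : ∀ k : H ⧸ pCore p H, frRep p (pCore p H) k = 1 → k = 1 := by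
    intro k hk
    obtain ⟨h, rfl⟩ := QuotientGroup.mk_surjective k
    rw [QuotientGroup.eq_one_iff]
    apply Cfsg.Agent.Lib.H7.CycNorm.mem_pCore_of_t2 hH hO
    intro v hv
    have h2 : frAct (pCore p H) h (QuotientGroup.mk ⟨v, hv⟩) = QuotientGroup.mk ⟨v, hv⟩ := by
      have h3 := congrArg (fun f : Module.End (ZMod p) (FrV p (pCore p H)) =>
        f (FrV.mk p (pCore p H) (QuotientGroup.mk ⟨v, hv⟩))) hk
      exact congrArg FrV.val h3
    rw [frAct_apply_mk] at h2
    have h3 := QuotientGroup.eq.1 h2.symm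
    have hΦn' : (frattini ↥(pCore p H)).Normal := inferInstance
    have h4 := hΦn'.conj_mem _ h3 ⟨v, hv⟩
    refine ⟨_, h4, ?_⟩
    simp only [Subgroup.subtype_apply, Subgroup.coe_mul, Subgroup.coe_inv,
      MulAut.conjNormal_apply]
    group
  intro a b hab
  have h1 : frRep p (pCore p H) (a⁻¹ * b) = 1 := by
    rw [map_mul, ← hab, ← map_mul, inv_mul_cancel, map_one]
  exact inv_mul_eq_one.1 (hker _ h1)

variable (Q : Subgroup H) [hQn : Q.Normal] [hQ : Fact (IsPGroup p ↥Q)]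

/-- the commutator map `u ↦ [h, u]` on the normal subgroup `Q` -/
def cmQ (h : H) (u : ↥Q) : ↥Q :=
  ⟨h * u * h⁻¹ * (u : H)⁻¹, Q.mul_mem (hQn.conj_mem u u.2 h) (Q.inv_mem u.2)⟩

theorem frRep_sub_one_apply (h : H) (u : ↥Q) :
    (frRep p Q (QuotientGroup.mk h) - 1) (FrV.mk p Q (QuotientGroup.mk u)) =
      FrV.mk p Q (QuotientGroup.mk (cmQ Q h u)) := by
  rw [LinearMap.sub_apply, Module.End.one_apply, frRep_apply, FrV.val_mk, frActQ_mk,
    frAct_apply_mk]
  apply FrV.val_injective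
  show (QuotientGroup.mk (MulAut.conjNormal h u) : ↥Q ⧸ frattini ↥Q) / QuotientGroup.mk u = _
  rw [FrV.val_mk, ← QuotientGroup.mk_div]
  congr 1
  apply Subtype.ext
  simp [cmQ, div_eq_mul_inv, MulAut.conjNormal_apply]

theorem exists_frV_mk (v : FrV p Q) : ∃ u : ↥Q, v = FrV.mk p Q (QuotientGroup.mk u) := by
  obtain ⟨u, hu⟩ := QuotientGroup.mk_surjective v.val
  exact ⟨u, by rw [hu]; rfl⟩

theorem FrV.mk_mk_one : FrV.mk p Q (QuotientGroup.mk (1 : ↥Q)) = 0 := rfl

theorem frRep_quad_of_cmQ {a a' : H} (h : ∀ u : ↥Q, cmQ Q a (cmQ Q a' u) = 1) (v : FrV p Q) :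
    (frRep p Q (QuotientGroup.mk a) - 1) ((frRep p Q (QuotientGroup.mk a') - 1) v) = 0 := by
  obtain ⟨u, rfl⟩ := exists_frV_mk Q v
  rw [frRep_sub_one_apply, frRep_sub_one_apply, h]
  rfl

theorem frRep_cubic_of_cmQ {a b : H} (h : ∀ u : ↥Q, cmQ Q a (cmQ Q b (cmQ Q b u)) = 1)
    (v : FrV p Q) :
    (frRep p Q (QuotientGroup.mk a) - 1) ((frRep p Q (QuotientGroup.mk b) - 1)
      ((frRep p Q (QuotientGroup.mk b) - 1) v)) = 0 := by
  obtain ⟨u, rfl⟩ := exists_frV_mk Q v
  rw [frRep_sub_one_apply, frRep_sub_one_apply, frRep_sub_one_apply, h]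
  rfl

section bcaux

variable {F : Type*} [Field F] (K : Type*) [Field K] [Algebra F K] {Γ : Type*} [Group Γ]
  {V : Type*} [AddCommGroup V] [Module F V]

theorem bc_sub_one (ρ : Representation F Γ V) (g : Γ) :
    bc K ρ g - 1 = (ρ g - 1).baseChange K := by
  rw [LinearMap.baseChange_sub, bc_apply]
  congr 1
  exact (LinearMap.baseChange_one F V).symm

theorem bc_quad (ρ : Representation F Γ V) {a a' : Γ}
    (h : ∀ v : V, (ρ a - 1) ((ρ a' - 1) v) = 0) (w : TensorProduct F K V) :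
    (bc K ρ a - 1) ((bc K ρ a' - 1) w) = 0 := by
  rw [bc_sub_one, bc_sub_one, ← LinearMap.comp_apply, ← LinearMap.baseChange_comp]
  have : (ρ a - 1) ∘ₗ (ρ a' - 1) = 0 := by
    apply LinearMap.ext
    intro v
    exact h v
  rw [this, LinearMap.baseChange_zero, LinearMap.zero_apply]

theorem bc_cubic (ρ : Representation F Γ V) {a b : Γ}
    (h : ∀ v : V, (ρ a - 1) ((ρ b - 1) ((ρ b - 1) v)) = 0) (w : TensorProduct F K V) :
    (bc K ρ a - 1) ((bc K ρ b - 1) ((bc K ρ b - 1) w)) = 0 := by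
  rw [bc_sub_one, bc_sub_one, ← LinearMap.comp_apply, ← LinearMap.comp_apply,
    ← LinearMap.baseChange_comp, ← LinearMap.baseChange_comp]
  have : ((ρ a - 1) ∘ₗ (ρ b - 1)) ∘ₗ (ρ b - 1) = 0 := by
    apply LinearMap.ext
    intro v
    exact h v
  rw [this, LinearMap.baseChange_zero, LinearMap.zero_apply]

end bcaux

theorem map_subtype_normalized {G : Type*} [Group G] (P : Subgroup G) (N : Subgroup ↥P)
    [hN : N.Normal] : P ≤ Subgroup.normalizer ((N.map P.subtype : Subgroup G) : Set G) := by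
  have key : ∀ x ∈ P, ∀ g ∈ N.map P.subtype, x * g * x⁻¹ ∈ N.map P.subtype := by
    rintro x hx _ ⟨n, hn, rfl⟩
    exact ⟨⟨x, hx⟩ * n * ⟨x, hx⟩⁻¹, hN.conj_mem n hn ⟨x, hx⟩, rfl⟩
  intro x hx
  rw [Subgroup.mem_normalizer_iff]
  intro g
  constructor
  · exact key x hx g
  · intro hg
    have := key x⁻¹ (P.inv_mem hx) _ hg
    have e : x⁻¹ * (x * g * x⁻¹) * x⁻¹⁻¹ = g := by group
    rwa [e] at this

/-- **Key lemma** for `l_p ≤ d_p`. -/
theorem derivedSeries_map_le_pCore {G : Type u} [Group G] [Finite G] (hp2 : p ≠ 2)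
    (hG : IsPSolvable p G) (hO : pPrimeCore p G = ⊥) (P : Sylow p G) (d : ℕ)
    (hd : derivedSeries ↥(P : Subgroup G) (d + 1) = ⊥) :
    (derivedSeries ↥(P : Subgroup G) d).map (P : Subgroup G).subtype ≤ pCore p G := by
  classical
  have hQn : (pCore p G).Normal := Cfsg.Agent.Lib.H1.pCore_normal p G
  have hQp : IsPGroup p ↥(pCore p G) := Cfsg.Agent.Lib.H1.pCore_isPGroup p G
  have : Fact (IsPGroup p ↥(pCore p G)) := ⟨hQp⟩
  have hfaith := frRep_injective hG hO
  set Q := pCore p G with hQdef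
  set Pg : Subgroup G := (P : Subgroup G) with hPg
  set A : Subgroup G := (derivedSeries ↥Pg d).map Pg.subtype with hA
  have hQP : Q ≤ Pg := Cfsg.Agent.Lib.H1.pCore_le_sylow P
  have hAP : A ≤ Pg := Subgroup.map_subtype_le _
  have hAn : Pg ≤ Subgroup.normalizer (A : Set G) := map_subtype_normalized Pg _
  have hAab : ∀ a ∈ A, ∀ a' ∈ A, a * a' = a' * a := by
    rintro _ ⟨a, ha, rfl⟩ _ ⟨a', ha', rfl⟩
    have h1 : ⁅a, a'⁆ ∈ derivedSeries ↥Pg (d + 1) := by
      rw [derivedSeries_succ]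
      exact Subgroup.commutator_mem_commutator ha ha'
    rw [hd, Subgroup.mem_bot, commutatorElement_eq_one_iff_mul_comm] at h1
    exact congrArg Subtype.val h1
  -- the group identity behind the quadratic action
  have hquadG : ∀ a ∈ A, ∀ a' ∈ A, ∀ u : ↥Q, cmQ Q a (cmQ Q a' u) = 1 := by
    intro a ha a' ha' u
    have huP : (u : G) ∈ Pg := hQP u.2
    have h1 : (u : G) * a'⁻¹ * (u : G)⁻¹ ∈ A :=
      (Subgroup.mem_normalizer_iff.1 (hAn huP) _).1 (A.inv_mem ha')
    have h2 : a' * (u : G) * a'⁻¹ * (u : G)⁻¹ ∈ A := by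
      have := A.mul_mem ha' h1
      have e : a' * ((u : G) * a'⁻¹ * (u : G)⁻¹) = a' * (u : G) * a'⁻¹ * (u : G)⁻¹ := by group
      rwa [e] at this
    apply Subtype.ext
    show a * (a' * (u : G) * a'⁻¹ * (u : G)⁻¹) * a⁻¹ * (a' * (u : G) * a'⁻¹ * (u : G)⁻¹)⁻¹ = 1
    rw [hAab a ha _ h2]
    group
  cases d with
  | zero =>
    -- `P` is abelian
    rintro _ ⟨x, -, rfl⟩
    have hxA : (x : G) ∈ A := ⟨x, by rw [derivedSeries_zero]; exact Subgroup.mem_top x, rfl⟩
    have h1 : frRep p Q (QuotientGroup.mk (x : G)) = 1 := by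
      apply LinearMap.ext
      intro v
      obtain ⟨u, rfl⟩ := exists_frV_mk Q v
      have h2 := frRep_sub_one_apply (p := p) Q (x : G) u
      have h3 : cmQ Q (x : G) u = 1 := by
        apply Subtype.ext
        show (x : G) * (u : G) * (x : G)⁻¹ * (u : G)⁻¹ = 1
        have huA : (u : G) ∈ A := ⟨⟨u, hQP u.2⟩, by rw [derivedSeries_zero]; exact Subgroup.mem_top _, rfl⟩
        rw [hAab _ hxA _ huA]
        group
      rw [h3, LinearMap.sub_apply, Module.End.one_apply] at h2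
      rw [Module.End.one_apply]
      exact sub_eq_zero.1 h2
    have h4 : (QuotientGroup.mk (x : G) : G ⧸ Q) = 1 := by
      apply hfaith
      rw [h1, map_one]
    exact (QuotientGroup.eq_one_iff _).1 h4
  | succ e =>
    set B : Subgroup G := (derivedSeries ↥Pg e).map Pg.subtype with hB
    have hBP : B ≤ Pg := Subgroup.map_subtype_le _
    have hBn : Pg ≤ Subgroup.normalizer (B : Set G) := map_subtype_normalized Pg _
    have hAB' : A = ⁅B, B⁆ := by
      rw [hA, hB, derivedSeries_succ, Subgroup.map_commutator]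
    have hAB : A ≤ B := Subgroup.map_mono (derivedSeries_antitone ↥Pg (Nat.le_succ e))
    have hcubG : ∀ a ∈ A, ∀ b ∈ B, ∀ u : ↥Q, cmQ Q a (cmQ Q b (cmQ Q b u)) = 1 := by
      intro a ha b hb u
      have huP : (u : G) ∈ Pg := hQP u.2
      have h1 : (u : G) * b⁻¹ * (u : G)⁻¹ ∈ B :=
        (Subgroup.mem_normalizer_iff.1 (hBn huP) _).1 (B.inv_mem hb)
      have h2 : b * (u : G) * b⁻¹ * (u : G)⁻¹ ∈ B := by
        have := B.mul_mem hb h1
        have e : b * ((u : G) * b⁻¹ * (u : G)⁻¹) = b * (u : G) * b⁻¹ * (u : G)⁻¹ := by group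
        rwa [e] at this
      have h3 : b * (b * (u : G) * b⁻¹ * (u : G)⁻¹) * b⁻¹ * (b * (u : G) * b⁻¹ * (u : G)⁻¹)⁻¹ ∈ A := by
        rw [hAB']
        exact Subgroup.commutator_mem_commutator hb h2
      apply Subtype.ext
      show a * (b * (b * (u : G) * b⁻¹ * (u : G)⁻¹) * b⁻¹ * (b * (u : G) * b⁻¹ * (u : G)⁻¹)⁻¹) * a⁻¹ *
        (b * (b * (u : G) * b⁻¹ * (u : G)⁻¹) * b⁻¹ * (b * (u : G) * b⁻¹ * (u : G)⁻¹)⁻¹)⁻¹ = 1
      rw [hAab a ha _ h3]
      group
    -- the representation over the algebraic closure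
    let kbar := AlgebraicClosure (ZMod p)
    let ρ₀ := frRep p Q
    let ρ : Representation kbar (G ⧸ Q) (TensorProduct (ZMod p) kbar (FrV p Q)) := bc kbar ρ₀
    let π : G →* G ⧸ Q := QuotientGroup.mk' Q
    have hsolH : IsPSolvable p (G ⧸ Q) := Cfsg.Agent.Lib.H10.isPSolvable_quotient hG Q
    have hOH : pCore p (G ⧸ Q) = ⊥ := Cfsg.Agent.Lib.H7.InvCent.pCore_quotient_eq_bot' p Q rfl
    set K : Subgroup (G ⧸ Q) := pPrimeCore p (G ⧸ Q) with hK
    have hKn : K.Normal := Cfsg.Agent.Lib.H22.pPrimeCore_normal p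
    have hPgp : IsPGroup p ↥Pg := P.isPGroup'
    have hdata : QData p ρ ⊤ (B.map π) (A.map π) K :=
      { hB := (hPgp.to_le hBP).map π
        hAB := Subgroup.map_mono hAB
        hBA := (Subgroup.map_mono (hBP.trans hAn)).trans (Subgroup.le_normalizer_map π)
        hder := by
          intro T hT
          rw [hAB', Subgroup.map_commutator, Subgroup.commutator_le]
          intro b₁ hb₁ b₂ hb₂
          exact hT b₁ hb₁ b₂ hb₂
        hK := Cfsg.Agent.Lib.H22.card_pPrimeCore_coprime p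
        hBK := by
          rw [Subgroup.normalizer_eq_top]
          exact le_top
        hUK := fun _ _ _ _ => Submodule.mem_top
        hUB := fun _ _ _ _ => Submodule.mem_top
        hii := by
          rintro _ ⟨a, ha, rfl⟩ _ ⟨a', ha', rfl⟩ w _
          exact bc_quad kbar ρ₀ (frRep_quad_of_cmQ Q (hquadG a ha a' ha')) w
        hi := by
          rintro _ ⟨a, ha, rfl⟩ _ ⟨b, hb, rfl⟩ w _
          exact bc_cubic kbar ρ₀ (frRep_cubic_of_cmQ Q (hcubG a ha b hb)) w }
    have hconcl := qGeneral (k := kbar) hp2 _ (G ⧸ Q) _ ρ ⊤ (B.map π) (A.map π) K rfl hdata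
    have hcent : A.map π ≤ Subgroup.centralizer (K : Set (G ⧸ Q)) := by
      intro a ha
      rw [Subgroup.mem_centralizer_iff]
      intro g hg
      apply hfaith
      rw [map_mul, map_mul]
      apply comm_of_bc_comm kbar ρ₀
      apply LinearMap.ext
      intro w
      rw [Module.End.mul_apply, Module.End.mul_apply]
      exact hconcl g hg a ha w Submodule.mem_top
    have hle : A.map π ≤ K :=
      hcent.trans (Cfsg.Agent.Lib.H1.PSolvDual.centralizer_pPrimeCore_le_of_isPSolvable p hsolH hOH)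
    have hAp : IsPGroup p ↥(A.map π) := (hPgp.to_le hAP).map π
    have hbot : A.map π = ⊥ := by
      rw [eq_bot_iff]
      intro x hx
      rw [Subgroup.mem_bot]
      obtain ⟨j, hj⟩ := hAp ⟨x, hx⟩
      have hj' : x ^ p ^ j = 1 := congrArg Subtype.val hj
      have h1 : orderOf x ∣ p ^ j := orderOf_dvd_of_pow_eq_one hj'
      have h2 : orderOf x ∣ Nat.card K := Subgroup.orderOf_dvd_natCard K (hle hx)
      have hcop : (Nat.card K).Coprime p := Cfsg.Agent.Lib.H22.card_pPrimeCore_coprime p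
      have h3 : orderOf x ∣ 1 := by
        have := Nat.Coprime.pow_right j hcop
        exact (Nat.Coprime.eq_one_of_dvd (this.coprime_dvd_left h2) h1) ▸ dvd_rfl
      exact orderOf_eq_one_iff.1 (Nat.dvd_one.1 h3)
    intro a ha
    have h1 : π a ∈ A.map π := ⟨a, ha, rfl⟩
    rw [hbot, Subgroup.mem_bot] at h1
    exact (QuotientGroup.eq_one_iff _).1 h1

end Cfsg.Agent.Lib.H19.HH
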