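import Mathlib
import Cfsg.Agent.Lib.H19.HHD9
import Cfsg.Agent.Lib.H19.PLength

/-!
# Hall–Higman: `l_p(G) ≤ d_p(G)` for odd `p` (helper19)

`plengthLE_of_derivedSeries` : a finite `p`-soluble group (`p` odd) whose Sylow `p`-subgroups have
derived length at most `d` has `p`-length at most `d`.
-/

set_option autoImplicit false
set_option linter.unusedSectionVars false

namespace Cfsg.Agent.Lib.H19.HH

open Cfsg

universe u

theorem derivedSeries_eq_bot_of_eq {G : Type*} [Group G] {X Y : Subgroup G} (h : X = Y) {n : ℕ}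
    (hX : derivedSeries ↥X n = ⊥) : derivedSeries ↥Y n = ⊥ := by
  subst h
  exact hX

/-- the Sylow subgroups of a quotient inherit the bound on the derived length -/
theorem derivedSeries_sylow_of_surjective {G G' : Type*} [Group G] [Finite G] [Group G']
    {p : ℕ} [Fact p.Prime] (f : G →* G') (hf : Function.Surjective f) {n : ℕ}
    (h : ∀ P : Sylow p G, derivedSeries ↥(P : Subgroup G) n = ⊥) (P' : Sylow p G') :
    derivedSeries ↥(P' : Subgroup G') n = ⊥ := by
  obtain ⟨P, rfl⟩ := Sylow.mapSurjective_surjective hf p P'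
  have h1 : derivedSeries ↥((P : Subgroup G).map f) n = ⊥ := by
    rw [← map_derivedSeries_eq (f.subgroupMap_surjective (P : Subgroup G)) n, h P,
      Subgroup.map_bot]
  exact derivedSeries_eq_bot_of_eq (Sylow.coe_mapSurjective hf P).symm h1

theorem plengthLE_of_derivedSeries_aux {p : ℕ} [hp : Fact p.Prime] (hp2 : p ≠ 2) :
    ∀ (d : ℕ) (G : Type u) [Group G] [Finite G], IsPSolvable p G →
      (∀ P : Sylow p G, derivedSeries ↥(P : Subgroup G) d = ⊥) → PLengthLE p d G := by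
  intro d
  induction d with
  | zero =>
    intro G _ _ _ hd
    apply Cfsg.Agent.Lib.H19.plengthLE_zero_of_coprime
    rw [Nat.coprime_comm]
    apply (Nat.Prime.coprime_iff_not_dvd hp.out).2
    intro hdvd
    obtain ⟨P⟩ : Nonempty (Sylow p G) := inferInstance
    apply P.ne_bot_of_dvd_card hdvd
    have h1 := hd P
    rw [derivedSeries_zero] at h1
    rw [eq_bot_iff]
    intro x hx
    have : (⟨x, hx⟩ : ↥(P : Subgroup G)) ∈ (⊥ : Subgroup ↥(P : Subgroup G)) := by
      rw [← h1]; exact Subgroup.mem_top _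
    rw [Subgroup.mem_bot] at this
    exact Subgroup.mem_bot.2 (congrArg Subtype.val this)
  | succ d ih =>
    intro G _ _ hG hd
    have hNn : (pPrimeCore p G).Normal := Cfsg.Agent.Lib.H22.pPrimeCore_normal p
    have hG1 : IsPSolvable p (G ⧸ pPrimeCore p G) := Cfsg.Agent.Lib.H10.isPSolvable_quotient hG _
    have hO1 : pPrimeCore p (G ⧸ pPrimeCore p G) = ⊥ :=
      Cfsg.Agent.Lib.H9.pPrimeCore_quotient_eq_bot p
    have hd1 : ∀ P₁ : Sylow p (G ⧸ pPrimeCore p G),
        derivedSeries ↥(P₁ : Subgroup (G ⧸ pPrimeCore p G)) (d + 1) = ⊥ :=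
      derivedSeries_sylow_of_surjective (QuotientGroup.mk' (pPrimeCore p G))
        (QuotientGroup.mk'_surjective _) hd
    set G₁ := G ⧸ pPrimeCore p G with hG₁
    have hQn : (pCore p G₁).Normal := Cfsg.Agent.Lib.H1.pCore_normal p _
    have hG2 : IsPSolvable p (G₁ ⧸ pCore p G₁) := Cfsg.Agent.Lib.H10.isPSolvable_quotient hG1 _
    -- the Sylow subgroups of `G₂` have derived length at most `d`
    have hd2 : ∀ P₂ : Sylow p (G₁ ⧸ pCore p G₁),
        derivedSeries ↥(P₂ : Subgroup (G₁ ⧸ pCore p G₁)) d = ⊥ := by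
      intro P₂
      set π₂ : G₁ →* G₁ ⧸ pCore p G₁ := QuotientGroup.mk' (pCore p G₁) with hπ₂
      have hπ₂s : Function.Surjective π₂ := QuotientGroup.mk'_surjective _
      obtain ⟨P₁, rfl⟩ := Sylow.mapSurjective_surjective hπ₂s p P₂
      have hkey := derivedSeries_map_le_pCore hp2 hG1 hO1 P₁ d (hd1 P₁)
      have h1 : derivedSeries ↥((P₁ : Subgroup G₁).map π₂) d = ⊥ := by
        rw [← map_derivedSeries_eq (π₂.subgroupMap_surjective (P₁ : Subgroup G₁)) d, eq_bot_iff]
        rintro _ ⟨x, hx, rfl⟩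
        rw [Subgroup.mem_bot]
        apply Subtype.ext
        have hxQ : (x : G₁) ∈ pCore p G₁ := hkey ⟨x, hx, rfl⟩
        show π₂ (x : G₁) = 1
        exact (QuotientGroup.eq_one_iff _).2 hxQ
      exact derivedSeries_eq_bot_of_eq (Sylow.coe_mapSurjective hπ₂s P₁).symm h1
    have hl2 : PLengthLE p d (G₁ ⧸ pCore p G₁) := ih _ hG2 hd2
    have hQp : IsPGroup p ↥(pCore p G₁) := Cfsg.Agent.Lib.H1.pCore_isPGroup p _
    obtain ⟨i, hi⟩ := IsPGroup.iff_card.1 hQp
    have hl1 : PLengthLE p 1 ↥(pCore p G₁) := Cfsg.Agent.Lib.H19.plengthLE_one_of_isPGroup hi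
    have hl3 : PLengthLE p (1 + d) G₁ := Cfsg.Agent.Lib.H19.plengthLE_of_extension _ hl1 hl2
    have hl0 : PLengthLE p 0 ↥(pPrimeCore p G) :=
      Cfsg.Agent.Lib.H19.plengthLE_zero_of_coprime (Cfsg.Agent.Lib.H22.card_pPrimeCore_coprime p)
    have hl4 : PLengthLE p (0 + (1 + d)) G := Cfsg.Agent.Lib.H19.plengthLE_of_extension _ hl0 hl3
    have e : 0 + (1 + d) = d + 1 := by omega
    rwa [e] at hl4

/-- **Hall–Higman**: `l_p(G) ≤ d_p(G)` for odd `p`. -/
theorem plengthLE_of_derivedSeries {G : Type u} [Group G] [Finite G] {p : ℕ} [Fact p.Prime]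
    (hp2 : p ≠ 2) (hG : IsPSolvable p G) (d : ℕ)
    (hd : ∀ P : Sylow p G, derivedSeries ↥(P : Subgroup G) d = ⊥) : PLengthLE p d G :=
  plengthLE_of_derivedSeries_aux hp2 d G hG hd

end Cfsg.Agent.Lib.H19.HH
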