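import Mathlib
import Cfsg.Agent.Lib.H19.HHD2

/-!
# Arithmetic and group theoretic preliminaries for Theorem E (helper19)

* `eq_two_mul_of_dvd` : `2^b + 1 ∣ 2^s - 1`, `0 < s ≤ 2b` forces `s = 2b`.
* `exists_eq_two_pow_add_one` : `p^n₀ = 2^m + 1` with `p` an odd prime forces `p = 2^k + 1`.
* `MinConf.exists_central'` : the element `a` of `MinConf.exists_central` can be chosen with
  `a ^ p ∈ C(K)`.
* `MinConf.le_closure'` : `K = [K, a]` without the hypothesis `a ^ p = 1`.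
-/

set_option autoImplicit false
set_option linter.unusedSectionVars false

namespace Cfsg.Agent.Lib.H19.HH

open Cfsg.Agent.Lib.H1
open scoped commutatorElement

/-- the order of `2` modulo `2^b + 1` is `2b` -/
theorem eq_two_mul_of_dvd {b s : ℕ} (hs0 : 0 < s) (hs : s ≤ 2 * b)
    (hdvd : 2 ^ b + 1 ∣ 2 ^ s - 1) : s = 2 * b := by
  have hpos : 1 ≤ 2 ^ s := Nat.one_le_two_pow
  rcases Nat.lt_or_ge s (b + 1) with h1 | h1
  · -- `s ≤ b`
    exfalso
    have h2 : 2 ^ s ≤ 2 ^ b := Nat.pow_le_pow_right (by norm_num) (by omega)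
    have h3 : 2 ^ s - 1 < 2 ^ b + 1 := by omega
    have h4 : 0 < 2 ^ s - 1 := by
      have : 2 ^ 1 ≤ 2 ^ s := Nat.pow_le_pow_right (by norm_num) hs0
      omega
    exact absurd (Nat.le_of_dvd h4 hdvd) (by omega)
  · by_contra hne
    have hlt : s < 2 * b := lt_of_le_of_ne hs hne
    obtain ⟨t, rfl⟩ := Nat.exists_eq_add_of_le (show b ≤ s by omega)
    have ht0 : 0 < t := by omega
    have htb : t < b := by omega
    -- `2^(b+t) - 1 = 2^t (2^b + 1) - (2^t + 1)`
    have h2 : 2 ^ b + 1 ∣ 2 ^ t + 1 := by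
      have h3 : 2 ^ (b + t) - 1 + (2 ^ t + 1) = 2 ^ t * (2 ^ b + 1) := by
        have : 1 ≤ 2 ^ (b + t) := Nat.one_le_two_pow
        rw [pow_add]
        have h5 : 1 ≤ 2 ^ b * 2 ^ t := by rw [← pow_add]; exact this
        have e : 2 ^ t * (2 ^ b + 1) = 2 ^ b * 2 ^ t + 2 ^ t := by ring
        rw [e]
        omega
      have h4 : 2 ^ b + 1 ∣ 2 ^ (b + t) - 1 + (2 ^ t + 1) := by
        rw [h3]
        exact Dvd.intro_left _ rfl
      exact (Nat.dvd_add_right hdvd).1 h4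
    have h5 : 2 ^ t < 2 ^ b := Nat.pow_lt_pow_right (by norm_num) htb
    exact absurd (Nat.le_of_dvd (by positivity) h2) (by omega)

theorem odd_geom_sum {p n : ℕ} (hp : Odd p) (hn : Odd n) : Odd (∑ i ∈ Finset.range n, p ^ i) := by
  rw [Nat.odd_iff]
  rw [Finset.sum_nat_mod]
  have h1 : ∀ i ∈ Finset.range n, p ^ i % 2 = 1 := fun i _ => Nat.odd_iff.1 hp.pow
  rw [Finset.sum_congr rfl h1, Finset.sum_const, Finset.card_range, smul_eq_mul, mul_one]
  exact Nat.odd_iff.1 hn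

/-- `p^n₀ = 2^m + 1` with `p` an odd prime forces `p` to be a Fermat prime -/
theorem exists_eq_two_pow_add_one {p n₀ m : ℕ} (hp : p.Prime) (hp2 : p ≠ 2) (hn₀ : 1 ≤ n₀)
    (h : p ^ n₀ = 2 ^ m + 1) : ∃ k : ℕ, p = 2 ^ k + 1 := by
  have hpodd : Odd p := hp.odd_of_ne_two hp2
  have hp1 : 1 ≤ p := hp.one_lt.le
  rcases Nat.even_or_odd n₀ with he | ho
  · -- `n₀ = 2j`
    obtain ⟨j, rfl⟩ := he
    have hj : 1 ≤ j := by omega
    have hpj : 2 ≤ p ^ j := by
      calc 2 ≤ p := hp.two_le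
        _ = p ^ 1 := (pow_one p).symm
        _ ≤ p ^ j := Nat.pow_le_pow_right hp.pos hj
    have h1 : (p ^ j - 1) * (p ^ j + 1) = 2 ^ m := by
      have e : p ^ (j + j) = p ^ j * p ^ j := pow_add p j j
      have h2 : (p ^ j - 1) * (p ^ j + 1) + 1 = p ^ j * p ^ j := by
        obtain ⟨c, hc⟩ := Nat.exists_eq_add_of_le (show 1 ≤ p ^ j by omega)
        rw [hc]
        have : 1 + c - 1 = c := by omega
        rw [this]
        ring
      omega
    have hd1 : p ^ j - 1 ∣ 2 ^ m := Dvd.intro _ h1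
    have hd2 : p ^ j + 1 ∣ 2 ^ m := Dvd.intro_left _ h1
    obtain ⟨a, -, ha⟩ := (Nat.dvd_prime_pow Nat.prime_two).1 hd1
    obtain ⟨b, -, hb⟩ := (Nat.dvd_prime_pow Nat.prime_two).1 hd2
    -- `2^b = 2^a + 2`
    have hab : 2 ^ b = 2 ^ a + 2 := by omega
    have ha1 : a = 1 := by
      rcases Nat.lt_or_ge a 1 with h0 | h0
      · -- `a = 0` : `2^b = 3`
        exfalso
        have : a = 0 := by omega
        rw [this] at hab
        have hb3 : 2 ^ b = 3 := by simpa using hab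
        rcases Nat.lt_or_ge b 2 with hb' | hb'
        · interval_cases b <;> omega
        · have : 2 ^ 2 ≤ 2 ^ b := Nat.pow_le_pow_right (by norm_num) hb'
          omega
      · by_contra hne
        have h2a : 2 ≤ a := by omega
        -- `4 ∣ 2^a` and `4 ∣ 2^b`, so `4 ∣ 2`
        have hba : a < b := by
          by_contra hle
          push Not at hle
          have : 2 ^ b ≤ 2 ^ a := Nat.pow_le_pow_right (by norm_num) hle
          omega
        have h4a : 4 ∣ 2 ^ a := by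
          obtain ⟨c, rfl⟩ := Nat.exists_eq_add_of_le h2a
          exact ⟨2 ^ c, by rw [pow_add]; norm_num⟩
        have h4b : 4 ∣ 2 ^ b := by
          obtain ⟨c, rfl⟩ := Nat.exists_eq_add_of_le (show 2 ≤ b by omega)
          exact ⟨2 ^ c, by rw [pow_add]; norm_num⟩
        omega
    rw [ha1] at ha
    have hpj3 : p ^ j = 3 := by omega
    have hp3 : p ∣ 3 := by
      rw [← hpj3]
      exact dvd_pow_self p (by omega)
    have : p = 3 := (Nat.prime_dvd_prime_iff_eq hp Nat.prime_three).1 hp3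
    exact ⟨1, by rw [this]; norm_num⟩
  · -- `n₀` odd
    have hsum : (p - 1) * ∑ i ∈ Finset.range n₀, p ^ i = 2 ^ m := by
      have h1 := Nat.geomSum_eq hp.two_le n₀
      have h2 : p - 1 ∣ p ^ n₀ - 1 := by
        have := Nat.sub_dvd_pow_sub_pow p 1 n₀
        simpa using this
      rw [h1, Nat.mul_div_cancel' h2, h]
      exact Nat.add_sub_cancel _ _
    have hodd := odd_geom_sum hpodd ho
    have hd : ∑ i ∈ Finset.range n₀, p ^ i ∣ 2 ^ m := Dvd.intro_left _ hsum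
    obtain ⟨a, -, ha⟩ := (Nat.dvd_prime_pow Nat.prime_two).1 hd
    have ha0 : a = 0 := by
      by_contra hne
      rw [ha] at hodd
      have : Even (2 ^ a) := (Nat.even_pow' hne).2 even_two
      exact (Nat.not_odd_iff_even.2 this) hodd
    rw [ha0, pow_zero] at ha
    rw [ha, mul_one] at hsum
    exact ⟨m, by omega⟩

/-- the prime `q` with `q^b = p^c - 1` for odd `p` is `2` -/
theorem eq_two_of_pow_eq {q b P : ℕ} (hq : q.Prime) (hP : Odd P)
    (h : q ^ b = P - 1) (hP1 : 1 ≤ P) : q = 2 := by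
  have he : Even (q ^ b) := by
    rw [h]
    obtain ⟨c, hc⟩ := hP
    exact ⟨c, by omega⟩
  have : Even q := (Nat.even_pow.1 he).1
  exact (Nat.Prime.even_iff hq).1 this

variable {G : Type*} [Group G]

/-- a `p`-element commuting with all its commutators with the `q`-group `Q` centralizes `Q` -/
theorem commute_of_commute_commutators' [Finite G] {p q : ℕ} (hp : p.Prime) (hq : q.Prime)
    (hpq : p ≠ q) {Q : Subgroup G} (hQ : IsPGroup q Q) {y : G} {j : ℕ} (hyp : y ^ p ^ j = 1)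
    (hyQ : ∀ u ∈ Q, y * u * y⁻¹ ∈ Q)
    (h : ∀ u ∈ Q, y * (y * u * y⁻¹ * u⁻¹) = (y * u * y⁻¹ * u⁻¹) * y) :
    ∀ u ∈ Q, y * u = u * y := by
  intro u hu
  set c := y * u * y⁻¹ * u⁻¹ with hc
  have hcQ : c ∈ Q := Q.mul_mem (hyQ u hu) (Q.inv_mem hu)
  have hyc : y * c = c * y := h u hu
  have hpow : ∀ i : ℕ, y ^ i * u * (y ^ i)⁻¹ = c ^ i * u := by
    intro i
    induction i with
    | zero => simp
    | succ i ih =>
      have e1 : y ^ (i + 1) * u * (y ^ (i + 1))⁻¹ = y * (y ^ i * u * (y ^ i)⁻¹) * y⁻¹ := by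
        rw [pow_succ']; group
      have hyci : y * c ^ i = c ^ i * y := (Commute.pow_right (show Commute y c from hyc) i).eq
      rw [e1, ih, ← mul_assoc, hyci, mul_assoc, mul_assoc]
      have e2 : y * (u * y⁻¹) = c * u := by rw [hc]; group
      rw [e2, ← mul_assoc, ← pow_succ]
  have h1 := hpow (p ^ j)
  rw [hyp, inv_one, mul_one, one_mul] at h1
  have hcp : c ^ p ^ j = 1 := by
    have : c ^ p ^ j * u = 1 * u := by rw [← h1, one_mul]
    exact mul_right_cancel this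
  obtain ⟨a, ha⟩ := hQ ⟨c, hcQ⟩
  have hca : c ^ (q ^ a) = 1 := congrArg Subtype.val ha
  have hcop : Nat.Coprime (p ^ j) (q ^ a) :=
    Nat.Coprime.pow j a ((Nat.coprime_primes hp hq).2 hpq)
  have hc1 : c = 1 := by
    have h2 : orderOf c ∣ p ^ j := orderOf_dvd_of_pow_eq_one hcp
    have h3 : orderOf c ∣ q ^ a := orderOf_dvd_of_pow_eq_one hca
    have h4 : orderOf c ∣ 1 := by
      rw [← Nat.Coprime.gcd_eq_one hcop]
      exact Nat.dvd_gcd h2 h3
    exact orderOf_eq_one_iff.1 (Nat.dvd_one.1 h4)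
  have : y * u * y⁻¹ * u⁻¹ = 1 := by rw [← hc, hc1]
  calc y * u = (y * u * y⁻¹ * u⁻¹) * u * y := by group
    _ = u * y := by rw [this, one_mul]

variable [Finite G] {p : ℕ} [hp : Fact p.Prime] {B A K : Subgroup G}

/-- `K = [K, a]` for an element `a ∈ A` not centralizing `K` which is central modulo `C_A(K)` -/
theorem MinConf.le_closure' (h : MinConf B A K) {q : ℕ} (hq : q.Prime) (hpq : p ≠ q)
    (hKq : IsPGroup q K) (hAB : A ≤ B) {a : G} (ha : a ∈ A)
    (hanc : a ∉ Subgroup.centralizer (K : Set G)) {j : ℕ} (hap : a ^ p ^ j = 1)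
    (hcen : ∀ b ∈ B, b * a * b⁻¹ * a⁻¹ ∈ A ⊓ Subgroup.centralizer (K : Set G)) :
    K ≤ Subgroup.closure {c | ∃ u ∈ K, c = a * u * a⁻¹ * u⁻¹} := by
  set S : Set G := {c | ∃ u ∈ K, c = a * u * a⁻¹ * u⁻¹} with hS
  set E := Subgroup.closure S with hE
  have haK : ∀ u ∈ K, a * u * a⁻¹ ∈ K := fun u hu =>
    (Subgroup.mem_normalizer_iff.1 (h.hBK (hAB ha)) u).1 hu
  have hEK : E ≤ K := by
    rw [hE, Subgroup.closure_le]
    rintro c ⟨u, hu, rfl⟩
    exact K.mul_mem (haK u hu) (K.inv_mem hu)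
  have hconj : ∀ b ∈ B, ∀ g ∈ E, b * g * b⁻¹ ∈ E := by
    intro b hb g hg
    induction hg using Subgroup.closure_induction with
    | mem c hc =>
      obtain ⟨u, hu, rfl⟩ := hc
      apply Subgroup.subset_closure
      have hu' : b * u * b⁻¹ ∈ K := (Subgroup.mem_normalizer_iff.1 (h.hBK hb) u).1 hu
      refine ⟨b * u * b⁻¹, hu', ?_⟩
      set d := b * a * b⁻¹ * a⁻¹ with hd
      have hdK := (hcen b hb).2
      have hdc : d * (a * (b * u * b⁻¹) * a⁻¹) = (a * (b * u * b⁻¹) * a⁻¹) * d :=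
        (Subgroup.mem_centralizer_iff.1 hdK _ (haK _ hu')).symm
      have e1 : b * (a * u * a⁻¹ * u⁻¹) * b⁻¹ =
          d * (a * (b * u * b⁻¹) * a⁻¹) * d⁻¹ * (b * u * b⁻¹)⁻¹ := by
        rw [hd]; group
      rw [e1, hdc, mul_assoc _ d, mul_inv_cancel, mul_one]
    | one => simp
    | mul x y _ _ hx hy =>
      have : b * (x * y) * b⁻¹ = (b * x * b⁻¹) * (b * y * b⁻¹) := by group
      rw [this]
      exact E.mul_mem hx hy
    | inv x _ hx =>
      have : b * x⁻¹ * b⁻¹ = (b * x * b⁻¹)⁻¹ := by group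
      rw [this]
      exact E.inv_mem hx
  have hBE : B ≤ Subgroup.normalizer (E : Set G) := by
    intro b hb
    rw [Subgroup.mem_normalizer_iff]
    intro g
    constructor
    · exact hconj b hb g
    · intro hg
      have := hconj b⁻¹ (B.inv_mem hb) _ hg
      have e : b⁻¹ * (b * g * b⁻¹) * b⁻¹⁻¹ = g := by group
      rwa [e] at this
  by_contra hne
  have hEne : E ≠ K := fun he => hne (he ▸ le_rfl)
  have hEA : E ≤ Subgroup.centralizer (A : Set G) := by
    by_contra hnc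
    exact hEne (h.hmin E hEK hBE hnc)
  apply hanc
  rw [Subgroup.mem_centralizer_iff]
  intro u hu
  have := commute_of_commute_commutators' hp.out hq hpq hKq hap haK (fun u hu => by
    have hc : a * u * a⁻¹ * u⁻¹ ∈ E := Subgroup.subset_closure ⟨u, hu, rfl⟩
    exact (Subgroup.mem_centralizer_iff.1 (hEA hc) a ha)) u hu
  exact this.symm

/-- the element of `MinConf.exists_central` can be chosen with `p`-th power centralizing `K` -/
theorem MinConf.exists_central' (h : MinConf B A K) (hB : IsPGroup p B) (hAB : A ≤ B)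
    (hBA : B ≤ Subgroup.normalizer (A : Set G)) :
    ∃ a ∈ A, a ∉ Subgroup.centralizer (K : Set G) ∧ a ^ p ∈ Subgroup.centralizer (K : Set G) ∧
      ∀ b ∈ B, b * a * b⁻¹ * a⁻¹ ∈ A ⊓ Subgroup.centralizer (K : Set G) := by
  classical
  obtain ⟨a₀, ha₀A, ha₀nc, ha₀c⟩ := h.exists_central hB hAB hBA
  -- the centralizer of `K` in `B`
  set C : Subgroup G := Subgroup.centralizer (K : Set G) with hC
  have hCconj : ∀ b ∈ B, ∀ c ∈ C, b * c * b⁻¹ ∈ C := by
    intro b hb c hc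
    rw [hC, Subgroup.mem_centralizer_iff]
    intro u hu
    have hu' : b⁻¹ * u * b ∈ K := by
      have := (Subgroup.mem_normalizer_iff.1 (h.hBK (B.inv_mem hb)) u).1 hu
      simpa using this
    have h1 := Subgroup.mem_centralizer_iff.1 hc _ hu'
    calc u * (b * c * b⁻¹) = b * ((b⁻¹ * u * b) * c) * b⁻¹ := by group
      _ = b * (c * (b⁻¹ * u * b)) * b⁻¹ := by rw [h1]
      _ = b * c * b⁻¹ * u := by group
  -- some power of `a₀` lies in `C`
  obtain ⟨j₀, hj₀⟩ := hB ⟨a₀, hAB ha₀A⟩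
  have hj₀' : a₀ ^ p ^ j₀ = 1 := by
    have := congrArg Subtype.val hj₀
    simpa using this
  have hex : ∃ i, a₀ ^ p ^ i ∈ C := ⟨j₀, by rw [hj₀']; exact C.one_mem⟩
  have h0 : Nat.find hex ≠ 0 := by
    intro h0
    have h1 := Nat.find_spec hex
    rw [h0, pow_zero, pow_one] at h1
    exact ha₀nc h1
  obtain ⟨i, hi⟩ := Nat.exists_eq_succ_of_ne_zero h0
  have h1 : a₀ ^ p ^ i ∉ C := Nat.find_min hex (by rw [hi]; exact Nat.lt_succ_self i)
  have h2 : (a₀ ^ p ^ i) ^ p ∈ C := by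
    have := Nat.find_spec hex
    rw [hi, pow_succ, pow_mul] at this
    exact this
  refine ⟨a₀ ^ p ^ i, A.pow_mem ha₀A _, h1, h2, ?_⟩
  intro b hb
  -- `b a₀ b⁻¹ = d a₀` with `d ∈ A ∩ C`; powers
  set d := b * a₀ * b⁻¹ * a₀⁻¹ with hd
  have hdAC : d ∈ A ⊓ C := ha₀c b hb
  have hconj : b * a₀ * b⁻¹ = d * a₀ := by rw [hd]; group
  have hnormA : ∀ x ∈ A ⊓ C, a₀ * x * a₀⁻¹ ∈ A ⊓ C := by
    intro x hx
    exact ⟨A.mul_mem (A.mul_mem ha₀A hx.1) (A.inv_mem ha₀A),
      hCconj a₀ (hAB ha₀A) x hx.2⟩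
  have hpow : ∀ n : ℕ, (d * a₀) ^ n * (a₀ ^ n)⁻¹ ∈ A ⊓ C := by
    intro n
    induction n with
    | zero => simp
    | succ n ih =>
      have e : (d * a₀) ^ (n + 1) * (a₀ ^ (n + 1))⁻¹ =
          d * (a₀ * ((d * a₀) ^ n * (a₀ ^ n)⁻¹) * a₀⁻¹) := by
        rw [pow_succ', pow_succ']
        group
      rw [e]
      exact (A ⊓ C).mul_mem hdAC (hnormA _ ih)
  have e : b * a₀ ^ p ^ i * b⁻¹ * (a₀ ^ p ^ i)⁻¹ = (d * a₀) ^ p ^ i * (a₀ ^ p ^ i)⁻¹ := by
    rw [← hconj, conj_pow]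
  rw [e]
  exact hpow _

end Cfsg.Agent.Lib.H19.HH
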