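import Mathlib
import Cfsg.Agent.Lib.H19.HHD1
import Cfsg.Agent.Lib.H19.HHSub

/-!
# Two elements of a `p`-group with at most two eigenvalues commute (helper19)

`sGeneral` : `F` algebraically closed of characteristic different from the odd prime `p`,
`D` a `p`-subgroup, `U` a `D`-invariant subspace of a representation, `y₁, y₂ ∈ D` such that each
`τ yᵢ` satisfies a quadratic equation `(T - a)(T - b) = 0` on `U`.  Then `τ y₁` and `τ y₂` commute
on `U`.
-/

set_option autoImplicit false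
set_option linter.unusedSectionVars false

namespace Cfsg.Agent.Lib.H19.HH

open Module Cfsg.Agent.Lib.H19.ModRep

universe u v

section twoEigen

variable {k : Type*} [Field k] {Γ : Type*} [Group Γ] [Finite Γ] {V : Type*} [AddCommGroup V]
  [Module k V] [FiniteDimensional k V] {ρ : Representation k Γ V} {Z : Subgroup Γ}

theorem two_eigen_apply (T : Module.End k V) (a b : k) (w : V) :
    (T - a • 1) ((T - b • 1) w) = T (T w) + (-(a + b)) • T w + (a * b) • w := by
  simp only [LinearMap.sub_apply, LinearMap.smul_apply, Module.End.one_apply, map_sub, map_smul]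
  module

theorem eqOn_symm {χ χ' : Γ → k} (h : EqOn Z χ χ') : EqOn Z χ' χ := fun z hz => (h z hz).symm

/-- an element of odd order with at most two eigenvalues fixes every character with nonzero weight
space -/
theorem twf_eq_of_two_eigen (hZ : (Nat.card Z : k) ≠ 0)
    (hcomm : ∀ a b : Z, Commute (ρ (a : Γ)) (ρ (b : Γ))) {g : Γ}
    (hg : g ∈ Subgroup.normalizer (Z : Set Γ)) {n : ℕ} (hn : Odd n) (hgn : g ^ n = 1)
    {a b : k} (hq : ∀ w : V, (ρ g - a • 1) ((ρ g - b • 1) w) = 0) {χ : Γ → k} {w : V}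
    (hw : w ∈ wtf ρ Z χ) (hw0 : w ≠ 0) : EqOn Z (twf g χ) χ := by
  by_contra h1
  apply hw0
  have h2 : ¬ EqOn Z (twf (g * g) χ) χ := fun h => h1 (eqOn_twf_of_sq hg hn hgn h)
  have h3 : ¬ EqOn Z (twf (g * g) χ) (twf g χ) := fun h => h1 (eqOn_twf_of_twf hg h)
  have hx₀ : ρ g (ρ g w) ∈ wtf ρ Z (twf (g * g) χ) := by
    rw [twf_mul]
    exact apply_mem_wtf_twf hg (apply_mem_wtf_twf hg hw)
  have hx₁ : (-(a + b)) • ρ g w ∈ wtf ρ Z (twf g χ) :=
    Submodule.smul_mem _ _ (apply_mem_wtf_twf hg hw)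
  have hx₂ : (a * b) • w ∈ wtf ρ Z χ := Submodule.smul_mem _ _ hw
  have hsum : ρ g (ρ g w) + (-(a + b)) • ρ g w + (a * b) • w = 0 := by
    rw [← two_eigen_apply]
    exact hq w
  have h4 := eq_zero_of_add_add_eq_zero hZ hcomm (fun h => h3 (eqOn_symm h))
    (fun h => h2 (eqOn_symm h)) hx₀ hx₁ hx₂ hsum
  have h5 : ρ g⁻¹ (ρ g⁻¹ (ρ g (ρ g w))) = w := by
    have e : ∀ x : V, ρ g⁻¹ (ρ g x) = x := by
      intro x
      rw [← Module.End.mul_apply, ← map_mul, inv_mul_cancel, map_one, Module.End.one_apply]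
    rw [e, e]
  rw [← h5, h4, map_zero, map_zero]

end twoEigen

/-- the statement in dimension `d` -/
def SGeneral (F : Type v) [Field F] (p d : ℕ) : Prop :=
  ∀ (Γ : Type u) [Group Γ] [Finite Γ] (V : Type u) [AddCommGroup V] [Module F V]
    [FiniteDimensional F V] (τ : Representation F Γ V) (U : Submodule F V) (D : Subgroup Γ)
    (y₁ y₂ : Γ), finrank F U = d → IsPGroup p D → y₁ ∈ D → y₂ ∈ D →
    (∀ g ∈ D, ∀ w ∈ U, τ g w ∈ U) →
    (∃ a b : F, ∀ w ∈ U, (τ y₁ - a • 1) ((τ y₁ - b • 1) w) = 0) →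
    (∃ a b : F, ∀ w ∈ U, (τ y₂ - a • 1) ((τ y₂ - b • 1) w) = 0) →
    ∀ w ∈ U, τ y₁ (τ y₂ w) = τ y₂ (τ y₁ w)

variable {F : Type v} [Field F]

/-- the faithful case, with `Γ` generated by `y₁, y₂` -/
theorem s_faithful [IsAlgClosed F] {p : ℕ} [hpf : Fact p.Prime] (hp2 : p ≠ 2) (hpF : (p : F) ≠ 0)
    {d : ℕ} (IH : ∀ d' < d, SGeneral.{u, v} F p d') {Γ : Type u} [Group Γ] [Finite Γ] {V : Type u}
    [AddCommGroup V] [Module F V] [FiniteDimensional F V] {τ : Representation F Γ V}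
    (hfaith : Function.Injective τ) (hd : finrank F V = d) (hΓ : IsPGroup p Γ) (y₁ y₂ : Γ)
    (hgen : Subgroup.closure ({y₁, y₂} : Set Γ) = ⊤)
    (h₁ : ∃ a b : F, ∀ w : V, (τ y₁ - a • 1) ((τ y₁ - b • 1) w) = 0)
    (h₂ : ∃ a b : F, ∀ w : V, (τ y₂ - a • 1) ((τ y₂ - b • 1) w) = 0) :
    y₁ * y₂ = y₂ * y₁ := by
  classical
  have hp : p.Prime := hpf.out
  have hpodd : Odd p := hp.odd_of_ne_two hp2
  by_contra hne
  -- the centre is proper
  have hcne : Subgroup.center Γ ≠ ⊤ := by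
    intro h
    apply hne
    have : y₁ ∈ Subgroup.center Γ := by rw [h]; exact Subgroup.mem_top _
    exact (Subgroup.mem_center_iff.1 this y₂).symm
  have hnt : Nontrivial (Γ ⧸ Subgroup.center Γ) := by
    rw [QuotientGroup.nontrivial_iff]
    exact hcne
  have hq : IsPGroup p (Γ ⧸ Subgroup.center Γ) := hΓ.to_quotient _
  have hcn := hq.center_nontrivial
  obtain ⟨⟨bq, hbq⟩, hbq1⟩ := exists_ne (1 : Subgroup.center (Γ ⧸ Subgroup.center Γ))
  obtain ⟨b, rfl⟩ := QuotientGroup.mk_surjective bq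
  have hbZ : b ∉ Subgroup.center Γ := by
    intro h
    apply hbq1
    apply Subtype.ext
    exact (QuotientGroup.eq_one_iff b).2 h
  have hbc : ∀ g : Γ, g * b * g⁻¹ * b⁻¹ ∈ Subgroup.center Γ := by
    intro g
    have h1 := Subgroup.mem_center_iff.1 hbq (QuotientGroup.mk g)
    rw [← QuotientGroup.eq_one_iff]
    simp only [QuotientGroup.mk_mul, QuotientGroup.mk_inv]
    rw [h1, mul_inv_cancel_right, mul_inv_cancel]
  -- the abelian normal subgroup `B`
  set S : Set Γ := (Subgroup.center Γ : Set Γ) ∪ {b} with hS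
  set B : Subgroup Γ := Subgroup.closure S with hB
  have hgens : ∀ x ∈ S, ∀ y ∈ S, x * y = y * x := by
    rintro x (hx | hx) y hy
    · exact (Subgroup.mem_center_iff.1 hx y).symm
    · rcases hy with hy | hy
      · exact Subgroup.mem_center_iff.1 hy x
      · rw [Set.mem_singleton_iff] at hx hy
        rw [hx, hy]
  have hBcomm : ∀ x ∈ B, ∀ y ∈ B, x * y = y * x := by
    intro x hx y hy
    have h := (Subgroup.isMulCommutative_closure hgens).is_comm.comm ⟨x, hx⟩ ⟨y, hy⟩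
    exact congrArg Subtype.val h
  have hBn : ∀ g : Γ, g ∈ Subgroup.normalizer (B : Set Γ) := by
    intro g
    have key : ∀ g : Γ, ∀ x ∈ B, g * x * g⁻¹ ∈ B := by
      intro g x hx
      induction hx using Subgroup.closure_induction with
      | mem x hx =>
        rcases hx with hx | hx
        · have : g * x * g⁻¹ = x := by
            rw [Subgroup.mem_center_iff.1 hx g, mul_inv_cancel_right]
          rw [this]
          exact Subgroup.subset_closure (Or.inl hx)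
        · rw [Set.mem_singleton_iff] at hx
          rw [hx]
          have e2 : g * b * g⁻¹ = (g * b * g⁻¹ * b⁻¹) * b := by group
          rw [e2]
          exact Subgroup.mul_mem _ (Subgroup.subset_closure (Or.inl (hbc g)))
            (Subgroup.subset_closure (Or.inr rfl))
      | one => simp
      | mul x y _ _ hx hy =>
        have e : g * (x * y) * g⁻¹ = (g * x * g⁻¹) * (g * y * g⁻¹) := by group
        rw [e]
        exact Subgroup.mul_mem _ hx hy
      | inv x _ hx =>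
        have e : g * x⁻¹ * g⁻¹ = (g * x * g⁻¹)⁻¹ := by group
        rw [e]
        exact Subgroup.inv_mem _ hx
    rw [Subgroup.mem_normalizer_iff]
    intro x
    constructor
    · exact key g x
    · intro hx
      have := key g⁻¹ _ hx
      have e : g⁻¹ * (g * x * g⁻¹) * g⁻¹⁻¹ = x := by group
      rwa [e] at this
  have hBcommρ : ∀ a b : B, Commute (τ (a : Γ)) (τ (b : Γ)) := by
    intro a b
    show τ a * τ b = τ b * τ a
    rw [← map_mul, ← map_mul, hBcomm a a.2 b b.2]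
  have hBk : (Nat.card B : F) ≠ 0 := by
    obtain ⟨j, hj⟩ := IsPGroup.iff_card.1 (hΓ.to_subgroup B)
    rw [hj, Nat.cast_pow]
    exact pow_ne_zero _ hpF
  -- odd order
  have hodd : ∀ g : Γ, ∃ n : ℕ, Odd n ∧ g ^ n = 1 := by
    intro g
    obtain ⟨j, hj⟩ := hΓ g
    exact ⟨p ^ j, hpodd.pow, hj⟩
  -- the generators fix every character with nonzero weight space
  have hfix₁ : ∀ (χ : Γ → F) (w : V), w ∈ wtf τ B χ → w ≠ 0 → EqOn B (twf y₁ χ) χ := by
    intro χ w hw hw0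
    obtain ⟨a, b', h⟩ := h₁
    obtain ⟨n, hn, hgn⟩ := hodd y₁
    exact twf_eq_of_two_eigen hBk hBcommρ (hBn y₁) hn hgn h hw hw0
  have hfix₂ : ∀ (χ : Γ → F) (w : V), w ∈ wtf τ B χ → w ≠ 0 → EqOn B (twf y₂ χ) χ := by
    intro χ w hw hw0
    obtain ⟨a, b', h⟩ := h₂
    obtain ⟨n, hn, hgn⟩ := hodd y₂
    exact twf_eq_of_two_eigen hBk hBcommρ (hBn y₂) hn hgn h hw hw0
  have hfix : ∀ (χ : Γ → F) (w : V), w ∈ wtf τ B χ → w ≠ 0 → ∀ g : Γ, EqOn B (twf g χ) χ := by
    intro χ w hw hw0 g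
    have hg : g ∈ Subgroup.closure ({y₁, y₂} : Set Γ) := by rw [hgen]; exact Subgroup.mem_top _
    induction hg using Subgroup.closure_induction with
    | mem x hx =>
      rcases hx with hx | hx
      · rw [hx]; exact hfix₁ χ w hw hw0
      · rw [Set.mem_singleton_iff] at hx
        rw [hx]; exact hfix₂ χ w hw hw0
    | one =>
      rw [twf_one]
      intro z _
      rfl
    | mul x y _ _ hx hy => exact eqOn_twf_mul (hBn x) hx hy
    | inv x _ hx =>
      have h1 : x⁻¹ = x ^ (orderOf x - 1) := by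
        have h2 : x ^ (orderOf x - 1) * x = 1 := by
          rw [← pow_succ, Nat.sub_add_cancel (orderOf_pos x), pow_orderOf_eq_one]
        exact inv_eq_of_mul_eq_one_left h2
      rw [h1]
      exact eqOn_twf_pow (hBn x) hx _
  -- all weight spaces are invariant
  have hinv : ∀ (χ : Γ → F) (g : Γ), ∀ w ∈ wtf τ B χ, τ g w ∈ wtf τ B χ := by
    intro χ g w hw
    by_cases hw0 : w = 0
    · rw [hw0, map_zero]
      exact Submodule.zero_mem _
    · have h2 := apply_mem_wtf_twf (hBn g) hw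
      rwa [wtf_congr τ (hfix χ w hw hw0 g)] at h2
  by_cases hex : ∃ χ : B → F, wt τ B χ = ⊤
  · -- `B` acts by scalars, so `b` is central
    obtain ⟨χ, hχ⟩ := hex
    apply hbZ
    rw [Subgroup.mem_center_iff]
    intro g
    apply hfaith
    have hbB : b ∈ B := Subgroup.subset_closure (Or.inr rfl)
    have hsc : ∀ w : V, τ b w = χ ⟨b, hbB⟩ • w := by
      intro w
      have hw : w ∈ wt τ B χ := by rw [hχ]; exact Submodule.mem_top
      exact (mem_wt τ _).1 hw ⟨b, hbB⟩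
    rw [map_mul, map_mul]
    apply LinearMap.ext
    intro w
    rw [Module.End.mul_apply, Module.End.mul_apply, hsc, hsc, map_smul]
  · push Not at hex
    apply hne
    apply hfaith
    rw [map_mul, map_mul]
    apply eq_of_eqOn_wt hBk hBcommρ
    intro χ w hw
    rw [← wtf_extf] at hw
    set χ' := extf B χ with hχ'
    rw [Module.End.mul_apply, Module.End.mul_apply]
    have hne' : wtf τ B χ' ≠ ⊤ := by
      rw [hχ', wtf_extf]
      exact hex χ
    have hlt : finrank F (wtf τ B χ') < d := by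
      rw [← hd]
      exact Submodule.finrank_lt hne'
    obtain ⟨a₁, b₁, h1⟩ := h₁
    obtain ⟨a₂, b₂, h2⟩ := h₂
    exact IH _ hlt Γ V τ (wtf τ B χ') ⊤ y₁ y₂ rfl
      (by
        intro g
        obtain ⟨j, hj⟩ := hΓ (g : Γ)
        refine ⟨j, ?_⟩
        apply Subtype.ext
        simpa using hj)
      (Subgroup.mem_top _) (Subgroup.mem_top _) (fun g _ w hw => hinv χ' g w hw)
      ⟨a₁, b₁, fun w _ => h1 w⟩ ⟨a₂, b₂, fun w _ => h2 w⟩ w hw

theorem sGeneral_of_faithful [IsAlgClosed F] {p : ℕ} [hpf : Fact p.Prime] (hp2 : p ≠ 2)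
    (hpF : (p : F) ≠ 0) {d : ℕ} (IH : ∀ d' < d, SGeneral.{u, v} F p d') :
    SGeneral.{u, v} F p d := by
  intro Γ _ _ V _ _ _ τ U D y₁ y₂ hd hD hy₁ hy₂ hUD h₁ h₂
  classical
  set Γ₁ : Subgroup Γ := Subgroup.closure ({y₁, y₂} : Set Γ) with hΓ₁
  have hΓ₁D : Γ₁ ≤ D := by
    rw [hΓ₁, Subgroup.closure_le]
    rintro x (hx | hx)
    · rw [hx]; exact hy₁
    · rw [Set.mem_singleton_iff] at hx
      rw [hx]; exact hy₂
  have hy₁Γ : y₁ ∈ Γ₁ := Subgroup.subset_closure (by simp)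
  have hy₂Γ : y₂ ∈ Γ₁ := Subgroup.subset_closure (by simp)
  have hUinv : Inv (τ.comp Γ₁.subtype) U := fun g w hw => hUD _ (hΓ₁D g.2) w hw
  let σ : Representation F ↥Γ₁ ↥U := sub (τ.comp Γ₁.subtype) U hUinv
  have hσ : ∀ (g : Γ₁) (w : U), ((σ g w : U) : V) = τ (g : Γ) w := fun g w => rfl
  let N : Subgroup ↥Γ₁ := MonoidHom.ker (σ : ↥Γ₁ →* Module.End F ↥U)
  let π : ↥Γ₁ →* ↥Γ₁ ⧸ N := QuotientGroup.mk' N
  let ρ' : Representation F (↥Γ₁ ⧸ N) ↥U := QuotientGroup.lift N σ le_rfl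
  have hρ' : ∀ g : Γ₁, ρ' (π g) = σ g := fun g => rfl
  have hπ : Function.Surjective π := QuotientGroup.mk'_surjective N
  have hfaith : Function.Injective ρ' := by
    intro x y hxy
    obtain ⟨g, rfl⟩ := hπ x
    obtain ⟨h, rfl⟩ := hπ y
    rw [hρ', hρ'] at hxy
    show (QuotientGroup.mk g : ↥Γ₁ ⧸ N) = QuotientGroup.mk h
    rw [QuotientGroup.eq]
    show σ (g⁻¹ * h) = 1
    rw [map_mul, ← hxy, ← map_mul, inv_mul_cancel, map_one]
  have hP : IsPGroup p (↥Γ₁ ⧸ N) := ((hD.to_le hΓ₁D).to_quotient N)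
  have hgen : Subgroup.closure ({π ⟨y₁, hy₁Γ⟩, π ⟨y₂, hy₂Γ⟩} : Set (↥Γ₁ ⧸ N)) = ⊤ := by
    have h1 : Subgroup.closure ({⟨y₁, hy₁Γ⟩, ⟨y₂, hy₂Γ⟩} : Set ↥Γ₁) = ⊤ := by
      apply Subgroup.map_injective Γ₁.subtype_injective
      rw [MonoidHom.map_closure, ← MonoidHom.range_eq_map, Subgroup.range_subtype]
      have : (Γ₁.subtype '' ({⟨y₁, hy₁Γ⟩, ⟨y₂, hy₂Γ⟩} : Set ↥Γ₁)) = {y₁, y₂} := by
        rw [Set.image_pair]
        rfl
      rw [this]
    have h2 := congrArg (Subgroup.map π) h1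
    rw [MonoidHom.map_closure, Set.image_pair, ← MonoidHom.range_eq_map,
      MonoidHom.range_eq_top.2 hπ] at h2
    exact h2
  have hsub : ∀ (g : Γ₁) (a b : F) (w : U),
      ((((σ g - a • 1) ((σ g - b • 1) w) : U)) : V) =
        (τ (g : Γ) - a • 1) ((τ (g : Γ) - b • 1) (w : V)) := by
    intro g a b w
    simp only [LinearMap.sub_apply, LinearMap.smul_apply, Module.End.one_apply, map_sub, map_smul,
      Submodule.coe_sub, Submodule.coe_smul, hσ]
  have h₁' : ∃ a b : F, ∀ w : U, (ρ' (π ⟨y₁, hy₁Γ⟩) - a • 1)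
      ((ρ' (π ⟨y₁, hy₁Γ⟩) - b • 1) w) = 0 := by
    obtain ⟨a, b, h⟩ := h₁
    refine ⟨a, b, fun w => ?_⟩
    rw [hρ']
    apply Subtype.ext
    rw [hsub]
    exact h w w.2
  have h₂' : ∃ a b : F, ∀ w : U, (ρ' (π ⟨y₂, hy₂Γ⟩) - a • 1)
      ((ρ' (π ⟨y₂, hy₂Γ⟩) - b • 1) w) = 0 := by
    obtain ⟨a, b, h⟩ := h₂
    refine ⟨a, b, fun w => ?_⟩
    rw [hρ']
    apply Subtype.ext
    rw [hsub]
    exact h w w.2
  have hmain := s_faithful hp2 hpF IH hfaith hd hP _ _ hgen h₁' h₂'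
  intro w hw
  have h1 := congrArg (fun x => ρ' x) hmain
  simp only [map_mul, hρ'] at h1
  have h2 := congrArg (fun f : Module.End F ↥U => ((f ⟨w, hw⟩ : U) : V)) h1
  simp only [Module.End.mul_apply, hσ] at h2
  exact h2

/-- **Two elements of a `p`-group with at most two eigenvalues each commute.** -/
theorem sGeneral [IsAlgClosed F] {p : ℕ} [hpf : Fact p.Prime] (hp2 : p ≠ 2)
    (hpF : (p : F) ≠ 0) (d : ℕ) : SGeneral.{u, v} F p d := by
  induction d using Nat.strong_induction_on with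
  | _ d IH => exact sGeneral_of_faithful hp2 hpF IH

end Cfsg.Agent.Lib.H19.HH
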