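import Mathlib
import Cfsg.Agent.Lib.H19.HHE1
import Cfsg.Agent.Lib.H19.HHD4

/-!
# Theorem E: the set-up (helper19)

`EData p ρ U R K X` : `R` a `p`-group normalizing the `p'`-group `K`, `U` a subspace invariant
under both, `X g m` a conjugation invariant family of pairs with `g ∈ R`, `1 ≤ m` and
`(ρ g - 1)^(p^m - 1) = 0` on `U`.  `EConcl` says that the commutators of the elements
`g^(p^(m-1))` commute with `K` on `U`.
-/

set_option autoImplicit false
set_option linter.unusedSectionVars false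

namespace Cfsg.Agent.Lib.H19.HH

open Module Cfsg.Agent.Lib.H19.ModRep
open scoped commutatorElement

universe u v

/-- the commutator `a b a⁻¹ b⁻¹` -/
def cm {G : Type*} [Group G] (a b : G) : G := a * b * a⁻¹ * b⁻¹

theorem cm_def {G : Type*} [Group G] (a b : G) : cm a b = a * b * a⁻¹ * b⁻¹ := rfl

theorem map_cm {G G' : Type*} [Group G] [Group G'] (f : G →* G') (a b : G) :
    f (cm a b) = cm (f a) (f b) := by
  simp only [cm_def, map_mul, map_inv]

section groups

variable {G : Type*} [Group G]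

/-- if the generators commute modulo `N` then the commutator subgroup lies in `N` -/
theorem commutator_closure_le {S : Set G} {N : Subgroup G}
    (hN : Subgroup.closure S ≤ Subgroup.normalizer (N : Set G))
    (h : ∀ a ∈ S, ∀ b ∈ S, cm a b ∈ N) :
    ⁅Subgroup.closure S, Subgroup.closure S⁆ ≤ N := by
  have hconj : ∀ t ∈ Subgroup.closure S, ∀ n ∈ N, t * n * t⁻¹ ∈ N := fun t ht n hn =>
    (Subgroup.mem_normalizer_iff.1 (hN ht) n).1 hn
  have hconj' : ∀ t ∈ Subgroup.closure S, ∀ n ∈ N, t⁻¹ * n * t ∈ N := by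
    intro t ht n hn
    have := hconj t⁻¹ (Subgroup.inv_mem _ ht) n hn
    simpa using this
  -- first for `b` a generator
  have h1 : ∀ a ∈ Subgroup.closure S, ∀ b ∈ S, cm a b ∈ N := by
    intro a ha b hb
    induction ha using Subgroup.closure_induction with
    | mem a ha => exact h a ha b hb
    | one => simp [cm_def, N.one_mem]
    | mul x y hx _ hx' hy' =>
      have e : cm (x * y) b = x * cm y b * x⁻¹ * cm x b := by
        simp only [cm_def]; group
      rw [e]
      exact N.mul_mem (hconj x hx _ hy') hx'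
    | inv x hx hx' =>
      have e : cm x⁻¹ b = x⁻¹ * (cm x b)⁻¹ * x := by
        simp only [cm_def]; group
      rw [e]
      exact hconj' x hx _ (N.inv_mem hx')
  have h2 : ∀ a ∈ Subgroup.closure S, ∀ b ∈ Subgroup.closure S, cm a b ∈ N := by
    intro a ha b hb
    induction hb using Subgroup.closure_induction with
    | mem b hb => exact h1 a ha b hb
    | one => simp [cm_def, N.one_mem]
    | mul x y hx _ hx' hy' =>
      have e : cm a (x * y) = cm a x * (x * cm a y * x⁻¹) := by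
        simp only [cm_def]; group
      rw [e]
      exact N.mul_mem hx' (hconj x hx _ hy')
    | inv x hx hx' =>
      have e : cm a x⁻¹ = x⁻¹ * (cm a x)⁻¹ * x := by
        simp only [cm_def]; group
      rw [e]
      exact hconj' x hx _ (N.inv_mem hx')
  rw [Subgroup.commutator_le]
  intro a ha b hb
  exact h2 a ha b hb

/-- `[Q, ⟨y⟩]` is generated by the commutators `[y, u]` -/
theorem commutator_zpowers_eq_closure [Finite G] {Q : Subgroup G} {y : G}
    (hy : y ∈ Subgroup.normalizer (Q : Set G)) :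
    ⁅Q, Subgroup.zpowers y⁆ = Subgroup.closure {c | ∃ u ∈ Q, c = y * u * y⁻¹ * u⁻¹} := by
  set E := Subgroup.closure {c | ∃ u ∈ Q, c = y * u * y⁻¹ * u⁻¹} with hE
  have hyQ : ∀ u ∈ Q, y * u * y⁻¹ ∈ Q := fun u hu => (Subgroup.mem_normalizer_iff.1 hy u).1 hu
  have hgen : ∀ u ∈ Q, y * u * y⁻¹ * u⁻¹ ∈ E := fun u hu => Subgroup.subset_closure ⟨u, hu, rfl⟩
  -- `E` is normalized by `y` and by `Q`
  have hEy : ∀ e ∈ E, y * e * y⁻¹ ∈ E := by
    intro e he
    induction he using Subgroup.closure_induction with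
    | mem c hc =>
      obtain ⟨u, hu, rfl⟩ := hc
      have e1 : y * (y * u * y⁻¹ * u⁻¹) * y⁻¹ = y * (y * u * y⁻¹) * y⁻¹ * (y * u * y⁻¹)⁻¹ := by
        group
      rw [e1]
      exact hgen _ (hyQ u hu)
    | one => simp
    | mul a b _ _ ha hb =>
      have : y * (a * b) * y⁻¹ = (y * a * y⁻¹) * (y * b * y⁻¹) := by group
      rw [this]
      exact E.mul_mem ha hb
    | inv a _ ha =>
      have : y * a⁻¹ * y⁻¹ = (y * a * y⁻¹)⁻¹ := by group
      rw [this]
      exact E.inv_mem ha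
  have hEQ : ∀ v ∈ Q, ∀ e ∈ E, v * e * v⁻¹ ∈ E := by
    intro v hv e he
    induction he using Subgroup.closure_induction with
    | mem c hc =>
      obtain ⟨u, hu, rfl⟩ := hc
      have e1 : v * (y * u * y⁻¹ * u⁻¹) * v⁻¹ =
          (y * v * y⁻¹ * v⁻¹)⁻¹ * (y * (v * u) * y⁻¹ * (v * u)⁻¹) := by group
      rw [e1]
      exact E.mul_mem (E.inv_mem (hgen v hv)) (hgen _ (Q.mul_mem hv hu))
    | one => simp
    | mul a b _ _ ha hb =>
      have : v * (a * b) * v⁻¹ = (v * a * v⁻¹) * (v * b * v⁻¹) := by group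
      rw [this]
      exact E.mul_mem ha hb
    | inv a _ ha =>
      have : v * a⁻¹ * v⁻¹ = (v * a * v⁻¹)⁻¹ := by group
      rw [this]
      exact E.inv_mem ha
  have hpow : ∀ i : ℕ, ∀ u ∈ Q, y ^ i * u * (y ^ i)⁻¹ * u⁻¹ ∈ E := by
    intro i
    induction i with
    | zero => intro u _; simp
    | succ i ih =>
      intro u hu
      have e1 : y ^ (i + 1) * u * (y ^ (i + 1))⁻¹ * u⁻¹ =
          y * (y ^ i * u * (y ^ i)⁻¹ * u⁻¹) * y⁻¹ * (y * u * y⁻¹ * u⁻¹) := by
        rw [pow_succ']; group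
      rw [e1]
      exact E.mul_mem (hEy _ (ih u hu)) (hgen u hu)
  apply le_antisymm
  · rw [Subgroup.commutator_le]
    intro u hu t ht
    have hfin : IsOfFinOrder y := isOfFinOrder_of_finite y
    obtain ⟨i, rfl⟩ := (Submonoid.mem_powers_iff _ _).1 (hfin.mem_powers_iff_mem_zpowers.2 ht)
    have e1 : ⁅u, y ^ i⁆ = u * (y ^ i * u⁻¹ * (y ^ i)⁻¹ * u⁻¹⁻¹) * u⁻¹ := by
      rw [commutatorElement_def]; group
    rw [e1]
    exact hEQ u hu _ (hpow i _ (Q.inv_mem hu))
  · rw [hE, Subgroup.closure_le]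
    rintro c ⟨u, hu, rfl⟩
    have h1 : ⁅y, u⁆ ∈ ⁅Subgroup.zpowers y, Q⁆ :=
      Subgroup.commutator_mem_commutator (Subgroup.mem_zpowers y) hu
    rw [Subgroup.commutator_comm]
    exact h1

end groups

variable {k : Type v} [Field k]

/-- the hypotheses of Theorem E -/
structure EData {Γ : Type u} [Group Γ] {V : Type u} [AddCommGroup V] [Module k V] (p : ℕ)
    (ρ : Representation k Γ V) (U : Submodule k V) (R K : Subgroup Γ) (X : Γ → ℕ → Prop) :
    Prop where
  hR : IsPGroup p R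
  hK : (Nat.card K).Coprime p
  hRK : R ≤ Subgroup.normalizer (K : Set Γ)
  hUK : ∀ g ∈ K, ∀ w ∈ U, ρ g w ∈ U
  hUR : ∀ g ∈ R, ∀ w ∈ U, ρ g w ∈ U
  hXR : ∀ g m, X g m → g ∈ R
  hXm : ∀ g m, X g m → 1 ≤ m
  hXe : ∀ g m, X g m → ∀ w ∈ U, ((ρ g - 1) ^ (p ^ m - 1)) w = 0
  hXc : ∀ g m, X g m → ∀ r ∈ R, X (r * g * r⁻¹) m

/-- the conclusion of Theorem E -/
def EConcl {Γ : Type u} [Group Γ] {V : Type u} [AddCommGroup V] [Module k V] (p : ℕ)
    (ρ : Representation k Γ V) (U : Submodule k V) (K : Subgroup Γ) (X : Γ → ℕ → Prop) : Prop :=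
  ∀ g₁ m₁ g₂ m₂, X g₁ m₁ → X g₂ m₂ → ∀ u ∈ K, ∀ w ∈ U,
    ρ (cm (g₁ ^ p ^ (m₁ - 1)) (g₂ ^ p ^ (m₂ - 1))) (ρ u w) =
      ρ u (ρ (cm (g₁ ^ p ^ (m₁ - 1)) (g₂ ^ p ^ (m₂ - 1))) w)

/-- Theorem E in dimension `d` -/
def EGeneral (k : Type v) [Field k] (p d : ℕ) : Prop :=
  ∀ (Γ : Type u) [Group Γ] [Finite Γ] (V : Type u) [AddCommGroup V] [Module k V]
    [FiniteDimensional k V] (ρ : Representation k Γ V) (U : Submodule k V) (R K : Subgroup Γ)
    (X : Γ → ℕ → Prop), finrank k U = d → EData p ρ U R K X → EConcl p ρ U K X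

end Cfsg.Agent.Lib.H19.HH
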