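import Mathlib
import Cfsg.Agent.Lib.H19.HHE2
import Cfsg.Agent.Lib.H19.HHE6

/-!
# Theorem E: the function model of `K / Z(K)` in characteristic two (helper19)

For a group `K` of class two whose commutators take at most one nontrivial value `t`, `t² = 1`,
the functions `fK u : v ↦ [u v ≠ v u]` (with values in a field `F` of characteristic two) depend
additively on `u` and `fK u = fK u'` iff `u ≡ u'` modulo the centre.  The normalizer of `K` acts on
their span through the conjugation representation `conjRep`.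

`commute_mod_center` : if the `p`-group `R` normalizes `K`, the element `z ∈ R` commutes with `R`
modulo `C(K)` and `y₁, y₂ ∈ R` act on `K / Z(K) = Ē ⊕ C̄` as a power of `z` on `Ē` and trivially
on `C̄`, then `[y₁, y₂]` acts trivially on `K / Z(K)`.
-/

set_option autoImplicit false
set_option linter.unusedSectionVars false
set_option maxHeartbeats 1600000

namespace Cfsg.Agent.Lib.H19.HH

open Module Cfsg.Agent.Lib.H19.ModRep
open scoped commutatorElement

universe u

section model

variable (F : Type) [Field F] {Γ : Type u} [Group Γ]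

/-- the conjugation representation on functions -/
noncomputable def conjRep : Representation F Γ (Γ → F) where
  toFun g :=
    { toFun := fun f v => f (g⁻¹ * v * g)
      map_add' := fun f f' => by funext v; rfl
      map_smul' := fun c f => by funext v; rfl }
  map_one' := by
    apply LinearMap.ext
    intro f
    funext v
    show f (1⁻¹ * v * 1) = f v
    rw [inv_one, one_mul, mul_one]
  map_mul' g h := by
    apply LinearMap.ext
    intro f
    funext v
    show f ((g * h)⁻¹ * v * (g * h)) = f (h⁻¹ * (g⁻¹ * v * g) * h)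
    congr 1
    group

theorem conjRep_apply (g : Γ) (f : Γ → F) (v : Γ) : conjRep F g f v = f (g⁻¹ * v * g) := rfl

/-- the function `v ↦ [u, v] ≠ 1` on `K` -/
noncomputable def fK (K : Subgroup Γ) (u : Γ) : Γ → F := by
  classical
  exact fun v => if v ∈ K ∧ u * v ≠ v * u then 1 else 0

theorem fK_apply (K : Subgroup Γ) (u v : Γ) [Decidable (v ∈ K ∧ u * v ≠ v * u)] :
    fK F K u v = if v ∈ K ∧ u * v ≠ v * u then 1 else 0 := by
  unfold fK
  congr

/-- the span of the functions `fK u` -/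
def MK (K : Subgroup Γ) : Submodule F (Γ → F) := Submodule.span F {f | ∃ u ∈ K, f = fK F K u}

theorem fK_mem (K : Subgroup Γ) {u : Γ} (hu : u ∈ K) : fK F K u ∈ MK F K :=
  Submodule.subset_span ⟨u, hu, rfl⟩

variable {F}

theorem conjRep_fK {K : Subgroup Γ} {g : Γ} (hg : g ∈ Subgroup.normalizer (K : Set Γ)) (u : Γ) :
    conjRep F g (fK F K u) = fK F K (g * u * g⁻¹) := by
  classical
  funext v
  rw [conjRep_apply, fK_apply, fK_apply]
  have h1 : g⁻¹ * v * g ∈ K ↔ v ∈ K := by
    have := (Subgroup.mem_normalizer_iff.1 hg (g⁻¹ * v * g))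
    rw [this]
    have e : g * (g⁻¹ * v * g) * g⁻¹ = v := by group
    rw [e]
  have h2 : u * (g⁻¹ * v * g) = g⁻¹ * v * g * u ↔ g * u * g⁻¹ * v = v * (g * u * g⁻¹) := by
    constructor
    · intro h
      calc g * u * g⁻¹ * v = g * (u * (g⁻¹ * v * g)) * g⁻¹ := by group
        _ = g * (g⁻¹ * v * g * u) * g⁻¹ := by rw [h]
        _ = v * (g * u * g⁻¹) := by group
    · intro h
      calc u * (g⁻¹ * v * g) = g⁻¹ * (g * u * g⁻¹ * v) * g := by group
        _ = g⁻¹ * (v * (g * u * g⁻¹)) * g := by rw [h]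
        _ = g⁻¹ * v * g * u := by group
  simp only [h1, ne_eq, h2]

theorem MK_invariant {K : Subgroup Γ} {g : Γ} (hg : g ∈ Subgroup.normalizer (K : Set Γ)) :
    ∀ f ∈ MK F K, conjRep F g f ∈ MK F K := by
  intro f hf
  unfold MK at hf
  induction hf using Submodule.span_induction with
  | mem f hf =>
    obtain ⟨u, hu, rfl⟩ := hf
    rw [conjRep_fK hg]
    exact fK_mem F K ((Subgroup.mem_normalizer_iff.1 hg u).1 hu)
  | zero => rw [map_zero]; exact Submodule.zero_mem _
  | add x y _ _ hx hy => rw [map_add]; exact Submodule.add_mem _ hx hy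
  | smul a x _ hx => rw [map_smul]; exact Submodule.smul_mem _ _ hx

theorem fK_eq_zero {K : Subgroup Γ} {u : Γ} (hu : ∀ v ∈ K, u * v = v * u) : fK F K u = 0 := by
  classical
  funext v
  rw [fK_apply, Pi.zero_apply, if_neg]
  rintro ⟨hv, hne⟩
  exact hne (hu v hv)

theorem commute_of_fK_eq_zero {K : Subgroup Γ} {u : Γ} (h : fK F K u = 0) :
    ∀ v ∈ K, u * v = v * u := by
  classical
  intro v hv
  by_contra hne
  have h1 := congrFun h v
  rw [fK_apply, Pi.zero_apply, if_pos ⟨hv, hne⟩] at h1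
  exact one_ne_zero h1

variable [CharP F 2]

theorem add_self_eq_zero_char_two (x : F) : x + x = 0 := by
  have h2 : (2 : F) = 0 := by
    have := CharP.cast_eq_zero F 2
    exact_mod_cast this
  rw [← two_mul, h2, zero_mul]

/-- additivity -/
theorem fK_mul {K : Subgroup Γ} (hcl2 : ⁅K, K⁆ ≤ Subgroup.centralizer (K : Set Γ)) {t : Γ}
    (ht : t * t = 1) (hcm : ∀ u ∈ K, ∀ v ∈ K, cm u v = 1 ∨ cm u v = t) {u u' : Γ} (hu : u ∈ K)
    (hu' : u' ∈ K) : fK F K (u * u') = fK F K u + fK F K u' := by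
  classical
  funext v
  rw [Pi.add_apply, fK_apply, fK_apply, fK_apply]
  by_cases hv : v ∈ K
  swap
  · simp [hv]
  -- the commutator identity
  have hcen : ∀ x ∈ K, cm u' v * x = x * cm u' v := by
    intro x hx
    have h1 : cm u' v ∈ ⁅K, K⁆ := by
      rw [cm_def]
      exact Subgroup.commutator_mem_commutator hu' hv
    exact (Subgroup.mem_centralizer_iff.1 (hcl2 h1) x hx).symm
  have hid : cm (u * u') v = cm u' v * cm u v := by
    have h1 := hcen u hu
    calc cm (u * u') v = (u * cm u' v) * u⁻¹ * cm u v := by simp only [cm_def]; group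
      _ = (cm u' v * u) * u⁻¹ * cm u v := by rw [h1]
      _ = cm u' v * cm u v := by group
  have hiff : ∀ a : Γ, a * v ≠ v * a ↔ cm a v ≠ 1 := by
    intro a
    rw [not_iff_not, cm_def]
    constructor
    · intro h
      rw [h]; group
    · intro h
      calc a * v = (a * v * a⁻¹ * v⁻¹) * (v * a) := by group
        _ = v * a := by rw [h, one_mul]
  simp only [hv, true_and, hiff, hid]
  rcases hcm u hu v hv with h1 | h1 <;> rcases hcm u' hu' v hv with h2 | h2
  · simp [h1, h2]
  · simp [h1, h2]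
  · simp [h1, h2]
  · rw [h1, h2, ht]
    by_cases ht1 : t = 1
    · simp [ht1]
    · simp only [ne_eq, not_true_eq_false, if_false, ht1, not_false_eq_true, if_true]
      exact (add_self_eq_zero_char_two (1 : F)).symm

theorem fK_eq_of_central {K : Subgroup Γ} (hcl2 : ⁅K, K⁆ ≤ Subgroup.centralizer (K : Set Γ))
    {t : Γ} (ht : t * t = 1) (hcm : ∀ u ∈ K, ∀ v ∈ K, cm u v = 1 ∨ cm u v = t) {a b : Γ}
    (ha : a ∈ K) (hb : b ∈ K) (hab : ∀ v ∈ K, (a * b⁻¹) * v = v * (a * b⁻¹)) :
    fK F K a = fK F K b := by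
  have e : a = (a * b⁻¹) * b := by group
  rw [e, fK_mul hcl2 ht hcm (K.mul_mem ha (K.inv_mem hb)) hb, fK_eq_zero hab, zero_add]

theorem fK_inv {K : Subgroup Γ} (hcl2 : ⁅K, K⁆ ≤ Subgroup.centralizer (K : Set Γ))
    {t : Γ} (ht : t * t = 1) (hcm : ∀ u ∈ K, ∀ v ∈ K, cm u v = 1 ∨ cm u v = t) {b : Γ}
    (hb : b ∈ K) : fK F K b⁻¹ = fK F K b := by
  have h1 := fK_mul (F := F) hcl2 ht hcm hb (K.inv_mem hb)
  rw [mul_inv_cancel, fK_eq_zero (fun v _ => by rw [one_mul, mul_one])] at h1
  have h2 : fK F K b⁻¹ = -fK F K b := by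
    rw [eq_neg_iff_add_eq_zero, add_comm]
    exact h1.symm
  rw [h2]
  funext v
  rw [Pi.neg_apply, neg_eq_iff_add_eq_zero]
  exact add_self_eq_zero_char_two _

theorem central_of_fK_eq {K : Subgroup Γ} (hcl2 : ⁅K, K⁆ ≤ Subgroup.centralizer (K : Set Γ))
    {t : Γ} (ht : t * t = 1) (hcm : ∀ u ∈ K, ∀ v ∈ K, cm u v = 1 ∨ cm u v = t) {a b : Γ}
    (ha : a ∈ K) (hb : b ∈ K) (hab : fK F K a = fK F K b) :
    ∀ v ∈ K, (a * b⁻¹) * v = v * (a * b⁻¹) := by
  apply commute_of_fK_eq_zero (F := F)
  rw [fK_mul hcl2 ht hcm ha (K.inv_mem hb), fK_inv hcl2 ht hcm hb, hab]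
  funext v
  exact add_self_eq_zero_char_two _

end model

end Cfsg.Agent.Lib.H19.HH
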