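import Mathlib
import Cfsg.Agent.Lib.H19.HHE10
import Cfsg.Agent.Lib.H19.HHD1

/-!
# Theorem E: the end game (helper19)

`commute_mod_center` : if the `p`-group `R` (`p` odd) normalizes `K` (class two, commutators in
`{1, t}`), `z ∈ R` commutes with `R` modulo `C(K)` and `y₁, y₂ ∈ R` act on `K / Z(K)` like a power
of `z` on a part and trivially on a complement (`ActsLike`), then `[y₁, y₂]` acts trivially on
`K / Z(K)`.
-/

set_option autoImplicit false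
set_option linter.unusedSectionVars false
set_option maxHeartbeats 1600000

namespace Cfsg.Agent.Lib.H19.HH

open Module Cfsg.Agent.Lib.H19.ModRep
open scoped commutatorElement

universe u

variable {Γ : Type u} [Group Γ]

/-- `y` acts on `K / Z(K)` as `z^j` on a part and trivially on a complement -/
def ActsLike (K : Subgroup Γ) (z y : Γ) : Prop :=
  ∃ j : ℕ, ∀ u ∈ K, ∃ e ∈ K, ∃ c ∈ K, u = e * c ∧ y * c = c * y ∧
    ∀ v ∈ K, (y * e * y⁻¹ * (z ^ j * e * (z ^ j)⁻¹)⁻¹) * v =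
      v * (y * e * y⁻¹ * (z ^ j * e * (z ^ j)⁻¹)⁻¹)

theorem actsLike_of_centralizes {K : Subgroup Γ} (z : Γ) {y : Γ}
    (hy : y ∈ Subgroup.centralizer (K : Set Γ)) : ActsLike K z y := by
  refine ⟨0, fun u hu => ⟨1, K.one_mem, u, hu, (one_mul u).symm, ?_, ?_⟩⟩
  · exact (Subgroup.mem_centralizer_iff.1 hy u hu).symm
  · intro v _
    simp

variable [Finite Γ]

theorem commute_mod_center {p : ℕ} [hpf : Fact p.Prime] (hp2 : p ≠ 2) {R K : Subgroup Γ}
    (hR : IsPGroup p R) (hRK : R ≤ Subgroup.normalizer (K : Set Γ))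
    (hcl2 : ⁅K, K⁆ ≤ Subgroup.centralizer (K : Set Γ)) {t : Γ} (ht : t * t = 1)
    (hcm : ∀ u ∈ K, ∀ v ∈ K, cm u v = 1 ∨ cm u v = t) {z : Γ} (hzR : z ∈ R)
    (hzc : ∀ r ∈ R, cm r z ∈ Subgroup.centralizer (K : Set Γ)) {y₁ y₂ : Γ} (hy₁ : y₁ ∈ R)
    (hy₂ : y₂ ∈ R) (h₁ : ActsLike K z y₁) (h₂ : ActsLike K z y₂) :
    ∀ u ∈ K, ∀ v ∈ K, cm (cm y₁ y₂) u * v = v * cm (cm y₁ y₂) u := by
  classical
  have hp : p.Prime := hpf.out
  let F := AlgebraicClosure (ZMod 2)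
  have hodd : ∀ n : ℕ, n ∣ Nat.card R → (n : F) ≠ 0 := by
    intro n hn h0
    have h1 := (CharP.cast_eq_zero_iff F 2 n).1 h0
    obtain ⟨i, hi⟩ := IsPGroup.iff_card.1 hR
    have h2 : 2 ∣ p ^ i := hi ▸ h1.trans hn
    have h3 := Nat.Prime.dvd_of_dvd_pow Nat.prime_two h2
    exact hp2 ((Nat.prime_dvd_prime_iff_eq Nat.prime_two hp).1 h3).symm
  have hpF : (p : F) ≠ 0 := by
    intro h0
    have h1 := (CharP.cast_eq_zero_iff F 2 p).1 h0
    exact hp2 ((Nat.prime_dvd_prime_iff_eq Nat.prime_two hp).1 h1).symm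
  set τ : Representation F Γ (Γ → F) := conjRep F with hτ
  set M : Submodule F (Γ → F) := MK F K with hM
  set S : Set (Γ → F) := {f | ∃ u ∈ K, f = fK F K u} with hS
  have hMS : M = Submodule.span F S := rfl
  have hRN : ∀ r ∈ R, ∀ i : ℕ, r ^ i ∈ Subgroup.normalizer (K : Set Γ) := fun r hr i =>
    Subgroup.pow_mem _ (hRK hr) i
  have hMinv : ∀ g ∈ R, ∀ f ∈ M, τ g f ∈ M := fun g hg => MK_invariant (hRK hg)
  have hconjK : ∀ r ∈ R, ∀ u ∈ K, r * u * r⁻¹ ∈ K := fun r hr u hu =>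
    (Subgroup.mem_normalizer_iff.1 (hRK hr) u).1 hu
  -- `τ r` and `τ z` commute on `M`
  have hcomm_z : ∀ r ∈ R, ∀ f ∈ M, τ r (τ z f) = τ z (τ r f) := by
    intro r hr f hf
    let T₁ : Module.End F (Γ → F) := τ r * τ z
    let T₂ : Module.End F (Γ → F) := τ z * τ r
    have hEq : Set.EqOn T₁ T₂ S := by
      rintro _ ⟨u, hu, rfl⟩
      show (τ r * τ z) (fK F K u) = (τ z * τ r) (fK F K u)
      rw [Module.End.mul_apply, Module.End.mul_apply, hτ, conjRep_fK (hRK hzR),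
        conjRep_fK (hRK hr), conjRep_fK (hRK hr), conjRep_fK (hRK hzR)]
      congr 1
      have hk : z * (r * u * r⁻¹) * z⁻¹ ∈ K := hconjK z hzR _ (hconjK r hr u hu)
      have hd := Subgroup.mem_centralizer_iff.1 (hzc r hr) _ hk
      calc r * (z * u * z⁻¹) * r⁻¹ = cm r z * (z * (r * u * r⁻¹) * z⁻¹) * (cm r z)⁻¹ := by
            simp only [cm_def]; group
        _ = (z * (r * u * r⁻¹) * z⁻¹) * cm r z * (cm r z)⁻¹ := by rw [hd]
        _ = z * (r * u * r⁻¹) * z⁻¹ := by group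
    have := LinearMap.eqOn_span hEq (hMS ▸ hf)
    simpa [T₁, T₂, Module.End.mul_apply] using this
  have hcomm_zj : ∀ j : ℕ, ∀ r ∈ R, ∀ f ∈ M, τ r (τ (z ^ j) f) = τ (z ^ j) (τ r f) := by
    intro j
    induction j with
    | zero =>
      intro r _ f _
      rw [pow_zero, map_one, Module.End.one_apply, Module.End.one_apply]
    | succ j ih =>
      intro r hr f hf
      rw [pow_succ, map_mul, Module.End.mul_apply, Module.End.mul_apply,
        ih r hr _ (hMinv z hzR f hf), hcomm_z r hr f hf]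
  -- the quadratic relation
  have hquad : ∀ y ∈ R, ∀ j : ℕ, (∀ u ∈ K, ∃ e ∈ K, ∃ c ∈ K, u = e * c ∧ y * c = c * y ∧
      ∀ v ∈ K, (y * e * y⁻¹ * (z ^ j * e * (z ^ j)⁻¹)⁻¹) * v =
        v * (y * e * y⁻¹ * (z ^ j * e * (z ^ j)⁻¹)⁻¹)) →
      ∀ f ∈ M, (τ y - τ (z ^ j)) ((τ y - 1) f) = 0 := by
    intro y hy j hdec f hf
    let T₁ : Module.End F (Γ → F) := (τ y - τ (z ^ j)) * (τ y - 1)
    let T₂ : Module.End F (Γ → F) := 0
    have hEq : Set.EqOn T₁ T₂ S := by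
      rintro _ ⟨u, hu, rfl⟩
      obtain ⟨e, he, c, hc, rfl, hyc, hcen⟩ := hdec u hu
      show ((τ y - τ (z ^ j)) * (τ y - 1)) (fK F K (e * c)) = (0 : Module.End F (Γ → F)) _
      rw [LinearMap.zero_apply]
      have hzjN : z ^ j ∈ Subgroup.normalizer (K : Set Γ) := hRN z hzR j
      have h1 : τ y (fK F K c) = fK F K c := by
        rw [hτ, conjRep_fK (hRK hy)]
        congr 1
        rw [hyc, mul_assoc, mul_inv_cancel, mul_one]
      have h2 : τ y (fK F K e) = τ (z ^ j) (fK F K e) := by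
        rw [hτ, conjRep_fK (hRK hy), conjRep_fK hzjN]
        exact fK_eq_of_central hcl2 ht hcm (hconjK y hy e he)
          ((Subgroup.mem_normalizer_iff.1 hzjN e).1 he) hcen
      have h3 : τ (z ^ j) (τ y (fK F K e)) = τ y (τ y (fK F K e)) := by
        rw [← hcomm_zj j y hy _ (fK_mem F K he), ← h2]
      rw [fK_mul hcl2 ht hcm he hc, Module.End.mul_apply]
      simp only [LinearMap.sub_apply, Module.End.one_apply, map_add, map_sub, h1, h3]
      rw [h2]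
      abel
    have := LinearMap.eqOn_span hEq (hMS ▸ hf)
    simpa [T₁, T₂, Module.End.mul_apply] using this
  -- the subrepresentation
  have hinv : Inv (τ.comp R.subtype) M := fun g f hf => hMinv g g.2 f hf
  let σ : Representation F ↥R ↥M := sub (τ.comp R.subtype) M hinv
  have hσ : ∀ (g : R) (x : M), ((σ g x : M) : Γ → F) = τ (g : Γ) x := fun g x => rfl
  let zR : ↥R := ⟨z, hzR⟩
  set Zs : Subgroup ↥R := Subgroup.zpowers zR with hZs
  have hZk : (Nat.card Zs : F) ≠ 0 := hodd _ (Subgroup.card_subgroup_dvd_card Zs)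
  have hZcomm : ∀ a b : Zs, Commute (σ (a : ↥R)) (σ (b : ↥R)) := by
    intro a b
    obtain ⟨i, hi⟩ := Subgroup.mem_zpowers_iff.1 a.2
    obtain ⟨j, hj⟩ := Subgroup.mem_zpowers_iff.1 b.2
    show σ a * σ b = σ b * σ a
    rw [← map_mul, ← map_mul, ← hi, ← hj, ← zpow_add, ← zpow_add, add_comm]
  have hσcomm : ∀ (r : ↥R) (a : ↥R), a ∈ Zs → ∀ x : ↥M, σ a (σ r x) = σ r (σ a x) := by
    intro r a ha x
    have hfin : IsOfFinOrder zR := isOfFinOrder_of_finite zR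
    obtain ⟨i, rfl⟩ := (Submonoid.mem_powers_iff _ _).1 (hfin.mem_powers_iff_mem_zpowers.2 ha)
    apply Subtype.ext
    rw [hσ, hσ, hσ, hσ]
    have e1 : ((zR ^ i : ↥R) : Γ) = z ^ i := by simp [zR]
    rw [e1]
    exact (hcomm_zj i r r.2 x x.2).symm
  have hRtop : IsPGroup p (⊤ : Subgroup ↥R) := by
    intro g
    obtain ⟨i, hi⟩ := hR (g : ↥R)
    exact ⟨i, Subtype.ext (by simpa using hi)⟩
  have hfinal : σ ⟨y₁, hy₁⟩ * σ ⟨y₂, hy₂⟩ = σ ⟨y₂, hy₂⟩ * σ ⟨y₁, hy₁⟩ := by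
    apply eq_of_eqOn_wt hZk hZcomm
    intro χ w hw
    rw [Module.End.mul_apply, Module.End.mul_apply]
    have hUinv : ∀ g ∈ (⊤ : Subgroup ↥R), ∀ x ∈ wt σ Zs χ, σ g x ∈ wt σ Zs χ := by
      intro g _ x hx
      rw [mem_wt] at hx ⊢
      intro a
      rw [hσcomm g a a.2 x, hx a, map_smul]
    set ζ : F := χ ⟨zR, Subgroup.mem_zpowers zR⟩ with hζ
    have hzpow : ∀ j : ℕ, ∀ x ∈ wt σ Zs χ, σ (zR ^ j) x = ζ ^ j • x := by
      intro j
      induction j with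
      | zero =>
        intro x _
        rw [pow_zero, pow_zero, map_one, Module.End.one_apply, one_smul]
      | succ j ih =>
        intro x hx
        have h1 : σ zR x = ζ • x := (mem_wt _ _).1 hx ⟨zR, Subgroup.mem_zpowers zR⟩
        rw [pow_succ, map_mul, Module.End.mul_apply, h1, map_smul, ih x hx, pow_succ, mul_smul,
          smul_comm]
    have htwo : ∀ (y : Γ) (hy : y ∈ R), ActsLike K z y →
        ∃ a b : F, ∀ x ∈ wt σ Zs χ, (σ ⟨y, hy⟩ - a • 1) ((σ ⟨y, hy⟩ - b • 1) x) = 0 := by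
      intro y hy ⟨j, hdec⟩
      refine ⟨ζ ^ j, 1, ?_⟩
      intro x hx
      have hx' : (σ ⟨y, hy⟩ - (1 : F) • 1) x ∈ wt σ Zs χ := by
        rw [one_smul, LinearMap.sub_apply, Module.End.one_apply]
        exact Submodule.sub_mem _ (hUinv ⟨y, hy⟩ (Subgroup.mem_top _) x hx) hx
      have h1 := hzpow j _ hx'
      rw [LinearMap.sub_apply, LinearMap.smul_apply, Module.End.one_apply, ← h1]
      apply Subtype.ext
      have h2 := hquad y hy j hdec (x : Γ → F) x.2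
      have e1 : ((zR ^ j : ↥R) : Γ) = z ^ j := by simp [zR]
      rw [Submodule.coe_sub, hσ, hσ, e1, one_smul]
      rw [LinearMap.sub_apply, LinearMap.sub_apply, Module.End.one_apply] at h2
      rw [Submodule.coe_zero, ← h2]
      rfl
    exact sGeneral hp2 hpF _ ↥R ↥M σ (wt σ Zs χ) ⊤ ⟨y₁, hy₁⟩ ⟨y₂, hy₂⟩ rfl hRtop
      (Subgroup.mem_top _) (Subgroup.mem_top _) hUinv (htwo y₁ hy₁ h₁) (htwo y₂ hy₂ h₂) w hw
  -- back to the group
  intro u' hu'
  set n := y₁ * y₂ with hn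
  set n' := y₂ * y₁ with hn'
  have hnR : n ∈ R := R.mul_mem hy₁ hy₂
  have hn'R : n' ∈ R := R.mul_mem hy₂ hy₁
  set u := n'⁻¹ * u' * n' with hu
  have huK : u ∈ K := by
    have := hconjK n'⁻¹ (R.inv_mem hn'R) u' hu'
    simpa [hu] using this
  have h1 := congrArg (fun T : Module.End F ↥M => ((T ⟨fK F K u, fK_mem F K huK⟩ : ↥M) : Γ → F))
    hfinal
  simp only [Module.End.mul_apply, hσ] at h1
  rw [hτ, conjRep_fK (hRK hy₂), conjRep_fK (hRK hy₁), conjRep_fK (hRK hy₁),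
    conjRep_fK (hRK hy₂)] at h1
  have ha : y₁ * (y₂ * u * y₂⁻¹) * y₁⁻¹ ∈ K := hconjK y₁ hy₁ _ (hconjK y₂ hy₂ u huK)
  have hb : y₂ * (y₁ * u * y₁⁻¹) * y₂⁻¹ ∈ K := hconjK y₂ hy₂ _ (hconjK y₁ hy₁ u huK)
  have h2 := central_of_fK_eq hcl2 ht hcm ha hb h1
  have e1 : y₁ * (y₂ * u * y₂⁻¹) * y₁⁻¹ * (y₂ * (y₁ * u * y₁⁻¹) * y₂⁻¹)⁻¹ = cm (cm y₁ y₂) u' := by
    rw [hu, hn']
    simp only [cm_def]
    group
  rw [e1] at h2
  exact h2

end Cfsg.Agent.Lib.H19.HH
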