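import Mathlib
import Cfsg.Agent.Lib.H19.HHMain

/-!
# Hall–Higman Theorem B, the exceptional case with the dimension (helper19)

`thmB_exceptional` : in the situation of `thmB_core`, if `(ρ x - 1)^(p^n - 1) = 0` then there are
`a < n` and an irreducible `Q`-subspace `W₁`, on which `Q` acts nontrivially, of dimension
`p^(n-a) - 1`.
-/

set_option autoImplicit false

namespace Cfsg.Agent.Lib.H19.HH

open Module Cfsg.Agent.Lib.H19.ModRep

variable {k : Type*} [Field k] {Γ : Type*} [Group Γ] {V : Type*} [AddCommGroup V] [Module k V]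

theorem thmB_exceptional [IsAlgClosed k] [FiniteDimensional k V] [Finite Γ] (p : ℕ) [Fact p.Prime]
    [CharP k p] (ρ : Representation k Γ V) (Q : Subgroup Γ)
    (hQk : (Nat.card Q : k) ≠ 0) (x : Γ) (hxQ : ∀ g ∈ Q, x * g * x⁻¹ ∈ Q) (n : ℕ) (hn : 1 ≤ n)
    (hx : orderOf x = p ^ n)
    (hG0 : Q ≤ Subgroup.closure
      {c | ∃ u ∈ Q, c = x ^ (p ^ (n - 1)) * u * (x ^ (p ^ (n - 1)))⁻¹ * u⁻¹})
    (hG1 : ∃ u ∈ Q, ρ u ≠ 1)
    (hG2 : ∀ u ∈ Q, x ^ (p ^ (n - 1)) * u = u * x ^ (p ^ (n - 1)) → ∀ v ∈ Q, u * v = v * u)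
    (hexc : (ρ x - 1) ^ (p ^ n - 1) = 0) :
    ∃ (a : ℕ) (W₁ : Submodule k V), a < n ∧ IrrSub ρ Q W₁ ∧
      (¬ ∀ g ∈ Q, ∀ w ∈ W₁, ρ g w = w) ∧ finrank k W₁ = p ^ (n - a) - 1 := by
  classical
  have hp : p.Prime := Fact.out
  set y := x ^ (p ^ (n - 1)) with hy
  set T := ρ x with hT
  have hlower : ∀ j : ℕ, (∃ w : V, ((T - 1) ^ j) w ≠ 0) → j < p ^ n - 1 := by
    intro j ⟨w, hw⟩
    by_contra hle
    push Not at hle
    apply hw
    obtain ⟨c, rfl⟩ := Nat.exists_eq_add_of_le hle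
    rw [pow_add, hexc, zero_mul, LinearMap.zero_apply]
  obtain ⟨W₀, hW₀, hW₀nt⟩ := exists_irrSub_nontrivial ρ Q hQk hG1
  obtain ⟨t, W₁, P₀, ht0, htdvd, hW₁, hW₁nt, hW₁t, hP₀id, hP₀s⟩ :=
    clifford_cyclic ρ Q hQk x hxQ W₀ hW₀ hW₀nt
  rw [hx] at htdvd
  obtain ⟨a, han, rfl⟩ := (Nat.dvd_prime_pow hp).1 htdvd
  have hP₀s' : ∀ s : ℕ, 0 < s → s < p ^ a → ∀ w ∈ W₁, P₀ ((T ^ s) w) = 0 := by
    intro s hs0 hs w hw
    rw [hT, ← map_pow]
    exact hP₀s s hs0 hs w hw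
  have hW₁t' : ∀ w ∈ W₁, (T ^ (p ^ a)) w ∈ W₁ := by
    intro w hw
    rw [hT, ← map_pow]
    exact hW₁t w hw
  obtain ⟨w₁, hw₁, hw₁0⟩ := (Submodule.ne_bot_iff _).1 hW₁.1
  have hpn : 1 ≤ p ^ n := Nat.one_le_pow _ _ hp.pos
  by_cases han' : a = n
  · -- the regular case is impossible
    exfalso
    subst han'
    have h1 := pow_sub_one_apply_ne_zero (k := k) p a T W₁ P₀ hP₀id hP₀s' hW₁t' 1 le_rfl w₁ hw₁
      (by simpa using hw₁0)
    rw [mul_one] at h1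
    have := hlower _ ⟨w₁, h1⟩
    omega
  -- the critical case
  have halt : a < n := lt_of_le_of_ne han han'
  set m := n - a with hm
  have hm1 : 1 ≤ m := by omega
  set x₁ := x ^ (p ^ a) with hx₁
  have hx₁ord : orderOf x₁ = p ^ m := by
    rw [hx₁, orderOf_pow_of_dvd (pow_pos hp.pos a).ne' (by rw [hx]; exact pow_dvd_pow p han), hx,
      Nat.pow_div han hp.pos]
  have hyx₁ : y = x₁ ^ (p ^ (m - 1)) := by
    rw [hy, hx₁, ← pow_mul, ← pow_add]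
    congr 2
    omega
  have hx₁Q : ∀ g ∈ Q, x₁ * g * x₁⁻¹ ∈ Q := pow_conj_mem hxQ _
  have hT₁ : ρ x₁ = T ^ (p ^ a) := by rw [hx₁, map_pow]
  -- `x₁` acts nontrivially on `W₁`
  have hxnt : ∃ w ∈ W₁, ρ x₁ w ≠ w := by
    by_contra hall
    push Not at hall
    apply hW₁nt
    have hx₁fix : x₁ ∈ fixer ρ W₁ := hall
    have hyfix : y ∈ fixer ρ W₁ := by
      rw [hyx₁]
      exact Subgroup.pow_mem _ hx₁fix _
    have hQfix : Q ≤ fixer ρ W₁ := by
      refine hG0.trans ?_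
      rw [Subgroup.closure_le]
      rintro c ⟨u, hu, rfl⟩
      intro w hw
      have h1 : ρ u⁻¹ w ∈ W₁ := hW₁.2.1 _ (Subgroup.inv_mem _ hu) w hw
      have h2 : ρ y⁻¹ (ρ u⁻¹ w) = ρ u⁻¹ w := (Subgroup.inv_mem _ hyfix) _ h1
      rw [map_mul, map_mul, map_mul, Module.End.mul_apply, Module.End.mul_apply,
        Module.End.mul_apply, h2, ← Module.End.mul_apply (ρ u), ← map_mul, mul_inv_cancel,
        map_one, Module.End.one_apply]
      exact hyfix w hw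
    intro g hg w hw
    exact hQfix hg w hw
  -- the freeness hypothesis
  have hfree : ∀ u ∈ Q, ∀ y' ∈ Subgroup.zpowers x₁, y' ≠ 1 → y' * u * y'⁻¹ = u →
      ∃ c : k, ∀ w ∈ W₁, ρ u w = c • w := by
    intro u hu y' hy' hy'1 hy'u
    have hymem : y ∈ Subgroup.zpowers y' := by
      rw [hyx₁]
      exact pow_mem_zpowers_of_ne_one hp hm1 hx₁ord hy' hy'1
    have hcomm' : y' * u = u * y' := by
      calc y' * u = (y' * u * y'⁻¹) * y' := by group
        _ = u * y' := by rw [hy'u]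
    have hyu : y * u = u * y := by
      obtain ⟨j, hj⟩ := Subgroup.mem_zpowers_iff.1 hymem
      rw [← hj]
      exact ((Commute.zpow_left hcomm' j : Commute (y' ^ j) u)).eq
    have hcen := hG2 u hu hyu
    apply schur_sub hW₁ (ρ u) (fun w hw => hW₁.2.1 u hu w hw)
    intro g hg w _
    rw [← Module.End.mul_apply, ← Module.End.mul_apply, ← map_mul, ← map_mul, hcen g hg]
  -- the nilpotency degree on `W₁`
  have hex : ∃ s : ℕ, ∀ w ∈ W₁, ((ρ x₁ - 1) ^ s) w = 0 := by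
    refine ⟨p ^ m, fun w _ => ?_⟩
    rw [sub_one_pow_char_pow (k := k) p m (ρ x₁), ← map_pow, ← hx₁ord, pow_orderOf_eq_one,
      map_one, sub_self, LinearMap.zero_apply]
  set r₁ := Nat.find hex with hr₁
  have hr₁s : ∀ w ∈ W₁, ((ρ x₁ - 1) ^ r₁) w = 0 := Nat.find_spec hex
  have hr₁min : ∀ t < r₁, ∃ w ∈ W₁, ((ρ x₁ - 1) ^ t) w ≠ 0 := by
    intro t ht
    have := Nat.find_min hex ht
    push Not at this
    exact this
  have hcore := core_sub p ρ Q hQk x₁ hx₁Q W₁ hW₁ (fun w hw => hW₁t w hw) m hx₁ord hxnt hfree r₁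
    hr₁s hr₁min
  -- `r₁ ≥ 2`
  have hr₁2 : 2 ≤ r₁ := by
    by_contra hlt
    push Not at hlt
    obtain ⟨w, hw, hne⟩ := hxnt
    apply hne
    have h1 : ((ρ x₁ - 1) ^ 1 : Module.End k V) w = 0 := by
      have h2 := hr₁s w hw
      obtain ⟨c, hc⟩ := Nat.exists_eq_add_of_le (Nat.lt_succ_iff.1 hlt)
      rw [hc, add_comm, pow_add, Module.End.mul_apply, h2, map_zero]
    rw [pow_one, LinearMap.sub_apply, Module.End.one_apply, sub_eq_zero] at h1
    exact h1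
  -- the lower bound `p ^ a * r₁ ≤ p ^ n - 1`
  have hbound : p ^ a * r₁ ≤ p ^ n - 1 := by
    obtain ⟨w, hw, hne⟩ := hr₁min (r₁ - 1) (by omega)
    rw [hT₁] at hne
    have h1 := pow_sub_one_apply_ne_zero (k := k) p a T W₁ P₀ hP₀id hP₀s' hW₁t' r₁ (by omega) w hw
      hne
    have := hlower _ ⟨w, h1⟩
    omega
  have hpam : p ^ a * p ^ m = p ^ n := by
    rw [← pow_add]
    congr 1
    omega
  have hr₁P : r₁ ≠ p ^ m := by
    intro h
    rw [h, hpam] at hbound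
    omega
  have hr₁eq : r₁ = p ^ m - 1 := by omega
  exact ⟨a, W₁, halt, hW₁, hW₁nt, hcore.2.2 hr₁eq⟩

end Cfsg.Agent.Lib.H19.HH
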