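import Mathlib

/-!
# A bound for the index of the centre (helper19)

`card_quot_center_le` : if `σ` is a representation of the finite group `E` on a space `W` whose
dimension is invertible in `k`, such that for all non-commuting `u, v` the operator
`σ (v u v⁻¹)` is a scalar multiple `ζ • σ u` with `ζ ≠ 1`, then `|E : Z(E)| ≤ (dim W)^2`.
-/

set_option autoImplicit false

namespace Cfsg.Agent.Lib.H19.HH

open Module

variable {k : Type*} [Field k] {E : Type*} [Group E] {W : Type*} [AddCommGroup W] [Module k W]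

theorem trace_eq_zero_of_not_mem_center [FiniteDimensional k W] (σ : Representation k E W)
    (hsc : ∀ u v : E, u * v ≠ v * u → ∃ ζ : k, ζ ≠ 1 ∧ σ (v * u * v⁻¹) = ζ • σ u) {u : E}
    (hu : u ∉ Subgroup.center E) : LinearMap.trace k W (σ u) = 0 := by
  have hex : ∃ v : E, u * v ≠ v * u := by
    by_contra hall
    push Not at hall
    apply hu
    rw [Subgroup.mem_center_iff]
    intro v
    exact (hall v).symm
  obtain ⟨v, hv⟩ := hex
  obtain ⟨ζ, hζ, h⟩ := hsc u v hv
  have h1 : LinearMap.trace k W (σ (v * u * v⁻¹)) = LinearMap.trace k W (σ u) := by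
    have e : σ (v * u * v⁻¹) = σ v * σ u * σ v⁻¹ := by rw [map_mul, map_mul]
    have e2 : σ v⁻¹ * σ v = 1 := by rw [← map_mul, inv_mul_cancel, map_one]
    rw [e, LinearMap.trace_mul_comm, ← mul_assoc, e2, one_mul]
  rw [h, map_smul, smul_eq_mul] at h1
  have h2 : (ζ - 1) * LinearMap.trace k W (σ u) = 0 := by
    rw [sub_mul, one_mul, h1, sub_self]
  rcases mul_eq_zero.1 h2 with h3 | h3
  · exact absurd (sub_eq_zero.1 h3) hζ
  · exact h3

theorem card_quot_center_le [Finite E] [FiniteDimensional k W] (σ : Representation k E W)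
    (hdim : (finrank k W : k) ≠ 0)
    (hsc : ∀ u v : E, u * v ≠ v * u → ∃ ζ : k, ζ ≠ 1 ∧ σ (v * u * v⁻¹) = ζ • σ u) :
    Nat.card (E ⧸ Subgroup.center E) ≤ finrank k W ^ 2 := by
  classical
  have : Fintype (E ⧸ Subgroup.center E) := Fintype.ofFinite _
  let r : E ⧸ Subgroup.center E → E := Quotient.out
  have hr : ∀ c, (QuotientGroup.mk (r c) : E ⧸ Subgroup.center E) = c := fun c => Quotient.out_eq' c
  have hli : LinearIndependent k (fun c : E ⧸ Subgroup.center E => σ (r c)) := by
    rw [Fintype.linearIndependent_iff]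
    intro g hg c₀
    have h1 := congrArg (fun f : Module.End k W => LinearMap.trace k W (f * σ (r c₀)⁻¹)) hg
    simp only [Finset.sum_mul, map_sum, smul_mul_assoc, map_smul, smul_eq_mul, zero_mul,
      map_zero] at h1
    have h2 : ∀ c ∈ (Finset.univ : Finset (E ⧸ Subgroup.center E)), c ≠ c₀ →
        g c * LinearMap.trace k W (σ (r c) * σ (r c₀)⁻¹) = 0 := by
      intro c _ hc
      rw [← map_mul]
      have hnot : r c * (r c₀)⁻¹ ∉ Subgroup.center E := by
        intro hmem
        apply hc
        rw [← hr c, ← hr c₀]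
        rw [QuotientGroup.eq]
        have hn : (Subgroup.center E).Normal := inferInstance
        have h3 := hn.conj_mem _ hmem (r c)⁻¹
        have h4 : (r c)⁻¹ * r c₀ = ((r c)⁻¹ * (r c * (r c₀)⁻¹) * (r c)⁻¹⁻¹)⁻¹ := by group
        rw [h4]
        exact Subgroup.inv_mem _ h3
      rw [trace_eq_zero_of_not_mem_center σ hsc hnot, mul_zero]
    rw [Finset.sum_eq_single c₀ h2 (fun h => absurd (Finset.mem_univ _) h)] at h1
    rw [← map_mul, mul_inv_cancel, map_one, LinearMap.trace_one] at h1
    rcases mul_eq_zero.1 h1 with h3 | h3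
    · exact h3
    · exact absurd h3 hdim
  have h1 := hli.fintype_card_le_finrank
  rw [Module.finrank_linearMap, ← sq] at h1
  rw [Nat.card_eq_fintype_card]
  exact h1

end Cfsg.Agent.Lib.H19.HH
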