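import Mathlib
import Cfsg.Agent.Lib.H19.HHE6
import Cfsg.Agent.Lib.H19.HHSub

/-!
# Theorem E: the weight space step (helper19)

`e_weights` : in the faithful situation either the centre of `K` acts through scalars or the
commutators of the elements `g^(p^(m-1))` centralize `K` (by induction on the dimension).
-/

set_option autoImplicit false
set_option linter.unusedSectionVars false
set_option maxHeartbeats 800000

namespace Cfsg.Agent.Lib.H19.HH

open Module Cfsg.Agent.Lib.H19.ModRep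

universe u v

variable {k : Type v} [Field k]

section aux

variable {Γ : Type*} [Group Γ] {V : Type*} [AddCommGroup V] [Module k V]

theorem conj_sub_one_pow (ρ : Representation k Γ V) (r g : Γ) (N : ℕ) :
    (ρ (r * g * r⁻¹) - 1) ^ N = ρ r * (ρ g - 1) ^ N * ρ r⁻¹ := by
  have h1 : ρ r⁻¹ * ρ r = 1 := by rw [← map_mul, inv_mul_cancel, map_one]
  have h2 : ρ r * ρ r⁻¹ = 1 := by rw [← map_mul, mul_inv_cancel, map_one]
  induction N with
  | zero => rw [pow_zero, pow_zero, mul_one, h2]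
  | succ N ih =>
    rw [pow_succ, ih, pow_succ]
    have e : ρ (r * g * r⁻¹) - 1 = ρ r * (ρ g - 1) * ρ r⁻¹ := by
      rw [map_mul, map_mul, mul_sub, sub_mul, mul_one, h2]
    rw [e]
    calc ρ r * (ρ g - 1) ^ N * ρ r⁻¹ * (ρ r * (ρ g - 1) * ρ r⁻¹)
        = ρ r * (ρ g - 1) ^ N * (ρ r⁻¹ * ρ r) * (ρ g - 1) * ρ r⁻¹ := by
          simp only [mul_assoc]
      _ = ρ r * ((ρ g - 1) ^ N * (ρ g - 1)) * ρ r⁻¹ := by
          rw [h1, mul_one]
          simp only [mul_assoc]

variable [Finite Γ] [FiniteDimensional k V]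

/-- the stabilizer of a weight space in a cyclic `p`-group and the exceptional property -/
theorem exists_pow_stab [IsAlgClosed k] {p : ℕ} [hpf : Fact p.Prime] [CharP k p]
    {ρ : Representation k Γ V} {Z : Subgroup Γ} (hZ : (Nat.card Z : k) ≠ 0)
    (hcomm : ∀ a b : Z, Commute (ρ (a : Γ)) (ρ (b : Γ))) {g : Γ}
    (hg : g ∈ Subgroup.normalizer (Z : Set Γ)) {m : ℕ} (hgm : g ^ p ^ m = 1)
    (hexc : (ρ g - 1) ^ (p ^ m - 1) = 0) (χ : Γ → k) {w₀ : V} (hw₀ : w₀ ∈ wtf ρ Z χ)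
    (hw₀0 : w₀ ≠ 0) :
    ∃ a < m, (∀ w ∈ wtf ρ Z χ, ρ (g ^ p ^ a) w ∈ wtf ρ Z χ) ∧
      ∀ w ∈ wtf ρ Z χ, ((ρ (g ^ p ^ a) - 1) ^ (p ^ (m - a) - 1)) w = 0 := by
  classical
  have hp : p.Prime := hpf.out
  set U' := wtf ρ Z χ with hU'
  have hgj : ∀ j : ℕ, g ^ j ∈ Subgroup.normalizer (Z : Set Γ) := fun j => Subgroup.pow_mem _ hg j
  -- the stabilizer predicate
  have hex : ∃ a, EqOn Z (twf (g ^ p ^ a) χ) χ := by
    refine ⟨m, ?_⟩
    rw [hgm, twf_one]
    intro z _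
    rfl
  set a := Nat.find hex with ha
  have haS : EqOn Z (twf (g ^ p ^ a) χ) χ := Nat.find_spec hex
  have ham : a ≤ m := Nat.find_min' hex (by
    rw [hgm, twf_one]
    intro z _
    rfl)
  have hmoved : ∀ s : ℕ, 0 < s → s < p ^ a → ¬ EqOn Z (twf (g ^ s) χ) χ := by
    intro s hs0 hs hS
    obtain ⟨v, s', hs', hsv⟩ := Nat.exists_eq_pow_mul_and_not_dvd hs0.ne' p hp.ne_one
    have hv : v < a := by
      by_contra hle
      push Not at hle
      have h1 : p ^ a ≤ p ^ v := Nat.pow_le_pow_right hp.pos hle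
      have h2 : p ^ v ≤ s := by
        rw [hsv]
        exact Nat.le_mul_of_pos_right _ (Nat.pos_of_ne_zero (by
          rintro rfl
          exact hs' (dvd_zero p)))
      omega
    have hcop : Nat.Coprime s' (p ^ m) :=
      Nat.Coprime.pow_right m ((Nat.Prime.coprime_iff_not_dvd hp).2 hs').symm
    -- `(g^(p^v))^(s' t) = g^(p^v)` for a suitable `t`
    have hpm1 : 1 < p ^ m ∨ p ^ m = 1 := by
      rcases Nat.eq_or_lt_of_le (Nat.one_le_pow m p hp.pos) with h | h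
      · exact Or.inr h.symm
      · exact Or.inl h
    have hx : EqOn Z (twf (g ^ p ^ v) χ) χ := by
      rcases hpm1 with h1 | h1
      · obtain ⟨t, -, ht⟩ := Nat.exists_mul_mod_eq_one_of_coprime hcop h1
        have e : (g ^ s) ^ t = g ^ p ^ v := by
          rw [hsv, ← pow_mul, mul_assoc]
          have h2 : s' * t = p ^ m * (s' * t / p ^ m) + 1 := by
            have := Nat.div_add_mod (s' * t) (p ^ m)
            rw [ht] at this
            exact this.symm
          rw [h2, mul_add, mul_one, pow_add, mul_comm (p ^ v), mul_assoc, pow_mul, hgm, one_pow,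
            one_mul]
        rw [← e]
        exact eqOn_twf_pow (hgj s) hS t
      · -- `g = 1`
        have : g = 1 := by rw [h1, pow_one] at hgm; exact hgm
        rw [this, one_pow, twf_one]
        intro z _
        rfl
    exact absurd (Nat.find_min hex hv) (by simpa using hx)
  -- the projection onto the weight space
  set χ₀ : Z → k := fun z => χ (z : Γ) with hχ₀
  have hind := iSupIndep_wt' ρ Z hZ hcomm
  have htop := iSup_wt_eq_top' ρ Z hZ hcomm
  set U'' : Submodule k V := ⨆ (ψ : Z → k) (_ : ψ ≠ χ₀), wt ρ Z ψ with hU''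
  have hUU : U' = wt ρ Z χ₀ := rfl
  have hcompl : IsCompl U' U'' := by
    constructor
    · rw [hUU]
      exact hind χ₀
    · rw [codisjoint_iff, eq_top_iff, ← htop]
      apply iSup_le
      intro ψ
      by_cases hψ : ψ = χ₀
      · rw [hψ, ← hUU]
        exact le_sup_left
      · exact le_trans (le_iSup₂ (f := fun (ψ : Z → k) (_ : ψ ≠ χ₀) => wt ρ Z ψ) ψ hψ) le_sup_right
  set P₀ : Module.End k V := U'.subtype ∘ₗ Submodule.projectionOnto U' U'' hcompl with hP₀
  have hP₀id : ∀ w ∈ U', P₀ w = w := by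
    intro w hw
    rw [hP₀, LinearMap.comp_apply]
    have := Submodule.projectionOnto_apply_left hcompl ⟨w, hw⟩
    rw [this]
    rfl
  have hP₀z : ∀ (ψ : Γ → k), ¬ EqOn Z ψ χ → ∀ w ∈ wtf ρ Z ψ, P₀ w = 0 := by
    intro ψ hψ w hw
    have hne : (fun z : Z => ψ (z : Γ)) ≠ χ₀ := by
      intro h
      apply hψ
      intro z hz
      exact congrFun h ⟨z, hz⟩
    have hw'' : w ∈ U'' :=
      Submodule.mem_iSup_of_mem _ (Submodule.mem_iSup_of_mem hne hw)
    rw [hP₀, LinearMap.comp_apply]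
    have := Submodule.projectionOnto_apply_right hcompl ⟨w, hw''⟩
    rw [this]
    rfl
  set T := ρ g with hT
  have hP₀s : ∀ s : ℕ, 0 < s → s < p ^ a → ∀ w ∈ U', P₀ ((T ^ s) w) = 0 := by
    intro s hs0 hs w hw
    rw [hT, ← map_pow]
    exact hP₀z _ (hmoved s hs0 hs) _ (apply_mem_wtf_twf (hgj s) hw)
  have hinv : ∀ w ∈ U', (T ^ (p ^ a)) w ∈ U' := by
    intro w hw
    rw [hT, ← map_pow]
    have h2 := apply_mem_wtf_twf (hgj (p ^ a)) hw
    rwa [wtf_congr ρ haS] at h2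
  have hpm : 1 ≤ p ^ m := Nat.one_le_pow _ _ hp.pos
  have hlower : ∀ j : ℕ, (∃ w : V, ((T - 1) ^ j) w ≠ 0) → j < p ^ m - 1 := by
    intro j ⟨w, hw⟩
    by_contra hle
    push Not at hle
    apply hw
    obtain ⟨c, rfl⟩ := Nat.exists_eq_add_of_le hle
    rw [pow_add, hexc, zero_mul, LinearMap.zero_apply]
  have halt : a < m := by
    by_contra hge
    have hae : a = m := le_antisymm ham (not_lt.1 hge)
    have h1 := pow_sub_one_apply_ne_zero (k := k) p a T U' P₀ hP₀id hP₀s hinv 1 le_rfl w₀ hw₀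
      (by simpa using hw₀0)
    rw [mul_one, hae] at h1
    have := hlower _ ⟨w₀, h1⟩
    omega
  refine ⟨a, halt, ?_, ?_⟩
  · intro w hw
    rw [map_pow]
    exact hinv w hw
  · intro w hw
    by_contra hne
    rw [map_pow] at hne
    have hpos : 1 ≤ p ^ (m - a) := Nat.one_le_pow _ _ hp.pos
    have h1 := pow_sub_one_apply_ne_zero (k := k) p a T U' P₀ hP₀id hP₀s hinv (p ^ (m - a)) hpos
      w hw hne
    have h2 : p ^ a * p ^ (m - a) = p ^ m := by
      rw [← pow_add]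
      congr 1
      omega
    rw [h2] at h1
    have := hlower _ ⟨w, h1⟩
    omega

end aux

variable {Γ : Type u} [Group Γ] [Finite Γ] {V : Type u} [AddCommGroup V] [Module k V]
  [FiniteDimensional k V]

/-- an exceptional element has order dividing `p^m` in a faithful representation -/
theorem pow_eq_one_of_exceptional {p : ℕ} [hpf : Fact p.Prime] [CharP k p]
    {ρ : Representation k Γ V} (hfaith : Function.Injective ρ) {g : Γ} {m : ℕ}
    (hexc : (ρ g - 1) ^ (p ^ m - 1) = 0) : g ^ p ^ m = 1 := by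
  apply hfaith
  rw [map_pow, map_one]
  have h1 := sub_one_pow_char_pow (k := k) p m (ρ g)
  have h2 : (ρ g - 1) ^ p ^ m = 0 := by
    have : p ^ m = (p ^ m - 1) + 1 := by
      have := Nat.one_le_pow m p hpf.out.pos
      omega
    rw [this, pow_add, hexc, zero_mul]
  rw [h2] at h1
  exact sub_eq_zero.1 h1.symm

/-- **The weight space step.** -/
theorem e_weights [IsAlgClosed k] {p : ℕ} [hpf : Fact p.Prime] [CharP k p] {d : ℕ}
    (IH : ∀ d' < d, EGeneral.{u, v} k p d') {ρ : Representation k Γ V}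
    (hfaith : Function.Injective ρ) (hd : finrank k V = d) {R K : Subgroup Γ}
    {X : Γ → ℕ → Prop} (hdata : EData p ρ ⊤ R K X) :
    (∃ χ : (K ⊓ Subgroup.centralizer (K : Set Γ) : Subgroup Γ) → k,
      wt ρ (K ⊓ Subgroup.centralizer (K : Set Γ)) χ = ⊤) ∨
      ∀ g₁ m₁ g₂ m₂, X g₁ m₁ → X g₂ m₂ →
        cm (g₁ ^ p ^ (m₁ - 1)) (g₂ ^ p ^ (m₂ - 1)) ∈ Subgroup.centralizer (K : Set Γ) := by
  classical
  have hp : p.Prime := hpf.out
  set Z : Subgroup Γ := K ⊓ Subgroup.centralizer (K : Set Γ) with hZdef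
  by_cases hex : ∃ χ : Z → k, wt ρ Z χ = ⊤
  · exact Or.inl hex
  right
  push Not at hex
  have hZK : Z ≤ K := inf_le_left
  have hZcommG : ∀ x ∈ Z, ∀ y ∈ Z, x * y = y * x := by
    intro x hx y hy
    exact (Subgroup.mem_centralizer_iff.1 hx.2 y (hZK hy)).symm
  have hZcomm : ∀ a b : Z, Commute (ρ (a : Γ)) (ρ (b : Γ)) := by
    intro a b
    show ρ a * ρ b = ρ b * ρ a
    rw [← map_mul, ← map_mul, hZcommG a a.2 b b.2]
  have hZk : (Nat.card Z : k) ≠ 0 := by
    intro h0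
    have h1 := (CharP.cast_eq_zero_iff k p _).1 h0
    have h2 : p ∣ Nat.card K := h1.trans (Subgroup.card_dvd_of_le hZK)
    exact (Nat.Prime.coprime_iff_not_dvd hp).1 hdata.hK.symm h2
  have hNZ : Subgroup.normalizer (K : Set Γ) ≤ Subgroup.normalizer (Z : Set Γ) := by
    intro g hg
    have hg' : g⁻¹ ∈ Subgroup.normalizer (K : Set Γ) := Subgroup.inv_mem _ hg
    have key : ∀ g : Γ, g ∈ Subgroup.normalizer (K : Set Γ) →
        g⁻¹ ∈ Subgroup.normalizer (K : Set Γ) → ∀ z ∈ Z, g * z * g⁻¹ ∈ Z := by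
      intro g hg hg' z hz
      refine ⟨(Subgroup.mem_normalizer_iff.1 hg z).1 hz.1, ?_⟩
      show g * z * g⁻¹ ∈ Subgroup.centralizer (K : Set Γ)
      rw [Subgroup.mem_centralizer_iff]
      intro y hy
      have hy' : g⁻¹ * y * g ∈ K := by
        have := (Subgroup.mem_normalizer_iff.1 hg' y).1 hy
        simpa using this
      have h1 := Subgroup.mem_centralizer_iff.1 hz.2 _ hy'
      calc y * (g * z * g⁻¹) = g * ((g⁻¹ * y * g) * z) * g⁻¹ := by group
        _ = g * (z * (g⁻¹ * y * g)) * g⁻¹ := by rw [h1]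
        _ = g * z * g⁻¹ * y := by group
    rw [Subgroup.mem_normalizer_iff]
    intro z
    constructor
    · exact key g hg hg' z
    · intro hz
      have := key g⁻¹ hg' (by simpa using hg) _ hz
      have e : g⁻¹ * (g * z * g⁻¹) * g⁻¹⁻¹ = z := by group
      rwa [e] at this
  have hRZ : R ≤ Subgroup.normalizer (Z : Set Γ) := hdata.hRK.trans hNZ
  have hKZ : K ≤ Subgroup.normalizer (Z : Set Γ) := Subgroup.le_normalizer.trans hNZ
  -- `K` stabilizes the weight spaces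
  have hKstab : ∀ g ∈ K, ∀ (χ : Γ → k) (w : V), w ∈ wtf ρ Z χ → ρ g w ∈ wtf ρ Z χ := by
    intro g hg χ w hw
    have h2 := apply_mem_wtf_twf (hKZ hg) hw
    have h1 : EqOn Z (twf g χ) χ := by
      intro z hz
      unfold twf
      congr 1
      have := Subgroup.mem_centralizer_iff.1 hz.2 g hg
      calc g⁻¹ * z * g = g⁻¹ * (z * g) := by group
        _ = g⁻¹ * (g * z) := by rw [this]
        _ = z := by group
    rwa [wtf_congr ρ h1] at h2
  intro g₁ m₁ g₂ m₂ hX₁ hX₂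
  rw [Subgroup.mem_centralizer_iff]
  intro u hu
  apply hfaith
  rw [map_mul, map_mul]
  apply eq_of_eqOn_wt hZk hZcomm
  intro χ w hw
  rw [← wtf_extf] at hw
  set χ' := extf Z χ with hχ'
  rw [Module.End.mul_apply, Module.End.mul_apply]
  by_cases hw0 : w = 0
  · rw [hw0, map_zero, map_zero, map_zero]
  set U' := wtf ρ Z χ' with hU'
  have hne : U' ≠ ⊤ := by
    rw [hU', hχ', wtf_extf]
    exact hex χ
  have hlt : finrank k U' < d := by
    rw [← hd]
    exact Submodule.finrank_lt hne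
  -- the exceptional property on the whole space
  have hexcV : ∀ g m, X g m → (ρ g - 1) ^ (p ^ m - 1) = 0 := by
    intro g m hX
    apply LinearMap.ext
    intro x
    exact hdata.hXe g m hX x Submodule.mem_top
  obtain ⟨a₁, ha₁, hst₁, hexc₁⟩ := exists_pow_stab hZk hZcomm (hRZ (hdata.hXR g₁ m₁ hX₁))
    (pow_eq_one_of_exceptional hfaith (hexcV g₁ m₁ hX₁)) (hexcV g₁ m₁ hX₁) χ' hw hw0
  obtain ⟨a₂, ha₂, hst₂, hexc₂⟩ := exists_pow_stab hZk hZcomm (hRZ (hdata.hXR g₂ m₂ hX₂))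
    (pow_eq_one_of_exceptional hfaith (hexcV g₂ m₂ hX₂)) (hexcV g₂ m₂ hX₂) χ' hw hw0
  -- the new data
  set R' : Subgroup Γ := R ⊓ stab ρ U' with hR'
  let X' : Γ → ℕ → Prop := fun g' m' => g' ∈ R' ∧ 1 ≤ m' ∧
    (∀ w ∈ U', ((ρ g' - 1) ^ (p ^ m' - 1)) w = 0) ∧
    ∃ g m a, X g m ∧ a < m ∧ g' = g ^ p ^ a ∧ m' = m - a
  have hdata' : EData p ρ U' R' K X' :=
    { hR := hdata.hR.to_le inf_le_left
      hK := hdata.hK
      hRK := inf_le_left.trans hdata.hRK
      hUK := fun g hg x hx => hKstab g hg χ' x hx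
      hUR := fun g hg x hx => hg.2 x hx
      hXR := fun g' m' h => h.1
      hXm := fun g' m' h => h.2.1
      hXe := fun g' m' h => h.2.2.1
      hXc := by
        rintro g' m' ⟨hg'R, hm', hexc', g, m, a, hX, ham, rfl, rfl⟩ r hr
        refine ⟨R'.mul_mem (R'.mul_mem hr hg'R) (R'.inv_mem hr), hm', ?_, r * g * r⁻¹, m, a,
          hdata.hXc g m hX r hr.1, ham, (conj_pow).symm, rfl⟩
        intro x hx
        rw [conj_sub_one_pow, Module.End.mul_apply, Module.End.mul_apply]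
        have h1 : ρ r⁻¹ x ∈ U' := (R'.inv_mem hr).2 x hx
        rw [hexc' _ h1, map_zero] }
  have hconcl := IH _ hlt Γ V ρ U' R' K X' rfl hdata'
  have hX₁' : X' (g₁ ^ p ^ a₁) (m₁ - a₁) :=
    ⟨⟨R.pow_mem (hdata.hXR g₁ m₁ hX₁) _, hst₁⟩, by omega, hexc₁, g₁, m₁, a₁, hX₁, ha₁, rfl, rfl⟩
  have hX₂' : X' (g₂ ^ p ^ a₂) (m₂ - a₂) :=
    ⟨⟨R.pow_mem (hdata.hXR g₂ m₂ hX₂) _, hst₂⟩, by omega, hexc₂, g₂, m₂, a₂, hX₂, ha₂, rfl, rfl⟩
  have h := hconcl _ _ _ _ hX₁' hX₂' u hu w hw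
  have e₁ : (g₁ ^ p ^ a₁) ^ p ^ (m₁ - a₁ - 1) = g₁ ^ p ^ (m₁ - 1) := by
    rw [← pow_mul, ← pow_add]
    congr 2
    omega
  have e₂ : (g₂ ^ p ^ a₂) ^ p ^ (m₂ - a₂ - 1) = g₂ ^ p ^ (m₂ - 1) := by
    rw [← pow_mul, ← pow_add]
    congr 2
    omega
  rw [e₁, e₂] at h
  exact h.symm

end Cfsg.Agent.Lib.H19.HH
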