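import Mathlib
import Cfsg.Agent.Lib.H19.HHE1
import Cfsg.Agent.Lib.H19.HHMain

/-!
# A counting lemma on a `2`-group with a Singer-type automorphism (helper19)

`exists_pow_eq_of_semiregular` : let `S` be a nontrivial group of order a power of `2`, at most
`2^(2b)`, where `2^b + 1 = p^c` with `p` odd.  Let `ω, β` be commuting automorphisms of `S` with
`ω^(p^c) = 1`, `β^p = 1`, `β ≠ 1`, such that `α = ω^(p^(c-1))` has no nontrivial fixed point.
Then `α` is a power of `β`.
-/

set_option autoImplicit false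
set_option linter.unusedSectionVars false

namespace Cfsg.Agent.Lib.H19.HH

theorem card_dvd_of_free {B X : Type*} [Group B] [MulAction B X]
    (h : ∀ x : X, MulAction.stabilizer B x = ⊥) : Nat.card B ∣ Nat.card X := by
  have e := MulAction.selfEquivOrbitsQuotientProd h
  rw [Nat.card_congr e, Nat.card_prod]
  exact Dvd.intro_left _ rfl

variable {S : Type*} [Group S] [Finite S]

/-- a group of automorphisms acting freely on `L \ {1}` has order dividing `|L| - 1` -/
theorem card_dvd_card_sub_one (B : Subgroup (MulAut S)) (L : Subgroup S)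
    (hL : ∀ γ ∈ B, ∀ s ∈ L, γ s ∈ L)
    (hfree : ∀ γ ∈ B, γ ≠ 1 → ∀ s ∈ L, γ s = s → s = 1) : Nat.card B ∣ Nat.card L - 1 := by
  classical
  let X : SubMulAction B S :=
    { carrier := {s | s ∈ L ∧ s ≠ 1}
      smul_mem' := by
        rintro γ s ⟨hs, hs1⟩
        refine ⟨hL γ γ.2 s hs, ?_⟩
        intro h
        apply hs1
        have h1 : (γ : MulAut S) s = 1 := h
        have h2 : (γ : MulAut S) s = (γ : MulAut S) 1 := by rw [h1, map_one]
        exact (γ : MulAut S).injective h2 }
  have hstab : ∀ x : X, MulAction.stabilizer B x = ⊥ := by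
    intro x
    rw [eq_bot_iff]
    intro γ hγ
    rw [MulAction.mem_stabilizer_iff] at hγ
    rw [Subgroup.mem_bot]
    by_contra hne
    have hne' : (γ : MulAut S) ≠ 1 := fun h => hne (Subtype.ext h)
    have h1 : (γ : MulAut S) (x : S) = (x : S) := congrArg Subtype.val hγ
    exact x.2.2 (hfree γ γ.2 hne' x x.2.1 h1)
  have hdvd := card_dvd_of_free hstab
  have hcard : Nat.card X = Nat.card L - 1 := by
    have h1 : Nat.card X = ((L : Set S) \ {1}).ncard := by
      rw [← Nat.card_coe_set_eq]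
      apply Nat.card_congr
      refine Equiv.subtypeEquivRight ?_
      intro s
      constructor
      · rintro ⟨h1, h2⟩
        exact ⟨h1, h2⟩
      · rintro ⟨h1, h2⟩
        exact ⟨h1, h2⟩
    rw [h1, Set.ncard_sdiff_singleton_of_mem (L.one_mem), ← Nat.card_coe_set_eq]
    rfl
  rwa [hcard] at hdvd

theorem card_eq_two_pow_of_dvd {L : Subgroup S} {s₀ : ℕ} (hS : Nat.card S = 2 ^ s₀) :
    ∃ t ≤ s₀, Nat.card L = 2 ^ t := by
  have h := Subgroup.card_subgroup_dvd_card L
  rw [hS] at h
  obtain ⟨t, ht, h⟩ := (Nat.dvd_prime_pow Nat.prime_two).1 h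
  exact ⟨t, ht, h⟩

theorem exists_pow_eq_of_semiregular [Nontrivial S] {p c b s₀ : ℕ} [hpf : Fact p.Prime]
    (hp2 : p ≠ 2) (hc : 1 ≤ c) (hP : 2 ^ b + 1 = p ^ c) (hS : Nat.card S = 2 ^ s₀)
    (hSle : s₀ ≤ 2 * b) (ω β : MulAut S) (hcomm : ω * β = β * ω) (hω : ω ^ p ^ c = 1)
    (hα : ∀ s : S, (ω ^ p ^ (c - 1)) s = s → s = 1) (hβ : β ^ p = 1) (hβ1 : β ≠ 1) :
    ∃ j : ℕ, ω ^ p ^ (c - 1) = β ^ j := by
  classical
  have hp : p.Prime := hpf.out
  set α := ω ^ p ^ (c - 1) with hαdef
  obtain ⟨s₁, hs₁⟩ := exists_ne (1 : S)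
  have hα1 : α ≠ 1 := by
    intro h
    apply hs₁
    apply hα
    rw [h]
    rfl
  have hωord : orderOf ω = p ^ c := by
    have : c = (c - 1) + 1 := by omega
    rw [this]
    apply orderOf_eq_prime_pow
    · exact hα1
    · rw [← this]
      exact hω
  -- freeness of `⟨ω⟩`
  have hfreeω : ∀ γ ∈ Subgroup.zpowers ω, γ ≠ 1 → ∀ s : S, γ s = s → s = 1 := by
    intro γ hγ hγ1 s hs
    have h1 := pow_mem_zpowers_of_ne_one hp hc hωord hγ hγ1
    obtain ⟨i, hi⟩ := Subgroup.mem_zpowers_iff.1 h1
    apply hα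
    rw [hαdef, ← hi]
    have hfix : ∀ i : ℤ, (γ ^ i) s = s := by
      intro i
      have hmem : γ ∈ MulAction.stabilizer (MulAut S) s := by
        rw [MulAction.mem_stabilizer_iff]
        exact hs
      have := Subgroup.zpow_mem _ hmem i
      rw [MulAction.mem_stabilizer_iff] at this
      exact this
    exact hfix i
  have hcardω : Nat.card (Subgroup.zpowers ω) = p ^ c := by
    rw [Nat.card_zpowers, hωord]
  -- invariant subgroups
  have hinvω : ∀ L : Subgroup S, (∀ s ∈ L, ω s ∈ L) → ∀ γ ∈ Subgroup.zpowers ω, ∀ s ∈ L,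
      γ s ∈ L := by
    intro L hL γ hγ
    -- the set of automorphisms mapping `L` into `L` with inverse doing so
    let T : Subgroup (MulAut S) :=
      { carrier := {γ | (∀ s ∈ L, γ s ∈ L) ∧ ∀ s ∈ L, γ⁻¹ s ∈ L}
        one_mem' := ⟨fun s hs => hs, fun s hs => by simpa using hs⟩
        mul_mem' := by
          rintro a b ⟨ha, ha'⟩ ⟨hb, hb'⟩
          refine ⟨fun s hs => ha _ (hb s hs), fun s hs => ?_⟩
          rw [mul_inv_rev]
          exact hb' _ (ha' s hs)
        inv_mem' := by
          rintro a ⟨ha, ha'⟩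
          exact ⟨ha', by simpa using ha⟩ }
    have hωT : ω ∈ T := by
      refine ⟨hL, ?_⟩
      -- `ω⁻¹ = ω ^ (p^c - 1)`
      have h1 : ω⁻¹ = ω ^ (p ^ c - 1) := by
        have h2 : ω ^ (p ^ c - 1) * ω = 1 := by
          rw [← pow_succ, Nat.sub_add_cancel (Nat.one_le_pow _ _ hp.pos), hω]
        exact inv_eq_of_mul_eq_one_left h2
      rw [h1]
      intro s hs
      have : ∀ n : ℕ, ∀ s ∈ L, (ω ^ n) s ∈ L := by
        intro n
        induction n with
        | zero => intro s hs; simpa using hs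
        | succ n ih =>
          intro s hs
          rw [pow_succ']
          exact hL _ (ih s hs)
      exact this _ s hs
    have : Subgroup.zpowers ω ≤ T := by
      rw [Subgroup.zpowers_le]
      exact hωT
    exact (this hγ).1
  have hdvdL : ∀ L : Subgroup S, (∀ s ∈ L, ω s ∈ L) → p ^ c ∣ Nat.card L - 1 := by
    intro L hL
    rw [← hcardω]
    exact card_dvd_card_sub_one _ L (hinvω L hL) (fun γ hγ hγ1 s _ hs => hfreeω γ hγ hγ1 s hs)
  -- `|S| = 2^(2b)`
  have hs₀pos : 0 < s₀ := by
    by_contra h0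
    have h1 : s₀ = 0 := by omega
    rw [h1, pow_zero] at hS
    have := (Nat.card_eq_one_iff_unique.1 hS).1
    exact hs₁ (Subsingleton.elim _ _)
  have hs₀ : s₀ = 2 * b := by
    apply eq_two_mul_of_dvd hs₀pos hSle
    have h1 := hdvdL ⊤ (fun s _ => Subgroup.mem_top _)
    rw [Subgroup.card_top, hS] at h1
    rw [hP]
    exact h1
  -- invariant subgroups are trivial or everything
  have hL01 : ∀ L : Subgroup S, (∀ s ∈ L, ω s ∈ L) → L = ⊥ ∨ L = ⊤ := by
    intro L hL
    obtain ⟨t, ht, hLt⟩ := card_eq_two_pow_of_dvd (L := L) hS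
    by_cases ht0 : t = 0
    · left
      rw [ht0, pow_zero] at hLt
      exact Subgroup.card_eq_one.1 hLt
    · right
      have h1 := hdvdL L hL
      rw [hLt, ← hP] at h1
      have h2 := eq_two_mul_of_dvd (Nat.pos_of_ne_zero ht0) (ht.trans hSle) h1
      apply Subgroup.eq_top_of_card_eq
      rw [hLt, hS, h2, hs₀]
  by_cases hβω : β ∈ Subgroup.zpowers ω
  · -- `β` is a power of `ω`
    have h1 := pow_mem_zpowers_of_ne_one hp hc hωord hβω hβ1
    obtain ⟨i, hi⟩ := Subgroup.mem_zpowers_iff.1 h1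
    have hfin : IsOfFinOrder β := isOfFinOrder_iff_pow_eq_one.2 ⟨p, hp.pos, hβ⟩
    have h2 : α ∈ Submonoid.powers β := by
      rw [hfin.mem_powers_iff_mem_zpowers]
      exact h1
    obtain ⟨j, hj⟩ := (Submonoid.mem_powers_iff _ _).1 h2
    exact ⟨j, hj.symm⟩
  · exfalso
    -- the group generated by `ω` and `β`
    set Bb : Subgroup (MulAut S) := Subgroup.closure {ω, β} with hBb
    have hωB : ω ∈ Bb := Subgroup.subset_closure (by simp)
    have hβB : β ∈ Bb := Subgroup.subset_closure (by simp)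
    have hgens : ∀ x ∈ ({ω, β} : Set (MulAut S)), ∀ y ∈ ({ω, β} : Set (MulAut S)),
        x * y = y * x := by
      rintro x (hx | hx) y (hy | hy)
      · rw [hx, hy]
      · rw [Set.mem_singleton_iff] at hy
        rw [hx, hy, hcomm]
      · rw [Set.mem_singleton_iff] at hx
        rw [hx, hy, hcomm]
      · rw [Set.mem_singleton_iff] at hx hy
        rw [hx, hy]
    have hBcomm : ∀ x ∈ Bb, ∀ y ∈ Bb, x * y = y * x := by
      intro x hx y hy
      have h := (Subgroup.isMulCommutative_closure hgens).is_comm.comm ⟨x, hx⟩ ⟨y, hy⟩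
      exact congrArg Subtype.val h
    -- `Bb` is a `p`-group
    have hBp : IsPGroup p Bb := by
      rintro ⟨γ, hγ⟩
      refine ⟨c, ?_⟩
      apply Subtype.ext
      show γ ^ p ^ c = 1
      induction hγ using Subgroup.closure_induction with
      | mem x hx =>
        rcases hx with hx | hx
        · rw [hx]; exact hω
        · rw [Set.mem_singleton_iff] at hx
          rw [hx]
          obtain ⟨c', rfl⟩ := Nat.exists_eq_add_of_le hc
          rw [pow_add, pow_one, pow_mul, hβ, one_pow]
      | one => exact one_pow _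
      | mul x y hx hy hx' hy' =>
        have hxy : Commute x y := hBcomm x hx y hy
        rw [hxy.mul_pow, hx', hy', one_mul]
      | inv x _ hx' => rw [inv_pow, hx', inv_one]
    -- freeness of `Bb`
    have hfreeB : ∀ γ ∈ Bb, γ ≠ 1 → ∀ s ∈ (⊤ : Subgroup S), γ s = s → s = 1 := by
      intro γ hγ hγ1 s _ hs
      by_contra hs1
      let L : Subgroup S :=
        { carrier := {s | γ s = s}
          one_mem' := map_one γ
          mul_mem' := by
            intro a b ha hb
            show γ (a * b) = a * b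
            rw [map_mul, ha, hb]
          inv_mem' := by
            intro a ha
            show γ a⁻¹ = a⁻¹
            rw [map_inv, ha] }
      have hLω : ∀ s ∈ L, ω s ∈ L := by
        intro s hs
        show γ (ω s) = ω s
        have h1 : (γ * ω) s = (ω * γ) s := by rw [hBcomm γ hγ ω hωB]
        rw [MulAut.mul_apply, MulAut.mul_apply] at h1
        rw [h1, hs]
      rcases hL01 L hLω with h | h
      · have : s ∈ L := hs
        rw [h, Subgroup.mem_bot] at this
        exact hs1 this
      · apply hγ1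
        ext t
        have : t ∈ L := by rw [h]; exact Subgroup.mem_top _
        exact this
    have hdvdB := card_dvd_card_sub_one Bb ⊤ (fun _ _ s _ => Subgroup.mem_top _) hfreeB
    rw [Subgroup.card_top, hS, hs₀] at hdvdB
    -- `|Bb| ≥ p^(c+1)`
    obtain ⟨e, he⟩ := IsPGroup.iff_card.1 hBp
    have hlt : Subgroup.zpowers ω < Bb := by
      refine lt_of_le_of_ne ?_ ?_
      · rw [Subgroup.zpowers_le]
        exact hωB
      · intro h
        apply hβω
        rw [h]
        exact hβB
    have hcardlt : Nat.card (Subgroup.zpowers ω) < Nat.card Bb := by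
      have h1 : (Subgroup.zpowers ω).subgroupOf Bb < ⊤ := by
        rw [lt_top_iff_ne_top]
        intro h
        rw [Subgroup.subgroupOf_eq_top] at h
        exact absurd (le_antisymm hlt.le h) hlt.ne
      have h2 := Subgroup.card_dvd_of_le hlt.le
      have h3 : Nat.card (Subgroup.zpowers ω) ≠ Nat.card Bb := by
        intro h
        have h4 : Subgroup.zpowers ω = Bb := by
          apply Subgroup.eq_of_le_of_card_ge hlt.le
          rw [h]
        exact hlt.ne h4
      exact lt_of_le_of_ne (Nat.le_of_dvd Nat.card_pos h2) h3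
    rw [hcardω, he] at hcardlt
    have hce : c + 1 ≤ e := by
      have := (Nat.pow_lt_pow_iff_right hp.one_lt).1 hcardlt
      omega
    have h1 : p ^ (c + 1) ∣ 2 ^ (2 * b) - 1 := by
      refine dvd_trans ?_ hdvdB
      rw [he]
      exact pow_dvd_pow p hce
    -- `2^(2b) - 1 = (p^c - 2) p^c`
    have h2 : 2 ^ (2 * b) - 1 = (p ^ c - 2) * p ^ c := by
      rw [← hP]
      have e1 : 2 ^ (2 * b) = 2 ^ b * 2 ^ b := by rw [two_mul, pow_add]
      rw [e1]
      have e2 : 2 ^ b + 1 - 2 = 2 ^ b - 1 := by omega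
      rw [e2]
      obtain ⟨d, hd⟩ := Nat.exists_eq_add_of_le (Nat.one_le_two_pow (n := b))
      rw [hd]
      have e3 : 1 + d - 1 = d := by omega
      rw [e3]
      have e4 : (1 + d) * (1 + d) = d * (1 + d + 1) + 1 := by ring
      rw [e4, Nat.add_sub_cancel]
    rw [h2, pow_succ, mul_comm (p ^ c) p] at h1
    have h3 : p ∣ p ^ c - 2 := by
      have := Nat.dvd_of_mul_dvd_mul_right (pow_pos hp.pos c) h1
      exact this
    have h4 : p ∣ p ^ c := dvd_pow_self p (by omega)
    have h5 : 2 ≤ p ^ c := by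
      calc 2 ≤ p := hp.two_le
        _ = p ^ 1 := (pow_one p).symm
        _ ≤ p ^ c := Nat.pow_le_pow_right hp.pos hc
    have h6 : p ∣ 2 := by
      have h7 : p ^ c - (p ^ c - 2) = 2 := by omega
      rw [← h7]
      exact Nat.dvd_sub h4 h3
    have h7 := (Nat.prime_dvd_prime_iff_eq hp Nat.prime_two).1 h6
    exact hp2 h7

end Cfsg.Agent.Lib.H19.HH
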