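import Mathlib
import Cfsg.Agent.Lib.H19.HHE3
import Cfsg.Agent.Lib.H19.HHE6
import Cfsg.Agent.Lib.H7.HHAb4
import Cfsg.Agent.Lib.H1.CoprimeAction
import Cfsg.Agent.Lib.H1.Complement
import Cfsg.Agent.Lib.H19.HHSub

/-!
# Theorem E: group theoretic lemmas for a single exceptional element (helper19)

* `PairGrp K y` : `y` normalizes `K`, acts coprimely, `K` has class at most two and `y` centralizes
  the centre of `K`.  Then with `E = [K, y]` we have `K = E C_K(y)`, `[E, C_K(y)] = 1`,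
  `E = [E, y]`, `C_E(y) ≤ Z(K)` and `y` acts fixed point freely on `E / Z(E)`.
* `exists_pow_conj_mod_center` : the counting lemma `exists_pow_eq_of_semiregular` transported to
  conjugation automorphisms of `E / Z(E)`.
-/

set_option autoImplicit false
set_option linter.unusedSectionVars false

namespace Cfsg.Agent.Lib.H19.HH

open Cfsg.Agent.Lib.H1
open scoped commutatorElement

variable {Γ : Type*} [Group Γ]

/-- the normalizer of `K` normalizes the centre of `K` -/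
theorem normalizer_le_normalizer_inf_centralizer (K : Subgroup Γ) :
    Subgroup.normalizer (K : Set Γ) ≤
      Subgroup.normalizer ((K ⊓ Subgroup.centralizer (K : Set Γ) : Subgroup Γ) : Set Γ) := by
  intro g hg
  have hg' : g⁻¹ ∈ Subgroup.normalizer (K : Set Γ) := Subgroup.inv_mem _ hg
  have key : ∀ g : Γ, g ∈ Subgroup.normalizer (K : Set Γ) →
      g⁻¹ ∈ Subgroup.normalizer (K : Set Γ) →
      ∀ z ∈ K ⊓ Subgroup.centralizer (K : Set Γ),
        g * z * g⁻¹ ∈ K ⊓ Subgroup.centralizer (K : Set Γ) := by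
    intro g hg hg' z hz
    refine ⟨(Subgroup.mem_normalizer_iff.1 hg z).1 hz.1, ?_⟩
    show g * z * g⁻¹ ∈ Subgroup.centralizer (K : Set Γ)
    rw [Subgroup.mem_centralizer_iff]
    intro y hy
    have hy' : g⁻¹ * y * g ∈ K := by
      have := (Subgroup.mem_normalizer_iff.1 hg' y).1 hy
      simpa using this
    have h1 := Subgroup.mem_centralizer_iff.1 hz.2 _ hy'
    calc y * (g * z * g⁻¹) = g * ((g⁻¹ * y * g) * z) * g⁻¹ := by group
      _ = g * (z * (g⁻¹ * y * g)) * g⁻¹ := by rw [h1]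
      _ = g * z * g⁻¹ * y := by group
  rw [Subgroup.mem_normalizer_iff]
  intro z
  constructor
  · exact key g hg hg' z
  · intro hz
    have := key g⁻¹ hg' (by simpa using hg) _ hz
    have e : g⁻¹ * (g * z * g⁻¹) * g⁻¹⁻¹ = z := by group
    rwa [e] at this

/-- the hypotheses on a single element `y` acting on `K` -/
structure PairGrp (K : Subgroup Γ) (y : Γ) : Prop where
  hyK : y ∈ Subgroup.normalizer (K : Set Γ)
  hcop : (Nat.card (Subgroup.zpowers y)).Coprime (Nat.card K)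
  hcl2 : ⁅K, K⁆ ≤ Subgroup.centralizer (K : Set Γ)
  hyZ : ∀ z ∈ K, (∀ x ∈ K, z * x = x * z) → y * z = z * y

namespace PairGrp

variable [Finite Γ] {K : Subgroup Γ} {y : Γ}

theorem zpowers_le (h : PairGrp K y) : Subgroup.zpowers y ≤ Subgroup.normalizer (K : Set Γ) := by
  rw [Subgroup.zpowers_le]
  exact h.hyK

theorem coprimeAction (h : PairGrp K y) : CoprimeAction (Subgroup.zpowers y) K where
  normalizes := h.zpowers_le
  coprime := h.hcop
  solvable := Or.inl inferInstance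

theorem E_le (h : PairGrp K y) : ⁅K, Subgroup.zpowers y⁆ ≤ K :=
  h.coprimeAction.commutator_le

theorem y_mem_normalizer_E (_h : PairGrp K y) :
    y ∈ Subgroup.normalizer ((⁅K, Subgroup.zpowers y⁆ : Subgroup Γ) : Set Γ) :=
  Subgroup.normalizer_commutator_ge_right K (Subgroup.zpowers y) (Subgroup.mem_zpowers y)

theorem K_le_normalizer_E (_h : PairGrp K y) :
    K ≤ Subgroup.normalizer ((⁅K, Subgroup.zpowers y⁆ : Subgroup Γ) : Set Γ) :=
  Subgroup.normalizer_commutator_ge_left K (Subgroup.zpowers y)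

/-- `K = E C_K(y)` -/
theorem decomp (h : PairGrp K y) {u : Γ} (hu : u ∈ K) :
    ∃ e ∈ ⁅K, Subgroup.zpowers y⁆, ∃ c ∈ K, y * c = c * y ∧ u = e * c := by
  have h1 := coprime_commutator_sup_centralizer h.coprimeAction
  have hu' : u ∈ ⁅K, Subgroup.zpowers y⁆ ⊔
      (K ⊓ Subgroup.centralizer ((Subgroup.zpowers y : Subgroup Γ) : Set Γ)) := by
    rw [h1]; exact hu
  have hnorm : K ⊓ Subgroup.centralizer ((Subgroup.zpowers y : Subgroup Γ) : Set Γ) ≤
      Subgroup.normalizer ((⁅K, Subgroup.zpowers y⁆ : Subgroup Γ) : Set Γ) :=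
    inf_le_left.trans h.K_le_normalizer_E
  obtain ⟨e, he, c, hc, rfl⟩ := mem_sup_of_le_normalizer hnorm hu'
  refine ⟨e, he, c, hc.1, ?_, rfl⟩
  exact Subgroup.mem_centralizer_iff.1 hc.2 y (Subgroup.mem_zpowers y)

/-- `[E, C_K(y)] = 1` -/
theorem comm (h : PairGrp K y) {e c : Γ} (he : e ∈ ⁅K, Subgroup.zpowers y⁆) (hc : c ∈ K)
    (hyc : y * c = c * y) : e * c = c * e := by
  set A := Subgroup.zpowers y with hA
  set C : Subgroup Γ := K ⊓ Subgroup.centralizer ((A : Subgroup Γ) : Set Γ) with hC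
  have hcC : c ∈ C := by
    refine ⟨hc, ?_⟩
    have hle : A ≤ Subgroup.centralizer ({c} : Set Γ) := by
      rw [hA, Subgroup.zpowers_le, Subgroup.mem_centralizer_iff]
      intro x hx
      rw [Set.mem_singleton_iff] at hx
      rw [hx]
      exact hyc.symm
    show c ∈ Subgroup.centralizer ((A : Subgroup Γ) : Set Γ)
    rw [Subgroup.mem_centralizer_iff]
    intro a ha
    exact (Subgroup.mem_centralizer_iff.1 (hle ha) c (Set.mem_singleton c)).symm
  have h1 : ⁅⁅A, C⁆, K⁆ = ⊥ := by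
    have : ⁅A, C⁆ = ⊥ := by
      rw [Subgroup.commutator_comm, Subgroup.commutator_eq_bot_iff_le_centralizer]
      exact inf_le_right
    rw [this, Subgroup.commutator_bot_left]
  have h2 : ⁅⁅C, K⁆, A⁆ = ⊥ := by
    rw [Subgroup.commutator_eq_bot_iff_le_centralizer]
    have h3 : ⁅C, K⁆ ≤ ⁅K, K⁆ := Subgroup.commutator_mono inf_le_left le_rfl
    intro w hw
    have hwKK := h3 hw
    have hwK : w ∈ K := Subgroup.commutator_le_self K hwKK
    have hwc := h.hcl2 hwKK
    have hyw : y * w = w * y := h.hyZ w hwK (fun x hx =>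
      (Subgroup.mem_centralizer_iff.1 hwc x hx).symm)
    have hle : A ≤ Subgroup.centralizer ({w} : Set Γ) := by
      rw [hA, Subgroup.zpowers_le, Subgroup.mem_centralizer_iff]
      intro x hx
      rw [Set.mem_singleton_iff] at hx
      rw [hx]
      exact hyw.symm
    rw [Subgroup.mem_centralizer_iff]
    intro a ha
    exact (Subgroup.mem_centralizer_iff.1 (hle ha) w (Set.mem_singleton w)).symm
  have h3 := Subgroup.commutator_commutator_eq_bot_of_rotate h1 h2
  rw [Subgroup.commutator_eq_bot_iff_le_centralizer] at h3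
  exact (Subgroup.mem_centralizer_iff.1 (h3 he) c hcC).symm

/-- `E = [E, y]` -/
theorem le_closure (h : PairGrp K y) :
    ⁅K, Subgroup.zpowers y⁆ ≤ Subgroup.closure
      {c | ∃ u ∈ ⁅K, Subgroup.zpowers y⁆, c = y * u * y⁻¹ * u⁻¹} := by
  rw [← commutator_zpowers_eq_closure h.y_mem_normalizer_E,
    coprime_commutator_commutator h.coprimeAction]

/-- `C_E(y) ≤ Z(K)` -/
theorem central_of_fixed (h : PairGrp K y) {e : Γ} (he : e ∈ ⁅K, Subgroup.zpowers y⁆)
    (hye : y * e = e * y) : ∀ v ∈ K, e * v = v * e := by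
  intro v hv
  obtain ⟨e', he', c, hc, hyc, rfl⟩ := h.decomp hv
  have h1 : e * c = c * e := h.comm he hc hyc
  have h2 : e' * e = e * e' := h.comm he' (h.E_le he) hye
  calc e * (e' * c) = (e * e') * c := by rw [mul_assoc]
    _ = (e' * e) * c := by rw [h2]
    _ = e' * (e * c) := by rw [mul_assoc]
    _ = e' * (c * e) := by rw [h1]
    _ = e' * c * e := by rw [mul_assoc]

/-- `Z(E) ≤ Z(K)` -/
theorem central_of_central (h : PairGrp K y) {e : Γ} (he : e ∈ ⁅K, Subgroup.zpowers y⁆)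
    (hcen : ∀ v ∈ ⁅K, Subgroup.zpowers y⁆, e * v = v * e) : ∀ v ∈ K, e * v = v * e := by
  intro v hv
  obtain ⟨e', he', c, hc, hyc, rfl⟩ := h.decomp hv
  have h1 : e * c = c * e := h.comm he hc hyc
  have h2 : e * e' = e' * e := hcen e' he'
  calc e * (e' * c) = (e * e') * c := by rw [mul_assoc]
    _ = (e' * e) * c := by rw [h2]
    _ = e' * (e * c) := by rw [mul_assoc]
    _ = e' * (c * e) := by rw [h1]
    _ = e' * c * e := by rw [mul_assoc]

end PairGrp

/-- fixed points of a cyclic coprime action on a quotient lift -/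
theorem exists_fixed_of_cm_mem [Finite Γ] {E N : Subgroup Γ} {a : Γ}
    (hact : CoprimeAction (Subgroup.zpowers a) E) (hNE : N ≤ E)
    (hEN : E ≤ Subgroup.normalizer (N : Set Γ)) (haN : a ∈ Subgroup.normalizer (N : Set Γ))
    {u : Γ} (hu : u ∈ E) (hcm : cm a u ∈ N) :
    ∃ c ∈ E, a * c = c * a ∧ u⁻¹ * c ∈ N := by
  have hAN : Subgroup.zpowers a ≤ Subgroup.normalizer (N : Set Γ) := by
    rw [Subgroup.zpowers_le]; exact haN
  have hpow : ∀ i : ℕ, a ^ i * u * (a ^ i)⁻¹ * u⁻¹ ∈ N := by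
    intro i
    induction i with
    | zero => simp
    | succ i ih =>
      have e1 : a ^ (i + 1) * u * (a ^ (i + 1))⁻¹ * u⁻¹ =
          a * (a ^ i * u * (a ^ i)⁻¹ * u⁻¹) * a⁻¹ * (a * u * a⁻¹ * u⁻¹) := by
        rw [pow_succ']; group
      rw [e1]
      exact N.mul_mem ((Subgroup.mem_normalizer_iff.1 haN _).1 ih) hcm
  have hfix' : ∀ b ∈ Subgroup.zpowers a, b * u * b⁻¹ * u⁻¹ ∈ N := by
    intro b hb
    have hfin : IsOfFinOrder a := isOfFinOrder_of_finite a
    obtain ⟨i, rfl⟩ := (Submonoid.mem_powers_iff _ _).1 (hfin.mem_powers_iff_mem_zpowers.2 hb)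
    exact hpow i
  obtain ⟨c, hc, hkc⟩ := coprime_centralizer_quotient hact hNE hEN hAN hu hfix'
  exact ⟨c, hc.1, Subgroup.mem_centralizer_iff.1 hc.2 a (Subgroup.mem_zpowers a), hkc⟩

/-- an element normalizing `K` and commuting with `y` modulo `C(K)` normalizes `[K, y]` -/
theorem mem_normalizer_commutator_zpowers [Finite Γ] {K : Subgroup Γ} {y n : Γ}
    (hyK : y ∈ Subgroup.normalizer (K : Set Γ)) (hnK : n ∈ Subgroup.normalizer (K : Set Γ))
    (hny : cm n y ∈ Subgroup.centralizer (K : Set Γ)) :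
    n ∈ Subgroup.normalizer ((⁅K, Subgroup.zpowers y⁆ : Subgroup Γ) : Set Γ) := by
  rw [commutator_zpowers_eq_closure hyK]
  set S : Set Γ := {c | ∃ u ∈ K, c = y * u * y⁻¹ * u⁻¹} with hS
  set E := Subgroup.closure S with hE
  have hconj : ∀ e ∈ E, n * e * n⁻¹ ∈ E := by
    intro e he
    induction he using Subgroup.closure_induction with
    | mem c hc =>
      obtain ⟨u, hu, rfl⟩ := hc
      have hu' : n * u * n⁻¹ ∈ K := (Subgroup.mem_normalizer_iff.1 hnK u).1 hu
      have hyu' : y * (n * u * n⁻¹) * y⁻¹ ∈ K := (Subgroup.mem_normalizer_iff.1 hyK _).1 hu'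
      have hd : cm n y * (y * (n * u * n⁻¹) * y⁻¹) = (y * (n * u * n⁻¹) * y⁻¹) * cm n y :=
        (Subgroup.mem_centralizer_iff.1 hny _ hyu').symm
      have e1 : n * (y * u * y⁻¹ * u⁻¹) * n⁻¹ =
          cm n y * (y * (n * u * n⁻¹) * y⁻¹) * (cm n y)⁻¹ * (n * u * n⁻¹)⁻¹ := by
        simp only [cm_def]; group
      rw [e1, hd, mul_assoc _ (cm n y), mul_inv_cancel, mul_one]
      exact Subgroup.subset_closure ⟨n * u * n⁻¹, hu', rfl⟩
    | one => simp
    | mul a b _ _ ha hb =>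
      have : n * (a * b) * n⁻¹ = (n * a * n⁻¹) * (n * b * n⁻¹) := by group
      rw [this]
      exact E.mul_mem ha hb
    | inv a _ ha =>
      have : n * a⁻¹ * n⁻¹ = (n * a * n⁻¹)⁻¹ := by group
      rw [this]
      exact E.inv_mem ha
  have hconj' : ∀ e ∈ E, n⁻¹ * e * n ∈ E := inv_conj_mem_of_conj_mem hconj
  rw [Subgroup.mem_normalizer_iff]
  intro e
  constructor
  · exact hconj e
  · intro he
    have := hconj' _ he
    have e2 : n⁻¹ * (n * e * n⁻¹) * n = e := by group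
    rwa [e2] at this

namespace PairGrp

variable [Finite Γ] {K : Subgroup Γ} {y : Γ}

/-- `y` acts without fixed points on `E / Z(E)` -/
theorem semireg (h : PairGrp K y) {u : Γ} (hu : u ∈ ⁅K, Subgroup.zpowers y⁆)
    (hfix : ∀ v ∈ ⁅K, Subgroup.zpowers y⁆, cm y u * v = v * cm y u) :
    ∀ v ∈ K, u * v = v * u := by
  classical
  set E : Subgroup Γ := ⁅K, Subgroup.zpowers y⁆ with hE
  set N : Subgroup Γ := E ⊓ Subgroup.centralizer (E : Set Γ) with hN
  have hyE : y ∈ Subgroup.normalizer (E : Set Γ) := h.y_mem_normalizer_E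
  have hyN : y ∈ Subgroup.normalizer (N : Set Γ) :=
    normalizer_le_normalizer_inf_centralizer E hyE
  have hAE : Subgroup.zpowers y ≤ Subgroup.normalizer (E : Set Γ) := by
    rw [Subgroup.zpowers_le]; exact hyE
  have hAN : Subgroup.zpowers y ≤ Subgroup.normalizer (N : Set Γ) := by
    rw [Subgroup.zpowers_le]; exact hyN
  have hEN : E ≤ Subgroup.normalizer (N : Set Γ) :=
    Subgroup.le_normalizer.trans (normalizer_le_normalizer_inf_centralizer E)
  have hactE : CoprimeAction (Subgroup.zpowers y) E := h.coprimeAction.mono h.E_le hAE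
  have hcmN : cm y u ∈ N := by
    refine ⟨?_, ?_⟩
    · rw [cm_def]
      exact E.mul_mem ((Subgroup.mem_normalizer_iff.1 hyE u).1 hu) (E.inv_mem hu)
    · show cm y u ∈ Subgroup.centralizer (E : Set Γ)
      rw [Subgroup.mem_centralizer_iff]
      intro v hv
      exact (hfix v hv).symm
  -- all powers of `y`
  have hpow : ∀ i : ℕ, y ^ i * u * (y ^ i)⁻¹ * u⁻¹ ∈ N := by
    intro i
    induction i with
    | zero => simp
    | succ i ih =>
      have e1 : y ^ (i + 1) * u * (y ^ (i + 1))⁻¹ * u⁻¹ =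
          y * (y ^ i * u * (y ^ i)⁻¹ * u⁻¹) * y⁻¹ * (y * u * y⁻¹ * u⁻¹) := by
        rw [pow_succ']; group
      rw [e1]
      exact N.mul_mem ((Subgroup.mem_normalizer_iff.1 hyN _).1 ih) hcmN
  have hfix' : ∀ a ∈ Subgroup.zpowers y, a * u * a⁻¹ * u⁻¹ ∈ N := by
    intro a ha
    have hfin : IsOfFinOrder y := isOfFinOrder_of_finite y
    obtain ⟨i, rfl⟩ := (Submonoid.mem_powers_iff _ _).1 (hfin.mem_powers_iff_mem_zpowers.2 ha)
    exact hpow i
  obtain ⟨c, hc, hkc⟩ := coprime_centralizer_quotient hactE inf_le_left hEN hAN hu hfix'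
  have hyc : y * c = c * y :=
    Subgroup.mem_centralizer_iff.1 hc.2 y (Subgroup.mem_zpowers y)
  have hcK := h.central_of_fixed hc.1 hyc
  have hnK := h.central_of_central hkc.1 (fun v hv =>
    (Subgroup.mem_centralizer_iff.1 hkc.2 v hv).symm)
  intro v hv
  have e1 : u = c * (u⁻¹ * c)⁻¹ := by group
  have h1 : (u⁻¹ * c)⁻¹ * v = v * (u⁻¹ * c)⁻¹ := by
    have := hnK v hv
    calc (u⁻¹ * c)⁻¹ * v = (u⁻¹ * c)⁻¹ * (v * (u⁻¹ * c)) * (u⁻¹ * c)⁻¹ := by group
      _ = (u⁻¹ * c)⁻¹ * ((u⁻¹ * c) * v) * (u⁻¹ * c)⁻¹ := by rw [this]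
      _ = v * (u⁻¹ * c)⁻¹ := by group
  rw [e1]
  calc c * (u⁻¹ * c)⁻¹ * v = c * ((u⁻¹ * c)⁻¹ * v) := by rw [mul_assoc]
    _ = c * (v * (u⁻¹ * c)⁻¹) := by rw [h1]
    _ = (c * v) * (u⁻¹ * c)⁻¹ := by rw [mul_assoc]
    _ = (v * c) * (u⁻¹ * c)⁻¹ := by rw [hcK v hv]
    _ = v * (c * (u⁻¹ * c)⁻¹) := by rw [mul_assoc]

end PairGrp

section SR

variable [Finite Γ]

/-- the automorphism of `E / Z(E)` induced by an element of the normalizer -/
noncomputable def quotCenterAut (E : Subgroup Γ) :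
    ↥(Subgroup.normalizer (E : Set Γ)) →* MulAut (↥E ⧸ Subgroup.center ↥E) :=
  (Cfsg.Agent.Lib.H7.HHAb.autQuotChar ↥E (Subgroup.center ↥E)).comp E.normalizerMonoidHom

theorem quotCenterAut_mk (E : Subgroup Γ) (n : ↥(Subgroup.normalizer (E : Set Γ))) (e : ↥E) :
    quotCenterAut E n (QuotientGroup.mk e) =
      QuotientGroup.mk (⟨(n : Γ) * e * (n : Γ)⁻¹,
        (Subgroup.mem_normalizer_iff.1 n.2 e).1 e.2⟩ : ↥E) := rfl

theorem quotCenterAut_eq_one (E : Subgroup Γ) (n : ↥(Subgroup.normalizer (E : Set Γ)))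
    (hn : (n : Γ) ∈ Subgroup.centralizer (E : Set Γ)) : quotCenterAut E n = 1 := by
  ext s
  induction s using QuotientGroup.induction_on with
  | H e =>
    rw [quotCenterAut_mk, MulAut.one_apply]
    congr 1
    apply Subtype.ext
    show (n : Γ) * e * (n : Γ)⁻¹ = e
    have := Subgroup.mem_centralizer_iff.1 hn e e.2
    rw [← this, mul_assoc, mul_inv_cancel, mul_one]

/-- if `a⁻¹ b` is central then so is `b a⁻¹` -/
theorem central_swap {E : Subgroup Γ} {a b : ↥E} (h : a⁻¹ * b ∈ Subgroup.center ↥E) :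
    ∀ v ∈ E, ((b : Γ) * (a : Γ)⁻¹) * v = v * ((b : Γ) * (a : Γ)⁻¹) := by
  have h1 : ∀ x : ↥E, x * (a⁻¹ * b) = (a⁻¹ * b) * x := fun x =>
    Subgroup.mem_center_iff.1 h x
  have h2 : b * a⁻¹ = a⁻¹ * b := by
    have := h1 a
    calc b * a⁻¹ = (a * (a⁻¹ * b)) * a⁻¹ := by group
      _ = ((a⁻¹ * b) * a) * a⁻¹ := by rw [this]
      _ = a⁻¹ * b := by group
  intro v hv
  have h3 := h1 ⟨v, hv⟩
  rw [← h2] at h3
  have h4 := congrArg Subtype.val h3
  simp only [Subgroup.coe_mul, Subgroup.coe_inv] at h4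
  exact h4.symm

theorem exists_pow_conj_mod_center {p c b s₀ : ℕ} [hpf : Fact p.Prime] (hp2 : p ≠ 2) (hc : 1 ≤ c)
    (hP : 2 ^ b + 1 = p ^ c) {E : Subgroup Γ}
    (hcard : Nat.card (↥E ⧸ Subgroup.center ↥E) = 2 ^ s₀) (hs₀ : s₀ ≤ 2 * b)
    (hnab : ∃ u ∈ E, ∃ v ∈ E, u * v ≠ v * u) {g z : Γ}
    (hgE : g ∈ Subgroup.normalizer (E : Set Γ)) (hzE : z ∈ Subgroup.normalizer (E : Set Γ))
    (hgz : cm g z ∈ Subgroup.centralizer (E : Set Γ))
    (hgpow : g ^ p ^ c ∈ Subgroup.centralizer (E : Set Γ))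
    (hzp : z ^ p ∈ Subgroup.centralizer (E : Set Γ))
    (hsemi : ∀ u ∈ E, (∀ v ∈ E, cm (g ^ p ^ (c - 1)) u * v = v * cm (g ^ p ^ (c - 1)) u) →
      ∀ v ∈ E, u * v = v * u)
    (hznt : ∃ u ∈ E, ∃ v ∈ E, cm z u * v ≠ v * cm z u) :
    ∃ j : ℕ, ∀ e ∈ E, ∀ v ∈ E,
      (g ^ p ^ (c - 1) * e * (g ^ p ^ (c - 1))⁻¹ * (z ^ j * e * (z ^ j)⁻¹)⁻¹) * v =
        v * (g ^ p ^ (c - 1) * e * (g ^ p ^ (c - 1))⁻¹ * (z ^ j * e * (z ^ j)⁻¹)⁻¹) := by
  classical
  set NE : Subgroup Γ := Subgroup.normalizer (E : Set Γ) with hNE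
  let φ := quotCenterAut E
  let gN : ↥NE := ⟨g, hgE⟩
  let zN : ↥NE := ⟨z, hzE⟩
  -- fixed points of the induced automorphisms
  have hfixed : ∀ (n : ↥NE) (u : ↥E), φ n (QuotientGroup.mk u) = QuotientGroup.mk u →
      ∀ v ∈ E, cm (n : Γ) u * v = v * cm (n : Γ) u := by
    intro n u hnu
    rw [quotCenterAut_mk, eq_comm, QuotientGroup.eq] at hnu
    have := central_swap hnu
    intro v hv
    have h1 := this v hv
    simp only [cm_def]
    exact h1
  have hnt : Nontrivial (↥E ⧸ Subgroup.center ↥E) := by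
    obtain ⟨u, hu, v, hv, huv⟩ := hnab
    refine ⟨QuotientGroup.mk (⟨u, hu⟩ : ↥E), 1, ?_⟩
    intro h1
    rw [QuotientGroup.eq_one_iff, Subgroup.mem_center_iff] at h1
    apply huv
    have := congrArg Subtype.val (h1 ⟨v, hv⟩)
    simp only [Subgroup.coe_mul] at this
    exact this.symm
  have hcomm : φ gN * φ zN = φ zN * φ gN := by
    rw [← map_mul, ← map_mul]
    have e1 : gN * zN = (⟨cm g z, by
        rw [cm_def]
        exact NE.mul_mem (NE.mul_mem (NE.mul_mem hgE hzE) (NE.inv_mem hgE)) (NE.inv_mem hzE)⟩ :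
        ↥NE) * (zN * gN) := by
      apply Subtype.ext
      simp only [Subgroup.coe_mul, cm_def, gN, zN]
      group
    rw [e1, map_mul, quotCenterAut_eq_one E _ hgz, one_mul]
  have hω : φ gN ^ p ^ c = 1 := by
    rw [← map_pow]
    apply quotCenterAut_eq_one
    simpa [gN] using hgpow
  have hβ : φ zN ^ p = 1 := by
    rw [← map_pow]
    apply quotCenterAut_eq_one
    simpa [zN] using hzp
  have hα : ∀ s : ↥E ⧸ Subgroup.center ↥E, (φ gN ^ p ^ (c - 1)) s = s → s = 1 := by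
    intro s hs
    induction s using QuotientGroup.induction_on with
    | H u =>
      rw [← map_pow] at hs
      have h1 := hfixed _ u hs
      have h2 : ((gN ^ p ^ (c - 1) : ↥NE) : Γ) = g ^ p ^ (c - 1) := by
        simp [gN]
      rw [h2] at h1
      have h3 := hsemi u u.2 h1
      rw [QuotientGroup.eq_one_iff, Subgroup.mem_center_iff]
      intro x
      apply Subtype.ext
      simp only [Subgroup.coe_mul]
      exact (h3 x x.2).symm
  have hβ1 : φ zN ≠ 1 := by
    intro h1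
    obtain ⟨u, hu, v, hv, huv⟩ := hznt
    apply huv
    have h2 : φ zN (QuotientGroup.mk (⟨u, hu⟩ : ↥E)) = QuotientGroup.mk (⟨u, hu⟩ : ↥E) := by
      rw [h1, MulAut.one_apply]
    exact hfixed zN ⟨u, hu⟩ h2 v hv
  obtain ⟨j, hj⟩ := exists_pow_eq_of_semiregular hp2 hc hP hcard hs₀ (φ gN) (φ zN) hcomm hω hα
    hβ hβ1
  refine ⟨j, ?_⟩
  intro e he v hv
  rw [← map_pow, ← map_pow] at hj
  have h1 := congrArg (fun f => f (QuotientGroup.mk (⟨e, he⟩ : ↥E))) hj
  simp only [φ] at h1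
  rw [quotCenterAut_mk, quotCenterAut_mk, eq_comm, QuotientGroup.eq] at h1
  have h2 := central_swap h1 v hv
  have h3 : ((gN ^ p ^ (c - 1) : ↥NE) : Γ) = g ^ p ^ (c - 1) := by simp [gN]
  have h4 : ((zN ^ j : ↥NE) : Γ) = z ^ j := by simp [zN]
  simp only [h3, h4] at h2
  exact h2

end SR

end Cfsg.Agent.Lib.H19.HH
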