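import Mathlib
import Cfsg.Agent.Lib.H19.HHE4
import Cfsg.Agent.Lib.H19.HHE5
import Cfsg.Agent.Lib.H19.HHE7
import Cfsg.Agent.Lib.H19.HHE8

/-!
# Theorem E: the structure of a single exceptional element (helper19)

`pair_structure` : in the single weight situation, an exceptional element `g` (with
`y = g^(p^(m-1))` not centralizing `K`) forces `K` to be a `2`-group and `y` acts on `K / Z(K)` as
a power of the fixed element `z` on `[K, y] Z(K) / Z(K)` and trivially on `C_K(y) Z(K) / Z(K)`.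
-/

set_option autoImplicit false
set_option linter.unusedSectionVars false
set_option maxHeartbeats 1600000

namespace Cfsg.Agent.Lib.H19.HH

open Module Cfsg.Agent.Lib.H19.ModRep Cfsg.Agent.Lib.H1
open scoped commutatorElement

universe u v

variable {k : Type v} [Field k] {Γ : Type u} [Group Γ] [Finite Γ] {V : Type u} [AddCommGroup V]
  [Module k V] [FiniteDimensional k V]

/-- a `p`-element acts coprimely on a `q`-group -/
theorem coprime_card_zpowers {p q : ℕ} [hpf : Fact p.Prime] (hq : q.Prime) (hqp : q ≠ p)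
    {R K : Subgroup Γ} (hR : IsPGroup p R) (hKq : IsPGroup q K) {y : Γ} (hy : y ∈ R) :
    (Nat.card (Subgroup.zpowers y)).Coprime (Nat.card K) := by
  have : Fact q.Prime := ⟨hq⟩
  obtain ⟨i, hi⟩ := hR ⟨y, hy⟩
  have hyi : y ^ p ^ i = 1 := by
    have := congrArg Subtype.val hi
    simpa using this
  obtain ⟨n, hn⟩ := IsPGroup.iff_card.1 hKq
  rw [Nat.card_zpowers, hn]
  have h1 : orderOf y ∣ p ^ i := orderOf_dvd_of_pow_eq_one hyi
  have h2 : Nat.Coprime (p ^ i) (q ^ n) :=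
    Nat.Coprime.pow i n ((Nat.coprime_primes hpf.out hq).2 (Ne.symm hqp))
  exact Nat.Coprime.coprime_dvd_left h1 h2

theorem pair_structure [IsAlgClosed k] {p q : ℕ} [hpf : Fact p.Prime] [CharP k p] (hp2 : p ≠ 2)
    (hq : q.Prime) (hqp : q ≠ p) {ρ : Representation k Γ V} (hfaith : Function.Injective ρ)
    {R K : Subgroup Γ} (hR : IsPGroup p R) (hKq : IsPGroup q K)
    (hRK : R ≤ Subgroup.normalizer (K : Set Γ))
    (hZs : ∀ z' ∈ K, (∀ x ∈ K, z' * x = x * z') → ∃ c : k, ∀ w : V, ρ z' w = c • w)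
    (hcl2 : ⁅K, K⁆ ≤ Subgroup.centralizer (K : Set Γ)) {z : Γ} (hzR : z ∈ R)
    (hzc : ∀ r ∈ R, cm r z ∈ Subgroup.centralizer (K : Set Γ))
    (hzp : z ^ p ∈ Subgroup.centralizer (K : Set Γ))
    (hCZ : ∀ u ∈ K, z * u = u * z → ∀ v ∈ K, u * v = v * u) {g : Γ} {m : ℕ} (hgR : g ∈ R)
    (hm : 1 ≤ m) (hexc : (ρ g - 1) ^ (p ^ m - 1) = 0)
    (hync : g ^ p ^ (m - 1) ∉ Subgroup.centralizer (K : Set Γ)) :
    q = 2 ∧ ∃ j : ℕ, ∀ u ∈ K, ∃ e ∈ K, ∃ c ∈ K, u = e * c ∧
      g ^ p ^ (m - 1) * c = c * g ^ p ^ (m - 1) ∧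
      ∀ v ∈ K, (g ^ p ^ (m - 1) * e * (g ^ p ^ (m - 1))⁻¹ * (z ^ j * e * (z ^ j)⁻¹)⁻¹) * v =
        v * (g ^ p ^ (m - 1) * e * (g ^ p ^ (m - 1))⁻¹ * (z ^ j * e * (z ^ j)⁻¹)⁻¹) := by
  classical
  have hp : p.Prime := hpf.out
  have hqf : Fact q.Prime := ⟨hq⟩
  set y := g ^ p ^ (m - 1) with hy
  have hyR : y ∈ R := R.pow_mem hgR _
  have hyK : y ∈ Subgroup.normalizer (K : Set Γ) := hRK hyR
  have hgK : g ∈ Subgroup.normalizer (K : Set Γ) := hRK hgR
  have hzK : z ∈ Subgroup.normalizer (K : Set Γ) := hRK hzR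
  -- `R` centralizes the centre of `K`
  have hRZ : ∀ r ∈ R, ∀ z' ∈ K, (∀ x ∈ K, z' * x = x * z') → r * z' = z' * r := by
    intro r _ z' hz' hz'c
    obtain ⟨c, hc⟩ := hZs z' hz' hz'c
    apply hfaith
    rw [map_mul, map_mul]
    apply LinearMap.ext
    intro w
    rw [Module.End.mul_apply, Module.End.mul_apply, hc, hc, map_smul]
  have hpg : PairGrp K y :=
    { hyK := hyK
      hcop := coprime_card_zpowers hq hqp hR hKq hyR
      hcl2 := hcl2
      hyZ := fun z' hz' hz'c => hRZ y hyR z' hz' hz'c }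
  set E : Subgroup Γ := ⁅K, Subgroup.zpowers y⁆ with hE
  have hEK : E ≤ K := hpg.E_le
  have hCKE : Subgroup.centralizer (K : Set Γ) ≤ Subgroup.centralizer (E : Set Γ) :=
    Subgroup.centralizer_le hEK
  -- elements of `R` normalize `E`
  have hcm_inv : ∀ a b : Γ, cm a b = (cm b a)⁻¹ := by
    intro a b
    simp only [cm_def]; group
  have hRE : ∀ r ∈ R, cm r y ∈ Subgroup.centralizer (K : Set Γ) →
      r ∈ Subgroup.normalizer (E : Set Γ) := fun r hr h =>
    mem_normalizer_commutator_zpowers hyK (hRK hr) h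
  have hgy : cm g y = 1 := by
    have : Commute g y := (Commute.refl g).pow_right _
    rw [cm_def, this.eq]; group
  have hgE : g ∈ Subgroup.normalizer (E : Set Γ) := hRE g hgR (by rw [hgy]; exact Subgroup.one_mem _)
  have hzE : z ∈ Subgroup.normalizer (E : Set Γ) := by
    apply hRE z hzR
    rw [hcm_inv]
    exact Subgroup.inv_mem _ (hzc y hyR)
  have hyE : y ∈ Subgroup.normalizer (E : Set Γ) := hpg.y_mem_normalizer_E
  -- `E ≠ ⊥`
  have hEne : E ≠ ⊥ := by
    intro h0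
    apply hync
    rw [Subgroup.mem_centralizer_iff]
    intro u hu
    obtain ⟨e, he, c, _, hyc, rfl⟩ := hpg.decomp hu
    rw [← hE, h0, Subgroup.mem_bot] at he
    rw [he, one_mul]
    exact hyc.symm
  -- the order of `g`
  have hgpm : g ^ p ^ m = 1 := pow_eq_one_of_exceptional hfaith hexc
  have hy1 : y ≠ 1 := by
    intro h1
    apply hync
    rw [h1]
    exact Subgroup.one_mem _
  have hord : orderOf g = p ^ m := by
    obtain ⟨m', rfl⟩ := Nat.exists_eq_add_of_le hm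
    have e1 : 1 + m' - 1 = m' := by omega
    rw [hy, e1] at hy1
    have := orderOf_eq_prime_pow (p := p) (n := m') hy1 (by rw [add_comm m' 1]; exact hgpm)
    rw [add_comm 1 m']
    exact this
  have hKcop : (Nat.card K).Coprime p := by
    obtain ⟨n, hn⟩ := IsPGroup.iff_card.1 hKq
    rw [hn]
    exact Nat.Coprime.pow_left n ((Nat.coprime_primes hq hp).2 hqp)
  have hEk : (Nat.card E : k) ≠ 0 := by
    intro h0
    have h1 := (CharP.cast_eq_zero_iff k p _).1 h0
    have h2 : p ∣ Nat.card K := h1.trans (Subgroup.card_dvd_of_le hEK)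
    exact (Nat.Prime.coprime_iff_not_dvd hp).1 hKcop.symm h2
  have hG1 : ∃ u ∈ E, ρ u ≠ 1 := by
    obtain ⟨e, he1⟩ := (Subgroup.ne_bot_iff_exists_ne_one).1 hEne
    refine ⟨(e : Γ), e.2, fun h => he1 (Subtype.ext (hfaith ?_))⟩
    rw [h, Subgroup.coe_one, map_one]
  obtain ⟨a, W₁, ham, hW₁, hW₁nt, hfr⟩ := thmB_exceptional p ρ E hEk g
    (fun u hu => (Subgroup.mem_normalizer_iff.1 hgE u).1 hu) m hm hord hpg.le_closure hG1
    (fun u hu hyu v hv => hpg.central_of_fixed hu hyu v (hEK hv)) hexc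
  -- `q = 2`
  obtain ⟨b, hb⟩ := qpow_sub q ρ E (hKq.to_le hEK) W₁ hW₁
  set c := m - a with hc
  have hc1 : 1 ≤ c := by omega
  have hpc1 : 1 ≤ p ^ c := Nat.one_le_pow _ _ hp.pos
  have hq2 : q = 2 := by
    have hodd : Odd (p ^ c) := (hp.odd_of_ne_two hp2).pow
    exact eq_two_of_pow_eq hq hodd (by rw [← hb, hfr]) hpc1
  refine ⟨hq2, ?_⟩
  subst hq2
  have hP : 2 ^ b + 1 = p ^ c := by
    rw [← hb, hfr]
    omega
  -- the bound for `E / Z(E)`
  have hWinv : Inv (ρ.comp E.subtype) W₁ := fun g w hw => hW₁.2.1 g g.2 w hw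
  let σ : Representation k ↥E ↥W₁ := sub (ρ.comp E.subtype) W₁ hWinv
  have hσ : ∀ (g : E) (w : W₁), ((σ g w : W₁) : V) = ρ (g : Γ) w := fun g w => rfl
  have hdim : (finrank k W₁ : k) ≠ 0 := by
    rw [hfr]
    have h1 : ((p ^ c - 1 : ℕ) : k) = (p : k) ^ c - 1 := by
      rw [Nat.cast_sub hpc1, Nat.cast_pow, Nat.cast_one]
    rw [h1, CharP.cast_eq_zero k p, zero_pow (by omega), zero_sub]
    exact neg_ne_zero.2 one_ne_zero
  have hsc : ∀ u v : ↥E, u * v ≠ v * u → ∃ ζ : k, ζ ≠ 1 ∧ σ (v * u * v⁻¹) = ζ • σ u := by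
    intro u v huv
    set t : Γ := (v : Γ) * u * (v : Γ)⁻¹ * (u : Γ)⁻¹ with ht
    have htKK : t ∈ ⁅K, K⁆ := Subgroup.commutator_mem_commutator (hEK v.2) (hEK u.2)
    have htK : t ∈ K := Subgroup.commutator_le_self K htKK
    have htc : ∀ x ∈ K, t * x = x * t := fun x hx =>
      (Subgroup.mem_centralizer_iff.1 (hcl2 htKK) x hx).symm
    obtain ⟨ζ, hζ⟩ := hZs t htK htc
    refine ⟨ζ, ?_, ?_⟩
    · intro h1
      apply huv
      have h2 : t = 1 := by
        apply hfaith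
        rw [map_one]
        apply LinearMap.ext
        intro w
        rw [hζ, h1, one_smul, Module.End.one_apply]
      apply Subtype.ext
      simp only [Subgroup.coe_mul]
      have : (v : Γ) * u = t * (u * v) := by rw [ht]; group
      rw [this, h2, one_mul]
    · apply LinearMap.ext
      intro w
      apply Subtype.ext
      rw [hσ, LinearMap.smul_apply, Submodule.coe_smul, hσ]
      have e1 : ((v * u * v⁻¹ : ↥E) : Γ) = t * u := by
        simp only [Subgroup.coe_mul, Subgroup.coe_inv, ht]; group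
      rw [e1, map_mul, Module.End.mul_apply, hζ]
  have hcardle := card_quot_center_le σ hdim hsc
  rw [hb] at hcardle
  have hE2 : IsPGroup 2 ↥E := hKq.to_le hEK
  obtain ⟨s₀, hs₀⟩ := IsPGroup.iff_card.1 (hE2.to_quotient (Subgroup.center ↥E))
  have hs₀le : s₀ ≤ 2 * b := by
    rw [hs₀, ← pow_mul, mul_comm] at hcardle
    exact (Nat.pow_le_pow_iff_right (by norm_num)).1 hcardle
  -- `E` is not abelian
  have hnab : ∃ u ∈ E, ∃ v ∈ E, u * v ≠ v * u := by
    by_contra hab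
    push Not at hab
    apply hEne
    rw [eq_bot_iff]
    refine hpg.le_closure.trans ?_
    rw [Subgroup.closure_le]
    rintro x ⟨u, hu, rfl⟩
    have hucen := hpg.central_of_central hu (fun v hv => hab u hu v hv)
    have hyu : y * u = u * y := hRZ y hyR u (hEK hu) hucen
    rw [SetLike.mem_coe, Subgroup.mem_bot, hyu]
    group
  -- the powers
  have hpow1 : (g ^ p ^ a) ^ p ^ (c - 1) = y := by
    rw [← pow_mul, ← pow_add, hy]
    congr 2
    omega
  have hpow2 : (g ^ p ^ a) ^ p ^ c = 1 := by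
    rw [← pow_mul, ← pow_add]
    have : a + c = m := by omega
    rw [this, hgpm]
  have hactz : CoprimeAction (Subgroup.zpowers z) E :=
    { normalizes := by rw [Subgroup.zpowers_le]; exact hzE
      coprime := Nat.Coprime.coprime_dvd_right (Subgroup.card_dvd_of_le hEK)
        (coprime_card_zpowers hq hqp hR hKq hzR)
      solvable := Or.inl inferInstance }
  have hENn : E ≤ Subgroup.normalizer ((E ⊓ Subgroup.centralizer (E : Set Γ) : Subgroup Γ) : Set Γ) :=
    Subgroup.le_normalizer.trans (normalizer_le_normalizer_inf_centralizer E)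
  have hznt : ∃ u ∈ E, ∃ v ∈ E, cm z u * v ≠ v * cm z u := by
    by_contra hall
    push Not at hall
    obtain ⟨u, hu, v, hv, huv⟩ := hnab
    apply huv
    have hcmN : cm z u ∈ E ⊓ Subgroup.centralizer (E : Set Γ) := by
      refine ⟨?_, ?_⟩
      · rw [cm_def]
        exact E.mul_mem ((Subgroup.mem_normalizer_iff.1 hzE u).1 hu) (E.inv_mem hu)
      · show cm z u ∈ Subgroup.centralizer (E : Set Γ)
        rw [Subgroup.mem_centralizer_iff]
        intro v hv
        exact (hall u hu v hv).symm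
    obtain ⟨c', hc'E, hzc', hn⟩ := exists_fixed_of_cm_mem hactz inf_le_left hENn
      (normalizer_le_normalizer_inf_centralizer E hzE) hu hcmN
    have h1 : c' * v = v * c' := hCZ c' (hEK hc'E) hzc' v (hEK hv)
    have h2 : (u⁻¹ * c') * v = v * (u⁻¹ * c') :=
      (Subgroup.mem_centralizer_iff.1 hn.2 v hv).symm
    have e1 : u = c' * (u⁻¹ * c')⁻¹ := by group
    have h3 : (u⁻¹ * c')⁻¹ * v = v * (u⁻¹ * c')⁻¹ := by
      calc (u⁻¹ * c')⁻¹ * v = (u⁻¹ * c')⁻¹ * (v * (u⁻¹ * c')) * (u⁻¹ * c')⁻¹ := by group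
        _ = (u⁻¹ * c')⁻¹ * ((u⁻¹ * c') * v) * (u⁻¹ * c')⁻¹ := by rw [h2]
        _ = v * (u⁻¹ * c')⁻¹ := by group
    rw [e1]
    calc c' * (u⁻¹ * c')⁻¹ * v = c' * ((u⁻¹ * c')⁻¹ * v) := by rw [mul_assoc]
      _ = c' * (v * (u⁻¹ * c')⁻¹) := by rw [h3]
      _ = (c' * v) * (u⁻¹ * c')⁻¹ := by rw [mul_assoc]
      _ = (v * c') * (u⁻¹ * c')⁻¹ := by rw [h1]
      _ = v * (c' * (u⁻¹ * c')⁻¹) := by rw [mul_assoc]
  obtain ⟨j, hj⟩ := exists_pow_conj_mod_center (p := p) (c := c) (b := b) (s₀ := s₀) hp2 hc1 hP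
    hs₀ hs₀le hnab (Subgroup.pow_mem _ hgE _) hzE (hCKE (hzc _ (R.pow_mem hgR _)))
    (by rw [hpow2]; exact Subgroup.one_mem _) (hCKE hzp)
    (by
      rw [hpow1]
      intro u hu hfix v hv
      exact hpg.semireg hu hfix v (hEK hv))
    hznt
  rw [hpow1] at hj
  refine ⟨j, ?_⟩
  intro u hu
  obtain ⟨e, he, c', hc', hyc', rfl⟩ := hpg.decomp hu
  refine ⟨e, hEK he, c', hc', rfl, hyc', ?_⟩
  have hzjE : z ^ j ∈ Subgroup.normalizer (E : Set Γ) := Subgroup.pow_mem _ hzE _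
  have htE : y * e * y⁻¹ * (z ^ j * e * (z ^ j)⁻¹)⁻¹ ∈ E :=
    E.mul_mem ((Subgroup.mem_normalizer_iff.1 hyE e).1 he)
      (E.inv_mem ((Subgroup.mem_normalizer_iff.1 hzjE e).1 he))
  exact hpg.central_of_central htE (fun v hv => hj e he v hv)

end Cfsg.Agent.Lib.H19.HH
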