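import Mathlib
import Cfsg.Agent.Lib.H19.HHE9
import Cfsg.Agent.Lib.H19.HHE11
import Cfsg.Agent.Lib.H1.PGroupBasic

/-!
# Theorem E (helper19)

`eGeneral` : over an algebraically closed field `k` of odd characteristic `p`, let `R` be a
`p`-subgroup of a finite group `Γ` normalizing the `p'`-subgroup `K`, `U` a `K`- and `R`-invariant
subspace of a representation and `X` an `R`-invariant family of pairs `(g, m)`, `g ∈ R`, `m ≥ 1`,
with `(g - 1)^(p^m - 1) = 0` on `U` (exceptional elements).  Then the commutators of the elements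
`g^(p^(m-1))` commute with `K` on `U`.
-/

set_option autoImplicit false
set_option linter.unusedSectionVars false
set_option maxHeartbeats 1600000

namespace Cfsg.Agent.Lib.H19.HH

open Module Cfsg.Agent.Lib.H19.ModRep Cfsg.Agent.Lib.H1
open scoped commutatorElement

universe u v

section groups

variable {G : Type*} [Group G]

theorem le_normalizer_closure_of_conj_mem {R : Subgroup G} {S : Set G}
    (h : ∀ r ∈ R, ∀ s ∈ S, r * s * r⁻¹ ∈ S) :
    R ≤ Subgroup.normalizer ((Subgroup.closure S : Subgroup G) : Set G) := by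
  have key : ∀ r ∈ R, ∀ x ∈ Subgroup.closure S, r * x * r⁻¹ ∈ Subgroup.closure S := by
    intro r hr x hx
    induction hx using Subgroup.closure_induction with
    | mem s hs => exact Subgroup.subset_closure (h r hr s hs)
    | one => simp
    | mul a b _ _ ha hb =>
      have : r * (a * b) * r⁻¹ = (r * a * r⁻¹) * (r * b * r⁻¹) := by group
      rw [this]
      exact Subgroup.mul_mem _ ha hb
    | inv a _ ha =>
      have : r * a⁻¹ * r⁻¹ = (r * a * r⁻¹)⁻¹ := by group
      rw [this]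
      exact Subgroup.inv_mem _ ha
  intro r hr
  rw [Subgroup.mem_normalizer_iff]
  intro x
  constructor
  · exact key r hr x
  · intro hx
    have := key r⁻¹ (R.inv_mem hr) _ hx
    have e : r⁻¹ * (r * x * r⁻¹) * r⁻¹⁻¹ = x := by group
    rwa [e] at this

theorem normalizer_le_normalizer_centralizer (K : Subgroup G) :
    Subgroup.normalizer (K : Set G) ≤
      Subgroup.normalizer ((Subgroup.centralizer (K : Set G) : Subgroup G) : Set G) := by
  have key : ∀ n ∈ Subgroup.normalizer (K : Set G), ∀ c ∈ Subgroup.centralizer (K : Set G),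
      n * c * n⁻¹ ∈ Subgroup.centralizer (K : Set G) := by
    intro n hn c hc
    rw [Subgroup.mem_centralizer_iff]
    intro x hx
    have hx' : n⁻¹ * x * n ∈ K := by
      have := (Subgroup.mem_normalizer_iff.1 (Subgroup.inv_mem _ hn) x).1 hx
      simpa using this
    have h1 := Subgroup.mem_centralizer_iff.1 hc _ hx'
    calc x * (n * c * n⁻¹) = n * ((n⁻¹ * x * n) * c) * n⁻¹ := by group
      _ = n * (c * (n⁻¹ * x * n)) * n⁻¹ := by rw [h1]
      _ = n * c * n⁻¹ * x := by group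
  intro n hn
  rw [Subgroup.mem_normalizer_iff]
  intro c
  constructor
  · exact key n hn c
  · intro hc
    have := key n⁻¹ (Subgroup.inv_mem _ hn) _ hc
    have e : n⁻¹ * (n * c * n⁻¹) * n⁻¹⁻¹ = c := by group
    rwa [e] at this

variable [Finite G] {p : ℕ} [hp : Fact p.Prime] {B A K : Subgroup G}

/-- in a minimal configuration with `K` a `2`-group the squares are central -/
theorem MinConf.sq_central (h : MinConf B A K) (hB : IsPGroup p B) (hAB : A ≤ B)
    (hBA : B ≤ Subgroup.normalizer (A : Set G)) (hcop : (Nat.card K).Coprime p)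
    (hK2 : IsPGroup 2 K) : ∀ u ∈ K, ∀ v ∈ K, (u * u) * v = v * (u * u) := by
  set S : Set G := {c | ∃ u ∈ K, c = u * u} with hS
  set L := Subgroup.closure S with hL
  have hLK : L ≤ K := by
    rw [hL, Subgroup.closure_le]
    rintro _ ⟨u, hu, rfl⟩
    exact K.mul_mem hu hu
  have hconj : ∀ T : Subgroup G, T ≤ Subgroup.normalizer (K : Set G) →
      T ≤ Subgroup.normalizer (L : Set G) := by
    intro T hT
    apply le_normalizer_closure_of_conj_mem
    rintro r hr _ ⟨u, hu, rfl⟩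
    refine ⟨r * u * r⁻¹, (Subgroup.mem_normalizer_iff.1 (hT hr) u).1 hu, ?_⟩
    group
  have hne : L ≠ K := by
    intro hLeq
    have hnt : Nontrivial K := (Subgroup.nontrivial_iff_ne_bot K).2 h.ne_bot
    have hfr : frattini ↥K ≠ ⊤ := by
      intro h0
      have h1 : (⊥ : Subgroup ↥K) ⊔ frattini ↥K = ⊤ := by rw [h0, sup_top_eq]
      exact bot_ne_top (frattini_nongenerating h1)
    apply hfr
    rw [eq_top_iff]
    intro x _
    have hle : L ≤ (frattini ↥K).map K.subtype := by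
      rw [hL, Subgroup.closure_le]
      rintro _ ⟨u, hu, rfl⟩
      have : Fact (Nat.Prime 2) := ⟨Nat.prime_two⟩
      have h2 := isPGroup_pow_mem_frattini hK2 (⟨u, hu⟩ : ↥K)
      refine ⟨_, h2, ?_⟩
      simp [sq]
    have hx : (x : G) ∈ L := by rw [hLeq]; exact x.2
    obtain ⟨f, hf, hfx⟩ := hle hx
    have : f = x := Subtype.ext hfx
    rw [← this]
    exact hf
  have hLc := h.le_centralizer_of_normal hB hAB hBA hcop hLK (hconj K Subgroup.le_normalizer)
    (hconj B h.hBK) hne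
  intro u hu v hv
  have : u * u ∈ L := Subgroup.subset_closure ⟨u, hu, rfl⟩
  exact (Subgroup.mem_centralizer_iff.1 (hLc this) v hv).symm

end groups

variable {k : Type v} [Field k]

theorem e_faithful [IsAlgClosed k] {p : ℕ} [hpf : Fact p.Prime] [CharP k p] (hp2 : p ≠ 2) {d : ℕ}
    (IH : ∀ d' < d, EGeneral.{u, v} k p d') {Γ : Type u} [Group Γ] [Finite Γ] {V : Type u}
    [AddCommGroup V] [Module k V] [FiniteDimensional k V] {ρ : Representation k Γ V}
    (hfaith : Function.Injective ρ) (hd : finrank k V = d) {R K₀ : Subgroup Γ}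
    {X : Γ → ℕ → Prop} (hdata : EData p ρ ⊤ R K₀ X) :
    ∀ g₁ m₁ g₂ m₂, X g₁ m₁ → X g₂ m₂ →
      cm (g₁ ^ p ^ (m₁ - 1)) (g₂ ^ p ^ (m₂ - 1)) ∈ Subgroup.centralizer (K₀ : Set Γ) := by
  classical
  have hp : p.Prime := hpf.out
  set S : Set Γ := {y | ∃ g m, X g m ∧ y = g ^ p ^ (m - 1)} with hS
  set Y := Subgroup.closure S with hY
  set A : Subgroup Γ := ⁅Y, Y⁆ with hA
  have hSR : ∀ y ∈ S, y ∈ R := by
    rintro _ ⟨g, m, hX, rfl⟩
    exact R.pow_mem (hdata.hXR g m hX) _
  have hYR : Y ≤ R := (Subgroup.closure_le _).2 hSR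
  have hAR : A ≤ R := (Subgroup.commutator_le_self Y).trans hYR
  have hRY : R ≤ Subgroup.normalizer (Y : Set Γ) := by
    apply le_normalizer_closure_of_conj_mem
    rintro r hr _ ⟨g, m, hX, rfl⟩
    exact ⟨r * g * r⁻¹, m, hdata.hXc g m hX r hr, conj_pow.symm⟩
  have hRA : R ≤ Subgroup.normalizer (A : Set Γ) := le_normalizer_commutator hRY hRY
  have hcmA : ∀ g₁ m₁ g₂ m₂, X g₁ m₁ → X g₂ m₂ →
      cm (g₁ ^ p ^ (m₁ - 1)) (g₂ ^ p ^ (m₂ - 1)) ∈ A := by
    intro g₁ m₁ g₂ m₂ hX₁ hX₂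
    exact Subgroup.commutator_mem_commutator (Subgroup.subset_closure ⟨g₁, m₁, hX₁, rfl⟩)
      (Subgroup.subset_closure ⟨g₂, m₂, hX₂, rfl⟩)
  intro g₁ m₁ g₂ m₂ hX₁ hX₂
  by_contra hcon
  have hnc : ¬ K₀ ≤ Subgroup.centralizer (A : Set Γ) := by
    intro hle
    apply hcon
    rw [Subgroup.mem_centralizer_iff]
    intro u hu
    exact (Subgroup.mem_centralizer_iff.1 (hle hu) _ (hcmA g₁ m₁ g₂ m₂ hX₁ hX₂)).symm
  obtain ⟨K, hKK₀, hmc⟩ := exists_minConf hdata.hRK hnc
  have hcop : (Nat.card K).Coprime p :=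
    Nat.Coprime.coprime_dvd_left (Subgroup.card_dvd_of_le hKK₀) hdata.hK
  have hdataK : EData p ρ ⊤ R K X :=
    { hR := hdata.hR
      hK := hcop
      hRK := hmc.hBK
      hUK := fun _ _ _ _ => Submodule.mem_top
      hUR := hdata.hUR
      hXR := hdata.hXR
      hXm := hdata.hXm
      hXe := hdata.hXe
      hXc := hdata.hXc }
  -- it suffices to show that all the commutators centralize `K`
  suffices hall : ∀ g₁ m₁ g₂ m₂, X g₁ m₁ → X g₂ m₂ →
      cm (g₁ ^ p ^ (m₁ - 1)) (g₂ ^ p ^ (m₂ - 1)) ∈ Subgroup.centralizer (K : Set Γ) by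
    apply hmc.hnc
    have hAle : A ≤ Subgroup.centralizer (K : Set Γ) := by
      apply commutator_closure_le
      · exact hYR.trans (hmc.hBK.trans (normalizer_le_normalizer_centralizer K))
      · rintro _ ⟨g, m, hX, rfl⟩ _ ⟨g', m', hX', rfl⟩
        exact hall g m g' m' hX hX'
    intro u hu
    rw [Subgroup.mem_centralizer_iff]
    intro a ha
    exact (Subgroup.mem_centralizer_iff.1 (hAle ha) u hu).symm
  obtain ⟨q, hq, hqp, hKq⟩ := hmc.exists_isPGroup hdata.hR hcop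
  rcases e_weights IH hfaith hd hdataK with ⟨χ, hχ⟩ | hcen
  swap
  · exact hcen
  -- central elements of `K` are scalar
  have hZs : ∀ z ∈ K, (∀ x ∈ K, z * x = x * z) → ∃ c : k, ∀ w : V, ρ z w = c • w := by
    intro z hz hzc
    have hzZ : z ∈ K ⊓ Subgroup.centralizer (K : Set Γ) :=
      ⟨hz, Subgroup.mem_centralizer_iff.2 (fun x hx => (hzc x hx).symm)⟩
    refine ⟨χ ⟨z, hzZ⟩, fun w => ?_⟩
    have hw : w ∈ wt ρ (K ⊓ Subgroup.centralizer (K : Set Γ)) χ := by
      rw [hχ]; exact Submodule.mem_top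
    exact (mem_wt ρ _).1 hw ⟨z, hzZ⟩
  have hcl2 : ⁅K, K⁆ ≤ Subgroup.centralizer (K : Set Γ) :=
    hmc.commutator_self_le hdata.hR hAR hRA hcop
  -- `R` centralizes the centre of `K`
  have hRZ : ∀ r ∈ R, ∀ z' ∈ K, (∀ x ∈ K, z' * x = x * z') → r * z' = z' * r := by
    intro r _ z' hz' hz'c
    obtain ⟨c, hc⟩ := hZs z' hz' hz'c
    apply hfaith
    rw [map_mul, map_mul]
    apply LinearMap.ext
    intro w
    rw [Module.End.mul_apply, Module.End.mul_apply, hc, hc, map_smul]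
  -- the element `z`
  obtain ⟨z, hzA, hznc, hzp, hzcen⟩ := hmc.exists_central' hdata.hR hAR hRA
  have hzR : z ∈ R := hAR hzA
  have hzc : ∀ r ∈ R, cm r z ∈ Subgroup.centralizer (K : Set Γ) := fun r hr => (hzcen r hr).2
  obtain ⟨jz, hjz⟩ := hdata.hR ⟨z, hzR⟩
  have hzpj : z ^ p ^ jz = 1 := by
    have := congrArg Subtype.val hjz
    simpa using this
  have hcl := hmc.le_closure' hq hqp.symm hKq hAR hzA hznc hzpj hzcen
  have hCZ := hmc.centralizer_le_center hdata.hR hcop hzA hcl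
  have hexcV : ∀ g m, X g m → (ρ g - 1) ^ (p ^ m - 1) = 0 := by
    intro g m hX
    apply LinearMap.ext
    intro x
    exact hdata.hXe g m hX x Submodule.mem_top
  by_cases hallc : ∀ g m, X g m → g ^ p ^ (m - 1) ∈ Subgroup.centralizer (K : Set Γ)
  · intro g₁ m₁ g₂ m₂ hX₁ hX₂
    rw [cm_def]
    have h1 := hallc g₁ m₁ hX₁
    have h2 := hallc g₂ m₂ hX₂
    exact Subgroup.mul_mem _ (Subgroup.mul_mem _ (Subgroup.mul_mem _ h1 h2)
      (Subgroup.inv_mem _ h1)) (Subgroup.inv_mem _ h2)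
  push Not at hallc
  obtain ⟨g₀, m₀, hX₀, hy₀⟩ := hallc
  have hq2 : q = 2 := (pair_structure hp2 hq hqp hfaith hdata.hR hKq hmc.hBK hZs hcl2 hzR hzc hzp
    hCZ (hdata.hXR g₀ m₀ hX₀) (hdata.hXm g₀ m₀ hX₀) (hexcV g₀ m₀ hX₀) hy₀).1
  subst hq2
  -- the structure of every pair
  have hact : ∀ g m, X g m → ActsLike K z (g ^ p ^ (m - 1)) := by
    intro g m hX
    by_cases hyc : g ^ p ^ (m - 1) ∈ Subgroup.centralizer (K : Set Γ)
    · exact actsLike_of_centralizes z hyc
    · exact (pair_structure hp2 hq hqp hfaith hdata.hR hKq hmc.hBK hZs hcl2 hzR hzc hzp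
        hCZ (hdata.hXR g m hX) (hdata.hXm g m hX) (hexcV g m hX) hyc).2
  -- the commutators of `K`
  have hsq := hmc.sq_central hdata.hR hAR hRA hcop hKq
  have hcmK : ∀ u ∈ K, ∀ v ∈ K, cm u v ∈ K := fun u hu v hv => by
    rw [cm_def]
    exact K.mul_mem (K.mul_mem (K.mul_mem hu hv) (K.inv_mem hu)) (K.inv_mem hv)
  have hcmc : ∀ u ∈ K, ∀ v ∈ K, ∀ x ∈ K, cm u v * x = x * cm u v := by
    intro u hu v hv x hx
    have h1 : cm u v ∈ ⁅K, K⁆ := by
      rw [cm_def]
      exact Subgroup.commutator_mem_commutator hu hv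
    exact (Subgroup.mem_centralizer_iff.1 (hcl2 h1) x hx).symm
  have hcmsq : ∀ u ∈ K, ∀ v ∈ K, cm u v * cm u v = 1 := by
    intro u hu v hv
    have h1 := hcmc u hu v hv u hu
    have h2 : cm (u * u) v = cm u v * cm u v := by
      calc cm (u * u) v = (u * cm u v) * u⁻¹ * cm u v := by simp only [cm_def]; group
        _ = (cm u v * u) * u⁻¹ * cm u v := by rw [h1]
        _ = cm u v * cm u v := by group
    rw [← h2, cm_def]
    have h3 := hsq u hu v hv
    rw [h3]
    group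
  have hρcm : ∀ u ∈ K, ∀ v ∈ K, cm u v ≠ 1 → ρ (cm u v) = -1 := by
    intro u hu v hv hne
    obtain ⟨c, hc⟩ := hZs _ (hcmK u hu v hv) (hcmc u hu v hv)
    have hρ : ρ (cm u v) = c • (1 : Module.End k V) := by
      apply LinearMap.ext
      intro w
      rw [hc, LinearMap.smul_apply, Module.End.one_apply]
    have hc2 : c * c = 1 := by
      have h1 : ρ (cm u v * cm u v) = 1 := by rw [hcmsq u hu v hv, map_one]
      rw [map_mul, hρ, smul_mul_smul_comm, mul_one] at h1
      obtain ⟨w, hw⟩ : ∃ w : V, w ≠ 0 := by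
        by_contra hall0
        push Not at hall0
        apply hne
        apply hfaith
        apply LinearMap.ext
        intro w
        rw [hall0 w, map_zero, map_zero]
      have h2 := congrArg (fun T : Module.End k V => T w) h1
      simp only [LinearMap.smul_apply, Module.End.one_apply] at h2
      have h3 : (c * c - 1) • w = 0 := by rw [sub_smul, one_smul, h2, sub_self]
      rcases smul_eq_zero.1 h3 with h4 | h4
      · exact sub_eq_zero.1 h4
      · exact absurd h4 hw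
    rcases mul_self_eq_one_iff.1 hc2 with h1 | h1
    · exfalso
      apply hne
      apply hfaith
      rw [hρ, h1, one_smul, map_one]
    · rw [hρ, h1, neg_smul, one_smul]
  obtain ⟨t, ht, hcmt⟩ : ∃ t : Γ, t * t = 1 ∧ ∀ u ∈ K, ∀ v ∈ K, cm u v = 1 ∨ cm u v = t := by
    by_cases hex : ∃ u ∈ K, ∃ v ∈ K, cm u v ≠ 1
    · obtain ⟨u₀, hu₀, v₀, hv₀, hne₀⟩ := hex
      refine ⟨cm u₀ v₀, hcmsq u₀ hu₀ v₀ hv₀, ?_⟩
      intro u hu v hv
      by_cases h1 : cm u v = 1
      · exact Or.inl h1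
      · right
        apply hfaith
        rw [hρcm u hu v hv h1, hρcm u₀ hu₀ v₀ hv₀ hne₀]
    · push Not at hex
      exact ⟨1, one_mul 1, fun u hu v hv => Or.inl (hex u hu v hv)⟩
  -- the end game
  intro g₁ m₁ g₂ m₂ hX₁ hX₂
  set y₁ := g₁ ^ p ^ (m₁ - 1) with hy₁
  set y₂ := g₂ ^ p ^ (m₂ - 1) with hy₂
  have hy₁R : y₁ ∈ R := R.pow_mem (hdata.hXR g₁ m₁ hX₁) _
  have hy₂R : y₂ ∈ R := R.pow_mem (hdata.hXR g₂ m₂ hX₂) _
  have hmod := commute_mod_center hp2 hdata.hR hmc.hBK hcl2 ht hcmt hzR hzc hy₁R hy₂R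
    (hact g₁ m₁ hX₁) (hact g₂ m₂ hX₂)
  set w := cm y₁ y₂ with hw
  have hwR : w ∈ R := by
    rw [hw, cm_def]
    exact R.mul_mem (R.mul_mem (R.mul_mem hy₁R hy₂R) (R.inv_mem hy₁R)) (R.inv_mem hy₂R)
  have hwK : ∀ u ∈ K, w * u * w⁻¹ ∈ K := fun u hu =>
    (Subgroup.mem_normalizer_iff.1 (hmc.hBK hwR) u).1 hu
  obtain ⟨jw, hjw⟩ := hdata.hR ⟨w, hwR⟩
  have hwpj : w ^ p ^ jw = 1 := by
    have := congrArg Subtype.val hjw
    simpa using this
  have hwcomm : ∀ u ∈ K, w * (w * u * w⁻¹ * u⁻¹) = (w * u * w⁻¹ * u⁻¹) * w := by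
    intro u hu
    have h1 : w * u * w⁻¹ * u⁻¹ ∈ K := K.mul_mem (hwK u hu) (K.inv_mem hu)
    exact hRZ w hwR _ h1 (fun x hx => hmod u hu x hx)
  have hfin := commute_of_commute_commutators' hp hq (Ne.symm hqp) hKq hwpj hwK hwcomm
  rw [Subgroup.mem_centralizer_iff]
  intro u hu
  exact (hfin u hu).symm

end Cfsg.Agent.Lib.H19.HH
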