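import Mathlib
import Cfsg.Agent.Lib.H19.HHE12

/-!
# Theorem E, general form (helper19)

`eGeneral` : `EGeneral k p d` for all `d` (reduction to the faithful case as in `qGeneral`).
-/

set_option autoImplicit false
set_option linter.unusedSectionVars false
set_option maxHeartbeats 1600000

namespace Cfsg.Agent.Lib.H19.HH

open Module Cfsg.Agent.Lib.H19.ModRep

universe u v

variable {k : Type v} [Field k]

theorem eGeneral_of_faithful [IsAlgClosed k] {p : ℕ} [hpf : Fact p.Prime] [CharP k p]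
    (hp2 : p ≠ 2) {d : ℕ} (IH : ∀ d' < d, EGeneral.{u, v} k p d') : EGeneral.{u, v} k p d := by
  intro Γ _ _ V _ _ _ ρ U R K X hd hdata
  classical
  set Γ₁ : Subgroup Γ := K ⊔ R with hΓ₁
  have hKΓ₁ : K ≤ Γ₁ := le_sup_left
  have hRΓ₁ : R ≤ Γ₁ := le_sup_right
  have hUinv : Inv (ρ.comp Γ₁.subtype) U := by
    intro g w hw
    have hg : (g : Γ) ∈ Γ₁ := g.2
    have hstab : Γ₁ ≤ stab ρ U := by
      rw [hΓ₁]
      apply sup_le
      · intro x hx
        exact hdata.hUK x hx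
      · intro x hx
        exact hdata.hUR x hx
    exact hstab hg w hw
  let σ : Representation k ↥Γ₁ ↥U := sub (ρ.comp Γ₁.subtype) U hUinv
  have hσ : ∀ (g : Γ₁) (w : U), ((σ g w : U) : V) = ρ (g : Γ) w := fun g w => rfl
  have hσ1 : ∀ (g : Γ₁) (w : U), (((σ g - 1) w : U) : V) = (ρ (g : Γ) - 1) (w : V) := by
    intro g w
    simp only [LinearMap.sub_apply, Module.End.one_apply, Submodule.coe_sub, hσ]
  have hσpow : ∀ (g : Γ₁) (N : ℕ) (w : U),
      ((((σ g - 1) ^ N) w : U) : V) = ((ρ (g : Γ) - 1) ^ N) (w : V) := by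
    intro g N
    induction N with
    | zero => intro w; simp
    | succ N ih =>
      intro w
      rw [pow_succ, Module.End.mul_apply, ih, hσ1, pow_succ, Module.End.mul_apply]
  let N : Subgroup ↥Γ₁ := MonoidHom.ker (σ : ↥Γ₁ →* Module.End k ↥U)
  let π : ↥Γ₁ →* ↥Γ₁ ⧸ N := QuotientGroup.mk' N
  let ρ' : Representation k (↥Γ₁ ⧸ N) ↥U := QuotientGroup.lift N σ le_rfl
  have hρ' : ∀ g : Γ₁, ρ' (π g) = σ g := fun g => rfl
  have hπ : Function.Surjective π := QuotientGroup.mk'_surjective N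
  have hfaith : Function.Injective ρ' := by
    intro x y hxy
    obtain ⟨g, rfl⟩ := hπ x
    obtain ⟨h, rfl⟩ := hπ y
    rw [hρ', hρ'] at hxy
    show (QuotientGroup.mk g : ↥Γ₁ ⧸ N) = QuotientGroup.mk h
    rw [QuotientGroup.eq]
    show σ (g⁻¹ * h) = 1
    rw [map_mul, ← hxy, ← map_mul, inv_mul_cancel, map_one]
  set R₁ : Subgroup ↥Γ₁ := R.subgroupOf Γ₁ with hR₁
  set K₁ : Subgroup ↥Γ₁ := K.subgroupOf Γ₁ with hK₁
  let X' : (↥Γ₁ ⧸ N) → ℕ → Prop := fun g' m =>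
    ∃ (g : Γ) (hg : g ∈ R), X g m ∧ π ⟨g, hRΓ₁ hg⟩ = g'
  have hdata' : EData p ρ' ⊤ (R₁.map π) (K₁.map π) X' :=
    { hR := (hdata.hR.comap_subtype).map π
      hK := by
        have h1 : Nat.card (K₁.map π) ∣ Nat.card K₁ := Subgroup.card_map_dvd K₁ π
        have h2 : Nat.card K₁ = Nat.card K :=
          Nat.card_congr (Subgroup.subgroupOfEquivOfLe hKΓ₁).toEquiv
        rw [h2] at h1
        exact Nat.Coprime.coprime_dvd_left h1 hdata.hK
      hRK := by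
        have h1 : R₁ ≤ Subgroup.normalizer (K₁ : Set ↥Γ₁) :=
          (Subgroup.comap_mono hdata.hRK).trans (Subgroup.le_normalizer_comap Γ₁.subtype)
        exact (Subgroup.map_mono h1).trans (Subgroup.le_normalizer_map π)
      hUK := fun _ _ _ _ => Submodule.mem_top
      hUR := fun _ _ _ _ => Submodule.mem_top
      hXR := by
        rintro g' m ⟨g, hg, -, rfl⟩
        exact ⟨⟨g, hRΓ₁ hg⟩, hg, rfl⟩
      hXm := by
        rintro g' m ⟨g, hg, hX, -⟩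
        exact hdata.hXm g m hX
      hXe := by
        rintro g' m ⟨g, hg, hX, rfl⟩ w _
        rw [hρ']
        apply Subtype.ext
        rw [hσpow]
        exact hdata.hXe g m hX w w.2
      hXc := by
        rintro g' m ⟨g, hg, hX, rfl⟩ r' ⟨r, hr, rfl⟩
        have hrR : (r : Γ) ∈ R := hr
        refine ⟨(r : Γ) * g * (r : Γ)⁻¹, R.mul_mem (R.mul_mem hrR hg) (R.inv_mem hrR),
          hdata.hXc g m hX r hrR, ?_⟩
        rw [← map_inv, ← map_mul, ← map_mul]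
        congr 1 }
  have hmain := e_faithful hp2 IH hfaith hd hdata'
  intro g₁ m₁ g₂ m₂ hX₁ hX₂ u hu w hw
  have hg₁R := hdata.hXR g₁ m₁ hX₁
  have hg₂R := hdata.hXR g₂ m₂ hX₂
  let g₁' : ↥Γ₁ := ⟨g₁, hRΓ₁ hg₁R⟩
  let g₂' : ↥Γ₁ := ⟨g₂, hRΓ₁ hg₂R⟩
  have hX₁' : X' (π g₁') m₁ := ⟨g₁, hg₁R, hX₁, rfl⟩
  have hX₂' : X' (π g₂') m₂ := ⟨g₂, hg₂R, hX₂, rfl⟩
  have hc := hmain _ _ _ _ hX₁' hX₂'
  have huK : π ⟨u, hKΓ₁ hu⟩ ∈ K₁.map π := ⟨_, hu, rfl⟩
  have hcomm := Subgroup.mem_centralizer_iff.1 hc _ huK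
  rw [← map_pow, ← map_pow, ← map_cm, ← map_mul, ← map_mul] at hcomm
  have h1 := congrArg (fun x => ρ' x) hcomm
  simp only [hρ', map_mul] at h1
  have h2 := congrArg (fun f : Module.End k ↥U => ((f ⟨w, hw⟩ : U) : V)) h1
  simp only [Module.End.mul_apply, hσ] at h2
  have e1 : ((cm (g₁' ^ p ^ (m₁ - 1)) (g₂' ^ p ^ (m₂ - 1)) : ↥Γ₁) : Γ) =
      cm (g₁ ^ p ^ (m₁ - 1)) (g₂ ^ p ^ (m₂ - 1)) := by
    simp [cm_def, g₁', g₂']
  rw [e1] at h2
  exact h2.symm

/-- **Theorem E.** -/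
theorem eGeneral [IsAlgClosed k] {p : ℕ} [hpf : Fact p.Prime] [CharP k p] (hp2 : p ≠ 2) (d : ℕ) :
    EGeneral.{u, v} k p d := by
  induction d using Nat.strong_induction_on with
  | _ d IH => exact eGeneral_of_faithful hp2 IH

end Cfsg.Agent.Lib.H19.HH
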