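import Mathlib
import Cfsg.Agent.Lib.H19.HHD9
import Cfsg.Agent.Lib.H19.HHPoly

/-!
# The norm formula on the Frattini quotient (helper19)

For a normal `p`-subgroup `Q` of `H` and `g ∈ H`, with `T = frRep p Q (g Q)`:

* `frRep_geom_sum` : `(∑_{i<j} T^i) v̄ = ((v g)^j g^(-j))‾`.
* `frRep_exceptional` : if `g^(p^n) = 1` and `(v g)^(p^n) = 1` for all `v ∈ Q` then
  `(T - 1)^(p^n - 1) = 0`.
* `frRep_pow_of_commute` : if `(v g)^(p^n)` commutes with `g^(p^n)` for all `v ∈ Q` then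
  `(T - 1)^(2 p^n - 1) = 0`.
-/

set_option autoImplicit false
set_option linter.unusedSectionVars false

namespace Cfsg.Agent.Lib.H19.HH

open Cfsg Cfsg.Agent.Lib.H7.HHAb

universe u

variable {H : Type u} [Group H] [Finite H] {p : ℕ} [hp : Fact p.Prime]
variable (Q : Subgroup H) [hQn : Q.Normal] [hQ : Fact (IsPGroup p ↥Q)]

theorem frRep_pow_apply_mk (g : H) (j : ℕ) (v : ↥Q) :
    ((frRep p Q (QuotientGroup.mk g)) ^ j) (FrV.mk p Q (QuotientGroup.mk v)) =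
      FrV.mk p Q (QuotientGroup.mk (MulAut.conjNormal (g ^ j) v)) := by
  rw [← map_pow, ← QuotientGroup.mk_pow, frRep_apply, FrV.val_mk, frActQ_mk, frAct_apply_mk]

theorem frRep_geom_sum (g : H) (v : ↥Q) (j : ℕ) :
    ∃ P : ↥Q, (P : H) = ((v : H) * g) ^ j * (g ^ j)⁻¹ ∧
      (∑ i ∈ Finset.range j, (frRep p Q (QuotientGroup.mk g)) ^ i)
        (FrV.mk p Q (QuotientGroup.mk v)) = FrV.mk p Q (QuotientGroup.mk P) := by
  induction j with
  | zero =>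
    refine ⟨1, by simp, ?_⟩
    rw [Finset.range_zero, Finset.sum_empty, LinearMap.zero_apply]
    rfl
  | succ j ih =>
    obtain ⟨P, hP1, hP2⟩ := ih
    refine ⟨P * MulAut.conjNormal (g ^ j) v, ?_, ?_⟩
    · rw [Subgroup.coe_mul, hP1, MulAut.conjNormal_apply, pow_succ, pow_succ]
      group
    · rw [Finset.sum_range_succ, LinearMap.add_apply, hP2, frRep_pow_apply_mk,
        QuotientGroup.mk_mul, FrV.mk_mul]

theorem frRep_exceptional (g : H) (n : ℕ) (hg : g ^ p ^ n = 1)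
    (hvg : ∀ v ∈ Q, (v * g) ^ p ^ n = 1) :
    (frRep p Q (QuotientGroup.mk g) - 1) ^ (p ^ n - 1) = 0 := by
  rw [← geom_sum_eq_sub_one_pow (k := ZMod p) p n]
  apply LinearMap.ext
  intro w
  obtain ⟨v, rfl⟩ := exists_frV_mk (p := p) Q w
  obtain ⟨P, hP1, hP2⟩ := frRep_geom_sum (p := p) Q g v (p ^ n)
  rw [hP2, LinearMap.zero_apply]
  have : P = 1 := by
    apply Subtype.ext
    rw [hP1, hvg v v.2, hg]
    simp
  rw [this]
  rfl

theorem frRep_pow_of_commute (g : H) (n : ℕ)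
    (hcomm : ∀ v ∈ Q, (v * g) ^ p ^ n * g ^ p ^ n = g ^ p ^ n * (v * g) ^ p ^ n) :
    (frRep p Q (QuotientGroup.mk g) - 1) ^ (2 * p ^ n - 1) = 0 := by
  set T := frRep p Q (QuotientGroup.mk g) with hT
  have hj : 1 ≤ p ^ n := Nat.one_le_pow _ _ hp.out.pos
  have e : 2 * p ^ n - 1 = p ^ n + (p ^ n - 1) := by omega
  rw [e, pow_add, sub_one_pow_char_pow (k := ZMod p) p n T,
    ← geom_sum_eq_sub_one_pow (k := ZMod p) p n T]
  apply LinearMap.ext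
  intro w
  obtain ⟨v, rfl⟩ := exists_frV_mk (p := p) Q w
  obtain ⟨P, hP1, hP2⟩ := frRep_geom_sum (p := p) Q g v (p ^ n)
  rw [Module.End.mul_apply, hP2, LinearMap.zero_apply, hT, ← map_pow, ← QuotientGroup.mk_pow,
    frRep_sub_one_apply]
  have : cmQ Q (g ^ p ^ n) P = 1 := by
    apply Subtype.ext
    show g ^ p ^ n * (P : H) * (g ^ p ^ n)⁻¹ * (P : H)⁻¹ = 1
    have h1 := hcomm v v.2
    rw [hP1]
    calc g ^ p ^ n * ((↑v * g) ^ p ^ n * (g ^ p ^ n)⁻¹) * (g ^ p ^ n)⁻¹ *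
          ((↑v * g) ^ p ^ n * (g ^ p ^ n)⁻¹)⁻¹
        = (g ^ p ^ n * (↑v * g) ^ p ^ n) * (g ^ p ^ n)⁻¹ * (g ^ p ^ n)⁻¹ *
          ((↑v * g) ^ p ^ n * (g ^ p ^ n)⁻¹)⁻¹ := by group
      _ = ((↑v * g) ^ p ^ n * g ^ p ^ n) * (g ^ p ^ n)⁻¹ * (g ^ p ^ n)⁻¹ *
          ((↑v * g) ^ p ^ n * (g ^ p ^ n)⁻¹)⁻¹ := by rw [h1]
      _ = 1 := by group
  rw [this]
  rfl

end Cfsg.Agent.Lib.H19.HH
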