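import Mathlib
import Cfsg.Agent.Lib.H19.HHE14
import Cfsg.Agent.Lib.H19.HHE1
import Cfsg.Agent.Lib.H19.HHFinal
import Cfsg.Agent.Lib.H19.PLength
import Cfsg.Agent.Lib.H7.HHAb6
import Cfsg.Agent.Lib.H9.PPrimeCore

/-!
# Hall–Higman: `l_p(G) ≤ e_p(G)` for `p` odd, outside the Fermat case (helper19)

`PExp p n G` : all `p`-elements of `G` have order dividing `p^n`.
`FCond p G` : `p` is not of the form `2^k + 1`, or the Sylow `2`-subgroups of `G` are abelian.
`plengthLE_of_fcond` : `G` finite `p`-soluble, `p` odd, `FCond p G`, `PExp p n G` ⟹ `l_p(G) ≤ n`.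
-/

set_option autoImplicit false
set_option linter.unusedSectionVars false
set_option maxHeartbeats 800000

namespace Cfsg.Agent.Lib.H19.HH

open Cfsg Cfsg.Agent.Lib.H7.HHAb

universe u

/-- all `p`-elements have order dividing `p^n` -/
def PExp (p n : ℕ) (G : Type*) [Group G] : Prop :=
  ∀ z : G, (∃ k, z ^ p ^ k = 1) → z ^ p ^ n = 1

/-- `p` is not a Fermat prime or the Sylow `2`-subgroups are abelian -/
def FCond (p : ℕ) (G : Type*) [Group G] : Prop :=
  (¬ ∃ k : ℕ, p = 2 ^ k + 1) ∨ ∀ S : Sylow 2 G, IsMulCommutative (S : Subgroup G)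

section basics

variable {G : Type*} [Group G] [Finite G] {p : ℕ} [hp : Fact p.Prime]

theorem pexp_of_sylow {e : ℕ} (h : ∀ P : Sylow p G, ∀ x ∈ (P : Subgroup G), x ^ p ^ e = 1) :
    PExp p e G := by
  intro z ⟨k, hk⟩
  have hz : IsPGroup p (Subgroup.zpowers z) := by
    intro y
    obtain ⟨i, hi⟩ := Subgroup.mem_zpowers_iff.1 y.2
    refine ⟨k, Subtype.ext ?_⟩
    rw [Subgroup.coe_pow, ← hi, ← zpow_natCast, ← zpow_mul, mul_comm, zpow_mul, zpow_natCast, hk,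
      one_zpow]
    rfl
  obtain ⟨P, hP⟩ := hz.exists_le_sylow
  exact h P z (hP (Subgroup.mem_zpowers z))

theorem pexp_quotient (N : Subgroup G) [N.Normal] {n : ℕ} (h : PExp p n G) :
    PExp p n (G ⧸ N) := by
  intro z hz
  obtain ⟨z₀, rfl, hz₀⟩ := exists_pelement_lift N z hz
  rw [← QuotientGroup.mk_pow, h z₀ hz₀]
  rfl

/-- a lift of a `p`-element modulo a normal `p`-subgroup is a `p`-element -/
theorem pelement_of_mk {Q : Subgroup G} [Q.Normal] (hQ : IsPGroup p ↥Q) (z : G)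
    (h : ∃ j, (QuotientGroup.mk z : G ⧸ Q) ^ p ^ j = 1) : ∃ k, z ^ p ^ k = 1 := by
  obtain ⟨j, hj⟩ := h
  rw [← QuotientGroup.mk_pow, QuotientGroup.eq_one_iff] at hj
  obtain ⟨e, he⟩ := hQ ⟨_, hj⟩
  refine ⟨j + e, ?_⟩
  have := congrArg Subtype.val he
  rw [Subgroup.coe_pow] at this
  rw [pow_add, pow_mul]
  exact this

theorem fcond_of_surjective {G' : Type*} [Group G'] (f : G →* G') (hf : Function.Surjective f)
    (h : FCond p G) : FCond p G' := by
  rcases h with h | h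
  · exact Or.inl h
  · right
    intro S'
    obtain ⟨S, rfl⟩ := Sylow.mapSurjective_surjective hf 2 S'
    have hS := h S
    refine ⟨⟨?_⟩⟩
    rintro ⟨a, ha⟩ ⟨b, hb⟩
    rw [Sylow.coe_mapSurjective] at ha hb
    obtain ⟨a₀, ha₀, rfl⟩ := ha
    obtain ⟨b₀, hb₀, rfl⟩ := hb
    apply Subtype.ext
    show f a₀ * f b₀ = f b₀ * f a₀
    have h1 : (⟨a₀, ha₀⟩ : ↥(S : Subgroup G)) * ⟨b₀, hb₀⟩ = ⟨b₀, hb₀⟩ * ⟨a₀, ha₀⟩ :=
      hS.is_comm.comm _ _
    have h2 : a₀ * b₀ = b₀ * a₀ := congrArg Subtype.val h1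
    rw [← map_mul, h2, map_mul]

/-- the order of an element with `k^(p^(n+1)) = 1`, `k^(p^n) ≠ 1` -/
theorem orderOf_eq_of_pow {k : G} {n : ℕ} (h1 : k ^ p ^ (n + 1) = 1) (h2 : k ^ p ^ n ≠ 1) :
    orderOf k = p ^ (n + 1) :=
  orderOf_eq_prime_pow h2 h1

end basics

section partA

variable {H : Type u} [Group H] [Finite H] {p : ℕ} [hp : Fact p.Prime]

theorem pexp_quot_of_fcond (hp2 : p ≠ 2) (hH : IsPSolvable p H) (hO : pPrimeCore p H = ⊥)
    (hc : FCond p H) (n : ℕ) (hexp : PExp p (n + 1) H) [hQn : (pCore p H).Normal] :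
    PExp p n (H ⧸ pCore p H) := by
  classical
  have hQp : IsPGroup p ↥(pCore p H) := Cfsg.Agent.Lib.H1.pCore_isPGroup p H
  have : Fact (IsPGroup p ↥(pCore p H)) := ⟨hQp⟩
  have hfaith := frRep_injective hH hO
  intro k hk
  by_contra hne
  obtain ⟨x, rfl⟩ := QuotientGroup.mk_surjective k
  have hxp := pelement_of_mk hQp x hk
  have hxt : x ^ p ^ (n + 1) = 1 := hexp x hxp
  have hkt : (QuotientGroup.mk x : H ⧸ pCore p H) ^ p ^ (n + 1) = 1 := by
    rw [← QuotientGroup.mk_pow, hxt]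
    rfl
  have hxo := orderOf_eq_of_pow hkt hne
  have hvx : ∀ v ∈ pCore p H, (v * x) ^ p ^ (n + 1) = 1 := by
    intro v hv
    apply hexp
    apply pelement_of_mk hQp
    refine ⟨n + 1, ?_⟩
    have : (QuotientGroup.mk (v * x) : H ⧸ pCore p H) = QuotientGroup.mk x := by
      rw [QuotientGroup.mk_mul, (QuotientGroup.eq_one_iff v).2 hv, one_mul]
    rw [this, hkt]
  have hexc := frRep_exceptional (p := p) (pCore p H) x (n + 1) hxt hvx
  have hex : ∃ r, (frRep p (pCore p H) (QuotientGroup.mk x) - 1) ^ r = 0 := ⟨_, hexc⟩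
  have hr := Nat.find_spec hex
  have hrmin : ∀ t < Nat.find hex, (frRep p (pCore p H) (QuotientGroup.mk x) - 1) ^ t ≠ 0 :=
    fun t ht => Nat.find_min hex ht
  have hrle : Nat.find hex ≤ p ^ (n + 1) - 1 := Nat.find_min' hex hexc
  have hK : IsPSolvable p (H ⧸ pCore p H) := Cfsg.Agent.Lib.H10.isPSolvable_quotient hH _
  have hOK : pCore p (H ⧸ pCore p H) = ⊥ :=
    Cfsg.Agent.Lib.H7.InvCent.pCore_quotient_eq_bot' p (pCore p H) rfl
  have hpos : 1 ≤ p ^ (n + 1) := Nat.one_le_pow _ _ hp.out.pos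
  rcases thmB_general p (frRep p (pCore p H)) hfaith hK hOK (QuotientGroup.mk x) (n + 1)
    (by omega) hxo (Nat.find hex) hr hrmin with h | ⟨n₀, q, m, hn₀, -, hq, -, hpq, hS, -⟩
  · omega
  · have hodd : Odd (p ^ n₀) := (hp.out.odd_of_ne_two hp2).pow
    have hpos₀ : 1 ≤ p ^ n₀ := Nat.one_le_pow _ _ hp.out.pos
    have hq2 : q = 2 := eq_two_of_pow_eq hq hodd hpq.symm hpos₀
    subst hq2
    have hc' := fcond_of_surjective (QuotientGroup.mk' (pCore p H))
      (QuotientGroup.mk'_surjective _) hc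
    rcases hc' with hc' | hc'
    · apply hc'
      have h3 : p ^ n₀ = 2 ^ m + 1 := by omega
      exact exists_eq_two_pow_add_one hp.out hp2 hn₀ h3
    · obtain ⟨S'⟩ : Nonempty (Sylow 2 (H ⧸ pCore p H)) := inferInstance
      exact hS S' (hc' S')

end partA

theorem plengthLE_of_fcond {p : ℕ} [hp : Fact p.Prime] (hp2 : p ≠ 2) (n : ℕ) :
    ∀ (G : Type u) [Group G] [Finite G], IsPSolvable p G → FCond p G → PExp p n G →
      PLengthLE p n G := by
  induction n with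
  | zero =>
    intro G _ _ hG _ hexp
    apply Cfsg.Agent.Lib.H19.plengthLE_zero_of_coprime
    rw [Nat.coprime_comm, Nat.Prime.coprime_iff_not_dvd hp.out]
    intro hdvd
    obtain ⟨z, hz⟩ := exists_prime_orderOf_dvd_card' p hdvd
    have h1 : z ^ p ^ 0 = 1 := hexp z ⟨1, by rw [pow_one, ← hz]; exact pow_orderOf_eq_one z⟩
    rw [pow_zero, pow_one] at h1
    rw [h1, orderOf_one] at hz
    exact hp.out.ne_one hz.symm
  | succ n ih =>
    intro G _ _ hG hc hexp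
    have hNn : (pPrimeCore p G).Normal := Cfsg.Agent.Lib.H22.pPrimeCore_normal p
    have hG1 : IsPSolvable p (G ⧸ pPrimeCore p G) := Cfsg.Agent.Lib.H10.isPSolvable_quotient hG _
    have hO1 : pPrimeCore p (G ⧸ pPrimeCore p G) = ⊥ :=
      Cfsg.Agent.Lib.H9.pPrimeCore_quotient_eq_bot p
    have hc1 : FCond p (G ⧸ pPrimeCore p G) :=
      fcond_of_surjective (QuotientGroup.mk' _) (QuotientGroup.mk'_surjective _) hc
    have hexp1 : PExp p (n + 1) (G ⧸ pPrimeCore p G) := pexp_quotient _ hexp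
    have hQn : (pCore p (G ⧸ pPrimeCore p G)).Normal := Cfsg.Agent.Lib.H1.pCore_normal p _
    have hexp2 := pexp_quot_of_fcond hp2 hG1 hO1 hc1 n hexp1
    have hG2 : IsPSolvable p ((G ⧸ pPrimeCore p G) ⧸ pCore p (G ⧸ pPrimeCore p G)) :=
      Cfsg.Agent.Lib.H10.isPSolvable_quotient hG1 _
    have hc2 : FCond p ((G ⧸ pPrimeCore p G) ⧸ pCore p (G ⧸ pPrimeCore p G)) :=
      fcond_of_surjective (QuotientGroup.mk' _) (QuotientGroup.mk'_surjective _) hc1
    have hl2 := ih _ hG2 hc2 hexp2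
    have hQp : IsPGroup p ↥(pCore p (G ⧸ pPrimeCore p G)) := Cfsg.Agent.Lib.H1.pCore_isPGroup p _
    obtain ⟨j, hj⟩ := IsPGroup.iff_card.1 hQp
    have hl1 : PLengthLE p 1 ↥(pCore p (G ⧸ pPrimeCore p G)) :=
      Cfsg.Agent.Lib.H19.plengthLE_one_of_isPGroup hj
    have hl3 : PLengthLE p (1 + n) (G ⧸ pPrimeCore p G) :=
      Cfsg.Agent.Lib.H19.plengthLE_of_extension _ hl1 hl2
    have hl0 : PLengthLE p 0 ↥(pPrimeCore p G) :=
      Cfsg.Agent.Lib.H19.plengthLE_zero_of_coprime (Cfsg.Agent.Lib.H22.card_pPrimeCore_coprime p)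
    have hl4 : PLengthLE p (0 + (1 + n)) G := Cfsg.Agent.Lib.H19.plengthLE_of_extension _ hl0 hl3
    have e : 0 + (1 + n) = n + 1 := by omega
    rw [e] at hl4
    exact hl4

end Cfsg.Agent.Lib.H19.HH
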