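import Mathlib
import Cfsg.Agent.Lib.H19.HHE13
import Cfsg.Agent.Lib.H19.HHE15
import Cfsg.Agent.Lib.H1.PSolvDual

/-!
# Hall–Higman: `l_p(G) ≤ 2 e_p(G)` for `p` odd (helper19)

* `pow_commute_of_exceptional` : a `p`-soluble group `H₂` with `O_p(H₂) = 1` and a faithful
  `𝔽_p`-representation on which all `p`-elements satisfy `(g - 1)^(p^(n+1) - 1) = 0`: in every
  `p`-subgroup the `p^n`-th powers commute (via Theorem E).
* `pexp_quot_of_pow_commute` : if moreover `O_{p'}(H) = 1`, then `H / O_p(H)` has `p`-exponent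
  at most `p^n` (via Theorem B).
* `plengthLE_two_mul` : `PExp p n G` ⟹ `l_p(G) ≤ 2n`.
-/

set_option autoImplicit false
set_option linter.unusedSectionVars false
set_option maxHeartbeats 1600000

namespace Cfsg.Agent.Lib.H19.HH

open Cfsg Cfsg.Agent.Lib.H7.HHAb Cfsg.Agent.Lib.H19.ModRep Module

universe u

variable {p : ℕ} [hp : Fact p.Prime]

theorem pow_commute_of_exceptional (hp2 : p ≠ 2) {H₂ : Type u} [Group H₂] [Finite H₂]
    {V₁ : Type u} [AddCommGroup V₁] [Module (ZMod p) V₁] [FiniteDimensional (ZMod p) V₁]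
    (ρ₁ : Representation (ZMod p) H₂ V₁) (hfaith : Function.Injective ρ₁)
    (hsol : IsPSolvable p H₂) (hOp : pCore p H₂ = ⊥) (n : ℕ)
    (hexc : ∀ g : H₂, (∃ k, g ^ p ^ k = 1) → (ρ₁ g - 1) ^ (p ^ (n + 1) - 1) = 0)
    (R : Subgroup H₂) (hR : IsPGroup p R) :
    ∀ a ∈ R, ∀ b ∈ R, a ^ p ^ n * b ^ p ^ n = b ^ p ^ n * a ^ p ^ n := by
  classical
  let kbar := AlgebraicClosure (ZMod p)
  let ρ : Representation kbar H₂ (TensorProduct (ZMod p) kbar V₁) := bc kbar ρ₁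
  set K : Subgroup H₂ := pPrimeCore p H₂ with hK
  have hKn : K.Normal := Cfsg.Agent.Lib.H22.pPrimeCore_normal p
  have hKcop : (Nat.card K).Coprime p := Cfsg.Agent.Lib.H22.card_pPrimeCore_coprime p
  have hbc : ∀ (g : H₂) (j : ℕ), (bc kbar ρ₁ g - 1) ^ j = ((ρ₁ g - 1) ^ j).baseChange kbar := by
    intro g j
    rw [LinearMap.baseChange_pow, LinearMap.baseChange_sub, bc_apply]
    congr 2
    exact (LinearMap.baseChange_one (ZMod p) V₁).symm
  let X : H₂ → ℕ → Prop := fun g m => g ∈ R ∧ m = n + 1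
  have hdata : EData p ρ ⊤ R K X :=
    { hR := hR
      hK := hKcop
      hRK := by
        rw [Subgroup.normalizer_eq_top]
        exact le_top
      hUK := fun _ _ _ _ => Submodule.mem_top
      hUR := fun _ _ _ _ => Submodule.mem_top
      hXR := fun g m h => h.1
      hXm := fun g m h => by rw [h.2]; omega
      hXe := by
        rintro g m ⟨hg, rfl⟩ w _
        have hgp : ∃ k, g ^ p ^ k = 1 := by
          obtain ⟨k, hk⟩ := hR ⟨g, hg⟩
          exact ⟨k, by simpa using congrArg Subtype.val hk⟩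
        show ((bc kbar ρ₁ g - 1) ^ (p ^ (n + 1) - 1)) w = 0
        rw [hbc, hexc g hgp, LinearMap.baseChange_zero, LinearMap.zero_apply]
      hXc := by
        rintro g m ⟨hg, rfl⟩ r hr
        exact ⟨R.mul_mem (R.mul_mem hr hg) (R.inv_mem hr), rfl⟩ }
  have hconcl := eGeneral (k := kbar) hp2 _ H₂ _ ρ ⊤ R K X rfl hdata
  intro a ha b hb
  set c := cm (a ^ p ^ n) (b ^ p ^ n) with hc
  have hcR : c ∈ R := by
    rw [hc, cm_def]
    exact R.mul_mem (R.mul_mem (R.mul_mem (R.pow_mem ha _) (R.pow_mem hb _))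
      (R.inv_mem (R.pow_mem ha _))) (R.inv_mem (R.pow_mem hb _))
  have hcent : c ∈ Subgroup.centralizer (K : Set H₂) := by
    rw [Subgroup.mem_centralizer_iff]
    intro u hu
    apply hfaith
    rw [map_mul, map_mul]
    apply comm_of_bc_comm kbar ρ₁
    apply LinearMap.ext
    intro w
    rw [Module.End.mul_apply, Module.End.mul_apply]
    have := hconcl a (n + 1) b (n + 1) ⟨ha, rfl⟩ ⟨hb, rfl⟩ u hu w Submodule.mem_top
    simp only [Nat.add_sub_cancel] at this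
    exact this.symm
  have hcK : c ∈ K :=
    Cfsg.Agent.Lib.H1.PSolvDual.centralizer_pPrimeCore_le_of_isPSolvable p hsol hOp hcent
  have hc1 : c = 1 := by
    obtain ⟨j, hj⟩ := hR ⟨c, hcR⟩
    have hj' : c ^ p ^ j = 1 := by simpa using congrArg Subtype.val hj
    have h1 : orderOf c ∣ p ^ j := orderOf_dvd_of_pow_eq_one hj'
    have h2 : orderOf c ∣ Nat.card K := Subgroup.orderOf_dvd_natCard K hcK
    have h3 : orderOf c ∣ 1 := by
      have := Nat.Coprime.pow_right j hKcop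
      exact (Nat.Coprime.eq_one_of_dvd (this.coprime_dvd_left h2) h1) ▸ dvd_rfl
    exact orderOf_eq_one_iff.1 (Nat.dvd_one.1 h3)
  rw [hc, cm_def] at hc1
  calc a ^ p ^ n * b ^ p ^ n
      = (a ^ p ^ n * b ^ p ^ n * (a ^ p ^ n)⁻¹ * (b ^ p ^ n)⁻¹) * (b ^ p ^ n * a ^ p ^ n) := by
        group
    _ = b ^ p ^ n * a ^ p ^ n := by rw [hc1, one_mul]

/-- the arithmetic behind the contradiction with Theorem B -/
theorem thmB_arith {p n n₀ r : ℕ} (hp3 : 3 ≤ p) (hn₀ : 1 ≤ n₀) (hn₀' : n₀ ≤ n + 1)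
    (hle : p ^ (n + 1 - n₀) * (p ^ n₀ - 1) ≤ r) : 2 * p ^ n ≤ r := by
  have hpos : 0 < p := by omega
  have h1 : p ^ (n + 1 - n₀) * p ^ n₀ = p ^ (n + 1) := by
    rw [← pow_add]
    congr 1
    omega
  have h2 : p ^ (n + 1 - n₀) ≤ p ^ n := Nat.pow_le_pow_right hpos (by omega)
  have h3 : p ^ (n + 1) = p * p ^ n := by rw [pow_succ, mul_comm]
  have h4 : 3 * p ^ n ≤ p * p ^ n := Nat.mul_le_mul_right _ hp3
  have h5 : 1 ≤ p ^ n₀ := Nat.one_le_pow _ _ hpos
  have h6 : p ^ (n + 1 - n₀) * (p ^ n₀ - 1) = p ^ (n + 1) - p ^ (n + 1 - n₀) := by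
    rw [Nat.mul_sub, h1, mul_one]
  omega

theorem pexp_quot_of_pow_commute (hp2 : p ≠ 2) {H : Type u} [Group H] [Finite H]
    (hH : IsPSolvable p H) (hO : pPrimeCore p H = ⊥) (n : ℕ) (hexp : PExp p (n + 1) H)
    (hcomm : ∀ P : Sylow p H, ∀ a ∈ (P : Subgroup H), ∀ b ∈ (P : Subgroup H),
      a ^ p ^ n * b ^ p ^ n = b ^ p ^ n * a ^ p ^ n)
    [hQn : (pCore p H).Normal] : PExp p n (H ⧸ pCore p H) := by
  classical
  have hQp : IsPGroup p ↥(pCore p H) := Cfsg.Agent.Lib.H1.pCore_isPGroup p H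
  have : Fact (IsPGroup p ↥(pCore p H)) := ⟨hQp⟩
  have hfaith := frRep_injective hH hO
  intro k hk
  by_contra hne
  obtain ⟨x, rfl⟩ := QuotientGroup.mk_surjective k
  have hxp := pelement_of_mk hQp x hk
  have hxt : x ^ p ^ (n + 1) = 1 := hexp x hxp
  have hkt : (QuotientGroup.mk x : H ⧸ pCore p H) ^ p ^ (n + 1) = 1 := by
    rw [← QuotientGroup.mk_pow, hxt]
    rfl
  have hxo := orderOf_eq_of_pow hkt hne
  -- a Sylow subgroup containing `x`
  have hzx : IsPGroup p (Subgroup.zpowers x) := by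
    intro y
    obtain ⟨i, hi⟩ := Subgroup.mem_zpowers_iff.1 y.2
    refine ⟨n + 1, Subtype.ext ?_⟩
    rw [Subgroup.coe_pow, ← hi, ← zpow_natCast, ← zpow_mul, mul_comm, zpow_mul, zpow_natCast, hxt,
      one_zpow]
    rfl
  obtain ⟨P, hP⟩ := hzx.exists_le_sylow
  have hxP : x ∈ (P : Subgroup H) := hP (Subgroup.mem_zpowers x)
  have hQP : pCore p H ≤ (P : Subgroup H) := Cfsg.Agent.Lib.H1.pCore_le_sylow P
  have hcx : ∀ v ∈ pCore p H, (v * x) ^ p ^ n * x ^ p ^ n = x ^ p ^ n * (v * x) ^ p ^ n := by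
    intro v hv
    exact hcomm P _ ((P : Subgroup H).mul_mem (hQP hv) hxP) _ hxP
  have hexc := frRep_pow_of_commute (p := p) (pCore p H) x n hcx
  have hex : ∃ r, (frRep p (pCore p H) (QuotientGroup.mk x) - 1) ^ r = 0 := ⟨_, hexc⟩
  have hr := Nat.find_spec hex
  have hrmin : ∀ t < Nat.find hex, (frRep p (pCore p H) (QuotientGroup.mk x) - 1) ^ t ≠ 0 :=
    fun t ht => Nat.find_min hex ht
  have hrle : Nat.find hex ≤ 2 * p ^ n - 1 := Nat.find_min' hex hexc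
  have hK : IsPSolvable p (H ⧸ pCore p H) := Cfsg.Agent.Lib.H10.isPSolvable_quotient hH _
  have hOK : pCore p (H ⧸ pCore p H) = ⊥ :=
    Cfsg.Agent.Lib.H7.InvCent.pCore_quotient_eq_bot' p (pCore p H) rfl
  have hpos : 1 ≤ p ^ n := Nat.one_le_pow _ _ hp.out.pos
  have hp3 : 3 ≤ p := by
    have := hp.out.two_le
    omega
  rcases thmB_general p (frRep p (pCore p H)) hfaith hK hOK (QuotientGroup.mk x) (n + 1)
    (by omega) hxo (Nat.find hex) hr hrmin with h | ⟨n₀, q, m, hn₀, hn₀', -, -, -, -, hle⟩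
  · have h3 : p ^ (n + 1) = p * p ^ n := by rw [pow_succ, mul_comm]
    have h4 : 3 * p ^ n ≤ p * p ^ n := Nat.mul_le_mul_right _ hp3
    omega
  · have := thmB_arith hp3 hn₀ hn₀' hle
    omega

theorem plengthLE_two_mul (hp2 : p ≠ 2) (n : ℕ) :
    ∀ (G : Type u) [Group G] [Finite G], IsPSolvable p G → PExp p n G →
      PLengthLE p (2 * n) G := by
  induction n with
  | zero =>
    intro G _ _ hG hexp
    apply Cfsg.Agent.Lib.H19.plengthLE_zero_of_coprime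
    rw [Nat.coprime_comm, Nat.Prime.coprime_iff_not_dvd hp.out]
    intro hdvd
    obtain ⟨z, hz⟩ := exists_prime_orderOf_dvd_card' p hdvd
    have h1 : z ^ p ^ 0 = 1 := hexp z ⟨1, by rw [pow_one, ← hz]; exact pow_orderOf_eq_one z⟩
    rw [pow_zero, pow_one] at h1
    rw [h1, orderOf_one] at hz
    exact hp.out.ne_one hz.symm
  | succ n ih =>
    intro G _ _ hG hexp
    -- `H = G / O_{p'}(G)`
    have hNn : (pPrimeCore p G).Normal := Cfsg.Agent.Lib.H22.pPrimeCore_normal p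
    have hH : IsPSolvable p (G ⧸ pPrimeCore p G) := Cfsg.Agent.Lib.H10.isPSolvable_quotient hG _
    have hOH : pPrimeCore p (G ⧸ pPrimeCore p G) = ⊥ :=
      Cfsg.Agent.Lib.H9.pPrimeCore_quotient_eq_bot p
    have hexpH : PExp p (n + 1) (G ⧸ pPrimeCore p G) := pexp_quotient _ hexp
    set H := G ⧸ pPrimeCore p G with hHdef
    -- `H₂ = H / O_p(H)`
    have hQn : (pCore p H).Normal := Cfsg.Agent.Lib.H1.pCore_normal p _
    have hQp : IsPGroup p ↥(pCore p H) := Cfsg.Agent.Lib.H1.pCore_isPGroup p _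
    have : Fact (IsPGroup p ↥(pCore p H)) := ⟨hQp⟩
    have hH₂ : IsPSolvable p (H ⧸ pCore p H) := Cfsg.Agent.Lib.H10.isPSolvable_quotient hH _
    have hOH₂ : pCore p (H ⧸ pCore p H) = ⊥ :=
      Cfsg.Agent.Lib.H7.InvCent.pCore_quotient_eq_bot' p (pCore p H) rfl
    have hexpH₂ : PExp p (n + 1) (H ⧸ pCore p H) := pexp_quotient _ hexpH
    have hfaith := frRep_injective hH hOH
    have hexc : ∀ g : H ⧸ pCore p H, (∃ k, g ^ p ^ k = 1) →
        (frRep p (pCore p H) g - 1) ^ (p ^ (n + 1) - 1) = 0 := by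
      intro g hg
      obtain ⟨x, rfl⟩ := QuotientGroup.mk_surjective g
      have hxp := pelement_of_mk hQp x hg
      have hxt : x ^ p ^ (n + 1) = 1 := hexpH x hxp
      have hkt : (QuotientGroup.mk x : H ⧸ pCore p H) ^ p ^ (n + 1) = 1 := by
        rw [← QuotientGroup.mk_pow, hxt]
        rfl
      apply frRep_exceptional (p := p) (pCore p H) x (n + 1) hxt
      intro v hv
      apply hexpH
      apply pelement_of_mk hQp
      refine ⟨n + 1, ?_⟩
      have : (QuotientGroup.mk (v * x) : H ⧸ pCore p H) = QuotientGroup.mk x := by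
        rw [QuotientGroup.mk_mul, (QuotientGroup.eq_one_iff v).2 hv, one_mul]
      rw [this, hkt]
    have hstar := pow_commute_of_exceptional hp2 (frRep p (pCore p H)) hfaith hH₂ hOH₂ n hexc
    set H₂ := H ⧸ pCore p H with hH₂def
    -- `H₃ = H₂ / O_{p'}(H₂)`
    have hN₂n : (pPrimeCore p H₂).Normal := Cfsg.Agent.Lib.H22.pPrimeCore_normal p
    have hH₃ : IsPSolvable p (H₂ ⧸ pPrimeCore p H₂) :=
      Cfsg.Agent.Lib.H10.isPSolvable_quotient hH₂ _
    have hOH₃ : pPrimeCore p (H₂ ⧸ pPrimeCore p H₂) = ⊥ :=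
      Cfsg.Agent.Lib.H9.pPrimeCore_quotient_eq_bot p
    have hexpH₃ : PExp p (n + 1) (H₂ ⧸ pPrimeCore p H₂) := pexp_quotient _ hexpH₂
    have hcomm₃ : ∀ P : Sylow p (H₂ ⧸ pPrimeCore p H₂),
        ∀ a ∈ (P : Subgroup (H₂ ⧸ pPrimeCore p H₂)), ∀ b ∈ (P : Subgroup (H₂ ⧸ pPrimeCore p H₂)),
        a ^ p ^ n * b ^ p ^ n = b ^ p ^ n * a ^ p ^ n := by
      intro P₃ a ha b hb
      obtain ⟨P₂, rfl⟩ := Sylow.mapSurjective_surjective
        (QuotientGroup.mk'_surjective (pPrimeCore p H₂)) p P₃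
      rw [Sylow.coe_mapSurjective] at ha hb
      obtain ⟨a₀, ha₀, rfl⟩ := ha
      obtain ⟨b₀, hb₀, rfl⟩ := hb
      rw [← map_pow, ← map_pow, ← map_mul, ← map_mul,
        hstar (P₂ : Subgroup H₂) P₂.isPGroup' a₀ ha₀ b₀ hb₀]
    set H₃ := H₂ ⧸ pPrimeCore p H₂ with hH₃def
    -- `H₄ = H₃ / O_p(H₃)`
    have hT₃n : (pCore p H₃).Normal := Cfsg.Agent.Lib.H1.pCore_normal p _
    have hexpH₄ := pexp_quot_of_pow_commute hp2 hH₃ hOH₃ n hexpH₃ hcomm₃
    have hH₄ : IsPSolvable p (H₃ ⧸ pCore p H₃) := Cfsg.Agent.Lib.H10.isPSolvable_quotient hH₃ _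
    have hl₄ : PLengthLE p (2 * n) (H₃ ⧸ pCore p H₃) := ih _ hH₄ hexpH₄
    -- assembling
    have hT₃p : IsPGroup p ↥(pCore p H₃) := Cfsg.Agent.Lib.H1.pCore_isPGroup p _
    obtain ⟨j₃, hj₃⟩ := IsPGroup.iff_card.1 hT₃p
    have hlT : PLengthLE p 1 ↥(pCore p H₃) := Cfsg.Agent.Lib.H19.plengthLE_one_of_isPGroup hj₃
    have hl₃ : PLengthLE p (1 + 2 * n) H₃ := Cfsg.Agent.Lib.H19.plengthLE_of_extension _ hlT hl₄
    have hlN : PLengthLE p 0 ↥(pPrimeCore p H₂) :=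
      Cfsg.Agent.Lib.H19.plengthLE_zero_of_coprime (Cfsg.Agent.Lib.H22.card_pPrimeCore_coprime p)
    have hl₂ : PLengthLE p (0 + (1 + 2 * n)) H₂ :=
      Cfsg.Agent.Lib.H19.plengthLE_of_extension _ hlN hl₃
    obtain ⟨j₁, hj₁⟩ := IsPGroup.iff_card.1 hQp
    have hlQ : PLengthLE p 1 ↥(pCore p H) := Cfsg.Agent.Lib.H19.plengthLE_one_of_isPGroup hj₁
    have hl₁ : PLengthLE p (1 + (0 + (1 + 2 * n))) H :=
      Cfsg.Agent.Lib.H19.plengthLE_of_extension _ hlQ hl₂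
    have hl0 : PLengthLE p 0 ↥(pPrimeCore p G) :=
      Cfsg.Agent.Lib.H19.plengthLE_zero_of_coprime (Cfsg.Agent.Lib.H22.card_pPrimeCore_coprime p)
    have hl : PLengthLE p (0 + (1 + (0 + (1 + 2 * n)))) G :=
      Cfsg.Agent.Lib.H19.plengthLE_of_extension _ hl0 hl₁
    have e : 0 + (1 + (0 + (1 + 2 * n))) = 2 * (n + 1) := by omega
    rw [e] at hl
    exact hl

end Cfsg.Agent.Lib.H19.HH
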