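import Mathlib
import Cfsg.Agent.Lib.H4.HT.Defs
import Cfsg.Agent.Lib.H25.HTPAIR

/-!
# S3371 piece N2 (`two_normalize`), worker helper19 for architect helper4.
-/

set_option autoImplicit false

namespace Cfsg.Agent.Lib.H19.HT

open Cfsg Cfsg.Agent.Lib.H4.HT

variable {q : ℕ} {V : Type*} [AddCommGroup V] [Module (ZMod q) V] {G : Type*} [Group G]

theorem n2_pow_two_cases (x : G) (hx : x ^ 2 = 1) (i : ℕ) : x ^ i = 1 ∨ x ^ i = x := by
  rcases Nat.even_or_odd i with ⟨l, hl⟩ | ⟨l, hl⟩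
  · left
    rw [hl, ← two_mul, pow_mul, hx, one_pow]
  · right
    rw [hl, pow_succ, pow_mul, hx, one_pow, one_mul]

/-- the core: `b` with `b * b = 1`, `b ≠ 1`, conjugates in `{b, b z}` and a non-zero fixed vector gives everything -/
theorem n2_finish (ρ : G →* (V ≃ₗ[ZMod q] V)) (hc : CentFpf ρ) (z b : G)
    (hz2 : z ^ 2 = 1) (hbb : b * b = 1) (hb1 : b ≠ 1)
    (hconj : ∀ g : G, ∃ k : ℕ, g * b * g⁻¹ = b * z ^ k) (w : V) (hw0 : w ≠ 0) (hw : ρ b w = w) :
    ∃ b : G, b * b = 1 ∧ b ≠ 1 ∧ (∀ g : G, g * b * g⁻¹ = b ∨ g * b * g⁻¹ = b * z) ∧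
      (∃ w : V, w ≠ 0 ∧ ρ b w = w) ∧ ∃ t : G, t * b * t⁻¹ = b * z := by
  have hcj : ∀ g : G, g * b * g⁻¹ = b ∨ g * b * g⁻¹ = b * z := by
    intro g
    obtain ⟨k, hk⟩ := hconj g
    rcases n2_pow_two_cases z hz2 k with h | h
    · left; rw [hk, h, mul_one]
    · right; rw [hk, h]
  refine ⟨b, hbb, hb1, hcj, ⟨w, hw0, hw⟩, ?_⟩
  by_contra hno
  push Not at hno
  have hbc : b ∈ Subgroup.center G := by
    rw [Subgroup.mem_center_iff]
    intro g
    rcases hcj g with h | h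
    · have : g * b * g⁻¹ * g = b * g := by rw [h]
      rw [← this]; group
    · exact absurd h (hno g)
  exact hw0 (hc b hbc hb1 w hw)

theorem two_normalize [Fact q.Prime] [Nontrivial V] (hq2 : 2 ≠ q) (ρ : G →* (V ≃ₗ[ZMod q] V))
    (hc : CentFpf ρ) (a z : G) (hz : z ∈ Subgroup.center G) (hz1 : z ≠ 1) (hz2 : z ^ 2 = 1)
    (ha2 : a ^ 2 = 1) (haz : a ∉ Subgroup.zpowers z) (hconj : ∀ g : G, ∃ k : ℕ, g * a * g⁻¹ = a * z ^ k) :
    ∃ b : G, b * b = 1 ∧ b ≠ 1 ∧ (∀ g : G, g * b * g⁻¹ = b ∨ g * b * g⁻¹ = b * z) ∧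
      (∃ w : V, w ≠ 0 ∧ ρ b w = w) ∧ ∃ t : G, t * b * t⁻¹ = b * z := by
  have hcomm : a * z = z * a := Subgroup.mem_center_iff.mp hz a
  obtain ⟨i, j, hne1, v, hv0, hv⟩ :=
    Cfsg.Agent.Lib.H25.HT.exists_fixed_of_pair Nat.prime_two hq2 ρ a z hcomm ha2 hz2 hz1 haz
  have ha1 : a ≠ 1 := by
    intro h; apply haz; rw [h]; exact Subgroup.one_mem _
  rcases n2_pow_two_cases a ha2 i with hi | hi <;> rcases n2_pow_two_cases z hz2 j with hj | hj
  · exfalso; apply hne1; rw [hi, hj, mul_one]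
  · exfalso
    rw [hi, hj, one_mul] at hv
    exact hv0 (hc z hz hz1 v hv)
  · -- b = a
    rw [hi, hj, mul_one] at hv
    exact n2_finish ρ hc z a hz2 (by rw [← pow_two]; exact ha2) ha1 hconj v hv0 hv
  · -- b = a z
    rw [hi, hj] at hv
    have hbb : (a * z) * (a * z) = 1 := by
      calc (a * z) * (a * z) = a * (z * a) * z := by group
        _ = a * (a * z) * z := by rw [← hcomm]
        _ = (a * a) * (z * z) := by group
        _ = 1 := by rw [← pow_two, ← pow_two, ha2, hz2, mul_one]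
    have hb1 : a * z ≠ 1 := by
      intro h
      apply haz
      have : a = z⁻¹ := eq_inv_of_mul_eq_one_left h
      rw [this]
      exact Subgroup.inv_mem _ (Subgroup.mem_zpowers z)
    have hconj' : ∀ g : G, ∃ k : ℕ, g * (a * z) * g⁻¹ = (a * z) * z ^ k := by
      intro g
      obtain ⟨k, hk⟩ := hconj g
      refine ⟨k, ?_⟩
      have hzg : g * z = z * g := Subgroup.mem_center_iff.mp hz g
      have hzk : z ^ k * z = z * z ^ k := by rw [← pow_succ, ← pow_succ']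
      calc g * (a * z) * g⁻¹ = g * a * (z * g⁻¹) := by group
        _ = g * a * (g⁻¹ * z) := by
            congr 1
            have : g⁻¹ * z = z * g⁻¹ := Subgroup.mem_center_iff.mp hz g⁻¹
            exact this.symm
        _ = (g * a * g⁻¹) * z := by group
        _ = a * z ^ k * z := by rw [hk]
        _ = a * (z ^ k * z) := by group
        _ = a * (z * z ^ k) := by rw [hzk]
        _ = (a * z) * z ^ k := by group
    exact n2_finish ρ hc z (a * z) hz2 hbb hb1 hconj' v hv0 hv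

end Cfsg.Agent.Lib.H19.HT
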