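import Mathlib
import Cfsg.Agent.Lib.H4.HT.Defs
import Cfsg.Agent.Lib.H25.HTPAIR
import Cfsg.Agent.S0016

/-!
# S3371 piece SR (`cyclic_or_quat_of_semireg`), worker helper19 for architect helper4.
-/

set_option autoImplicit false

namespace Cfsg.Agent.Lib.H19.HT

open Cfsg Cfsg.Agent.Lib.H4.HT

variable {q : ℕ} {V : Type*} [AddCommGroup V] [Module (ZMod q) V] {G : Type*} [Group G]

theorem cyclic_or_quat_of_semireg [Fact q.Prime] [Nontrivial V] [Finite G] {p : ℕ} [Fact p.Prime]
    (hG : IsPGroup p G) (hpq : p ≠ q) (ρ : G →* (V ≃ₗ[ZMod q] V)) (hsr : Semireg ρ) :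
    IsCyclic G ∨ ∃ n : ℕ, Nonempty (G ≃* QuaternionGroup n) := by
  classical
  by_cases hnt : Nontrivial G
  swap
  · left
    rw [not_nontrivial_iff_subsingleton] at hnt
    exact isCyclic_of_subsingleton
  have hp : p.Prime := Fact.out
  have hcnt : Nontrivial (Subgroup.center G) := hG.center_nontrivial
  have hcp : IsPGroup p (Subgroup.center G) := hG.to_subgroup _
  obtain ⟨k, hk⟩ := IsPGroup.iff_card.mp hcp
  have hk0 : k ≠ 0 := by
    rintro rfl
    rw [pow_zero] at hk
    have := Finite.one_lt_card (α := Subgroup.center G)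
    omega
  have hdvd : p ∣ Nat.card (Subgroup.center G) := by rw [hk]; exact dvd_pow_self p hk0
  obtain ⟨zc, hzc⟩ := exists_prime_orderOf_dvd_card' p hdvd
  have hzord : orderOf (zc : G) = p := by rw [← hzc]; exact Subgroup.orderOf_coe zc
  have hzcent : (zc : G) ∈ Subgroup.center G := zc.2
  have hzp : (zc : G) ^ p = 1 := by rw [← hzord]; exact pow_orderOf_eq_one _
  have hz1 : (zc : G) ≠ 1 := by
    intro h
    rw [h, orderOf_one] at hzord
    exact hp.one_lt.ne hzord
  have huniq : ∀ H : Subgroup G, Nat.card H = p → H = Subgroup.zpowers (zc : G) := by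
    intro H hH
    by_contra hne
    have hex : ∃ a ∈ H, a ≠ 1 := by
      by_contra hcon
      push Not at hcon
      have : H = ⊥ := by
        rw [Subgroup.eq_bot_iff_forall]; exact hcon
      rw [this] at hH
      simp at hH
      exact hp.one_lt.ne hH
    obtain ⟨a, haH, ha1⟩ := hex
    have hap : a ^ p = 1 := by
      have h1 : (⟨a, haH⟩ : H) ^ Nat.card H = 1 := pow_card_eq_one'
      have h2 := congrArg Subtype.val h1
      rw [Subgroup.coe_pow, Subgroup.coe_one, hH] at h2
      exact h2
    have hoa : orderOf a = p := orderOf_eq_prime hap ha1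
    have hzpa : Subgroup.zpowers a = H := by
      apply Subgroup.eq_of_le_of_card_ge (Subgroup.zpowers_le.mpr haH)
      rw [Nat.card_zpowers, hoa, hH]
    have haz : a ∉ Subgroup.zpowers (zc : G) := by
      intro hmem
      apply hne
      rw [← hzpa]
      apply Subgroup.eq_of_le_of_card_ge (Subgroup.zpowers_le.mpr hmem)
      rw [Nat.card_zpowers, Nat.card_zpowers, hzord, hoa]
    have hcomm : a * (zc : G) = (zc : G) * a := Subgroup.mem_center_iff.mp hzcent a
    obtain ⟨i, j, hne1, v, hv0, hv⟩ :=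
      Cfsg.Agent.Lib.H25.HT.exists_fixed_of_pair hp hpq ρ a (zc : G) hcomm hap hzp hz1 haz
    exact hne1 (hsr v hv0 _ hv)
  rcases Cfsg.Agent.S0016.result p hG (fun H K hH hK => by rw [huniq H hH, huniq K hK]) with
    h | ⟨_, n, hn⟩
  · left; exact h
  · right; exact ⟨2 ^ n, hn⟩

end Cfsg.Agent.Lib.H19.HT
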