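import Mathlib
import Cfsg.Agent.Lib.H21.Hall4Defs

/-!
# S4221 piece ODD (pure group theory)
-/

set_option autoImplicit false

namespace Cfsg.Agent.Lib.H19.Hall4

open Equiv Cfsg.Agent.Lib.H21.Hall4

/-- an involution `u` with `u * w * u = w⁻¹` inverts every power of `w`. -/
theorem inv_pow_of_inv {Γ : Type*} [Group Γ] (u w : Γ) (hu : u * u = 1) (h : u * w * u = w⁻¹)
    (m : ℕ) : u * w ^ m * u = (w ^ m)⁻¹ := by
  have hu' : u⁻¹ = u := inv_eq_of_mul_eq_one_right hu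
  have h1 : u * w ^ m * u⁻¹ = (u * w * u⁻¹) ^ m := (conj_pow (a := u) (b := w) (i := m)).symm
  rw [hu'] at h1
  rw [h1, h, inv_pow]

/-- Two involutions whose product has odd order are conjugate by a power of the product. -/
theorem odd_conj {Γ : Type*} [Group Γ] (u v : Γ) (hu : u * u = 1) (hv : v * v = 1)
    (h : Odd (orderOf (u * v))) : ∃ s ∈ Subgroup.zpowers (u * v), s⁻¹ * u * s = v := by
  obtain ⟨j, hj⟩ := h
  have hu' : u⁻¹ = u := inv_eq_of_mul_eq_one_right hu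
  have hv' : v⁻¹ = v := inv_eq_of_mul_eq_one_right hv
  set w := u * v with hw
  have hwinv : w⁻¹ = v * u := by rw [hw, mul_inv_rev, hu', hv']
  have hinv : u * w * u = w⁻¹ := by
    rw [hwinv, hw]
    calc u * (u * v) * u = (u * u) * v * u := by group
      _ = v * u := by rw [hu, one_mul]
  refine ⟨w ^ (j + 1), Subgroup.pow_mem _ (Subgroup.mem_zpowers w) _, ?_⟩
  have h1 := inv_pow_of_inv u w hu hinv (j + 1)
  -- u * s = s⁻¹ * u
  have h2 : u * w ^ (j + 1) = (w ^ (j + 1))⁻¹ * u := by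
    have : u * w ^ (j + 1) * u * u = (w ^ (j + 1))⁻¹ * u := by rw [h1]
    rwa [mul_assoc, hu, mul_one] at this
  have h3 : (w ^ (j + 1)) * (w ^ (j + 1)) = w := by
    rw [← pow_add]
    have : j + 1 + (j + 1) = orderOf w + 1 := by rw [hj]; ring
    rw [this, pow_succ, pow_orderOf_eq_one, one_mul]
  calc (w ^ (j + 1))⁻¹ * u * w ^ (j + 1) = (w ^ (j + 1))⁻¹ * (u * w ^ (j + 1)) := by group
    _ = (w ^ (j + 1))⁻¹ * ((w ^ (j + 1))⁻¹ * u) := by rw [h2]
    _ = ((w ^ (j + 1)) * (w ^ (j + 1)))⁻¹ * u := by group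
    _ = w⁻¹ * u := by rw [h3]
    _ = v := by rw [hwinv, mul_assoc, hu, mul_one]

/-- `w₀ = b (a b a)` of odd order: some power `w` of `w₀` makes `b w` an involution commuting
with `a`. -/
theorem comm_lift {Γ : Type*} [Group Γ] (a b : Γ) (ha : a * a = 1) (hb : b * b = 1)
    (h : Odd (orderOf (b * (a * b * a)))) :
    ∃ w ∈ Subgroup.zpowers (b * (a * b * a)), (b * w) * (b * w) = 1 ∧ a * (b * w) = (b * w) * a := by
  obtain ⟨j, hj⟩ := h
  have ha' : a⁻¹ = a := inv_eq_of_mul_eq_one_right ha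
  have hb' : b⁻¹ = b := inv_eq_of_mul_eq_one_right hb
  set w0 := b * (a * b * a) with hw0
  have hw0inv : w0⁻¹ = a * b * a * b := by
    rw [hw0]; simp only [mul_inv_rev, ha', hb']; group
  have hainv : a * w0 * a = w0⁻¹ := by
    rw [hw0inv, hw0]
    calc a * (b * (a * b * a)) * a = a * b * a * b * (a * a) := by group
      _ = a * b * a * b := by rw [ha, mul_one]
  have hbinv : b * w0 * b = w0⁻¹ := by
    rw [hw0inv, hw0]
    calc b * (b * (a * b * a)) * b = (b * b) * (a * b * a) * b := by group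
      _ = a * b * a * b := by rw [hb, one_mul]
  have haba : a * b * a = b * w0 := by
    rw [hw0, ← mul_assoc b b, hb, one_mul]
  refine ⟨w0 ^ (j + 1), Subgroup.pow_mem _ (Subgroup.mem_zpowers w0) _, ?_, ?_⟩
  · have h1 := inv_pow_of_inv b w0 hb hbinv (j + 1)
    calc b * w0 ^ (j + 1) * (b * w0 ^ (j + 1)) = (b * w0 ^ (j + 1) * b) * w0 ^ (j + 1) := by group
      _ = 1 := by rw [h1, inv_mul_cancel]
  · have h1 := inv_pow_of_inv a w0 ha hainv (j + 1)
    have h3 : w0 * (w0 ^ (j + 1))⁻¹ = w0 ^ (j + 1) := by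
      have h4 : (w0 ^ (j + 1)) * (w0 ^ (j + 1)) = w0 := by
        rw [← pow_add]
        have : j + 1 + (j + 1) = orderOf w0 + 1 := by rw [hj]; ring
        rw [this, pow_succ, pow_orderOf_eq_one, one_mul]
      calc w0 * (w0 ^ (j + 1))⁻¹ = (w0 ^ (j + 1) * w0 ^ (j + 1)) * (w0 ^ (j + 1))⁻¹ := by rw [h4]
        _ = w0 ^ (j + 1) := by group
    -- a (b w) a = (a b a)(a w a) = b w0 w⁻¹ = b w
    have h5 : a * (b * w0 ^ (j + 1)) * a = b * w0 ^ (j + 1) := by
      calc a * (b * w0 ^ (j + 1)) * a = a * b * 1 * w0 ^ (j + 1) * a := by group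
        _ = a * b * (a * a) * w0 ^ (j + 1) * a := by rw [ha]
        _ = (a * b * a) * (a * w0 ^ (j + 1) * a) := by group
        _ = b * w0 * (w0 ^ (j + 1))⁻¹ := by rw [haba, h1]
        _ = b * w0 ^ (j + 1) := by rw [mul_assoc, h3]
    calc a * (b * w0 ^ (j + 1)) = a * (b * w0 ^ (j + 1)) * (a * a) := by rw [ha, mul_one]
      _ = (a * (b * w0 ^ (j + 1)) * a) * a := by group
      _ = b * w0 ^ (j + 1) * a := by rw [h5]

end Cfsg.Agent.Lib.H19.Hall4
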