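import Mathlib
import Cfsg.Agent.Lib.H21.Hall4Defs
import Cfsg.Agent.Lib.H19.Hall4ODD

/-!
# S4221 piece PAT
-/

set_option autoImplicit false
set_option linter.unusedSectionVars false

namespace Cfsg.Agent.Lib.H19.Hall4

open Equiv Cfsg.Agent.Lib.H21.Hall4

variable {α : Type*} [Fintype α] [DecidableEq α] {G : Subgroup (Perm α)}

omit [Fintype α] [DecidableEq α] in
/-- the pattern of an involution is an involution. -/
theorem pat_invol {a : Perm α} (ha2 : a * a = 1) (s : Fin 4 ↪ α) (σ : Perm (Fin 4))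
    (hs : Pat a s σ) (i : Fin 4) : σ (σ i) = i := by
  apply s.injective
  have h1 : a (a (s i)) = s i := by
    have := congrArg (fun f : Perm α => f (s i)) ha2
    simpa [Perm.mul_apply] using this
  rw [hs i, hs (σ i)] at h1
  exact h1

omit [Fintype α] [DecidableEq α] in
/-- powers of elements of `st G s` fix the tuple. -/
theorem st_zpowers_le {s : Fin 4 ↪ α} {g : Perm α} (hg : g ∈ st G s) :
    Subgroup.zpowers g ≤ st G s := by
  rw [Subgroup.zpowers_le]; exact hg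

theorem pattern_conj (hG : Hyp G) {a a' : Perm α} (ha : a ∈ G) (ha2 : a * a = 1) (ha' : a' ∈ G)
    (ha'2 : a' * a' = 1) (s s' : Fin 4 ↪ α) (σ : Perm (Fin 4)) (hs : Pat a s σ) (hs' : Pat a' s' σ) :
    ∃ g ∈ G, (∀ i, g (s i) = s' i) ∧ g * a * g⁻¹ = a' := by
  obtain ⟨g₀, hg₀, hg₀s⟩ := hG.trans s s'
  have hσ := pat_invol ha2 s σ hs
  set a'' := g₀ * a * g₀⁻¹ with ha''
  have ha''G : a'' ∈ G := G.mul_mem (G.mul_mem hg₀ ha) (G.inv_mem hg₀)
  have ha''2 : a'' * a'' = 1 := by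
    rw [ha'']
    calc g₀ * a * g₀⁻¹ * (g₀ * a * g₀⁻¹) = g₀ * (a * a) * g₀⁻¹ := by group
      _ = 1 := by rw [ha2]; group
  have hpat'' : ∀ i, a'' (s' i) = s' (σ i) := by
    intro i
    have h1 : g₀⁻¹ (s' i) = s i := Perm.inv_eq_iff_eq.mpr (hg₀s i).symm
    rw [ha'', Perm.mul_apply, Perm.mul_apply, h1, hs i, hg₀s]
  have hmem : a'' * a' ∈ st G s' := by
    refine ⟨G.mul_mem ha''G ha', fun i => ?_⟩
    rw [Perm.mul_apply, hs' i, hpat'' (σ i), hσ]
  have hodd := hG.odd_orderOf hmem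
  obtain ⟨t, ht, htc⟩ := odd_conj a'' a' ha''2 ha'2 hodd
  have htst : t ∈ st G s' := st_zpowers_le hmem ht
  refine ⟨t⁻¹ * g₀, G.mul_mem (G.inv_mem htst.1) hg₀, fun i => ?_, ?_⟩
  · rw [Perm.mul_apply, hg₀s i, Perm.inv_eq_iff_eq, htst.2 i]
  · rw [← htc, ha'']; group

theorem exists_invol (hG : Hyp G) (s : Fin 4 ↪ α) (σ : Perm (Fin 4)) (hσ : σ * σ = 1) :
    ∃ a ∈ G, a * a = 1 ∧ Pat a s σ := by
  have hσ' : ∀ i, σ (σ i) = i := fun i => by
    have := congrArg (fun f : Perm (Fin 4) => f i) hσ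
    simpa [Perm.mul_apply] using this
  obtain ⟨g, hg, hgs⟩ := hG.trans s (σ.toEmbedding.trans s)
  have hgs' : ∀ i, g (s i) = s (σ i) := fun i => by
    rw [hgs i]; rfl
  have hmem : g * g ∈ st G s := by
    refine ⟨G.mul_mem hg hg, fun i => ?_⟩
    rw [Perm.mul_apply, hgs' i, hgs' (σ i), hσ']
  obtain ⟨j, hj⟩ := hG.odd_orderOf hmem
  have hpow : (g * g) ^ j ∈ st G s := (st G s).pow_mem hmem j
  refine ⟨(g * g) ^ j * g, G.mul_mem hpow.1 hg, ?_, fun i => ?_⟩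
  · have hcomm : Commute ((g * g) ^ j) g := (Commute.mul_left (Commute.refl g) (Commute.refl g)).pow_left j
    calc (g * g) ^ j * g * ((g * g) ^ j * g) = (g * g) ^ j * (g * (g * g) ^ j) * g := by group
      _ = (g * g) ^ j * ((g * g) ^ j * g) * g := by rw [hcomm.eq]
      _ = (g * g) ^ (j + j + 1) := by
          rw [pow_succ, pow_add]; group
      _ = 1 := by
          have : j + j + 1 = orderOf (g * g) := by rw [hj]; ring
          rw [this, pow_orderOf_eq_one]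
  · rw [Perm.mul_apply, hgs' i, hpow.2 (σ i)]

theorem exists_comm_pair (hG : Hyp G) (s : Fin 4 ↪ α) (σ τ : Perm (Fin 4)) (hσ : σ * σ = 1)
    (hτ : τ * τ = 1) (hc : σ * τ = τ * σ) :
    ∃ a ∈ G, ∃ b ∈ G, a * a = 1 ∧ b * b = 1 ∧ a * b = b * a ∧ Pat a s σ ∧ Pat b s τ := by
  have hσ' : ∀ i, σ (σ i) = i := fun i => by
    have := congrArg (fun f : Perm (Fin 4) => f i) hσ
    simpa [Perm.mul_apply] using this
  have hτ' : ∀ i, τ (τ i) = i := fun i => by
    have := congrArg (fun f : Perm (Fin 4) => f i) hτ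
    simpa [Perm.mul_apply] using this
  have hc' : ∀ i, σ (τ i) = τ (σ i) := fun i => by
    have := congrArg (fun f : Perm (Fin 4) => f i) hc
    simpa [Perm.mul_apply] using this
  obtain ⟨a, haG, ha2, hpa⟩ := exists_invol hG s σ hσ
  obtain ⟨b₀, hbG, hb2, hpb⟩ := exists_invol hG s τ hτ
  have hmem : b₀ * (a * b₀ * a) ∈ st G s := by
    refine ⟨G.mul_mem hbG (G.mul_mem (G.mul_mem haG hbG) haG), fun i => ?_⟩
    simp only [Perm.mul_apply]
    rw [hpa i, hpb (σ i), hpa (τ (σ i)), hpb, hc' (σ i), hσ', hτ']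
  have hodd := hG.odd_orderOf hmem
  obtain ⟨w, hw, hbw2, hcomm⟩ := comm_lift a b₀ ha2 hb2 hodd
  have hwst : w ∈ st G s := st_zpowers_le hmem hw
  refine ⟨a, haG, b₀ * w, G.mul_mem hbG hwst.1, ha2, hbw2, hcomm, hpa, fun i => ?_⟩
  rw [Perm.mul_apply, hwst.2 i, hpb i]

end Cfsg.Agent.Lib.H19.Hall4
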