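import Mathlib
import Cfsg.Agent.Lib.H21.Hall4Defs
import Cfsg.Agent.Lib.H19.Hall4PAT

/-!
# S4221 piece FIX
-/

set_option autoImplicit false
set_option linter.unusedSectionVars false

namespace Cfsg.Agent.Lib.H19.Hall4

open Equiv Cfsg.Agent.Lib.H21.Hall4

variable {α : Type*} [Fintype α] [DecidableEq α] {G : Subgroup (Perm α)}

omit [Fintype α] [DecidableEq α] in
/-- four pairwise distinct points as an embedding of `Fin 4`. -/
theorem exists_emb4 (y0 y1 y2 y3 : α) (h01 : y0 ≠ y1) (h02 : y0 ≠ y2) (h03 : y0 ≠ y3)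
    (h12 : y1 ≠ y2) (h13 : y1 ≠ y3) (h23 : y2 ≠ y3) :
    ∃ s : Fin 4 ↪ α, s 0 = y0 ∧ s 1 = y1 ∧ s 2 = y2 ∧ s 3 = y3 := by
  refine ⟨⟨![y0, y1, y2, y3], ?_⟩, rfl, rfl, rfl, rfl⟩
  intro i j h
  fin_cases i <;> fin_cases j <;> simp_all

theorem nfix_le_three (hG : Hyp G) {a : Perm α} (ha : a ∈ G) (ha2 : a * a = 1) (hne : a ≠ 1) :
    nfix a ≤ 3 := by
  by_contra hcon
  rw [not_le] at hcon
  have h4 : Fintype.card (Fin 4) ≤ (Finset.univ.filter (fun x => a x = x)).card := by
    rw [Fintype.card_fin]; unfold nfix at hcon; omega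
  obtain ⟨s, hs⟩ := Function.Embedding.exists_of_card_le_finset h4
  have hfix : ∀ i, a (s i) = s i := by
    intro i
    have : s i ∈ (Finset.univ.filter (fun x => a x = x) : Finset α) := by
      apply hs; exact Set.mem_range_self i
    simpa using this
  have hmem : a ∈ st G s := ⟨ha, hfix⟩
  have hodd := hG.odd_orderOf hmem
  have hdvd : orderOf a ∣ 2 := by
    apply orderOf_dvd_of_pow_eq_one
    rw [pow_two, ha2]
  have h1 : orderOf a = 1 := by
    rcases (Nat.dvd_prime Nat.prime_two).mp hdvd with h | h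
    · exact h
    · rw [h] at hodd; exact absurd hodd (by decide)
  exact hne (orderOf_eq_one_iff.mp h1)

/-- a non-trivial involution of `G` (degree `≥ 8`) has pattern `σa` on some 4-tuple. -/
theorem exists_pat_σa (hG : Hyp G) (h8 : 8 ≤ Fintype.card α) {a : Perm α} (ha : a ∈ G)
    (ha2 : a * a = 1) (hne : a ≠ 1) : ∃ s : Fin 4 ↪ α, Pat a s σa := by
  have haa : ∀ x, a (a x) = x := fun x => by
    have := congrArg (fun f : Perm α => f x) ha2
    simpa [Perm.mul_apply] using this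
  have h3 := nfix_le_three hG ha ha2 hne
  -- the moved points
  set M : Finset α := Finset.univ.filter (fun x => a x ≠ x) with hM
  have hcard : (Finset.univ.filter (fun x => a x = x)).card + M.card = Fintype.card α := by
    rw [hM]
    have := Finset.card_filter_add_card_filter_not (s := (Finset.univ : Finset α)) (fun x => a x = x)
    simpa using this
  have hM5 : 5 ≤ M.card := by
    unfold nfix at h3; omega
  have hMpos : 0 < M.card := by omega
  obtain ⟨y0, hy0⟩ := Finset.card_pos.mp hMpos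
  have hy0' : a y0 ≠ y0 := by simpa [hM] using hy0
  -- a point of M outside {y0, a y0}
  have hex : ∃ y2 ∈ M, y2 ≠ y0 ∧ y2 ≠ a y0 := by
    by_contra hno
    simp only [not_exists, not_and, not_not] at hno
    have hsub : M ⊆ {y0, a y0} := by
      intro y hy
      by_cases h : y = y0
      · simp [h]
      · simp [hno y hy h]
    have := Finset.card_le_card hsub
    have h2 : ({y0, a y0} : Finset α).card ≤ 2 := Finset.card_le_two
    omega
  obtain ⟨y2, hy2, hy20, hy21⟩ := hex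
  have hy2' : a y2 ≠ y2 := by simpa [hM] using hy2
  have h30 : a y2 ≠ y0 := by
    intro h
    apply hy21
    rw [← h, haa]
  have h31 : a y2 ≠ a y0 := by
    intro h
    exact hy20 (a.injective h)
  obtain ⟨s, hs0, hs1, hs2, hs3⟩ := exists_emb4 y0 (a y0) y2 (a y2) (Ne.symm hy0') (Ne.symm hy20)
    (Ne.symm h30) (Ne.symm hy21) (Ne.symm h31) (Ne.symm hy2')
  refine ⟨s, fun i => ?_⟩
  have e0 : σa 0 = 1 := by decide
  have e1 : σa 1 = 0 := by decide
  have e2 : σa 2 = 3 := by decide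
  have e3 : σa 3 = 2 := by decide
  fin_cases i
  · show a (s 0) = s (σa 0)
    rw [e0, hs0, hs1]
  · show a (s 1) = s (σa 1)
    rw [e1, hs0, hs1, haa]
  · show a (s 2) = s (σa 2)
    rw [e2, hs2, hs3]
  · show a (s 3) = s (σa 3)
    rw [e3, hs2, hs3, haa]

theorem invol_conj (hG : Hyp G) (h8 : 8 ≤ Fintype.card α) {a a' : Perm α} (ha : a ∈ G)
    (ha2 : a * a = 1) (hne : a ≠ 1) (ha' : a' ∈ G) (ha'2 : a' * a' = 1) (hne' : a' ≠ 1) :
    ∃ g ∈ G, g * a * g⁻¹ = a' := by
  obtain ⟨s, hs⟩ := exists_pat_σa hG h8 ha ha2 hne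
  obtain ⟨s', hs'⟩ := exists_pat_σa hG h8 ha' ha'2 hne'
  obtain ⟨g, hg, -, hc⟩ := pattern_conj hG ha ha2 ha' ha'2 s s' σa hs hs'
  exact ⟨g, hg, hc⟩

end Cfsg.Agent.Lib.H19.Hall4
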