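import Mathlib

/-!
# S4540, piece CY3 (helper19; architect helper23): `real_parity`

`R ⊆ ℂ` a local subring with `2 ∈ 𝔪`, `ζ ∈ R` with `ζ ^ n = -1`, `n = 2 ^ a`.  A REAL element
`y = ∑_{i<n} γ_i ζ^i` (`γ_i ∈ ℤ`) of `𝔪` has `γ_0` even.

Proof: `conj ζ^i = ζ^{-i} = -ζ^{n-i}` for `0 < i < n`; `1, ζ, …, ζ^{n-1}` are independent over `ℤ`
(`X^n + 1 = Φ_{2n}` is irreducible over `ℚ`: `cy3_coeff_eq_zero`, so no dependence on CY2), hence
`γ_{n-i} = -γ_i` and `∑_{i ≥ 1} γ_i = 0`; `ζ ≡ 1 (mod 𝔪)` because `ζ^{2n} = 1` in the residue field of characteristic 2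
(`cy3_eq_one_of_pow_two_pow`), so `y ≡ ∑ γ_i = γ_0 (mod 𝔪)`, and an odd integer is `1 ≠ 0` in the residue field.
Pure Mathlib.
-/

set_option autoImplicit false

namespace Cfsg.Agent.Lib.H19.KY

open scoped ComplexConjugate
open Polynomial

/-- in a commutative domain with `2 = 0`, `x ^ 2 ^ j = 1` forces `x = 1`. -/
theorem cy3_eq_one_of_pow_two_pow {K : Type*} [CommRing K] [IsDomain K] (h2 : (2 : K) = 0) :
    ∀ (j : ℕ) (x : K), x ^ (2 ^ j) = 1 → x = 1 := by
  intro j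
  induction j with
  | zero => intro x h; simpa using h
  | succ j ih =>
    intro x h
    have h' : (x ^ 2) ^ (2 ^ j) = 1 := by
      rw [← pow_mul, ← pow_succ']; exact h
    have hx2 : x ^ 2 = 1 := ih (x ^ 2) h'
    have hsq : (x - 1) ^ 2 = 0 := by
      calc (x - 1) ^ 2 = x ^ 2 - 2 * x + 1 := by ring
        _ = 1 - 0 * x + 1 := by rw [hx2, h2]
        _ = 2 := by ring
        _ = 0 := h2
    have : x - 1 = 0 := pow_eq_zero_iff (two_ne_zero) |>.1 hsq
    exact sub_eq_zero.1 this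

/-- `1, ζ, …, ζ^(n-1)` are independent over `ℤ` when `ζ ^ n = -1`, `n = 2 ^ a`. -/
theorem cy3_coeff_eq_zero (ζ : ℂ) (a : ℕ) (hζ : ζ ^ (2 ^ a) = -1) (β : ℕ → ℤ)
    (h0 : ∑ i ∈ Finset.range (2 ^ a), (β i : ℂ) * ζ ^ i = 0) : ∀ i < 2 ^ a, β i = 0 := by
  classical
  set n := 2 ^ a with hn
  let P : ℚ[X] := ∑ i ∈ Finset.range n, C (β i : ℚ) * X ^ i
  have hPcoeff : ∀ i, P.coeff i = if i < n then (β i : ℚ) else 0 := by
    intro i
    simp only [P, Polynomial.finsetSum_coeff, Polynomial.coeff_C_mul_X_pow]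
    rw [Finset.sum_ite_eq]
    simp [Finset.mem_range]
  have hPaeval : Polynomial.aeval ζ P = 0 := by
    simp only [P, map_sum, map_mul, Polynomial.aeval_C, map_pow, Polynomial.aeval_X]
    rw [← h0]
    refine Finset.sum_congr rfl (fun i _ => ?_)
    simp
  have hcyc : Polynomial.aeval ζ (Polynomial.cyclotomic (2 ^ (a + 1)) ℚ) = 0 := by
    rw [Polynomial.cyclotomic_prime_pow_eq_geom_sum Nat.prime_two]
    simp [Finset.sum_range_succ]
    rw [← hn, hζ]
    norm_num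
  have hirr : Irreducible (Polynomial.cyclotomic (2 ^ (a + 1)) ℚ) :=
    Polynomial.cyclotomic.irreducible_rat (by positivity)
  have hmin : Polynomial.cyclotomic (2 ^ (a + 1)) ℚ = minpoly ℚ ζ :=
    minpoly.eq_of_irreducible_of_monic hirr hcyc (Polynomial.cyclotomic.monic _ ℚ)
  have hdvd : minpoly ℚ ζ ∣ P := minpoly.dvd ℚ ζ hPaeval
  have hdeg : (minpoly ℚ ζ).natDegree = n := by
    rw [← hmin, Polynomial.natDegree_cyclotomic, Nat.totient_prime_pow Nat.prime_two (Nat.succ_pos a)]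
    simp [hn]
  have hP0 : P = 0 := by
    by_contra hne
    have h1 := Polynomial.natDegree_le_of_dvd hdvd hne
    have h2 : P.natDegree < n := by
      rw [Polynomial.natDegree_lt_iff_degree_lt hne, Polynomial.degree_lt_iff_coeff_zero]
      intro m hm
      rw [hPcoeff, if_neg (not_lt.2 hm)]
    omega
  intro i hi
  have := hPcoeff i
  rw [hP0, Polynomial.coeff_zero, if_pos hi] at this
  exact_mod_cast this.symm


/-- (CY3) a REAL element `y = ∑_{i<n} γ_i ζ^i` of the maximal ideal has `γ_0` even. -/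
theorem real_parity (R : Subring ℂ) [IsLocalRing R] (h2 : (2 : R) ∈ IsLocalRing.maximalIdeal R)
    (ζ : ℂ) (hζR : ζ ∈ R) (a : ℕ) (hζ : ζ ^ (2 ^ a) = -1) (γ : ℕ → ℤ)
    (hreal : conj (∑ i ∈ Finset.range (2 ^ a), (γ i : ℂ) * ζ ^ i) =
      ∑ i ∈ Finset.range (2 ^ a), (γ i : ℂ) * ζ ^ i)
    (y : R) (hy : (y : ℂ) = ∑ i ∈ Finset.range (2 ^ a), (γ i : ℂ) * ζ ^ i)
    (hym : y ∈ IsLocalRing.maximalIdeal R) : (2 : ℤ) ∣ γ 0 := by
  classical
  obtain ⟨m, hm⟩ : ∃ m, 2 ^ a = m + 1 :=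
    ⟨2 ^ a - 1, by have := Nat.one_le_two_pow (n := a); omega⟩
  have hζ1 : ζ ^ (2 ^ (a + 1)) = 1 := by rw [pow_succ, pow_mul, hζ]; norm_num
  have hnorm : ‖ζ‖ = 1 := Complex.norm_eq_one_of_pow_eq_one hζ1 (by positivity)
  have hconj : conj ζ = ζ⁻¹ := (Complex.inv_eq_conj hnorm).symm
  have hζ0 : ζ ≠ 0 := by
    intro h
    rw [h] at hnorm
    simp at hnorm
  -- `conj ζ ^ (i+1) = - ζ ^ (m - i)` for `i ≤ m`
  have hcpow : ∀ i, i ≤ m → conj ζ ^ (i + 1) = - ζ ^ (m - i) := by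
    intro i hi
    have h1 : ζ ^ (m - i) * ζ ^ (i + 1) = -1 := by
      rw [← pow_add, show m - i + (i + 1) = m + 1 by omega, ← hm, hζ]
    have h3 : ζ ^ (i + 1) ≠ 0 := pow_ne_zero _ hζ0
    rw [hconj, inv_pow, eq_neg_iff_add_eq_zero]
    apply mul_right_cancel₀ h3
    rw [add_mul, inv_mul_cancel₀ h3, h1, zero_mul]
    norm_num
  -- split off the `i = 0` term and conjugate termwise
  have hsplit : ∑ i ∈ Finset.range (2 ^ a), (γ i : ℂ) * ζ ^ i =
      ∑ i ∈ Finset.range m, (γ (i + 1) : ℂ) * ζ ^ (i + 1) + (γ 0 : ℂ) := by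
    rw [hm, Finset.sum_range_succ']
    simp
  have hsplitc : conj (∑ i ∈ Finset.range (2 ^ a), (γ i : ℂ) * ζ ^ i) =
      ∑ i ∈ Finset.range m, (γ (i + 1) : ℂ) * (- ζ ^ (m - i)) + (γ 0 : ℂ) := by
    rw [hsplit, map_add, map_sum, map_intCast]
    congr 1
    refine Finset.sum_congr rfl (fun i hi => ?_)
    rw [map_mul, map_intCast, map_pow, hcpow i (Finset.mem_range.1 hi).le]
  -- reflect
  have hrefl : ∑ i ∈ Finset.range m, (γ (i + 1) : ℂ) * ζ ^ (m - i) =
      ∑ j ∈ Finset.range m, (γ (m - j) : ℂ) * ζ ^ (j + 1) := by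
    rw [← Finset.sum_range_reflect (fun i => (γ (i + 1) : ℂ) * ζ ^ (m - i)) m]
    refine Finset.sum_congr rfl (fun j hj => ?_)
    have hj' := Finset.mem_range.1 hj
    rw [show m - 1 - j + 1 = m - j by omega, show m - (m - 1 - j) = j + 1 by omega]
  -- the vanishing combination
  set β : ℕ → ℤ := fun k => if k = 0 then 0 else γ k + γ (m + 1 - k) with hβ
  have hβsum : ∑ i ∈ Finset.range (2 ^ a), (β i : ℂ) * ζ ^ i = 0 := by
    rw [hm, Finset.sum_range_succ']
    have h0 : (β 0 : ℂ) * ζ ^ 0 = 0 := by simp [hβ]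
    rw [h0, add_zero]
    have hterm : ∀ j ∈ Finset.range m, (β (j + 1) : ℂ) * ζ ^ (j + 1) =
        (γ (j + 1) : ℂ) * ζ ^ (j + 1) + (γ (m - j) : ℂ) * ζ ^ (j + 1) := by
      intro j _
      have : β (j + 1) = γ (j + 1) + γ (m - j) := by
        simp only [hβ, Nat.succ_ne_zero, if_false]
        rw [show m + 1 - (j + 1) = m - j by omega]
      rw [this]
      push_cast
      ring
    rw [Finset.sum_congr rfl hterm, Finset.sum_add_distrib, ← hrefl]
    have hE := hreal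
    rw [hsplitc, hsplit] at hE
    have hE' := add_right_cancel hE
    simp only [mul_neg, Finset.sum_neg_distrib] at hE'
    rw [← hE']
    ring
  have hβ0 := cy3_coeff_eq_zero ζ a hζ β hβsum
  have hpair : ∀ j < m, γ (j + 1) + γ (m - j) = 0 := by
    intro j hj
    have := hβ0 (j + 1) (by omega)
    simp only [hβ, Nat.succ_ne_zero, if_false] at this
    rw [show m + 1 - (j + 1) = m - j by omega] at this
    exact this
  -- the sum of the `γ i`, `i ≥ 1`, vanishes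
  have hS : ∑ j ∈ Finset.range m, γ (j + 1) = 0 := by
    have hr : ∑ j ∈ Finset.range m, γ (m - j) = ∑ j ∈ Finset.range m, γ (j + 1) := by
      rw [← Finset.sum_range_reflect (fun i => γ (i + 1)) m]
      refine Finset.sum_congr rfl (fun j hj => ?_)
      have hj' := Finset.mem_range.1 hj
      rw [show m - 1 - j + 1 = m - j by omega]
    have h2S : ∑ j ∈ Finset.range m, (γ (j + 1) + γ (m - j)) = 0 :=
      Finset.sum_eq_zero (fun j hj => hpair j (Finset.mem_range.1 hj))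
    rw [Finset.sum_add_distrib, hr] at h2S
    omega
  -- reduce modulo the maximal ideal
  have hk2 : (2 : IsLocalRing.ResidueField R) = 0 := by
    have h : IsLocalRing.residue R (2 : R) = 0 := (IsLocalRing.residue_eq_zero_iff (2 : R)).2 h2
    rw [map_ofNat] at h
    exact h
  have hz : (IsLocalRing.residue R ⟨ζ, hζR⟩) ^ (2 ^ (a + 1)) = 1 := by
    rw [← map_pow]
    have h : (⟨ζ, hζR⟩ : R) ^ (2 ^ (a + 1)) = 1 := Subtype.ext (by simpa using hζ1)
    rw [h, map_one]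
  have hz1 : IsLocalRing.residue R ⟨ζ, hζR⟩ = 1 :=
    cy3_eq_one_of_pow_two_pow hk2 (a + 1) _ hz
  have hyR : y = ∑ i ∈ Finset.range (2 ^ a), (γ i : R) * (⟨ζ, hζR⟩ : R) ^ i := by
    apply Subtype.ext
    rw [hy]
    simp
  have hy0 : IsLocalRing.residue R y = 0 := (IsLocalRing.residue_eq_zero_iff y).2 hym
  have hsumk : IsLocalRing.residue R y = ((γ 0 : ℤ) : IsLocalRing.ResidueField R) := by
    rw [hyR, map_sum]
    have hterm : ∀ i ∈ Finset.range (2 ^ a),
        IsLocalRing.residue R ((γ i : R) * (⟨ζ, hζR⟩ : R) ^ i) =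
          ((γ i : ℤ) : IsLocalRing.ResidueField R) := by
      intro i _
      rw [map_mul, map_pow, hz1, one_pow, mul_one, map_intCast]
    rw [Finset.sum_congr rfl hterm, ← Int.cast_sum, hm, Finset.sum_range_succ', hS, zero_add]
  rw [hy0] at hsumk
  rcases Int.even_or_odd' (γ 0) with ⟨t, ht | ht⟩
  · exact ⟨t, ht⟩
  · exfalso
    rw [ht] at hsumk
    push_cast at hsumk
    rw [hk2, zero_mul, zero_add] at hsumk
    exact zero_ne_one hsumk

end Cfsg.Agent.Lib.H19.KY
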