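/-
S2549 (architect helper8), piece MONO, part 1 (toolkit-free): block monomial matrices of `GM a b = O⁻_{2m+2}`.
Part 2 (`mono_perm`, `NsM_isMonoB`, `sRefM_inj`, on the toolkit FORM/PERM) is `Lib/H19/MBNMONO2.lean`.
-/
import Cfsg.Agent.Lib.H8.MBNRefl

set_option autoImplicit false
set_option linter.unusedSectionVars false
set_option linter.unusedVariables false

namespace Cfsg.Agent.Lib.H19.MBN

open Matrix Cfsg.Agent.Lib.H12.DCos Cfsg.Agent.Lib.H8.FBN Cfsg.Agent.Lib.H8.MBN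

variable {F : Type*} [Field F] {m : ℕ} (a b : F)

/-- `val_mul` of `H8.MBN` (the name is ambiguous with `H8.FBN.val_mul`) -/
theorem vmul (g h : ↥(GM (m := m) a b)) :
    ((g * h : ↥(GM (m := m) a b)).1 : Matrix (Fin (2 * m + 2)) (Fin (2 * m + 2)) F) =
      (g.1 : Matrix (Fin (2 * m + 2)) (Fin (2 * m + 2)) F) *
        (h.1 : Matrix (Fin (2 * m + 2)) (Fin (2 * m + 2)) F) := rfl

/-! ### permutations fixing the middle indices -/

theorem perm_mid (π : Equiv.Perm (Fin (2 * m + 2))) (h0 : π p0 = p0) (h1 : π p1 = p1)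
    (k : Fin (2 * m + 2)) (hk : IsMid k) : π k = k := by
  rcases (isMid_iff k).mp hk with h | h
  · rw [h, h0]
  · rw [h, h1]

theorem isMid_perm (π : Equiv.Perm (Fin (2 * m + 2))) (h0 : π p0 = p0) (h1 : π p1 = p1)
    (k : Fin (2 * m + 2)) : IsMid (π k) ↔ IsMid k := by
  constructor
  · intro h
    rcases (isMid_iff (π k)).mp h with h' | h'
    · have : k = p0 := π.injective (h'.trans h0.symm)
      rw [this]; exact (isMid_iff _).mpr (Or.inl rfl)
    · have : k = p1 := π.injective (h'.trans h1.symm)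
      rw [this]; exact (isMid_iff _).mpr (Or.inr rfl)
  · intro h
    rw [perm_mid π h0 h1 k h]; exact h

theorem perm_inv_p0 (π : Equiv.Perm (Fin (2 * m + 2))) (h0 : π p0 = p0) : π⁻¹ p0 = p0 := by
  rw [Equiv.Perm.inv_def, Equiv.symm_apply_eq, h0]

theorem perm_inv_p1 (π : Equiv.Perm (Fin (2 * m + 2))) (h1 : π p1 = p1) : π⁻¹ p1 = p1 := by
  rw [Equiv.Perm.inv_def, Equiv.symm_apply_eq, h1]

/-- block monomial with a given permutation -/
def MonoWith (π : Equiv.Perm (Fin (2 * m + 2))) (A : Matrix (Fin (2 * m + 2)) (Fin (2 * m + 2)) F) : Prop :=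
  ∀ k l : Fin (2 * m + 2), k ≠ π l → ¬ (IsMid k ∧ IsMid l) → A k l = 0

theorem MonoWith.mul {π σ : Equiv.Perm (Fin (2 * m + 2))} (hπ0 : π p0 = p0) (hπ1 : π p1 = p1)
    (hσ0 : σ p0 = p0) (hσ1 : σ p1 = p1)
    {A B : Matrix (Fin (2 * m + 2)) (Fin (2 * m + 2)) F} (hA : MonoWith π A) (hB : MonoWith σ B) :
    MonoWith (π * σ) (A * B) := by
  intro k l hk hm
  rw [Matrix.mul_apply]
  apply Finset.sum_eq_zero
  intro j _
  by_cases h1 : k = π j
  · by_cases h2 : j = σ l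
    · exfalso; apply hk; rw [h1, h2]; rfl
    · by_cases hmid : IsMid j ∧ IsMid l
      · exfalso; apply hm
        refine ⟨?_, hmid.2⟩
        rw [h1, perm_mid π hπ0 hπ1 j hmid.1]; exact hmid.1
      · rw [hB j l h2 hmid, mul_zero]
  · by_cases hmid : IsMid k ∧ IsMid j
    · by_cases h2 : j = σ l
      · exfalso; apply hm
        refine ⟨hmid.1, ?_⟩
        rw [← isMid_perm σ hσ0 hσ1 l, ← h2]; exact hmid.2
      · by_cases hmid2 : IsMid j ∧ IsMid l
        · exact absurd ⟨hmid.1, hmid2.2⟩ hm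
        · rw [hB j l h2 hmid2, mul_zero]
    · rw [hA k j h1 hmid, zero_mul]

theorem lv_ne_iff (k l : Fin (2 * m + 2)) : lv k ≠ lv l ↔ (k ≠ l ∧ ¬ (IsMid k ∧ IsMid l)) := by
  have hk := k.2
  have hl := l.2
  have key : k ≠ l ↔ (k : ℕ) ≠ (l : ℕ) := by rw [Ne, Fin.ext_iff]
  rw [key]
  unfold lv IsMid
  split_ifs <;> omega

theorem monoWith_one_iff (A : Matrix (Fin (2 * m + 2)) (Fin (2 * m + 2)) F) :
    MonoWith 1 A ↔ IsDgB A := by
  constructor
  · intro h k l hkl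
    have := (lv_ne_iff k l).mp hkl
    exact h k l this.1 this.2
  · intro h k l hkl hm
    apply h k l
    rw [lv_ne_iff]
    exact ⟨hkl, hm⟩

/-! ### Piece MONO -/

theorem IsMonoB.mul {A B : Matrix (Fin (2 * m + 2)) (Fin (2 * m + 2)) F} (hA : IsMonoB A) (hB : IsMonoB B) :
    IsMonoB (A * B) := by
  obtain ⟨π, hπ0, hπ1, hπ⟩ := hA
  obtain ⟨σ, hσ0, hσ1, hσ⟩ := hB
  refine ⟨π * σ, ?_, ?_, MonoWith.mul hπ0 hπ1 hσ0 hσ1 hπ hσ⟩
  · rw [Equiv.Perm.mul_apply, hσ0, hπ0]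
  · rw [Equiv.Perm.mul_apply, hσ1, hπ1]

theorem isMonoB_of_isDgB {A : Matrix (Fin (2 * m + 2)) (Fin (2 * m + 2)) F} (hA : IsDgB A) : IsMonoB A :=
  ⟨1, rfl, rfl, (monoWith_one_iff A).mpr hA⟩

/-- column `l` (outer) of a block monomial matrix: `(g⁻¹)_{k, π l} g_{π l, l} = δ_{k l}` -/
theorem mono_inv_mul (g : ↥(GM (m := m) a b)) (π : Equiv.Perm (Fin (2 * m + 2)))
    (hπ : ∀ k l, k ≠ π l → ¬ (IsMid k ∧ IsMid l) → (g.1 : Matrix (Fin (2 * m + 2)) (Fin (2 * m + 2)) F) k l = 0)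
    (k l : Fin (2 * m + 2)) (hl : ¬ IsMid l) :
    ((g⁻¹ : ↥(GM (m := m) a b)).1 : Matrix (Fin (2 * m + 2)) (Fin (2 * m + 2)) F) k (π l) *
      (g.1 : Matrix (Fin (2 * m + 2)) (Fin (2 * m + 2)) F) (π l) l = if k = l then 1 else 0 := by
  have h := congrFun (congrFun (val_inv_mul a b g) k) l
  rw [Matrix.mul_apply, Matrix.one_apply, Finset.sum_eq_single (π l)] at h
  · exact h
  · intro j _ hj
    rw [hπ j l hj (fun hh => hl hh.2), mul_zero]
  · intro h'; exact absurd (Finset.mem_univ _) h'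

/-- row `π l` (`l` outer) of a block monomial matrix: `g_{π l, l} (g⁻¹)_{l, c} = δ_{π l, c}` -/
theorem mono_mul_inv (g : ↥(GM (m := m) a b)) (π : Equiv.Perm (Fin (2 * m + 2))) (h0 : π p0 = p0)
    (h1 : π p1 = p1)
    (hπ : ∀ k l, k ≠ π l → ¬ (IsMid k ∧ IsMid l) → (g.1 : Matrix (Fin (2 * m + 2)) (Fin (2 * m + 2)) F) k l = 0)
    (l c : Fin (2 * m + 2)) (hl : ¬ IsMid l) :
    (g.1 : Matrix (Fin (2 * m + 2)) (Fin (2 * m + 2)) F) (π l) l *
      ((g⁻¹ : ↥(GM (m := m) a b)).1 : Matrix (Fin (2 * m + 2)) (Fin (2 * m + 2)) F) l c =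
        if π l = c then 1 else 0 := by
  have h := congrFun (congrFun (val_mul_inv a b g) (π l)) c
  rw [Matrix.mul_apply, Matrix.one_apply, Finset.sum_eq_single l] at h
  · exact h
  · intro j _ hj
    rw [hπ (π l) j (fun hh => hj (π.injective hh).symm)
      (fun hh => hl ((isMid_perm π h0 h1 l).mp hh.1)), zero_mul]
  · intro h'; exact absurd (Finset.mem_univ _) h'

/-- the outer entries on the support are nonzero -/
theorem mono_ne_zero (g : ↥(GM (m := m) a b)) (π : Equiv.Perm (Fin (2 * m + 2)))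
    (hπ : ∀ k l, k ≠ π l → ¬ (IsMid k ∧ IsMid l) → (g.1 : Matrix (Fin (2 * m + 2)) (Fin (2 * m + 2)) F) k l = 0)
    (l : Fin (2 * m + 2)) (hl : ¬ IsMid l) :
    (g.1 : Matrix (Fin (2 * m + 2)) (Fin (2 * m + 2)) F) (π l) l ≠ 0 := by
  intro hz
  have h := mono_inv_mul a b g π hπ l l hl
  rw [hz, mul_zero, if_pos rfl] at h
  exact zero_ne_one h

/-- `(g⁻¹) k (π k) ≠ 0` for an outer `k` -/
theorem mono_inv_ne_zero (g : ↥(GM (m := m) a b)) (π : Equiv.Perm (Fin (2 * m + 2))) (h0 : π p0 = p0)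
    (h1 : π p1 = p1)
    (hπ : ∀ k l, k ≠ π l → ¬ (IsMid k ∧ IsMid l) → (g.1 : Matrix (Fin (2 * m + 2)) (Fin (2 * m + 2)) F) k l = 0)
    (k : Fin (2 * m + 2)) (hk : ¬ IsMid k) :
    ((g⁻¹ : ↥(GM (m := m) a b)).1 : Matrix (Fin (2 * m + 2)) (Fin (2 * m + 2)) F) k (π k) ≠ 0 := by
  intro hz
  have h := mono_inv_mul a b g π hπ k k hk
  rw [hz, zero_mul, if_pos rfl] at h
  exact zero_ne_one h

/-- `g⁻¹` is block monomial for `π⁻¹` -/
theorem mono_inv_apply (g : ↥(GM (m := m) a b)) (π : Equiv.Perm (Fin (2 * m + 2))) (h0 : π p0 = p0) (h1 : π p1 = p1)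
    (hπ : ∀ k l, k ≠ π l → ¬ (IsMid k ∧ IsMid l) → (g.1 : Matrix (Fin (2 * m + 2)) (Fin (2 * m + 2)) F) k l = 0)
    (k l : Fin (2 * m + 2)) (hkl : π k ≠ l) (hm : ¬ (IsMid k ∧ IsMid l)) :
    ((g⁻¹ : ↥(GM (m := m) a b)).1 : Matrix (Fin (2 * m + 2)) (Fin (2 * m + 2)) F) k l = 0 := by
  by_cases hk : IsMid k
  · -- then `l` is outer, `l = π l'` with `l'` outer, `k ≠ l'`
    have hl : ¬ IsMid l := fun hl => hm ⟨hk, hl⟩
    have e : π (π⁻¹ l) = l := by rw [Equiv.Perm.inv_def, Equiv.apply_symm_apply]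
    have hl' : ¬ IsMid (π⁻¹ l) := fun hh => hl (by rw [← e]; exact (isMid_perm π h0 h1 _).mpr hh)
    have h := mono_inv_mul a b g π hπ k (π⁻¹ l) hl'
    rw [e, if_neg (fun hh => hl' (by rw [← hh]; exact hk))] at h
    rcases mul_eq_zero.mp h with h2 | h2
    · exact h2
    · exfalso
      have := mono_ne_zero a b g π hπ (π⁻¹ l) hl'
      rw [e] at this
      exact this h2
  · have h := mono_mul_inv a b g π h0 h1 hπ k l hk
    rw [if_neg hkl] at h
    rcases mul_eq_zero.mp h with h2 | h2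
    · exact absurd h2 (mono_ne_zero a b g π hπ k hk)
    · exact h2

theorem isMonoB_inv (g : ↥(GM (m := m) a b))
    (hg : IsMonoB (g.1 : Matrix (Fin (2 * m + 2)) (Fin (2 * m + 2)) F)) :
    IsMonoB ((g⁻¹ : ↥(GM (m := m) a b)).1 : Matrix (Fin (2 * m + 2)) (Fin (2 * m + 2)) F) := by
  obtain ⟨π, h0, h1, hπ⟩ := hg
  refine ⟨π⁻¹, perm_inv_p0 π h0, perm_inv_p1 π h1, ?_⟩
  intro k l hkl hm
  apply mono_inv_apply a b g π h0 h1 hπ k l _ hm
  intro h
  apply hkl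
  rw [← h, Equiv.Perm.inv_def, Equiv.symm_apply_apply]

/-- the block monomial elements of `GM a b` form a subgroup -/
def MonoSub : Subgroup ↥(GM (m := m) a b) where
  carrier := {g | IsMonoB (g.1 : Matrix (Fin (2 * m + 2)) (Fin (2 * m + 2)) F)}
  one_mem' := isMonoB_of_isDgB (show IsDgB ((1 : ↥(GM (m := m) a b)).1 :
    Matrix (Fin (2 * m + 2)) (Fin (2 * m + 2)) F) from (HsM a b).one_mem)
  mul_mem' := fun {g h} hg hh => by
    show IsMonoB ((g * h).1 : Matrix (Fin (2 * m + 2)) (Fin (2 * m + 2)) F)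
    rw [vmul a b]
    exact IsMonoB.mul hg hh
  inv_mem' := fun {g} hg => isMonoB_inv a b g hg

/-- conjugation by a block monomial matrix, entrywise, outer row and column -/
theorem mono_conj_apply (g x : ↥(GM (m := m) a b)) (π : Equiv.Perm (Fin (2 * m + 2))) (h0 : π p0 = p0)
    (h1 : π p1 = p1)
    (hπ : ∀ k l, k ≠ π l → ¬ (IsMid k ∧ IsMid l) → (g.1 : Matrix (Fin (2 * m + 2)) (Fin (2 * m + 2)) F) k l = 0)
    (k l : Fin (2 * m + 2)) (hk : ¬ IsMid k) (hl : ¬ IsMid l) :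
    ((g⁻¹ * x * g).1 : Matrix (Fin (2 * m + 2)) (Fin (2 * m + 2)) F) k l =
      ((g⁻¹ : ↥(GM (m := m) a b)).1 : Matrix (Fin (2 * m + 2)) (Fin (2 * m + 2)) F) k (π k) *
        (x.1 : Matrix (Fin (2 * m + 2)) (Fin (2 * m + 2)) F) (π k) (π l) *
        (g.1 : Matrix (Fin (2 * m + 2)) (Fin (2 * m + 2)) F) (π l) l := by
  rw [vmul a b, vmul a b, Matrix.mul_apply, Finset.sum_eq_single (π l)]
  · rw [Matrix.mul_apply, Finset.sum_eq_single (π k)]
    · intro j _ hj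
      rw [mono_inv_apply a b g π h0 h1 hπ k j (fun hh => hj hh.symm) (fun hh => hk hh.1), zero_mul]
    · intro h'; exact absurd (Finset.mem_univ _) h'
  · intro j _ hj
    rw [hπ j l hj (fun hh => hl hh.2), mul_zero]
  · intro h'; exact absurd (Finset.mem_univ _) h'

/-- a sum over `Fin (2m+2)` supported on the two middle indices -/
theorem sum_mid (f : Fin (2 * m + 2) → F) (hf : ∀ j, ¬ IsMid j → f j = 0) :
    ∑ j, f j = f p0 + f p1 := by
  have hne : (p0 : Fin (2 * m + 2)) ≠ p1 := by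
    intro h
    have := congrArg Fin.val h
    rw [p0_val, p1_val] at this
    omega
  rw [← Finset.add_sum_erase _ _ (Finset.mem_univ (p0 : Fin (2 * m + 2))),
    ← Finset.add_sum_erase _ _ (Finset.mem_erase.mpr ⟨hne.symm, Finset.mem_univ (p1 : Fin (2 * m + 2))⟩),
    Finset.sum_eq_zero, add_zero]
  intro j hj
  rw [Finset.mem_erase, Finset.mem_erase] at hj
  apply hf
  intro hm
  rcases (isMid_iff j).mp hm with h | h
  · exact hj.2.1 h
  · exact hj.1 h

/-- outer row, middle column -/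
theorem mono_conj_apply_outer_mid (g x : ↥(GM (m := m) a b)) (π : Equiv.Perm (Fin (2 * m + 2))) (h0 : π p0 = p0)
    (h1 : π p1 = p1)
    (hπ : ∀ k l, k ≠ π l → ¬ (IsMid k ∧ IsMid l) → (g.1 : Matrix (Fin (2 * m + 2)) (Fin (2 * m + 2)) F) k l = 0)
    (k l : Fin (2 * m + 2)) (hk : ¬ IsMid k) (hl : IsMid l) :
    ((g⁻¹ * x * g).1 : Matrix (Fin (2 * m + 2)) (Fin (2 * m + 2)) F) k l =
      ((g⁻¹ : ↥(GM (m := m) a b)).1 : Matrix (Fin (2 * m + 2)) (Fin (2 * m + 2)) F) k (π k) *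
        ((x.1 : Matrix (Fin (2 * m + 2)) (Fin (2 * m + 2)) F) (π k) p0 *
            (g.1 : Matrix (Fin (2 * m + 2)) (Fin (2 * m + 2)) F) p0 l +
          (x.1 : Matrix (Fin (2 * m + 2)) (Fin (2 * m + 2)) F) (π k) p1 *
            (g.1 : Matrix (Fin (2 * m + 2)) (Fin (2 * m + 2)) F) p1 l) := by
  have hrow : ∀ j, ((g⁻¹ * x).1 : Matrix (Fin (2 * m + 2)) (Fin (2 * m + 2)) F) k j =
      ((g⁻¹ : ↥(GM (m := m) a b)).1 : Matrix (Fin (2 * m + 2)) (Fin (2 * m + 2)) F) k (π k) *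
        (x.1 : Matrix (Fin (2 * m + 2)) (Fin (2 * m + 2)) F) (π k) j := by
    intro j
    rw [vmul a b, Matrix.mul_apply, Finset.sum_eq_single (π k)]
    · intro i _ hi
      rw [mono_inv_apply a b g π h0 h1 hπ k i (fun hh => hi hh.symm) (fun hh => hk hh.1), zero_mul]
    · intro h'; exact absurd (Finset.mem_univ _) h'
  rw [vmul a b, Matrix.mul_apply, sum_mid]
  · rw [hrow, hrow]; ring
  · intro j hj
    rw [hπ j l (fun hh => hj (by rw [hh]; exact (isMid_perm π h0 h1 l).mpr hl)) (fun hh => hj hh.1), mul_zero]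

/-- middle row, outer column -/
theorem mono_conj_apply_mid_outer (g x : ↥(GM (m := m) a b)) (π : Equiv.Perm (Fin (2 * m + 2))) (h0 : π p0 = p0)
    (h1 : π p1 = p1)
    (hπ : ∀ k l, k ≠ π l → ¬ (IsMid k ∧ IsMid l) → (g.1 : Matrix (Fin (2 * m + 2)) (Fin (2 * m + 2)) F) k l = 0)
    (k l : Fin (2 * m + 2)) (hk : IsMid k) (hl : ¬ IsMid l) :
    ((g⁻¹ * x * g).1 : Matrix (Fin (2 * m + 2)) (Fin (2 * m + 2)) F) k l =
      (((g⁻¹ : ↥(GM (m := m) a b)).1 : Matrix (Fin (2 * m + 2)) (Fin (2 * m + 2)) F) k p0 *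
            (x.1 : Matrix (Fin (2 * m + 2)) (Fin (2 * m + 2)) F) p0 (π l) +
          ((g⁻¹ : ↥(GM (m := m) a b)).1 : Matrix (Fin (2 * m + 2)) (Fin (2 * m + 2)) F) k p1 *
            (x.1 : Matrix (Fin (2 * m + 2)) (Fin (2 * m + 2)) F) p1 (π l)) *
        (g.1 : Matrix (Fin (2 * m + 2)) (Fin (2 * m + 2)) F) (π l) l := by
  rw [vmul a b, Matrix.mul_apply, Finset.sum_eq_single (π l)]
  · congr 1
    rw [vmul a b, Matrix.mul_apply, sum_mid]
    intro j hj
    rw [mono_inv_apply a b g π h0 h1 hπ k j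
      (fun hh => hj (by rw [← hh]; exact (isMid_perm π h0 h1 k).mpr hk)) (fun hh => hj hh.2), zero_mul]
  · intro j _ hj
    rw [hπ j l hj (fun hh => hl hh.2), mul_zero]
  · intro h'; exact absurd (Finset.mem_univ _) h'

/-- a permutation fixing the middle indices which does not increase the level is the identity -/
theorem perm_eq_one_of_lv_le (π : Equiv.Perm (Fin (2 * m + 2))) (h0 : π p0 = p0) (h1 : π p1 = p1)
    (h : ∀ l, lv (π l) ≤ lv l) : ∀ l, π l = l := by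
  have key : ∀ d : ℕ, ∀ l : Fin (2 * m + 2), lv l = d → π l = l := by
    intro d
    induction d using Nat.strong_induction_on with
    | _ d ih =>
      intro l hl
      by_contra hne
      rcases lt_or_eq_of_le (h l) with hlt | heq
      · have h2 := ih (lv (π l)) (by rw [← hl]; exact hlt) (π l) rfl
        exact hne (π.injective h2)
      · -- same level, different indices: both middle
        have hmid : IsMid (π l) ∧ IsMid l := by
          by_contra hm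
          exact ((lv_ne_iff (π l) l).mpr ⟨hne, hm⟩) heq
        exact hne (perm_mid π h0 h1 l hmid.2)
  intro l
  exact key (lv l) l rfl

/-- `B ∩ N ≤ H` -/
theorem BsM_inf_mono_le (g : ↥(GM (m := m) a b)) (hb : g ∈ BsM a b)
    (hg : IsMonoB (g.1 : Matrix (Fin (2 * m + 2)) (Fin (2 * m + 2)) F)) : g ∈ HsM a b := by
  obtain ⟨π, h0, h1, hπ⟩ := hg
  have hb' : IsUpB (g.1 : Matrix (Fin (2 * m + 2)) (Fin (2 * m + 2)) F) := hb
  have hle : ∀ l, lv (π l) ≤ lv l := by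
    intro l
    by_cases hl : IsMid l
    · rw [perm_mid π h0 h1 l hl]
    · by_contra hlt
      exact mono_ne_zero a b g π hπ l hl (hb' (π l) l (not_le.mp hlt))
  have hone := perm_eq_one_of_lv_le π h0 h1 hle
  show IsDgB (g.1 : Matrix (Fin (2 * m + 2)) (Fin (2 * m + 2)) F)
  rw [← monoWith_one_iff]
  intro k l hkl hm
  apply hπ k l _ hm
  rw [hone l]
  exact hkl

/-- `N` normalises `H` -/
theorem mono_conj_HsM (g t : ↥(GM (m := m) a b))
    (hg : IsMonoB (g.1 : Matrix (Fin (2 * m + 2)) (Fin (2 * m + 2)) F)) (ht : t ∈ HsM a b) :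
    g * t * g⁻¹ ∈ HsM a b := by
  obtain ⟨π, h0, h1, hπ⟩ := hg
  have ht' : MonoWith (1 : Equiv.Perm (Fin (2 * m + 2)))
      (t.1 : Matrix (Fin (2 * m + 2)) (Fin (2 * m + 2)) F) := (monoWith_one_iff _).mpr ht
  have hinv : MonoWith π⁻¹ ((g⁻¹ : ↥(GM (m := m) a b)).1 : Matrix (Fin (2 * m + 2)) (Fin (2 * m + 2)) F) := by
    intro k l hkl hm
    apply mono_inv_apply a b g π h0 h1 hπ k l _ hm
    intro h
    apply hkl
    rw [← h, Equiv.Perm.inv_def, Equiv.symm_apply_apply]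
  have h1' : MonoWith (π * 1) ((g.1 : Matrix (Fin (2 * m + 2)) (Fin (2 * m + 2)) F) *
      (t.1 : Matrix (Fin (2 * m + 2)) (Fin (2 * m + 2)) F)) := MonoWith.mul h0 h1 rfl rfl hπ ht'
  have h2 := MonoWith.mul (π := π * 1) (σ := π⁻¹) (by rw [mul_one]; exact h0) (by rw [mul_one]; exact h1)
    (perm_inv_p0 π h0) (perm_inv_p1 π h1) h1' hinv
  rw [mul_one, mul_inv_cancel] at h2
  show IsDgB ((g * t * g⁻¹).1 : Matrix (Fin (2 * m + 2)) (Fin (2 * m + 2)) F)
  rw [vmul a b, vmul a b, ← monoWith_one_iff]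
  exact h2

end Cfsg.Agent.Lib.H19.MBN
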