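import Mathlib
import Cfsg.Agent.Lib.H26.MC3Defs
import Cfsg.Agent.Lib.H26.MC3G1
import Cfsg.Agent.Lib.H16.Metacyclic
import Cfsg.Agent.Lib.H22.UniqueOrderP

/-!
helper19: S4079 piece G2 (`card_Om`): `|Ω₁(L)| = p²` for a metacyclic `p`-group `L` (`p` odd) without cyclic
subgroups of index `p`.
-/

set_option autoImplicit false

namespace Cfsg.Agent.Lib.H19.MC3

open Cfsg.Agent.Lib.H26.MC3

universe u

variable {p : ℕ} [Fact p.Prime] {L : Type u} [Group L] [Finite L]

/-- G2 -/
theorem card_Om (h : Hyp p L) : Nat.card ↥(Om p L) = p ^ 2 := by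
  have hp := (Fact.out : p.Prime)
  have hexp : ∀ e : ↥(Om p L), e ^ p = 1 := by
    intro e
    apply Subtype.ext
    have := (Cfsg.Agent.Lib.H26.MC3.mem_Om_iff h.hp2 h.hL h.hmc e.1).mp e.2
    simpa using this
  have hle : Nat.card ↥(Om p L) ≤ p ^ 2 :=
    Cfsg.Agent.Lib.H16.Meta.card_le_sq_of_pow_eq_one
      (Cfsg.Agent.Lib.H16.Meta.isMetacyclic_sub h.hmc (Om p L)) hp.pos hexp
  obtain ⟨a, ha⟩ := IsPGroup.iff_card.mp (h.hL.to_subgroup (Om p L))
  have ha2 : a ≤ 2 := by
    rw [ha] at hle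
    exact (Nat.pow_le_pow_iff_right hp.one_lt).mp hle
  by_contra hne
  have ha1 : a ≤ 1 := by
    by_contra hgt
    apply hne
    have : a = 2 := by omega
    rw [ha, this]
  have hcardle : Nat.card ↥(Om p L) ≤ p := by
    rw [ha]
    calc p ^ a ≤ p ^ 1 := Nat.pow_le_pow_right hp.pos ha1
      _ = p := pow_one p
  -- at most one subgroup of order `p`
  have hsub : ∀ H : Subgroup L, Nat.card H = p → H = Om p L := by
    intro H hH
    have hHle : H ≤ Om p L := by
      intro x hx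
      rw [Cfsg.Agent.Lib.H26.MC3.mem_Om_iff h.hp2 h.hL h.hmc]
      have h1 : (⟨x, hx⟩ : ↥H) ^ Nat.card ↥H = 1 := pow_card_eq_one'
      rw [hH] at h1
      have := congrArg Subtype.val h1
      simpa using this
    exact Subgroup.eq_of_le_of_card_ge hHle (by rw [hH]; exact hcardle)
  have huniq : Cfsg.Agent.Lib.H22.AtMostOneOrderP p L := by
    intro H K hH hK
    rw [hsub H hH, hsub K hK]
  have hcyc : IsCyclic L :=
    Cfsg.Agent.Lib.H22.isCyclic_of_atMostOne_of_odd h.hp2 _ L rfl h.hL huniq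
  -- a subgroup of index `p`
  obtain ⟨m, hm⟩ := IsPGroup.iff_card.mp h.hL
  have hm1 : 1 ≤ m := by
    have := h.hnt
    have h1 : 1 < Nat.card L := Finite.one_lt_card
    rw [hm] at h1
    by_contra hlt
    have : m = 0 := by omega
    rw [this, pow_zero] at h1
    omega
  obtain ⟨C, hC⟩ := Sylow.exists_subgroup_card_pow_prime p (G := L) (n := m - 1)
    (by rw [hm]; exact pow_dvd_pow p (Nat.sub_le m 1))
  have hidx : C.index = p := by
    have h1 := C.card_mul_index
    rw [hC, hm] at h1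
    have h2 : p ^ m = p ^ (m - 1) * p := by
      rw [← pow_succ, Nat.sub_add_cancel hm1]
    rw [h2] at h1
    exact Nat.eq_of_mul_eq_mul_left (pow_pos hp.pos _) h1
  have := hcyc
  exact h.hnc C (Subgroup.isCyclic C) hidx

end Cfsg.Agent.Lib.H19.MC3
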