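import Mathlib
import Cfsg.Agent.Lib.H26.MC3Defs
import Cfsg.Agent.Lib.H26.MC3G1
import Cfsg.Agent.Lib.H19.MetaKey

/-!
helper19: S4079 piece G8 (`exists_adjust`): in a metacyclic `p`-group (`p` odd), if `y ^ p = c₁ ^ p` with
`c₁ ∈ L'` then `y` can be adjusted by an element of `L'` to an element of order dividing `p`.
-/

set_option autoImplicit false

namespace Cfsg.Agent.Lib.H19.MC3

open Cfsg.Agent.Lib.H26.MC3 Cfsg.Agent.Lib.H19.MC

universe u

variable {p : ℕ} [Fact p.Prime] {L : Type u} [Group L] [Finite L]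

/-- G8 -/
theorem exists_adjust (hp2 : p ≠ 2) (hL : IsPGroup p L) (hmc : Cfsg.IsMetacyclic L)
    {y c₁ : L} (hc₁ : c₁ ∈ commutator L) (hy : y ^ p = c₁ ^ p) :
    ∃ c' ∈ commutator L, (c'⁻¹ * y) ^ p = 1 := by
  have hp := (Fact.out : p.Prime)
  have hcyc : IsCyclic ↥(commutator L) := Cfsg.Agent.Lib.H26.MC3.isCyclic_commutator hmc
  obtain ⟨ρ, hρ, hconj⟩ := exists_pow_conj hL (commutator L) hcyc y
  have hmod : geomSum ρ p ≡ p [MOD p ^ 2] := geomSum_modEq hp hp2 hρ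
  have hdvd : p ∣ geomSum ρ p := by
    have h1 : geomSum ρ p ≡ p [MOD p] := Nat.ModEq.of_dvd (dvd_pow_self p two_ne_zero) hmod
    have h2 : p ≡ 0 [MOD p] := (Nat.modEq_zero_iff_dvd).mpr dvd_rfl
    exact (Nat.modEq_zero_iff_dvd).mp (h1.trans h2)
  obtain ⟨g', hg'⟩ := hdvd
  have hpg' : ¬ p ∣ g' := by
    intro hd
    have h8 : p ^ 2 ∣ geomSum ρ p := by
      rw [hg', pow_two]
      exact Nat.mul_dvd_mul_left p hd
    have h9 : geomSum ρ p ≡ 0 [MOD p ^ 2] := (Nat.modEq_zero_iff_dvd).mpr h8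
    have h10 : p ≡ 0 [MOD p ^ 2] := hmod.symm.trans h9
    have h11 : p ^ 2 ∣ p := (Nat.modEq_zero_iff_dvd).mp h10
    have h12 := Nat.le_of_dvd hp.pos h11
    have : p < p ^ 2 := by
      calc p = p ^ 1 := (pow_one p).symm
        _ < p ^ 2 := Nat.pow_lt_pow_right hp.one_lt (by norm_num)
    omega
  obtain ⟨a, ha⟩ := IsPGroup.iff_card.mp (hL.to_subgroup (commutator L))
  have hcop : (Nat.card ↥(commutator L)).Coprime g' := by
    rw [ha]
    exact Nat.Coprime.pow_left a ((Nat.Prime.coprime_iff_not_dvd hp).mpr hpg')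
  obtain ⟨c', hc'⟩ := (powCoprime hcop).surjective ⟨c₁, hc₁⟩
  have hc'v : (c' : L) ^ g' = c₁ := by
    have := congrArg Subtype.val hc'
    simpa using this
  refine ⟨(c' : L), c'.2, ?_⟩
  have h1 : ((c' : L)⁻¹ * y) ^ p = ((c' : L)⁻¹) ^ geomSum ρ p * y ^ p :=
    mul_pow_of_conj (fun t => hconj _ (pow_mem (inv_mem c'.2) t)) p
  rw [h1, hy, hg', inv_pow, mul_comm p g', pow_mul, hc'v, inv_mul_cancel]

end Cfsg.Agent.Lib.H19.MC3
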