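import Mathlib
import Cfsg.Agent.Lib.H19.MetaPow

/-!
helper19: finite metacyclic `p`-groups, `p` odd, `|G'| = p^n`: `a^e ∈ Z(G) ↔ p^n ∣ e ↔ b^e ∈ Z(G)`;
the class size of `g` is the order of `g` modulo `Z(G)`; the subgroup `Pw G (p^s)` generated by the
`p^s`-th powers consists of the elements with class size at most `p^(n-s)` (`s ≤ n`), and
`Pw G (p^n) = Z(G)`.
-/

set_option autoImplicit false
set_option linter.unusedSectionVars false

namespace Cfsg.Agent.Lib.H19.MC

open Cfsg.Agent.Lib.H15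

variable {G : Type*} [Group G]

/-- the subgroup generated by the `k`-th powers -/
def Pw (G : Type*) [Group G] (k : ℕ) : Subgroup G := Subgroup.closure {x : G | ∃ y : G, y ^ k = x}

theorem pow_mem_Pw (k : ℕ) (y : G) : y ^ k ∈ Pw G k := Subgroup.subset_closure ⟨y, rfl⟩

theorem inv_eq_pow_of_finite [Finite G] (x : G) : ∃ k : ℕ, x⁻¹ = x ^ k := by
  refine ⟨orderOf x - 1, ?_⟩
  have h : x * x ^ (orderOf x - 1) = 1 := by
    rw [← pow_succ', Nat.sub_add_cancel (orderOf_pos x), pow_orderOf_eq_one]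
  exact inv_eq_of_mul_eq_one_right h

theorem Coords.mem_Pw_coords [Finite G] {p : ℕ} [Fact p.Prime] (hp2 : p ≠ 2)
    {N : Subgroup G} {a b : G} {r : ℕ} (c : Coords p N a b r) (s : ℕ) {g : G}
    (hg : g ∈ Pw G (p ^ s)) : ∃ u v : ℕ, g = a ^ (p ^ s * u) * b ^ (p ^ s * v) := by
  have hp := (Fact.out : p.Prime)
  unfold Pw at hg
  induction hg using Subgroup.closure_induction with
  | mem x hx =>
    obtain ⟨y, rfl⟩ := hx
    obtain ⟨j, i, rfl⟩ := c.hgen y
    rw [c.pow_formula]
    obtain ⟨u, hu, _⟩ := geomSum_prime_pow hp2 (pow_mod_prime_eq_one hp.one_lt c.hr i) s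
    refine ⟨j * u, i, ?_⟩
    rw [hu]
    congr 2 <;> ring
  | one => exact ⟨0, 0, by simp⟩
  | mul x y _ _ hx hy =>
    obtain ⟨u, v, rfl⟩ := hx
    obtain ⟨u', v', rfl⟩ := hy
    rw [c.mul_formula]
    refine ⟨u + u' * r ^ (p ^ s * v), v + v', ?_⟩
    congr 2 <;> ring
  | inv x _ hx =>
    obtain ⟨u, v, rfl⟩ := hx
    obtain ⟨k, hk⟩ := inv_eq_pow_of_finite (a ^ (p ^ s * u) * b ^ (p ^ s * v))
    rw [hk, c.pow_formula]
    refine ⟨u * geomSum (r ^ (p ^ s * v)) k, v * k, ?_⟩
    congr 2 <;> ring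

section facts

variable [Finite G] {p : ℕ} [Fact p.Prime] (hp2 : p ≠ 2) (hG : IsPGroup p G)
  (N : Subgroup G) [N.Normal] (hNc : IsCyclic N) (hQ : IsCyclic (G ⧸ N))
  {a b : G} {r : ℕ} (c : Coords p N a b r) {n : ℕ} (hn : Nat.card (commutator G) = p ^ n)

include hp2 hG hNc hQ hn in
theorem index_centralizer_eq : (Subgroup.centralizer (N : Set G)).index = p ^ n := by
  have hp := (Fact.out : p.Prime)
  have h1 := card_commutator_mul_card_center N hNc hQ
  have h2 := index_center_eq N hNc hQ hp2 hG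
  have h3 := Subgroup.card_mul_index (Subgroup.center G)
  have h4 := Subgroup.card_mul_index (Subgroup.centralizer (N : Set G))
  rw [hn] at h1 h2
  rw [← h1, h2] at *
  have hz : 0 < Nat.card (Subgroup.center G) := Nat.card_pos
  have : p ^ n * Nat.card (Subgroup.center G) * (Subgroup.centralizer (N : Set G)).index =
      p ^ n * Nat.card (Subgroup.center G) * p ^ n := by
    rw [h4, ← h3]; ring
  exact Nat.eq_of_mul_eq_mul_left (Nat.mul_pos (pow_pos hp.pos n) hz) this

include c hNc in
theorem centralizer_sup_zpowers : Subgroup.centralizer (N : Set G) ⊔ Subgroup.zpowers b = ⊤ := by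
  rw [eq_top_iff]
  intro g _
  obtain ⟨j, i, rfl⟩ := c.hgen g
  exact mul_mem (Subgroup.mem_sup_left (le_centralizer_self N hNc (c.pow_mem j)))
    (Subgroup.mem_sup_right (pow_mem (Subgroup.mem_zpowers b) i))

include hp2 hG hNc hQ hn c in
theorem b_pow_mem_centralizer_iff (e : ℕ) :
    b ^ e ∈ Subgroup.centralizer (N : Set G) ↔ p ^ n ∣ e := by
  have hAn : (Subgroup.centralizer (N : Set G)).Normal := Subgroup.normal_centralizer
  rw [pow_mem_iff_index_dvd (centralizer_sup_zpowers N hNc c) e,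
    index_centralizer_eq hp2 hG N hNc hQ hn]

include c in
omit [Finite G] [N.Normal] in
theorem b_pow_mem_center_iff_mem_centralizer (e : ℕ) :
    b ^ e ∈ Subgroup.center G ↔ b ^ e ∈ Subgroup.centralizer (N : Set G) := by
  constructor
  · intro h; exact Subgroup.center_le_centralizer _ h
  · intro h
    rw [Subgroup.mem_centralizer_iff] at h
    apply c.mem_center_of_comm
    · exact (h a c.haN).symm
    · rw [← pow_succ, ← pow_succ']

include hp2 hG hNc hQ hn c in
theorem b_pow_mem_center_iff (e : ℕ) : b ^ e ∈ Subgroup.center G ↔ p ^ n ∣ e := by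
  rw [b_pow_mem_center_iff_mem_centralizer N c, b_pow_mem_centralizer_iff hp2 hG N hNc hQ c hn]

include hp2 hG hNc hQ hn c in
theorem a_pow_mem_center_iff (e : ℕ) : a ^ e ∈ Subgroup.center G ↔ p ^ n ∣ e := by
  have hp := (Fact.out : p.Prime)
  set H : Subgroup ↥N := (Subgroup.center G).subgroupOf N with hH
  have hHn : H.Normal := by rw [hH]; infer_instance
  have hx : H ⊔ Subgroup.zpowers (⟨a, c.haN⟩ : ↥N) = ⊤ := by
    rw [eq_top_iff]
    intro y _
    obtain ⟨t, ht⟩ := c.hN y y.2
    apply Subgroup.mem_sup_right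
    rw [Subgroup.mem_zpowers_iff]
    refine ⟨t, ?_⟩
    apply Subtype.ext
    rw [zpow_natCast, Subgroup.coe_pow]
    exact ht.symm
  have h1 := pow_mem_iff_index_dvd hx e
  have h2 : H.index = p ^ n := by
    show (Subgroup.center G).relIndex N = p ^ n
    rw [← Subgroup.relIndex_sup_right N (Subgroup.center G),
      ← centralizer_eq_sup_center N hNc hQ]
    have h3 := Subgroup.relIndex_mul_relIndex (⊥ : Subgroup G) (Subgroup.center G)
      (Subgroup.centralizer (N : Set G)) bot_le (Subgroup.center_le_centralizer _)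
    rw [Subgroup.relIndex_bot_left, Subgroup.relIndex_bot_left,
      ← card_commutator_mul_card_center N hNc hQ, hn, mul_comm] at h3
    exact Nat.eq_of_mul_eq_mul_right Nat.card_pos h3
  rw [h2] at h1
  rw [← h1, hH, Subgroup.mem_subgroupOf, Subgroup.coe_pow]

end facts

section classSize

variable [Finite G] {p : ℕ} [Fact p.Prime] (hp2 : p ≠ 2) (hG : IsPGroup p G)
  (N : Subgroup G) [N.Normal] (hNc : IsCyclic N) (hGN : commutator G ≤ N)

include hp2 hG hNc hGN

/-- the class size of `g` is the order of `g` modulo the centre -/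
theorem index_centralizer_singleton (g : G) :
    (Subgroup.centralizer ({g} : Set G)).index = orderOf (g : G ⧸ Subgroup.center G) := by
  set Z := Subgroup.center G with hZ
  set π := QuotientGroup.mk' Z with hπ
  set K := (Subgroup.zpowers (π g)).comap π with hK
  have hZK : Z ≤ K := by
    intro z hz
    rw [hK, Subgroup.mem_comap]
    have : π z = 1 := (QuotientGroup.eq_one_iff z).mpr hz
    rw [this]; exact one_mem _
  have hgK : g ∈ K := by
    rw [hK, Subgroup.mem_comap]; exact Subgroup.mem_zpowers _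
  have hCK : Subgroup.centralizer (K : Set G) = Subgroup.centralizer ({g} : Set G) := by
    apply le_antisymm
    · apply Subgroup.centralizer_le
      intro x hx
      rw [Set.mem_singleton_iff] at hx
      rw [hx]; exact hgK
    · intro x hx
      rw [Subgroup.mem_centralizer_singleton_iff] at hx
      rw [Subgroup.mem_centralizer_iff]
      intro y hy
      have hy' : y ∈ K := hy
      rw [hK, Subgroup.mem_comap, Subgroup.mem_zpowers_iff] at hy'
      obtain ⟨k, hk⟩ := hy'
      have hz : (g ^ k)⁻¹ * y ∈ Z := by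
        rw [← QuotientGroup.eq_one_iff]
        show π ((g ^ k)⁻¹ * y) = 1
        rw [map_mul, map_inv, map_zpow, hk, inv_mul_cancel]
      have h1 : Commute x (g ^ k) := (Commute.zpow_right (show Commute x g from hx) k)
      have h2 : Commute x ((g ^ k)⁻¹ * y) := (Subgroup.mem_center_iff.mp hz x)
      have h3 : y = g ^ k * ((g ^ k)⁻¹ * y) := by group
      rw [h3]
      exact ((h1.mul_right h2).eq).symm
  have hdual := card_mul_card_centralizer hp2 hG N hNc hGN hZK
  rw [hCK] at hdual
  -- |K| = |Z| * orderOf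
  have hidx : K.index = (Subgroup.zpowers (π g)).index :=
    Subgroup.index_comap_of_surjective _ (QuotientGroup.mk'_surjective Z)
  have h1 := Subgroup.card_mul_index (Subgroup.zpowers (π g))
  have h2 := Subgroup.card_mul_index K
  have h3 := Subgroup.card_mul_index Z
  have h4 := Subgroup.card_mul_index (Subgroup.centralizer ({g} : Set G))
  rw [Nat.card_zpowers] at h1
  have h5 : Nat.card (G ⧸ Z) = Z.index := rfl
  rw [h5] at h1
  rw [hidx] at h2
  have hi : 0 < (Subgroup.zpowers (π g)).index :=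
    Nat.pos_of_ne_zero Subgroup.index_ne_zero_of_finite
  have hK' : Nat.card K = Nat.card Z * orderOf (π g) := by
    have : Nat.card K * (Subgroup.zpowers (π g)).index =
        Nat.card Z * orderOf (π g) * (Subgroup.zpowers (π g)).index := by
      rw [h2, ← h3, ← h1]; ring
    exact Nat.eq_of_mul_eq_mul_right hi this
  rw [hK'] at hdual
  have hz : 0 < Nat.card Z := Nat.card_pos
  have hc : 0 < Nat.card (Subgroup.centralizer ({g} : Set G)) := Nat.card_pos
  have : Nat.card (Subgroup.centralizer ({g} : Set G)) * Nat.card Z *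
      (Subgroup.centralizer ({g} : Set G)).index =
      Nat.card (Subgroup.centralizer ({g} : Set G)) * Nat.card Z * orderOf (π g) := by
    calc Nat.card (Subgroup.centralizer ({g} : Set G)) * Nat.card Z *
      (Subgroup.centralizer ({g} : Set G)).index
        = (Nat.card (Subgroup.centralizer ({g} : Set G)) *
          (Subgroup.centralizer ({g} : Set G)).index) * Nat.card Z := by ring
      _ = Nat.card G * Nat.card Z := by rw [h4]
      _ = Nat.card Z * orderOf (π g) * Nat.card (Subgroup.centralizer ({g} : Set G)) := hdual.symm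
      _ = _ := by ring
  exact Nat.eq_of_mul_eq_mul_left (Nat.mul_pos hc hz) this

/-- class size at most `p^k` iff the `p^k`-th power is central -/
theorem index_centralizer_le_iff (g : G) (k : ℕ) :
    (Subgroup.centralizer ({g} : Set G)).index ≤ p ^ k ↔ g ^ p ^ k ∈ Subgroup.center G := by
  have hp := (Fact.out : p.Prime)
  rw [index_centralizer_singleton hp2 hG N hNc hGN g]
  obtain ⟨e, he⟩ := hG g
  have h1 : orderOf (g : G ⧸ Subgroup.center G) ∣ p ^ e := by
    apply orderOf_dvd_of_pow_eq_one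
    rw [← QuotientGroup.mk_pow, he]; rfl
  obtain ⟨l, _, hl⟩ := (Nat.dvd_prime_pow hp).mp h1
  rw [← QuotientGroup.eq_one_iff, QuotientGroup.mk_pow, ← orderOf_dvd_iff_pow_eq_one, hl,
    Nat.pow_le_pow_iff_right hp.one_lt, Nat.pow_dvd_pow_iff_le_right hp.one_lt]

/-- class sizes are powers of `p` -/
theorem index_centralizer_eq_pow (g : G) :
    ∃ l : ℕ, (Subgroup.centralizer ({g} : Set G)).index = p ^ l := by
  have hp := (Fact.out : p.Prime)
  rw [index_centralizer_singleton hp2 hG N hNc hGN g]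
  obtain ⟨e, he⟩ := hG g
  have h1 : orderOf (g : G ⧸ Subgroup.center G) ∣ p ^ e := by
    apply orderOf_dvd_of_pow_eq_one
    rw [← QuotientGroup.mk_pow, he]; rfl
  obtain ⟨l, _, hl⟩ := (Nat.dvd_prime_pow hp).mp h1
  exact ⟨l, hl⟩

end classSize

section main

variable [Finite G] {p : ℕ} [Fact p.Prime] (hp2 : p ≠ 2) (hG : IsPGroup p G)
  (N : Subgroup G) [N.Normal] (hNc : IsCyclic N) (hQ : IsCyclic (G ⧸ N))
  {a b : G} {r : ℕ} (c : Coords p N a b r) {n : ℕ} (hn : Nat.card (commutator G) = p ^ n)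

include hp2 hG hNc hQ c hn

theorem mem_Pw_iff {s : ℕ} (hs : s ≤ n) (g : G) :
    g ∈ Pw G (p ^ s) ↔ g ^ p ^ (n - s) ∈ Subgroup.center G := by
  have hp := (Fact.out : p.Prime)
  have hpn : p ^ n = p ^ s * p ^ (n - s) := by rw [← pow_add]; congr 1; omega
  constructor
  · intro hg
    obtain ⟨u, v, rfl⟩ := c.mem_Pw_coords hp2 s hg
    rw [c.pow_formula]
    obtain ⟨σ, hσ, _⟩ := geomSum_prime_pow hp2
      (pow_mod_prime_eq_one hp.one_lt c.hr (p ^ s * v)) (n - s)
    apply mul_mem
    · rw [a_pow_mem_center_iff hp2 hG N hNc hQ c hn, hσ, hpn]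
      exact ⟨u * σ, by ring⟩
    · rw [b_pow_mem_center_iff hp2 hG N hNc hQ c hn, hpn]
      exact ⟨v, by ring⟩
  · intro h
    obtain ⟨j, i, rfl⟩ := c.hgen g
    rw [c.pow_formula] at h
    obtain ⟨σ, hσ, hnd⟩ := geomSum_prime_pow hp2
      (pow_mod_prime_eq_one hp.one_lt c.hr i) (n - s)
    have hpos : 0 < p ^ (n - s) := pow_pos hp.pos _
    -- `p^s ∣ i`
    have hb : b ^ (i * p ^ (n - s)) ∈ Subgroup.centralizer (N : Set G) := by
      have h1 : b ^ (i * p ^ (n - s)) = (a ^ (j * geomSum (r ^ i) (p ^ (n - s))))⁻¹ *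
          (a ^ (j * geomSum (r ^ i) (p ^ (n - s))) * b ^ (i * p ^ (n - s))) := by group
      rw [h1]
      exact mul_mem (inv_mem (le_centralizer_self N hNc (c.pow_mem _)))
        (Subgroup.center_le_centralizer _ h)
    rw [b_pow_mem_centralizer_iff hp2 hG N hNc hQ c hn, hpn] at hb
    have hi : p ^ s ∣ i := Nat.dvd_of_mul_dvd_mul_right hpos hb
    have hbZ : b ^ (i * p ^ (n - s)) ∈ Subgroup.center G := by
      rw [b_pow_mem_center_iff hp2 hG N hNc hQ c hn, hpn]; exact hb
    have haZ : a ^ (j * geomSum (r ^ i) (p ^ (n - s))) ∈ Subgroup.center G := by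
      have h1 : a ^ (j * geomSum (r ^ i) (p ^ (n - s))) =
          (a ^ (j * geomSum (r ^ i) (p ^ (n - s))) * b ^ (i * p ^ (n - s))) *
          (b ^ (i * p ^ (n - s)))⁻¹ := by group
      rw [h1]
      exact mul_mem h (inv_mem hbZ)
    rw [a_pow_mem_center_iff hp2 hG N hNc hQ c hn, hσ, hpn] at haZ
    have hj : p ^ s ∣ j := by
      have h1 : p ^ s * p ^ (n - s) ∣ (j * σ) * p ^ (n - s) := by
        have : j * (p ^ (n - s) * σ) = (j * σ) * p ^ (n - s) := by ring
        rw [← this]; exact haZ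
      have h2 : p ^ s ∣ j * σ := Nat.dvd_of_mul_dvd_mul_right hpos h1
      have hcop : (p ^ s).Coprime σ :=
        Nat.Coprime.pow_left s ((Nat.Prime.coprime_iff_not_dvd hp).mpr hnd)
      exact hcop.dvd_of_dvd_mul_right h2
    obtain ⟨j', rfl⟩ := hj
    obtain ⟨i', rfl⟩ := hi
    have e1 : a ^ (p ^ s * j') = (a ^ j') ^ p ^ s := by rw [← pow_mul, mul_comm]
    have e2 : b ^ (p ^ s * i') = (b ^ i') ^ p ^ s := by rw [← pow_mul, mul_comm]
    rw [e1, e2]
    exact mul_mem (pow_mem_Pw _ _) (pow_mem_Pw _ _)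

/-- `g ∈ ℧_s(G)` iff the class of `g` has at most `p^(n-s)` elements -/
theorem mem_Pw_iff_index_le {s : ℕ} (hs : s ≤ n) (g : G) :
    g ∈ Pw G (p ^ s) ↔ (Subgroup.centralizer ({g} : Set G)).index ≤ p ^ (n - s) := by
  rw [mem_Pw_iff hp2 hG N hNc hQ c hn hs,
    index_centralizer_le_iff hp2 hG N hNc (commutator_le_of_isCyclic_quotient' N hQ)]

theorem Pw_eq_center : Pw G (p ^ n) = Subgroup.center G := by
  ext g
  rw [mem_Pw_iff hp2 hG N hNc hQ c hn le_rfl, Nat.sub_self, pow_zero, pow_one]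

end main

end Cfsg.Agent.Lib.H19.MC
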