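import Mathlib
import Cfsg.Agent.Lib.H19.MetaAgemo
import Cfsg.Agent.Lib.H1.IndexBasic

/-!
helper19: finite metacyclic `p`-groups, `p` odd, `|G'| = p^n`: the subgroup `Pw G (p^s)` generated by
the `p^s`-th powers is `⟨a^(p^s)⟩⟨b^(p^s)⟩` and has order `|G| / p^(2s) = |Z(G)| p^(2(n-s))` for `s ≤ n`.
-/

set_option autoImplicit false
set_option linter.unusedSectionVars false

namespace Cfsg.Agent.Lib.H19.MC

open Cfsg.Agent.Lib.H15

variable {G : Type*} [Group G]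

/-- subgroups of a cyclic normal subgroup of a finite `p`-group are normal -/
theorem normal_of_le_cyclic_normal [Finite G] {p : ℕ} [Fact p.Prime] (hG : IsPGroup p G)
    (N : Subgroup G) [N.Normal] (hNc : IsCyclic N) {K : Subgroup G} (hK : K ≤ N) : K.Normal := by
  constructor
  intro y hy x
  obtain ⟨ρ, _, hρ⟩ := exists_pow_conj hG N hNc x
  rw [hρ y (hK hy)]
  exact pow_mem hy ρ

theorem Pw_one_eq_top : Pw G 1 = ⊤ := by
  rw [eq_top_iff]
  intro g _
  have := pow_mem_Pw 1 g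
  rwa [pow_one] at this

section count

variable [Finite G] {p : ℕ} [Fact p.Prime] (hp2 : p ≠ 2) (hG : IsPGroup p G)
  (N : Subgroup G) [N.Normal] (hNc : IsCyclic N) (hQ : IsCyclic (G ⧸ N))
  {a b : G} {r : ℕ} (c : Coords p N a b r) {n : ℕ} (hn : Nat.card (commutator G) = p ^ n)

include hp2 c in
omit [N.Normal] in
theorem Pw_eq_sup (s : ℕ) :
    Pw G (p ^ s) = Subgroup.zpowers (b ^ p ^ s) ⊔ Subgroup.zpowers (a ^ p ^ s) := by
  apply le_antisymm
  · intro g hg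
    obtain ⟨u, v, rfl⟩ := c.mem_Pw_coords hp2 s hg
    rw [pow_mul, pow_mul]
    exact mul_mem (Subgroup.mem_sup_right (pow_mem (Subgroup.mem_zpowers _) u))
      (Subgroup.mem_sup_left (pow_mem (Subgroup.mem_zpowers _) v))
  · apply sup_le
    · rw [Subgroup.zpowers_le]; exact pow_mem_Pw _ _
    · rw [Subgroup.zpowers_le]; exact pow_mem_Pw _ _

include hp2 hG hNc hQ c hn

theorem zpowers_inf_zpowers {s : ℕ} (hs : s ≤ n) :
    Subgroup.zpowers (a ^ p ^ s) ⊓ Subgroup.zpowers (b ^ p ^ s) = N ⊓ Subgroup.zpowers b := by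
  have hpn : p ^ n = p ^ s * p ^ (n - s) := by rw [← pow_add]; congr 1; omega
  apply le_antisymm
  · exact le_inf (inf_le_left.trans (Subgroup.zpowers_le.mpr (c.pow_mem _)))
      (inf_le_right.trans (Subgroup.zpowers_le.mpr (pow_mem (Subgroup.mem_zpowers b) _)))
  · intro y hy
    obtain ⟨hyN, hyb⟩ := Subgroup.mem_inf.mp hy
    have hyb' := (mem_powers_iff_mem_zpowers).mpr hyb
    obtain ⟨k, hk⟩ := (Submonoid.mem_powers_iff _ _).mp hyb'
    obtain ⟨t, ht⟩ := c.hN y hyN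
    have hyZ : y ∈ Subgroup.center G := by
      apply c.mem_center_of_comm
      · exact c.comm_N hyN c.haN
      · rw [← hk, ← pow_succ, ← pow_succ']
    apply Subgroup.mem_inf.mpr
    constructor
    · rw [ht, a_pow_mem_center_iff hp2 hG N hNc hQ c hn, hpn] at hyZ
      obtain ⟨w, rfl⟩ := hyZ
      rw [ht, mul_assoc, pow_mul]
      exact pow_mem (Subgroup.mem_zpowers _) _
    · rw [← hk, b_pow_mem_center_iff hp2 hG N hNc hQ c hn, hpn] at hyZ
      obtain ⟨w, rfl⟩ := hyZ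
      rw [← hk, mul_assoc, pow_mul]
      exact pow_mem (Subgroup.mem_zpowers _) _

theorem pow_dvd_orderOf_a : p ^ n ∣ orderOf a := by
  rw [← a_pow_mem_center_iff hp2 hG N hNc hQ c hn, pow_orderOf_eq_one]; exact one_mem _

theorem pow_dvd_orderOf_b : p ^ n ∣ orderOf b := by
  rw [← b_pow_mem_center_iff hp2 hG N hNc hQ c hn, pow_orderOf_eq_one]; exact one_mem _

theorem card_Pw_mul_aux {s : ℕ} (hs : s ≤ n) :
    Nat.card (Pw G (p ^ s)) * Nat.card (N ⊓ Subgroup.zpowers b : Subgroup G) * (p ^ s * p ^ s) =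
      orderOf a * orderOf b := by
  have hp := (Fact.out : p.Prime)
  have hAn : (Subgroup.zpowers (a ^ p ^ s)).Normal :=
    normal_of_le_cyclic_normal hG N hNc (Subgroup.zpowers_le.mpr (c.pow_mem _))
  have h1 := Cfsg.Agent.Lib.H1.card_sup_mul_card_inf (Subgroup.zpowers (b ^ p ^ s))
    (Subgroup.zpowers (a ^ p ^ s))
  rw [← Pw_eq_sup hp2 N c s, zpowers_inf_zpowers hp2 hG N hNc hQ c hn hs, Nat.card_zpowers,
    Nat.card_zpowers] at h1
  have hpos : p ^ s ≠ 0 := (pow_pos hp.pos s).ne'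
  have hda : p ^ s ∣ orderOf a :=
    (pow_dvd_pow p hs).trans (pow_dvd_orderOf_a hp2 hG N hNc hQ c hn)
  have hdb : p ^ s ∣ orderOf b :=
    (pow_dvd_pow p hs).trans (pow_dvd_orderOf_b hp2 hG N hNc hQ c hn)
  rw [orderOf_pow_of_dvd hpos hda, orderOf_pow_of_dvd hpos hdb] at h1
  rw [h1]
  obtain ⟨x, hx⟩ := hda
  obtain ⟨y, hy⟩ := hdb
  rw [hx, hy, Nat.mul_div_cancel_left _ (pow_pos hp.pos s),
    Nat.mul_div_cancel_left _ (pow_pos hp.pos s)]
  ring

/-- `|℧_s(G)| p^(2s) = |G|` for `s ≤ n` -/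
theorem card_Pw_mul {s : ℕ} (hs : s ≤ n) :
    Nat.card (Pw G (p ^ s)) * (p ^ s * p ^ s) = Nat.card G := by
  have h1 := card_Pw_mul_aux hp2 hG N hNc hQ c hn hs
  have h0 := card_Pw_mul_aux hp2 hG N hNc hQ c hn (Nat.zero_le n)
  rw [pow_zero, Pw_one_eq_top, Subgroup.card_top, mul_one, mul_one] at h0
  rw [← h0] at h1
  have hD : 0 < Nat.card (N ⊓ Subgroup.zpowers b : Subgroup G) := Nat.card_pos
  have : Nat.card (N ⊓ Subgroup.zpowers b : Subgroup G) * (Nat.card (Pw G (p ^ s)) * (p ^ s * p ^ s)) =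
      Nat.card (N ⊓ Subgroup.zpowers b : Subgroup G) * Nat.card G := by
    rw [mul_comm _ (Nat.card G), ← h1]; ring
  exact Nat.eq_of_mul_eq_mul_left hD this

/-- `|℧_s(G)| = |Z(G)| p^(2(n-s))` for `s ≤ n` -/
theorem card_Pw {s : ℕ} (hs : s ≤ n) :
    Nat.card (Pw G (p ^ s)) = Nat.card (Subgroup.center G) * p ^ (2 * (n - s)) := by
  have hp := (Fact.out : p.Prime)
  have h1 := card_Pw_mul hp2 hG N hNc hQ c hn hs
  have h2 := index_center_eq N hNc hQ hp2 hG
  have h3 := Subgroup.card_mul_index (Subgroup.center G)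
  rw [h2, hn] at h3
  rw [← h3] at h1
  have hpos : 0 < p ^ s * p ^ s := Nat.mul_pos (pow_pos hp.pos s) (pow_pos hp.pos s)
  have : (p ^ n) ^ 2 = p ^ (2 * (n - s)) * (p ^ s * p ^ s) := by
    rw [← pow_add, ← pow_add, ← pow_mul]; congr 1; omega
  rw [this] at h1
  have h4 : Nat.card (Pw G (p ^ s)) * (p ^ s * p ^ s) =
      Nat.card (Subgroup.center G) * p ^ (2 * (n - s)) * (p ^ s * p ^ s) := by
    rw [h1]; ring
  exact Nat.eq_of_mul_eq_mul_right hpos h4

end count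

end Cfsg.Agent.Lib.H19.MC
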