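import Mathlib
import Cfsg.Agent.Lib.H26.NGPDefs
import Cfsg.Agent.Lib.H26.NGPF1
import Cfsg.Agent.S0016

/-!
# S1904 piece C18 (`c1_order_eight`), worker helper19 for architect helper26.
-/

set_option autoImplicit false

open Cfsg.Agent.Lib.H26.NGP

namespace Cfsg.Agent.Lib.H19.NGP

universe u

variable {X : Type u} [Group X] [Finite X]

theorem c18_comm_of_sq (hsq : ∀ x : X, x * x = 1) (a b : X) : a * b = b * a := by
  have hinv : ∀ a : X, a⁻¹ = a := fun a => inv_eq_of_mul_eq_one_left (hsq a)
  calc a * b = (a * b)⁻¹ := (hinv _).symm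
    _ = b⁻¹ * a⁻¹ := mul_inv_rev a b
    _ = b * a := by rw [hinv a, hinv b]

theorem c18_mem_zpowers {r : X} (_hr : orderOf r = 4) (x : X) (hx : x ∈ Subgroup.zpowers r) :
    ∃ i : ℕ, r ^ i = x := by
  have hfin : IsOfFinOrder r := isOfFinOrder_of_finite r
  rw [← mem_powers_iff_mem_zpowers, Submonoid.mem_powers_iff] at hx
  exact hx

theorem c1_order_eight (hna : ¬ IsMulCommutative X) (hcard : Nat.card X = 8)
    {A : Subgroup (MulAut X)} (hgen : Gen A) : Nonempty (X ≃* QuaternionGroup 2) := by
  classical
  have : Fact (Nat.Prime 2) := ⟨Nat.prime_two⟩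
  -- orders
  have hord : ∀ x : X, orderOf x = 1 ∨ orderOf x = 2 ∨ orderOf x = 4 := by
    intro x
    have h1 : orderOf x ∣ 2 ^ 3 := by
      have := orderOf_dvd_natCard x
      rw [hcard] at this; exact this
    obtain ⟨k, hk, hk2⟩ := (Nat.dvd_prime_pow Nat.prime_two).mp h1
    interval_cases k
    · left; simpa using hk2
    · right; left; simpa using hk2
    · right; right; simpa using hk2
    · exfalso
      have hcyc : IsCyclic X := isCyclic_of_orderOf_eq_card x (by rw [hk2, hcard]; norm_num)
      exact hna IsCyclic.isMulCommutative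
  have hr : ∃ r : X, orderOf r = 4 := by
    by_contra hno
    push Not at hno
    have hsq : ∀ x : X, x * x = 1 := by
      intro x
      rcases hord x with h | h | h
      · rw [orderOf_eq_one_iff] at h; rw [h, one_mul]
      · rw [← pow_two, ← h]; exact pow_orderOf_eq_one x
      · exact absurd h (hno x)
    exact hna ⟨⟨c18_comm_of_sq hsq⟩⟩
  obtain ⟨r, hr⟩ := hr
  have hr4 : r ^ 4 = 1 := by rw [← hr]; exact pow_orderOf_eq_one r
  have hr2 : r * r ≠ 1 := by
    intro h
    have : orderOf r ∣ 2 := orderOf_dvd_of_pow_eq_one (by rw [pow_two]; exact h)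
    rw [hr] at this; omega
  set C : Subgroup X := Subgroup.zpowers r with hC
  have hCcard : Nat.card C = 4 := by rw [hC, Nat.card_zpowers, hr]
  have hCidx : C.index = 2 := by
    have := Subgroup.card_mul_index C
    rw [hCcard, hcard] at this; omega
  have hCn : C.Normal := Subgroup.normal_of_index_eq_two hCidx
  have hrC : r ∈ C := Subgroup.mem_zpowers r
  -- a subgroup containing `C` and something outside is everything
  have hL : ∀ H : Subgroup X, C ≤ H → ∀ t ∈ H, t ∉ C → H = ⊤ := by
    intro H hCH t htH htC
    have hd1 : Nat.card C ∣ Nat.card H := Subgroup.card_dvd_of_le hCH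
    have hd2 : Nat.card H ∣ Nat.card X := Subgroup.card_subgroup_dvd_card H
    have hne : Nat.card H ≠ 4 := by
      intro h4
      have : C = H := Subgroup.eq_of_le_of_card_ge hCH (by rw [h4, hCcard])
      exact htC (this ▸ htH)
    rw [hCcard] at hd1
    rw [hcard] at hd2
    apply Subgroup.eq_top_of_card_eq
    rw [hcard]
    obtain ⟨m, hm⟩ := hd1
    obtain ⟨m', hm'⟩ := hd2
    have hpos : 0 < Nat.card H := Nat.card_pos
    have hm2 : m * m' = 2 := by
      rw [hm] at hm'
      have : 4 * (m * m') = 4 * 2 := by rw [← mul_assoc, ← hm']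
      omega
    have : m ∣ 2 := ⟨m', hm2.symm⟩
    have hmle : m ≤ 2 := Nat.le_of_dvd (by norm_num) this
    interval_cases m
    · omega
    · omega
    · omega
  -- squares in `C`
  have hCsq : ∀ x ∈ C, x * x = 1 → x = 1 ∨ x = r * r := by
    intro x hx hxx
    obtain ⟨i, rfl⟩ := c18_mem_zpowers hr x hx
    rw [← pow_add] at hxx
    have hdvd : 4 ∣ i + i := by rw [← hr]; exact orderOf_dvd_of_pow_eq_one hxx
    have h2 : 2 ∣ i := by omega
    obtain ⟨j, rfl⟩ := h2
    rcases Nat.even_or_odd j with ⟨l, hl⟩ | ⟨l, hl⟩
    · left
      have : 2 * j = 4 * l := by omega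
      rw [this, pow_mul, hr4, one_pow]
    · right
      have : 2 * j = 4 * l + 2 := by omega
      rw [this, pow_add, pow_mul, hr4, one_pow, one_mul, pow_two]
  by_cases hA : ∃ t : X, t ∉ C ∧ t * t = 1
  · -- case A: contradiction
    exfalso
    obtain ⟨t, htC, htt⟩ := hA
    have htinv : t⁻¹ = t := inv_eq_of_mul_eq_one_left htt
    have hconj : t * r * t⁻¹ ∈ C := hCn.conj_mem r hrC t
    obtain ⟨i, hi⟩ := c18_mem_zpowers hr _ hconj
    -- `t r t⁻¹ = r` or `r^3`
    have hi' : r ^ (i % 4) = t * r * t⁻¹ := by
      rw [← hi, ← hr, pow_mod_orderOf]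
    have hlt : i % 4 < 4 := Nat.mod_lt _ (by norm_num)
    have hcases : t * r * t⁻¹ = r ∨ t * r * t⁻¹ = r ^ 3 := by
      generalize i % 4 = k at hi' hlt
      interval_cases k
      · exfalso
        rw [pow_zero] at hi'
        have : r = 1 := by
          have h1 : t⁻¹ * (t * r * t⁻¹) * t = r := by group
          rw [← hi'] at h1
          rw [← h1]; group
        apply hr2; rw [this, one_mul]
      · left; rw [← hi', pow_one]
      · exfalso
        have h1 : (t * r * t⁻¹) * (t * r * t⁻¹) = 1 := by
          rw [← hi', ← pow_add]; exact hr4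
        have h2 : (t * r * t⁻¹) * (t * r * t⁻¹) = t * (r * r) * t⁻¹ := by group
        rw [h2] at h1
        apply hr2
        have h3 : t⁻¹ * (t * (r * r) * t⁻¹) * t = r * r := by group
        rw [← h3, h1]; group
      · right; exact hi'.symm
    rcases hcases with h1 | h3
    · -- `t` commutes with `r`: abelian
      have hcomm : t * r = r * t := by
        have : t * r * t⁻¹ * t = r * t := by rw [h1]
        rw [← this]; group
      have hrc : r ∈ Subgroup.center X := by
        have htop : Subgroup.centralizer ({r} : Set X) = ⊤ := by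
          apply hL _ _ t _ htC
          · rw [hC, Subgroup.zpowers_le]
            rw [Subgroup.mem_centralizer_singleton_iff]
          · rw [Subgroup.mem_centralizer_singleton_iff]; exact hcomm
        rw [Subgroup.mem_center_iff]
        intro g
        have : g ∈ Subgroup.centralizer ({r} : Set X) := htop ▸ Subgroup.mem_top g
        rw [Subgroup.mem_centralizer_singleton_iff] at this
        exact this
      have htc : t ∈ Subgroup.center X := by
        have htop : Subgroup.centralizer ({t} : Set X) = ⊤ := by
          apply hL _ _ t _ htC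
          · rw [hC, Subgroup.zpowers_le]
            rw [Subgroup.mem_centralizer_singleton_iff]; exact hcomm.symm
          · rw [Subgroup.mem_centralizer_singleton_iff]
        rw [Subgroup.mem_center_iff]
        intro g
        have : g ∈ Subgroup.centralizer ({t} : Set X) := htop ▸ Subgroup.mem_top g
        rw [Subgroup.mem_centralizer_singleton_iff] at this
        exact this
      have hctop : Subgroup.center X = ⊤ := by
        apply hL _ _ t htc htC
        rw [hC, Subgroup.zpowers_le]; exact hrc
      apply hna
      refine ⟨⟨fun a b => ?_⟩⟩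
      have : b ∈ Subgroup.center X := hctop ▸ Subgroup.mem_top b
      exact Subgroup.mem_center_iff.mp this a
    · -- dihedral: everything outside `C` is an involution
      have hout : ∀ x : X, x ∉ C → x * x = 1 := by
        intro x hx
        have hc : t⁻¹ * x ∈ C := by
          rw [Subgroup.mul_mem_iff_of_index_two hCidx]
          constructor
          · intro h; exact absurd (C.inv_mem_iff.mp h) htC
          · intro h; exact absurd h hx
        obtain ⟨i, hi⟩ := c18_mem_zpowers hr _ hc
        have hx' : x = t * r ^ i := by rw [hi]; group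
        have hconji : t * r ^ i * t⁻¹ = (r ^ 3) ^ i := by
          rw [← h3, conj_pow]
        have e : x * x = (t * r ^ i * t⁻¹) * (t * t) * r ^ i := by
          rw [hx']; group
        rw [e, hconji, htt, mul_one, ← pow_mul, ← pow_add]
        have : 3 * i + i = 4 * i := by ring
        rw [this, pow_mul, hr4, one_pow]
      have hAinv : AInv A C := by
        intro a ha c hc
        obtain ⟨i, rfl⟩ := c18_mem_zpowers hr c hc
        rw [map_pow]
        apply C.pow_mem
        by_contra harC
        have := hout _ harC
        rw [← map_mul] at this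
        apply hr2
        have h1 : a (r * r) = a 1 := by rw [this, map_one]
        exact a.injective h1
      have htop := eq_top_of_index_le_two hgen C hCn hAinv (by rw [hCidx])
      exact htC (htop ▸ Subgroup.mem_top t)
  · -- case B: unique involution
    push Not at hA
    have hrr2 : orderOf (r * r) = 2 := by
      rw [← pow_two]
      rw [orderOf_pow' r (by norm_num : (2:ℕ) ≠ 0), hr]
      norm_num
    have huniq : ∀ H : Subgroup X, Nat.card H = 2 → H = Subgroup.zpowers (r * r) := by
      intro H hH
      have hne : ∃ h ∈ H, h ≠ 1 := by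
        by_contra hcon
        push Not at hcon
        have : H = ⊥ := by
          rw [Subgroup.eq_bot_iff_forall]; exact hcon
        rw [this] at hH
        simp at hH
      obtain ⟨h, hhH, hh1⟩ := hne
      have hh2 : h * h = 1 := by
        have : h ^ Nat.card H = 1 := by
          have h1 : (⟨h, hhH⟩ : H) ^ Nat.card H = 1 := pow_card_eq_one'
          have h2 := congrArg Subtype.val h1
          rw [Subgroup.coe_pow, Subgroup.coe_one] at h2
          exact h2
        rw [hH, pow_two] at this
        exact this
      have hhC : h ∈ C := by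
        by_contra hc
        exact hA h hc hh2
      have hrrH : r * r ∈ H := by
        rcases hCsq h hhC hh2 with h1 | h1
        · exact absurd h1 hh1
        · rw [← h1]; exact hhH
      symm
      apply Subgroup.eq_of_le_of_card_ge
      · rw [Subgroup.zpowers_le]; exact hrrH
      · rw [Nat.card_zpowers, hrr2, hH]
    have hX : IsPGroup 2 X := IsPGroup.of_card (n := 3) (by rw [hcard]; norm_num)
    rcases Cfsg.Agent.S0016.result 2 hX (fun H K hH hK => by rw [huniq H hH, huniq K hK]) with
      hcyc | ⟨_, n, ⟨e⟩⟩
    · exact absurd IsCyclic.isMulCommutative hna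
    · have hcardQ : Nat.card X = 4 * 2 ^ n := by
        rw [Nat.card_congr e.toEquiv, Nat.card_eq_fintype_card, QuaternionGroup.card]
      rw [hcard] at hcardQ
      have h2n : 2 ^ n = 2 := by omega
      rw [h2n] at e
      exact ⟨e⟩

end Cfsg.Agent.Lib.H19.NGP
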