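import Mathlib
import Cfsg.Prelude.Def_Transfer
import Cfsg.Agent.Lib.H26.NGPDefs
import Cfsg.Agent.S0094

/-!
# S1904 piece C1GE (`c1_four_ge`), worker helper19 for architect helper26.
-/

set_option autoImplicit false

open Cfsg.Agent.Lib.H26.NGP
open scoped commutatorElement

namespace Cfsg.Agent.Lib.H19.NGP

universe u

variable {X : Type u} [Group X]

theorem cm_mem_center_of_special (hsp : Cfsg.IsSpecial 2 X) (a b : X) :
    cm a b ∈ Subgroup.center X := by
  rw [← hsp.2.2]
  have : cm a b = ⁅a, b⁆ := by rw [cm_def, commutatorElement_def]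
  rw [this]
  exact Subgroup.commutator_mem_commutator (Subgroup.mem_top a) (Subgroup.mem_top b)

theorem cm_mul_right_of_central {a g h : X} (hc : cm a h ∈ Subgroup.center X) :
    cm a (g * h) = cm a g * cm a h := by
  have e : cm a (g * h) = cm a g * (g * cm a h * g⁻¹) := by
    simp only [cm_def]; group
  rw [e, Subgroup.mem_center_iff.mp hc g, mul_inv_cancel_right]

theorem cm_mul_left_of_central {a a' b : X} (hc : cm a' b ∈ Subgroup.center X) :
    cm (a * a') b = cm a' b * cm a b := by
  have e : cm (a * a') b = (a * cm a' b * a⁻¹) * cm a b := by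
    simp only [cm_def]; group
  rw [e, Subgroup.mem_center_iff.mp hc a, mul_inv_cancel_right]

theorem cm_swap_inv (a b : X) : cm b a = (cm a b)⁻¹ := by
  simp only [cm_def]; group

theorem cm_eq_one_iff (a b : X) : cm a b = 1 ↔ a * b = b * a := by
  rw [cm_def]
  constructor
  · intro h
    have : a * b * a⁻¹ * b⁻¹ * (b * a) = b * a := by rw [h, one_mul]
    rw [← this]; group
  · intro h
    rw [h]; group

variable [Finite X]

/-- same first argument: two nontrivial commutators agree when `|X| ≤ 16`, `|Z| = 4`. -/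
theorem c1ge_L1 (hsp : Cfsg.IsSpecial 2 X) (hZ : Nat.card (Subgroup.center X) = 4)
    (h16 : Nat.card X ≤ 16) (a g h : X) (hg : cm a g ≠ 1) (hh : cm a h ≠ 1) :
    cm a g = cm a h := by
  classical
  set K : Subgroup X := Subgroup.centralizer {a} with hK
  have hmemK : ∀ y : X, y ∈ K ↔ cm a y = 1 := by
    intro y
    rw [hK, Subgroup.mem_centralizer_singleton_iff, cm_eq_one_iff]
    constructor <;> intro h <;> exact h.symm
  have hZK : Subgroup.center X ≤ K := Subgroup.center_le_centralizer _
  have haK : a ∈ K := by rw [hmemK]; simp [cm_def]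
  have haZ : a ∉ Subgroup.center X := by
    intro haz
    apply hg
    rw [cm_eq_one_iff]
    exact (Subgroup.mem_center_iff.mp haz g).symm
  have hgK : g ∉ K := fun hk => hg ((hmemK g).mp hk)
  have hhK : h ∉ K := fun hk => hh ((hmemK h).mp hk)
  have hdvd : Nat.card (Subgroup.center X) ∣ Nat.card K := Subgroup.card_dvd_of_le hZK
  have hne4 : Nat.card K ≠ 4 := by
    intro h4
    have : Subgroup.center X = K :=
      Subgroup.eq_of_le_of_card_ge hZK (by rw [h4, hZ])
    exact haZ (this ▸ haK)
  have hKpos : 0 < Nat.card K := Nat.card_pos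
  have hK8 : 8 ≤ Nat.card K := by
    rw [hZ] at hdvd
    obtain ⟨m, hm⟩ := hdvd
    omega
  have hmulidx : Nat.card K * K.index = Nat.card X := Subgroup.card_mul_index K
  have hidx1 : K.index ≠ 1 := by
    intro h1
    rw [Subgroup.index_eq_one] at h1
    exact hgK (h1 ▸ Subgroup.mem_top g)
  have hidx0 : K.index ≠ 0 := Subgroup.index_ne_zero_of_finite
  have hidx : K.index = 2 := by
    have : K.index ≤ 2 := by
      by_contra hcon
      push Not at hcon
      have : 8 * 3 ≤ Nat.card K * K.index := Nat.mul_le_mul hK8 hcon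
      omega
    omega
  have hmem : g⁻¹ * h ∈ K := by
    rw [Subgroup.mul_mem_iff_of_index_two hidx]
    constructor
    · intro h1; exact absurd (K.inv_mem_iff.mp h1) hgK
    · intro h1; exact absurd h1 hhK
  have h1 : cm a (g⁻¹ * h) = 1 := (hmemK _).mp hmem
  have h2 : cm a (g * (g⁻¹ * h)) = cm a g * cm a (g⁻¹ * h) :=
    cm_mul_right_of_central (cm_mem_center_of_special hsp _ _)
  rw [h1, mul_one, mul_inv_cancel_left] at h2
  exact h2.symm

theorem c1ge_L2 (hsp : Cfsg.IsSpecial 2 X) (hZ : Nat.card (Subgroup.center X) = 4)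
    (h16 : Nat.card X ≤ 16) (b g h : X) (hg : cm g b ≠ 1) (hh : cm h b ≠ 1) :
    cm g b = cm h b := by
  have hg' : cm b g ≠ 1 := by
    intro h1; apply hg; rw [cm_swap_inv, h1, inv_one]
  have hh' : cm b h ≠ 1 := by
    intro h1; apply hh; rw [cm_swap_inv, h1, inv_one]
  rw [cm_swap_inv b g, cm_swap_inv b h, c1ge_L1 hsp hZ h16 b g h hg' hh']

theorem c1_four_ge (hsp : Cfsg.IsSpecial 2 X) (hZ : Nat.card (Subgroup.center X) = 4) :
    32 ≤ Nat.card X := by
  classical
  by_contra hlt
  push Not at hlt
  obtain ⟨k, hk⟩ := (IsPGroup.iff_card (p := 2) (G := X)).mp hsp.1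
  have h16 : Nat.card X ≤ 16 := by
    rw [hk] at hlt ⊢
    have hk5 : k < 5 := by
      by_contra h5
      push Not at h5
      have : 2 ^ 5 ≤ 2 ^ k := Nat.pow_le_pow_right (by norm_num) h5
      omega
    have : 2 ^ k ≤ 2 ^ 4 := Nat.pow_le_pow_right (by norm_num) (by omega)
    omega
  have : Fact (Nat.Prime 2) := ⟨Nat.prime_two⟩
  -- all nontrivial commutators are equal
  have hcomm : commutator X = Subgroup.center X := hsp.2.2
  by_cases hall : ∀ a b : X, cm a b = 1
  · -- abelian: commutator trivial
    have : commutator X = ⊥ := by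
      rw [commutator_eq_closure, Subgroup.closure_eq_bot_iff]
      rintro x ⟨a, b, rfl⟩
      have := hall a b
      rw [cm_def] at this
      rw [Set.mem_singleton_iff, commutatorElement_def]; exact this
    rw [this] at hcomm
    rw [← hcomm] at hZ
    simp at hZ
  · push Not at hall
    obtain ⟨a₀, b₀, hc⟩ := hall
    set c := cm a₀ b₀ with hcdef
    have hcZ : c ∈ Subgroup.center X := cm_mem_center_of_special hsp _ _
    have hc2 : c ^ 2 = 1 := Cfsg.Agent.S0094.result hsp c hcZ
    have hkey : ∀ a' b' : X, cm a' b' = 1 ∨ cm a' b' = c := by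
      intro a' b'
      by_cases h1 : cm a' b' = 1
      · exact Or.inl h1
      · right
        by_cases h2 : cm a₀ b' = 1
        · by_cases h3 : cm a' b₀ = 1
          · -- use a₀ * a'
            have e1 : cm (a₀ * a') b₀ = c := by
              rw [cm_mul_left_of_central (cm_mem_center_of_special hsp _ _), h3, one_mul]
            have e2 : cm (a₀ * a') b' = cm a' b' := by
              rw [cm_mul_left_of_central (cm_mem_center_of_special hsp _ _), h2, mul_one]
            have := c1ge_L1 hsp hZ h16 (a₀ * a') b₀ b' (by rw [e1]; exact hc) (by rw [e2]; exact h1)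
            rw [e1, e2] at this
            exact this.symm
          · have e1 := c1ge_L2 hsp hZ h16 b₀ a₀ a' hc h3
            have e2 := c1ge_L1 hsp hZ h16 a' b₀ b' h3 h1
            rw [← e2, ← e1]
        · have e1 := c1ge_L1 hsp hZ h16 a₀ b₀ b' hc h2
          have e2 := c1ge_L2 hsp hZ h16 b' a₀ a' h2 h1
          rw [← e2, ← e1]
    have hle : commutator X ≤ Subgroup.zpowers c := by
      rw [commutator_eq_closure, Subgroup.closure_le]
      rintro x ⟨a, b, rfl⟩
      have e : ⁅a, b⁆ = cm a b := by rw [cm_def, commutatorElement_def]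
      rw [e]
      rcases hkey a b with h | h
      · rw [h]; exact Subgroup.one_mem _
      · rw [h]; exact Subgroup.mem_zpowers c
    have hcard : Nat.card (commutator X) ≤ Nat.card (Subgroup.zpowers c) :=
      Subgroup.card_le_of_le hle
    rw [hcomm, hZ, Nat.card_zpowers] at hcard
    have : orderOf c ≤ 2 := Nat.le_of_dvd (by norm_num) (orderOf_dvd_of_pow_eq_one hc2)
    omega

end Cfsg.Agent.Lib.H19.NGP
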