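import Mathlib
import Cfsg.Prelude.Def_Transfer
import Cfsg.Agent.Lib.H26.NGPDefs
import Cfsg.Agent.S0094
import Cfsg.Agent.Lib.H2.ATB
import Cfsg.Agent.Lib.H1.PGroupBasic

/-!
# S1904 piece C1LE (`c1_four_le`), worker helper19 for architect helper26.
-/

set_option autoImplicit false

open Cfsg.Agent.Lib.H26.NGP

namespace Cfsg.Agent.Lib.H19.NGP

universe u

variable {X : Type u} [Group X] [Finite X]

theorem c1_four_le (hsp : Cfsg.IsSpecial 2 X) (hZ : Nat.card (Subgroup.center X) = 4)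
    (hinv : ∀ t : X, t * t = 1 → t ∈ Subgroup.center X) : Nat.card X ≤ 64 := by
  classical
  have : Fact (Nat.Prime 2) := ⟨Nat.prime_two⟩
  by_contra hgt
  push Not at hgt
  obtain ⟨k, hk⟩ := (IsPGroup.iff_card (p := 2) (G := X)).mp hsp.1
  have h128 : 128 ≤ Nat.card X := by
    rw [hk] at hgt ⊢
    have hk7 : 7 ≤ k := by
      by_contra h7
      push Not at h7
      have : 2 ^ k ≤ 2 ^ 6 := Nat.pow_le_pow_right (by norm_num) (by omega)
      omega
    have : 2 ^ 7 ≤ 2 ^ k := Nat.pow_le_pow_right (by norm_num) hk7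
    omega
  have hV2 : ∀ v ∈ Subgroup.center X, v * v = 1 := by
    intro v hv
    have := Cfsg.Agent.S0094.result hsp v hv
    rwa [pow_two] at this
  have hsq : ∀ a : X, a * a ∈ Subgroup.center X := by
    intro a
    rw [← hsp.2.1, ← pow_two]
    exact Cfsg.Agent.Lib.H1.isPGroup_pow_mem_frattini hsp.1 a
  obtain ⟨a, haZ, haa⟩ := Cfsg.Agent.Lib.H2.AT.exists_involution_notMem
    (Subgroup.center X) le_rfl hZ hV2 hsq h128
  exact haZ (hinv a haa)

end Cfsg.Agent.Lib.H19.NGP
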