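import Mathlib
import Cfsg.Agent.Lib.H26.NGPDefs
import Cfsg.Agent.Lib.H10.NGPLVL

/-!
# S1904 piece C4 (`caseII_c4`), worker helper19 for architect helper26.
-/

set_option autoImplicit false

open Cfsg.Agent.Lib.H26.NGP

namespace Cfsg.Agent.Lib.H19.NGP

universe u

variable {X : Type u} [Group X] [Finite X]

/-- the property `∀ b ∈ B, cm b x ∈ B⁴` is closed under products -/
theorem c4_mul {B : Subgroup X} (hBn : B.Normal) (hab : Ab B) (x y : X)
    (hx : ∀ b ∈ B, ∃ c ∈ B, cm b x = (c * c) * (c * c))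
    (hy : ∀ b ∈ B, ∃ c ∈ B, cm b y = (c * c) * (c * c)) :
    ∀ b ∈ B, ∃ c ∈ B, cm b (x * y) = (c * c) * (c * c) := by
  intro b hb
  obtain ⟨c1, hc1, h1⟩ := hx b hb
  obtain ⟨c2, hc2, h2⟩ := hy b hb
  have hc2' : x * c2 * x⁻¹ ∈ B := hBn.conj_mem _ hc2 x
  refine ⟨c1 * (x * c2 * x⁻¹), B.mul_mem hc1 hc2', ?_⟩
  have e1 : cm b (x * y) = cm b x * (x * cm b y * x⁻¹) := by
    simp only [cm_def]; group
  rw [e1, h1, h2]
  have e2 : x * ((c2 * c2) * (c2 * c2)) * x⁻¹ =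
      ((x * c2 * x⁻¹) * (x * c2 * x⁻¹)) * ((x * c2 * x⁻¹) * (x * c2 * x⁻¹)) := by group
  rw [e2]
  set d := x * c2 * x⁻¹ with hd
  have hcomm : c1 * d = d * c1 := hab c1 hc1 d hc2'
  -- (c1 c1)(c1 c1) (d d)(d d) = ((c1 d)(c1 d))((c1 d)(c1 d))
  have e3 : (c1 * d) * (c1 * d) = (c1 * c1) * (d * d) := by
    calc (c1 * d) * (c1 * d) = c1 * (d * c1) * d := by group
      _ = c1 * (c1 * d) * d := by rw [← hcomm]
      _ = (c1 * c1) * (d * d) := by group
  have hcomm2 : (c1 * c1) * (d * d) = (d * d) * (c1 * c1) :=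
    hab _ (B.mul_mem hc1 hc1) _ (B.mul_mem hc2' hc2')
  rw [e3]
  calc (c1 * c1) * (c1 * c1) * ((d * d) * (d * d))
      = (c1 * c1) * ((c1 * c1) * (d * d)) * (d * d) := by group
    _ = (c1 * c1) * ((d * d) * (c1 * c1)) * (d * d) := by rw [hcomm2]
    _ = (c1 * c1) * (d * d) * ((c1 * c1) * (d * d)) := by group

theorem c4_pow {B : Subgroup X} (hBn : B.Normal) (hab : Ab B) (x : X)
    (hx : ∀ b ∈ B, ∃ c ∈ B, cm b x = (c * c) * (c * c)) (k : ℕ) :
    ∀ b ∈ B, ∃ c ∈ B, cm b (x ^ k) = (c * c) * (c * c) := by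
  induction k with
  | zero =>
    intro b hb
    refine ⟨1, B.one_mem, ?_⟩
    simp [cm_def]
  | succ k ih =>
    rw [pow_succ]
    exact c4_mul hBn hab _ _ ih hx

theorem caseII_c4 (hX : IsPGroup 2 X) {A : Subgroup (MulAut X)} {U B : Subgroup X} {n : ℕ}
    (hB : BSetup A U B n)
    (hII : ∀ x : X, (∀ b ∈ B, cm b x ∈ U) → x ∈ B) (x : X)
    (h4 : ∀ b ∈ B, ∃ c ∈ B, cm b x = (c * c) * (c * c)) : x ∈ B := by
  classical
  have hex : ∃ j : ℕ, x ^ 2 ^ j ∈ B := by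
    obtain ⟨k, hk⟩ := hX x
    exact ⟨k, by rw [hk]; exact B.one_mem⟩
  have hmin : ∀ m, m < Nat.find hex → ¬ x ^ 2 ^ m ∈ B := fun m hm => Nat.find_min hex hm
  have hspec : x ^ 2 ^ (Nat.find hex) ∈ B := Nat.find_spec hex
  rcases Nat.eq_zero_or_pos (Nat.find hex) with h0 | hpos
  · rw [h0] at hspec
    simpa using hspec
  · exfalso
    set j := Nat.find hex with hj
    set y := x ^ 2 ^ (j - 1) with hy
    have hyB : y ∉ B := hmin (j - 1) (by omega)
    have hyy : y * y ∈ B := by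
      have : y * y = x ^ 2 ^ j := by
        rw [hy, ← pow_add, ← two_mul, ← pow_succ']
        congr 2
        omega
      rw [this]; exact hspec
    have hPy := c4_pow hB.normal hB.homo.ab x h4 (2 ^ (j - 1))
    have := Cfsg.Agent.Lib.H10.NGP.lvl_collapse hB y hyy hPy
    exact hyB (hII y this)

end Cfsg.Agent.Lib.H19.NGP
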