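import Mathlib
import Cfsg.Prelude.Def_Blocks
import Cfsg.Prelude.Def_CharExt
import Cfsg.Agent.Lib.H21.AD.Defs
import Cfsg.Agent.Lib.H28.NT.Defs
import Cfsg.Agent.Lib.H8.GaloisConj
import Cfsg.Agent.Lib.L0.SigmaResidualA

/-!
helper19 library (S4892, piece GAL, core): Galois conjugates `g ↦ χ (g ^ k)` of the good character
are good; the invariance of `sSum` under the power map enters as a hypothesis.
-/

set_option autoImplicit false

namespace Cfsg.Agent.Lib.H19.NT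

open Cfsg.Agent.Lib.H21.AD Cfsg.Agent.Lib.H28.NT

variable {G : Type*} [Group G] [Finite G] {p : ℕ} {N : Subgroup G} {θ : G → ℂ}

theorem goodE_pow_core
    (hpow : ∀ (J : Subgroup G) (f : G → ℂ) (k : ℕ), k.Coprime (Nat.card G) →
      sSum p J (fun g => f (g ^ k)) = sSum p J f)
    (χ : G → ℂ) (hχ : GoodE p N θ ⊤ χ) (k : ℕ)
    (hk : k.Coprime (Nat.card G)) (hθk : ∀ n ∈ N, θ (n ^ k) = θ n) :
    GoodE p N θ ⊤ (fun g => χ (g ^ k)) := by
  obtain ⟨⟨hirr, hN⟩, hsum, hdet⟩ := hχ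
  have hk' : k.Coprime (Nat.card ↥(⊤ : Subgroup G)) := by
    rw [Subgroup.card_top]; exact hk
  refine ⟨⟨?_, ?_⟩, ?_, ?_⟩
  · exact Cfsg.Agent.Lib.H8.isIrrCharacter_galoisConj hirr k hk'
  · intro n hn
    show χ (n ^ k) = θ n
    rw [hN (n ^ k) (N.pow_mem hn k), hθk n hn]
  · intro c hc hpc
    rw [hpow _ χ k hk]
    exact hsum c hc hpc
  · intro x hx
    have hchar : Cfsg.IsCharacter ↥(⊤ : Subgroup G) (fun y : ↥(⊤ : Subgroup G) => χ y) :=
      Cfsg.Agent.Lib.L0.isCharacter_of_irr hirr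
    have h1 := Cfsg.Agent.Lib.L0.SigmaRes.detChar_galoisConj hchar k hk' x
    have h2 : (fun y : ↥(⊤ : Subgroup G) => (fun g => χ (g ^ k)) (y : G))
        = (fun z : ↥(⊤ : Subgroup G) => (fun y : ↥(⊤ : Subgroup G) => χ y) (z ^ k)) := rfl
    rw [h2, h1]
    apply hdet
    obtain ⟨j, hj⟩ := hx
    refine ⟨j, ?_⟩
    rw [← hj]
    apply Nat.Coprime.orderOf_pow
    exact Nat.Coprime.coprime_dvd_left (orderOf_dvd_natCard x) hk'.symm

end Cfsg.Agent.Lib.H19.NT
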