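import Mathlib
import Cfsg.Prelude.Def_Blocks
import Cfsg.Prelude.Def_CharExt
import Cfsg.Agent.Lib.H21.AD.Defs
import Cfsg.Agent.Lib.H28.NT.Defs
import Cfsg.Agent.Lib.H3.NTPOWSUM
import Cfsg.Agent.Lib.H19.NTGALCore

/-!
helper19 library (S4892, piece GAL): Galois conjugates of the good character are good.
-/

set_option autoImplicit false

namespace Cfsg.Agent.Lib.H19.NT

open Cfsg.Agent.Lib.H21.AD Cfsg.Agent.Lib.H28.NT

variable {G : Type*} [Group G] [Finite G] {p : ℕ} {M : Ideal Cfsg.AlgInt} {N Q : Subgroup G} {θ : G → ℂ}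

/-- (GAL) Galois conjugates of the good character are good. -/
theorem goodE_pow [N.Normal] (h : Hyp p M N Q θ) (χ : G → ℂ) (hχ : GoodE p N θ ⊤ χ) (k : ℕ)
    (hk : k.Coprime (Nat.card G)) (hθk : ∀ n ∈ N, θ (n ^ k) = θ n) :
    GoodE p N θ ⊤ (fun g => χ (g ^ k)) :=
  goodE_pow_core (fun J f k hk => Cfsg.Agent.Lib.H3.NT.sSum_pow p J f k hk) χ hχ k hk hθk

end Cfsg.Agent.Lib.H19.NT
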