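import Mathlib
import Cfsg.Prelude.Def_Sporadic_a
import Cfsg.Prelude.Def_SporadicCombinatorics
import Cfsg.Agent.Lib.H27.Co0Mod2
import Cfsg.Agent.Lib.H27.Leech32Shapes
import Cfsg.Agent.Lib.H27.Co0NOrbit
import Cfsg.Agent.Lib.H18.NXDefs

/-!
helper19 library (S1572, step 3, piece TRB): the stabiliser of `4 e_p + 4 e_q` in the monomial
group is transitive on the vectors `(2_p, 2_q, ±2^6)` supported on the octads through `p, q`.
-/

set_option autoImplicit false

namespace Cfsg.Agent.Lib.H19.NX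

open Cfsg Finset Cfsg.Agent.Lib.H27 Cfsg.Agent.Lib.H28 Cfsg.Agent.Lib.H18.NX
open scoped Pointwise

/-- Variant of `nsign_fix_even` that keeps the code word. -/
theorem sign_fix_even_word {v w : leechLattice}
    (habs : ∀ k, |(w : GolayPt → ℤ) k| = |(v : GolayPt → ℤ) k|)
    (hT : ∀ c ∈ golayCode, (∀ k, c k ≠ 0 → (v : GolayPt → ℤ) k ≠ 0) →
      Even (Finset.univ.filter fun k => c k ≠ 0 ∧ (w : GolayPt → ℤ) k ≠ (v : GolayPt → ℤ) k).card) :
    ∃ c ∈ golayCode, ∀ k, (w : GolayPt → ℤ) k
      = if k ∈ support₂ c then -(v : GolayPt → ℤ) k else (v : GolayPt → ℤ) k := by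
  classical
  set T : Finset GolayPt := Finset.univ.filter fun k => (v : GolayPt → ℤ) k ≠ 0 with hTdef
  set S : Finset GolayPt :=
    Finset.univ.filter fun k => (w : GolayPt → ℤ) k ≠ (v : GolayPt → ℤ) k with hSdef
  have hST : S ⊆ T := by
    intro k hk
    rw [hSdef, Finset.mem_filter] at hk
    rw [hTdef, Finset.mem_filter]
    refine ⟨Finset.mem_univ _, fun h0 => hk.2 ?_⟩
    have := habs k
    rw [h0, abs_zero, abs_eq_zero] at this
    rw [this, h0]
  obtain ⟨c, hc, hcT⟩ := golay_restrict_surj T S hST (by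
    intro c hc hsub
    have := hT c hc (fun k hk => by
      have := hsub ((mem_support₂_iff c k).2 hk)
      rw [hTdef, Finset.mem_filter] at this
      exact this.2)
    convert this using 2
    ext k
    rw [Finset.mem_inter, mem_support₂_iff, hSdef, Finset.mem_filter, Finset.mem_filter]
    simp)
  refine ⟨c, hc, ?_⟩
  intro k
  by_cases hk : (v : GolayPt → ℤ) k = 0
  · have := habs k
    rw [hk, abs_zero, abs_eq_zero] at this
    rw [this, hk]
    simp
  · have hkT : k ∈ T := by
      rw [hTdef, Finset.mem_filter]; exact ⟨Finset.mem_univ _, hk⟩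
    have hiff : k ∈ support₂ c ↔ k ∈ S := by
      rw [← hcT, Finset.mem_inter]
      exact ⟨fun h => ⟨h, hkT⟩, fun h => h.1⟩
    by_cases hkS : k ∈ S
    · rw [if_pos (hiff.2 hkS)]
      rw [hSdef, Finset.mem_filter] at hkS
      rcases eq_or_eq_neg_of_abs (habs k) with e | e
      · exact absurd e hkS.2
      · exact e
    · rw [if_neg (fun h => hkS (hiff.1 h))]
      rw [hSdef, Finset.mem_filter] at hkS
      by_contra hne
      exact hkS ⟨Finset.mem_univ _, hne⟩

theorem injective_five {α : Type*} {x0 x1 x2 x3 x4 : α} (h01 : x0 ≠ x1) (h02 : x0 ≠ x2)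
    (h03 : x0 ≠ x3) (h04 : x0 ≠ x4) (h12 : x1 ≠ x2) (h13 : x1 ≠ x3) (h14 : x1 ≠ x4)
    (h23 : x2 ≠ x3) (h24 : x2 ≠ x4) (h34 : x3 ≠ x4) :
    Function.Injective ![x0, x1, x2, x3, x4] := by
  intro i j h
  fin_cases i <;> fin_cases j <;>
    first
    | rfl
    | exact absurd h h01 | exact absurd h h02 | exact absurd h h03 | exact absurd h h04
    | exact absurd h h12 | exact absurd h h13 | exact absurd h h14
    | exact absurd h h23 | exact absurd h h24 | exact absurd h h34
    | exact absurd h.symm h01 | exact absurd h.symm h02 | exact absurd h.symm h03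
    | exact absurd h.symm h04
    | exact absurd h.symm h12 | exact absurd h.symm h13 | exact absurd h.symm h14
    | exact absurd h.symm h23 | exact absurd h.symm h24 | exact absurd h.symm h34

/-- `M24` maps an octad through `p, q` to any other octad through `p, q`, fixing `p` and `q`. -/
theorem exists_M24_octad_fix {p q : GolayPt} (hpq : p ≠ q) {o o' : Finset GolayPt}
    (ho : o ∈ octads) (ho' : o' ∈ octads) (hp : p ∈ o) (hq : q ∈ o) (hp' : p ∈ o')
    (hq' : q ∈ o') : ∃ g ∈ M24, g p = p ∧ g q = q ∧ g • o = o' := by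
  classical
  have h8 : o.card = 8 := ho.2
  have h8' : o'.card = 8 := ho'.2
  have hc6 : ((o.erase p).erase q).card = 6 := by
    rw [Finset.card_erase_of_mem (Finset.mem_erase.2 ⟨hpq.symm, hq⟩),
      Finset.card_erase_of_mem hp, h8]
  have hc6' : ((o'.erase p).erase q).card = 6 := by
    rw [Finset.card_erase_of_mem (Finset.mem_erase.2 ⟨hpq.symm, hq'⟩),
      Finset.card_erase_of_mem hp', h8']
  obtain ⟨X, hXo, hX⟩ := Finset.exists_subset_card_eq (s := (o.erase p).erase q) (n := 3)
    (by omega)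
  obtain ⟨Y, hYo, hY⟩ := Finset.exists_subset_card_eq (s := (o'.erase p).erase q) (n := 3)
    (by omega)
  obtain ⟨a, b, c, hab, hac, hbc, rfl⟩ := Finset.card_eq_three.1 hX
  obtain ⟨a', b', c', hab', hac', hbc', rfl⟩ := Finset.card_eq_three.1 hY
  have mem3 : ∀ {s : Finset GolayPt} {z : GolayPt}, z ∈ (s.erase p).erase q →
      z ≠ q ∧ z ≠ p ∧ z ∈ s := by
    intro s z hz
    rw [Finset.mem_erase, Finset.mem_erase] at hz
    exact ⟨hz.1, hz.2.1, hz.2.2⟩
  have ha := mem3 (hXo (by simp : a ∈ ({a, b, c} : Finset GolayPt)))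
  have hb := mem3 (hXo (by simp : b ∈ ({a, b, c} : Finset GolayPt)))
  have hc := mem3 (hXo (by simp : c ∈ ({a, b, c} : Finset GolayPt)))
  have ha' := mem3 (hYo (by simp : a' ∈ ({a', b', c'} : Finset GolayPt)))
  have hb' := mem3 (hYo (by simp : b' ∈ ({a', b', c'} : Finset GolayPt)))
  have hc' := mem3 (hYo (by simp : c' ∈ ({a', b', c'} : Finset GolayPt)))
  have hx : Function.Injective ![p, q, a, b, c] :=
    injective_five hpq ha.2.1.symm hb.2.1.symm hc.2.1.symm ha.1.symm hb.1.symm hc.1.symm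
      hab hac hbc
  have hy : Function.Injective ![p, q, a', b', c'] :=
    injective_five hpq ha'.2.1.symm hb'.2.1.symm hc'.2.1.symm ha'.1.symm hb'.1.symm hc'.1.symm
      hab' hac' hbc'
  obtain ⟨g, hg, hmap⟩ := exists_M24_map (le_refl 5) ![p, q, a, b, c] ![p, q, a', b', c'] hx hy
  have hgp : g p = p := hmap 0
  have hgq : g q = q := hmap 1
  refine ⟨g, hg, hgp, hgq, ?_⟩
  have hgo : g • o ∈ octads := smul_mem_octads hg ho
  have hxo : ∀ i, ![p, q, a, b, c] i ∈ o := by
    intro i
    fin_cases i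
    · exact hp
    · exact hq
    · exact ha.2.2
    · exact hb.2.2
    · exact hc.2.2
  have hyo : ∀ i, ![p, q, a', b', c'] i ∈ o' := by
    intro i
    fin_cases i
    · exact hp'
    · exact hq'
    · exact ha'.2.2
    · exact hb'.2.2
    · exact hc'.2.2
  set Y5 : Finset GolayPt := Finset.image ![p, q, a', b', c'] Finset.univ with hY5
  have hY5card : Y5.card = 5 := by
    rw [hY5, Finset.card_image_of_injective _ hy, Finset.card_univ, Fintype.card_fin]
  have hYsub : Y5 ⊆ g • o := by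
    intro z hz
    obtain ⟨i, -, rfl⟩ := Finset.mem_image.1 hz
    rw [← hmap i]
    exact Finset.smul_mem_smul_finset (hxo i)
  have hYsub' : Y5 ⊆ o' := by
    intro z hz
    obtain ⟨i, -, rfl⟩ := Finset.mem_image.1 hz
    exact hyo i
  obtain ⟨bk, _, hbk⟩ := octads_isSteinerSystem.2 Y5 hY5card
  rw [hbk (g • o) ⟨hgo, hYsub⟩, hbk o' ⟨ho', hYsub'⟩]

/-- The shape of the elements of `TB p q`. -/
theorem TB_shape {p q : GolayPt} {w : leechLattice} (hw : w ∈ TB p q) :
    ∃ cv ∈ golayCode, (support₂ cv).card = 8 ∧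
      (∀ k, |(w : GolayPt → ℤ) k| = if cv k ≠ 0 then 2 else 0) ∧
      (w : GolayPt → ℤ) p = 2 ∧ (w : GolayPt → ℤ) q = 2 ∧ cv p ≠ 0 ∧ cv q ≠ 0 := by
  obtain ⟨⟨cv, hcv, h8, habs⟩, hdot⟩ := hw
  have hdot' : dotInt (vecA p q 4 4) (w : GolayPt → ℤ) = 16 := by
    rw [← hdot]
    unfold dotInt
    exact Finset.sum_congr rfl (fun _ _ => mul_comm _ _)
  rw [dotInt_vecA] at hdot'
  have hle : ∀ k, |(w : GolayPt → ℤ) k| ≤ 2 := by
    intro k
    rw [habs k]
    split_ifs <;> norm_num
  have hp2 := abs_le.1 (hle p)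
  have hq2 := abs_le.1 (hle q)
  have hwp : (w : GolayPt → ℤ) p = 2 := by omega
  have hwq : (w : GolayPt → ℤ) q = 2 := by omega
  refine ⟨cv, hcv, h8, habs, hwp, hwq, ?_, ?_⟩
  · intro h0
    have := habs p
    rw [if_neg (not_not.2 h0), hwp] at this
    norm_num at this
  · intro h0
    have := habs q
    rw [if_neg (not_not.2 h0), hwq] at this
    norm_num at this

theorem vPQ_apply (p q : GolayPt) (hpq : p ≠ q) (k : GolayPt) :
    ((vPQ p q hpq : leechLattice) : GolayPt → ℤ) k
      = (if k = p then 4 else 0) + (if k = q then 4 else 0) := by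
  show vecA p q 4 4 k = _
  unfold vecA
  simp only [Pi.add_apply, Pi.single_apply]

theorem perm_fix_vPQ (p q : GolayPt) (hpq : p ≠ q) (σ : Equiv.Perm GolayPt) (hσ : σ ∈ M24)
    (hp : σ p = p) (hq : σ q = q) : permCo0 σ hσ • vPQ p q hpq = vPQ p q hpq := by
  apply Subtype.ext
  funext k
  rw [permCo0_smul, vPQ_apply, vPQ_apply]
  have e1 : σ.symm k = p ↔ k = p := by
    constructor
    · intro h; rw [← hp, ← h, Equiv.apply_symm_apply]
    · intro h; rw [h, ← hp, Equiv.symm_apply_apply, hp]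
  have e2 : σ.symm k = q ↔ k = q := by
    constructor
    · intro h; rw [← hq, ← h, Equiv.apply_symm_apply]
    · intro h; rw [h, ← hq, Equiv.symm_apply_apply, hq]
  simp only [e1, e2]

theorem sign_fix_vPQ (p q : GolayPt) (hpq : p ≠ q) (c : GolayPt → ZMod 2) (hc : c ∈ golayCode)
    (hp : p ∉ support₂ c) (hq : q ∉ support₂ c) : signCo0 c hc • vPQ p q hpq = vPQ p q hpq := by
  apply Subtype.ext
  funext k
  rw [signCo0_smul]
  by_cases hk : k ∈ support₂ c
  · rw [if_pos hk, vPQ_apply]
    have h1 : k ≠ p := fun h => hp (h ▸ hk)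
    have h2 : k ≠ q := fun h => hq (h ▸ hk)
    rw [if_neg h1, if_neg h2]
    norm_num
  · rw [if_neg hk]

/-- (TRB) -/
theorem nvRel_TB (p q : GolayPt) (hpq : p ≠ q) {w w' : leechLattice} (hw : w ∈ TB p q)
    (hw' : w' ∈ TB p q) : NvRel p q hpq w w' := by
  classical
  obtain ⟨cv, hcv, hcv8, hvk, hvp, hvq, hcvp, hcvq⟩ := TB_shape hw
  obtain ⟨cw, hcw, hcw8, hwk, hwp, hwq, hcwp, hcwq⟩ := TB_shape hw'
  have hov : support₂ cv ∈ octads := ⟨⟨cv, hcv, rfl⟩, hcv8⟩
  have how : support₂ cw ∈ octads := ⟨⟨cw, hcw, rfl⟩, hcw8⟩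
  obtain ⟨σ, hσ, hσp, hσq, hmap⟩ := exists_M24_octad_fix hpq hov how
    ((mem_support₂_iff cv p).2 hcvp) ((mem_support₂_iff cv q).2 hcvq)
    ((mem_support₂_iff cw p).2 hcwp) ((mem_support₂_iff cw q).2 hcwq)
  have hiff : ∀ k, cv (σ.symm k) ≠ 0 ↔ cw k ≠ 0 := by
    intro k
    rw [← mem_support₂_iff, ← mem_support₂_iff, ← hmap]
    constructor
    · intro h
      have : k = σ • σ.symm k := by rw [Equiv.Perm.smul_def, Equiv.apply_symm_apply]
      rw [this]
      exact Finset.smul_mem_smul_finset h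
    · intro h
      obtain ⟨z, hz, rfl⟩ := Finset.mem_smul_finset.1 h
      rw [Equiv.Perm.smul_def, Equiv.symm_apply_apply]
      exact hz
  set v' : leechLattice := permCo0 σ hσ • w with hv'
  have hv'k : ∀ k, |(v' : GolayPt → ℤ) k| = if cw k ≠ 0 then 2 else 0 := by
    intro k
    rw [hv', permCo0_smul, hvk]
    simp only [hiff k]
  have habs : ∀ k, |(w' : GolayPt → ℤ) k| = |(v' : GolayPt → ℤ) k| := by
    intro k
    rw [hv'k, hwk]
  have hsp : σ.symm p = p := by rw [← hσp, Equiv.symm_apply_apply, hσp]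
  have hsq : σ.symm q = q := by rw [← hσq, Equiv.symm_apply_apply, hσq]
  have hv'p : (v' : GolayPt → ℤ) p = 2 := by rw [hv', permCo0_smul, hsp, hvp]
  have hv'q : (v' : GolayPt → ℤ) q = 2 := by rw [hv', permCo0_smul, hsq, hvq]
  obtain ⟨c, hc, hsign⟩ := sign_fix_even_word habs (by
    intro c hc hsub
    by_cases hc0 : c = 0
    · rw [hc0, filter_eq_empty_of_zero]
      exact ⟨0, rfl⟩
    · have hsubset : support₂ c ⊆ support₂ cw := by
        intro k hk
        have h1 := hsub k ((mem_support₂_iff c k).1 hk)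
        rw [mem_support₂_iff]
        intro h0
        apply h1
        rw [← abs_eq_zero, hv'k, if_neg (by simpa using h0)]
      have h8 := golay_min_weight c hc hc0
      have heq : support₂ c = support₂ cw :=
        Finset.eq_of_subset_of_card_le hsubset (by omega)
      have hceq : ∀ k, c k ≠ 0 ↔ cw k ≠ 0 := by
        intro k
        rw [← mem_support₂_iff, ← mem_support₂_iff, heq]
      apply even_card_of_sum_mod _ (fun k => (v' : GolayPt → ℤ) k - (w' : GolayPt → ℤ) k)
      · intro k hk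
        rw [Finset.mem_filter] at hk
        obtain ⟨_, hck, hne⟩ := hk
        have h1 := hv'k k
        have h2 := hwk k
        rw [if_pos ((hceq k).1 hck)] at h1 h2
        rcases abs_eq (by norm_num : (0 : ℤ) ≤ 2) |>.1 h1 with e1 | e1 <;>
          rcases abs_eq (by norm_num : (0 : ℤ) ≤ 2) |>.1 h2 with e2 | e2
        · exact absurd (e2.trans e1.symm) hne
        · show ((v' : GolayPt → ℤ) k - (w' : GolayPt → ℤ) k) % 8 = 4
          rw [e1, e2]; norm_num
        · show ((v' : GolayPt → ℤ) k - (w' : GolayPt → ℤ) k) % 8 = 4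
          rw [e1, e2]; norm_num
        · exact absurd (e2.trans e1.symm) hne
      · intro k hk
        rw [Finset.mem_filter] at hk
        push Not at hk
        have hk' := hk (Finset.mem_univ _)
        by_cases hck : c k ≠ 0
        · rw [hk' hck, sub_self]
        · have h1 := hv'k k
          have h2 := hwk k
          rw [if_neg (fun h => hck ((hceq k).2 h))] at h1 h2
          rw [abs_eq_zero] at h1 h2
          rw [h1, h2, sub_self]
      · rw [Finset.sum_sub_distrib]
        have e1 := even_of_abs_two v'.2 hv'k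
        have e2 := even_of_abs_two w'.2 hwk
        omega)
  have hcp : p ∉ support₂ c := by
    intro hmem
    have := hsign p
    rw [if_pos hmem, hwp, hv'p] at this
    norm_num at this
  have hcq : q ∉ support₂ c := by
    intro hmem
    have := hsign q
    rw [if_pos hmem, hwq, hv'q] at this
    norm_num at this
  refine ⟨signCo0 c hc * permCo0 σ hσ,
    stabCross_mul (signCo0_stab c hc) (permCo0_stab σ hσ), ?_, ?_⟩
  · rw [mul_smul, perm_fix_vPQ p q hpq σ hσ hσp hσq, sign_fix_vPQ p q hpq c hc hcp hcq]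
  · rw [mul_smul]
    apply Subtype.ext
    funext k
    rw [signCo0_smul, hsign k]

end Cfsg.Agent.Lib.H19.NX
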