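import Mathlib
import Cfsg.Agent.Lib.H19.NilCoverSylow

set_option autoImplicit false

/-!
# A criterion for the absence of nilpotent minimal covers (cyclic Sylow of prime order)
-/

namespace Cfsg.Agent.Lib.H19.NilCoverCrit

open Cfsg Cfsg.Agent.Lib.H19.NilCoverSylow

/-- If `G` has trivial centre, its Sylow `q`-subgroups have order `q`, `σ` has order `q`, and some
proper subgroup `B` contains `C_G(σ)` together with an element `τ` not normalizing `⟨σ⟩`, then `G`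
has no nilpotent minimal cover. -/
theorem no_cover_of_prime_sylow {G : Type*} [Group G] [Finite G] (hZ : Subgroup.center G = ⊥)
    {q : ℕ} [Fact q.Prime] (hq : (Nat.card G).factorization q = 1) (σ τ : G)
    (hσ : orderOf σ = q) (B : Subgroup G) (hB : B ≠ ⊤)
    (hCB : Subgroup.centralizer {σ} ≤ B) (hτB : τ ∈ B)
    (hτ : τ * σ * τ⁻¹ ∉ Subgroup.zpowers σ) :
    ¬ ∃ 𝓐 : Finset (Subgroup G), ((∀ A ∈ 𝓐, A ≠ ⊤) ∧ (∀ g : G, ∃ A ∈ 𝓐, g ∈ A)) ∧
      (∀ 𝓑 : Finset (Subgroup G), (∀ A ∈ 𝓑, A ≠ ⊤) ∧ (∀ g : G, ∃ A ∈ 𝓑, g ∈ A) →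
        𝓐.card ≤ 𝓑.card) ∧ (∀ A ∈ 𝓐, Group.IsNilpotent ↥A) := by
  rintro ⟨𝓐, h⟩
  have hqp : q.Prime := Fact.out
  have hpg : IsPGroup q (Subgroup.zpowers σ) := by
    apply IsPGroup.of_card (n := 1)
    rw [Nat.card_zpowers, hσ, pow_one]
  obtain ⟨P, hP⟩ := hpg.exists_le_sylow
  have hPcard : Nat.card ↥(P : Subgroup G) = q := by
    rw [Sylow.card_eq_multiplicity, hq, pow_one]
  have hPeq : Subgroup.zpowers σ = (P : Subgroup G) := by
    apply Subgroup.eq_of_le_of_card_ge hP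
    rw [hPcard, Nat.card_zpowers, hσ]
  have hcyc : IsCyclic ↥(P : Subgroup G) := by
    rw [← hPeq]
    infer_instance
  have hτN : τ ∉ Subgroup.normalizer ((P : Subgroup G) : Set G) := by
    intro hN
    apply hτ
    rw [hPeq]
    exact (Subgroup.mem_normalizer_iff.mp hN σ).mp (hPeq ▸ Subgroup.mem_zpowers σ)
  have hnn : ¬ (P : Subgroup G).Normal := by
    intro hn
    apply hτN
    rw [Subgroup.normalizer_eq_top_iff.mpr hn]
    exact Subgroup.mem_top τ
  have hH : Hyp P := hyp_of_cyclic_or P (Or.inl hcyc) hnn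
  obtain ⟨-, -, huniq, -⟩ := core (𝓐 := 𝓐) h hZ P hH
  have hCP : Subgroup.centralizer ((P : Subgroup G) : Set G) ≤ B := by
    refine le_trans (Subgroup.centralizer_le ?_) hCB
    intro x hx
    rw [Set.mem_singleton_iff] at hx
    rw [hx]
    exact hPeq ▸ Subgroup.mem_zpowers σ
  obtain ⟨M, hM, hBM⟩ := (eq_top_or_exists_le_coatom B).resolve_left hB
  have := huniq M hM (hCP.trans hBM)
  exact hτN (this ▸ hBM hτB)

end Cfsg.Agent.Lib.H19.NilCoverCrit
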