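import Mathlib
import Cfsg.Agent.Lib.H19.NilCoverSylow

set_option autoImplicit false

namespace Cfsg.Agent.Lib.H19.NmcFamily

open Cfsg.Agent.Lib.H19.NilCoverSylow

/-- counting criterion: a proper cover `H j` indexed by `J`, together with `|J| + 1` elements
no two of which lie in a common nilpotent subgroup, excludes nilpotent minimal covers -/
theorem no_nmc_of_family {G : Type*} [Group G] {J : Type*} [Fintype J] (y : J → G)
    (H : J → Subgroup G) (ystar : G)
    (hH : ∀ j, H j ≠ ⊤) (hcov : ∀ g : G, ∃ j, g ∈ H j)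
    (hdist : ∀ j j', j ≠ j' → ∀ A : Subgroup G, Group.IsNilpotent A → y j ∈ A → y j' ∈ A → False)
    (hstar : ∀ j, ∀ A : Subgroup G, Group.IsNilpotent A → y j ∈ A → ystar ∈ A → False)
    (𝓐 : Finset (Subgroup G)) (h : IsNMC 𝓐) : False := by
  classical
  obtain ⟨⟨hprop, hc⟩, hmin, hnil⟩ := h
  -- the smaller cover
  have h1 : 𝓐.card ≤ (Finset.univ.image H).card := by
    apply hmin
    constructor
    · intro A hA
      obtain ⟨j, -, rfl⟩ := Finset.mem_image.mp hA
      exact hH j
    · intro g
      obtain ⟨j, hj⟩ := hcov g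
      exact ⟨H j, Finset.mem_image.mpr ⟨j, Finset.mem_univ _, rfl⟩, hj⟩
  have h2 : (Finset.univ.image H).card ≤ Fintype.card J := Finset.card_image_le
  -- the injection
  let z : Option J → G := fun o => o.elim ystar y
  have hz : ∀ o : Option J, ∃ A ∈ 𝓐, z o ∈ A := fun o => hc (z o)
  let Ψ : Option J → {A // A ∈ 𝓐} := fun o => ⟨(hz o).choose, (hz o).choose_spec.1⟩
  have hΨ : ∀ o, z o ∈ (Ψ o).1 := fun o => (hz o).choose_spec.2
  have hinj : Function.Injective Ψ := by
    intro o o' hoo'
    by_contra hne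
    have hA := hnil (Ψ o).1 (Ψ o).2
    have m1 := hΨ o
    have m2 : z o' ∈ (Ψ o).1 := by rw [hoo']; exact hΨ o'
    rcases o with _ | j <;> rcases o' with _ | j'
    · exact hne rfl
    · exact hstar j' _ hA m2 m1
    · exact hstar j _ hA m1 m2
    · exact hdist j j' (fun e => hne (by rw [e])) _ hA m1 m2
  have h3 := Fintype.card_le_of_injective Ψ hinj
  rw [Fintype.card_option, Fintype.card_coe] at h3
  omega

end Cfsg.Agent.Lib.H19.NmcFamily
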