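import Mathlib
import Cfsg.Prelude.Def_Transfer
import Cfsg.Agent.Lib.L0.TransferPC
import Cfsg.Agent.Lib.H19.KpClasses
import Cfsg.Agent.Lib.H19.CommProb
import Cfsg.Agent.Lib.H19.OddAct

/-!
# Groups of odd order with many classes of `r`-elements (helper19)

`exists_normal_complement_of_lt`: `H` of odd order, `r ≠ 2` prime, `R` a Sylow `r`-subgroup with
`|R| < 2 k_r(H)`. Then `R` is abelian and `H` has a normal `r`-complement containing `H'`.
-/

set_option autoImplicit false

namespace Cfsg.Agent.Lib.H19.OddR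

open MulAction Cfsg.Agent.Lib.H19.KpClasses Cfsg.Agent.Lib.H19.CommProb Cfsg.Agent.Lib.H19.OddAct

section pgroup

variable {P : Type*} [Group P] [Finite P]

/-- `p k(P) ≤ |P| + (p-1)|Z(P)|` for a finite `p`-group. -/
theorem p_mul_card_conjClasses_le {p : ℕ} [Fact p.Prime] (hP : IsPGroup p P) :
    p * Nat.card (ConjClasses P) ≤ Nat.card P + (p - 1) * Nat.card (Subgroup.center P) := by
  classical
  have hp : p.Prime := Fact.out
  have : Fintype P := Fintype.ofFinite P
  have hpos : 0 < Nat.card P := Nat.card_pos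
  have hsum := sum_card_centralizer (P := P)
  have hb : ∀ x : P, p * Nat.card (Cz x) ≤
      Nat.card P + (if x ∈ Subgroup.center P then (p - 1) * Nat.card P else 0) := by
    intro x
    by_cases hx : x ∈ Subgroup.center P
    · rw [if_pos hx, Cz_eq_top_iff.mpr hx, Subgroup.card_top]
      have h2 : p = (p - 1) + 1 := (Nat.sub_add_cancel hp.pos).symm
      have h3 : p * Nat.card P = Nat.card P + (p - 1) * Nat.card P := by
        calc p * Nat.card P = ((p - 1) + 1) * Nat.card P := by rw [← h2]
          _ = Nat.card P + (p - 1) * Nat.card P := by ring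
      exact h3.le
    · rw [if_neg hx, add_zero]
      exact p_mul_card_le hP (fun h => hx (Cz_eq_top_iff.mp h))
  have htot : ∑ x : P, (Nat.card P + (if x ∈ Subgroup.center P then (p - 1) * Nat.card P else 0)) =
      (Nat.card P + (p - 1) * Nat.card (Subgroup.center P)) * Nat.card P := by
    rw [Finset.sum_add_distrib, Finset.sum_const, Finset.card_univ, ← Finset.sum_filter,
      Finset.sum_const, smul_eq_mul, smul_eq_mul, ← Nat.card_eq_fintype_card]
    have : (Finset.univ.filter (fun x : P => x ∈ Subgroup.center P)).card =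
        Nat.card (Subgroup.center P) := by
      rw [Nat.card_eq_fintype_card, Fintype.card_subtype]
    rw [this]; ring
  have h1 : (p * Nat.card (ConjClasses P)) * Nat.card P ≤
      (Nat.card P + (p - 1) * Nat.card (Subgroup.center P)) * Nat.card P := by
    rw [← htot, mul_assoc, ← hsum, Finset.mul_sum]
    exact Finset.sum_le_sum (fun x _ => hb x)
  exact Nat.le_of_mul_le_mul_right h1 hpos

/-- the centre of a nonabelian `p`-group has index at least `p²`. -/
theorem p_sq_mul_card_center_le {p : ℕ} [Fact p.Prime] (hP : IsPGroup p P)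
    (hna : ¬ ∀ a b : P, a * b = b * a) :
    p ^ 2 * Nat.card (Subgroup.center P) ≤ Nat.card P := by
  have hp : p.Prime := Fact.out
  obtain ⟨n, hn⟩ := IsPGroup.iff_card.mp hP
  have hidx : (Subgroup.center P).index ∣ p ^ n := hn ▸ (Subgroup.center P).index_dvd_card
  obtain ⟨j, -, hj⟩ := (Nat.dvd_prime_pow hp).1 hidx
  have hcard : Nat.card (P ⧸ Subgroup.center P) = (Subgroup.center P).index :=
    (Subgroup.index_eq_card _).symm
  have hj2 : 2 ≤ j := by
    by_contra hlt
    push Not at hlt
    apply hna
    have hcyc : IsCyclic (P ⧸ Subgroup.center P) := by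
      have h01 : j = 0 ∨ j = 1 := by omega
      rcases h01 with rfl | rfl
      · have : Subsingleton (P ⧸ Subgroup.center P) := by
          rw [← Finite.card_le_one_iff_subsingleton, hcard, hj, pow_zero]
        exact isCyclic_of_subsingleton
      · exact isCyclic_of_prime_card (p := p) (by rw [hcard, hj, pow_one])
    exact isMulCommutative_iff.mp (MonoidHom.isMulCommutative_of_isCyclic_of_ker_le_center
      (QuotientGroup.mk' (Subgroup.center P)) (by rw [QuotientGroup.ker_mk']))
  calc p ^ 2 * Nat.card (Subgroup.center P) ≤ p ^ j * Nat.card (Subgroup.center P) :=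
        Nat.mul_le_mul_right _ (Nat.pow_le_pow_right hp.pos hj2)
    _ = (Subgroup.center P).index * Nat.card (Subgroup.center P) := by rw [hj]
    _ = Nat.card P := Subgroup.index_mul_card _

/-- an `r`-group (`r` odd) with `|R| < 2 k(R)` is abelian. -/
theorem comm_of_lt {r : ℕ} [Fact r.Prime] (hr2 : r ≠ 2) (hP : IsPGroup r P)
    (h : Nat.card P < 2 * Nat.card (ConjClasses P)) : ∀ a b : P, a * b = b * a := by
  by_contra hna
  have hr : r.Prime := Fact.out
  have hr3 : 3 ≤ r := by
    have := hr.two_le
    omega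
  have h1 := p_mul_card_conjClasses_le hP
  have h2 := p_sq_mul_card_center_le hP hna
  obtain ⟨q, rfl⟩ : ∃ q, r = q + 3 := ⟨r - 3, by omega⟩
  simp only [show q + 3 - 1 = q + 2 from rfl] at h1
  set n := Nat.card P
  set k := Nat.card (ConjClasses P)
  set z := Nat.card (Subgroup.center P)
  have hzpos : 0 < z := Nat.card_pos
  -- (q+3) n < 2 (q+3) k ≤ 2 n + 2 (q+2) z, and (q+3)^2 z ≤ n
  have h3 : (q + 3) * (n + 1) ≤ 2 * ((q + 3) * k) := by nlinarith
  have h4 : (q + 1) * n + (q + 3) ≤ 2 * (q + 2) * z := by nlinarith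
  have h5 : (q + 1) * ((q + 3) ^ 2 * z) ≤ (q + 1) * n := Nat.mul_le_mul_left _ h2
  have h6 : (q + 1) * ((q + 3) ^ 2 * z) =
      2 * (q + 2) * z + (q ^ 3 + 7 * q ^ 2 + 13 * q + 5) * z := by ring
  have h7 : 0 ≤ (q ^ 3 + 7 * q ^ 2 + 13 * q + 5) * z := Nat.zero_le _
  omega

end pgroup

section orbits

variable {A Q : Type*} [Group A] [Group Q] [MulDistribMulAction A Q] [Finite A] [Finite Q]

/-- Burnside's count for an action on a `p`-group by automorphisms. -/
theorem p_mul_orbits_le {p : ℕ} [Fact p.Prime] (hQ : IsPGroup p Q) :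
    p * (Nat.card (orbitRel.Quotient A Q) * Nat.card A) ≤
      Nat.card A * Nat.card Q + Nat.card (Ker A Q) * ((p - 1) * Nat.card Q) := by
  classical
  have hp : p.Prime := Fact.out
  have hFcard : ∀ n : A, Nat.card (fixedBy Q n) = Nat.card (Fix (Q := Q) n) := by
    intro n
    apply Nat.card_congr
    exact Equiv.subtypeEquivRight (fun x => by rw [mem_Fix]; rfl)
  have hbound : ∀ n : A, p * Nat.card (fixedBy Q n) ≤
      Nat.card Q + (if n ∈ Ker A Q then (p - 1) * Nat.card Q else 0) := by
    intro n
    rw [hFcard]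
    by_cases hn : n ∈ Ker A Q
    · rw [if_pos hn]
      have h1 : Nat.card (Fix (Q := Q) n) ≤ Nat.card Q := Subgroup.card_le_card_group _
      have h2 : p = (p - 1) + 1 := (Nat.sub_add_cancel hp.pos).symm
      calc p * Nat.card (Fix (Q := Q) n) ≤ p * Nat.card Q := Nat.mul_le_mul_left _ h1
        _ = ((p - 1) + 1) * Nat.card Q := by rw [← h2]
        _ = Nat.card Q + (p - 1) * Nat.card Q := by ring
    · rw [if_neg hn, add_zero]
      apply p_mul_card_le hQ
      intro htop
      apply hn
      intro x
      have : x ∈ Fix n := by rw [htop]; trivial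
      exact this
  have : Fintype A := Fintype.ofFinite _
  have : ∀ n : A, Fintype (fixedBy Q n) := fun n => Fintype.ofFinite _
  have : Fintype (orbitRel.Quotient A Q) := Fintype.ofFinite _
  have hB := sum_card_fixedBy_eq_card_orbits_mul_card_group A Q
  simp only [← Nat.card_eq_fintype_card] at hB
  rw [← hB, Finset.mul_sum]
  calc ∑ n : A, p * Nat.card (fixedBy Q n)
      ≤ ∑ n : A, (Nat.card Q + (if n ∈ Ker A Q then (p - 1) * Nat.card Q else 0)) :=
        Finset.sum_le_sum (fun n _ => hbound n)
    _ = Nat.card A * Nat.card Q + Nat.card (Ker A Q) * ((p - 1) * Nat.card Q) := by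
        have e1 : Fintype.card A = Nat.card A := Nat.card_eq_fintype_card.symm
        have e2 : (Finset.univ.filter (fun n : A => n ∈ Ker A Q)).card =
            Nat.card (Ker A Q) := by
          rw [Nat.card_eq_fintype_card, ← Fintype.card_subtype]
        rw [Finset.sum_add_distrib, Finset.sum_const, Finset.card_univ, smul_eq_mul,
          ← Finset.sum_filter, Finset.sum_const, smul_eq_mul, e1, e2]

end orbits

section main

variable {H : Type*} [Group H] [Finite H]

/-- the map from classes of a Sylow subgroup to classes of `p`-elements. -/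
noncomputable def clR {p : ℕ} [Fact p.Prime] (R : Sylow p H) : ConjClasses (R : Subgroup H) →
    {c : ConjClasses H // ∀ x ∈ c.carrier, ∃ k : ℕ, orderOf x = p ^ k} :=
  Quotient.lift (cls R) (by
    intro a b hab
    have hab' : IsConj a b := hab
    obtain ⟨c, hc⟩ := isConj_iff.mp hab'
    apply Subtype.ext
    show ConjClasses.mk (a : H) = ConjClasses.mk (b : H)
    rw [ConjClasses.mk_eq_mk_iff_isConj, isConj_iff]
    exact ⟨(c : H), by rw [← hc]; rfl⟩)

theorem clR_surjective {p : ℕ} [Fact p.Prime] (R : Sylow p H) : Function.Surjective (clR R) := by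
  intro c
  obtain ⟨x, hx⟩ := cls_surjective R c
  exact ⟨ConjClasses.mk x, hx⟩

/-- **Odd order, many classes of `r`-elements.** -/
theorem exists_normal_complement_of_lt (hodd : Odd (Nat.card H)) {r : ℕ} [Fact r.Prime]
    (hr2 : r ≠ 2) (R : Sylow r H)
    (h : Nat.card (R : Subgroup H) <
      2 * Nat.card {c : ConjClasses H // ∀ x ∈ c.carrier, ∃ k : ℕ, orderOf x = r ^ k}) :
    ∃ M : Subgroup H, M.Normal ∧ ¬ r ∣ Nat.card M ∧ (∃ k, M.index = r ^ k) ∧
      commutator H ≤ M := by
  have hr : r.Prime := Fact.out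
  have hr3 : 3 ≤ r := by
    have := hr.two_le
    omega
  have hrodd : Odd r := hr.odd_of_ne_two hr2
  have hkR : Nat.card {c : ConjClasses H // ∀ x ∈ c.carrier, ∃ k : ℕ, orderOf x = r ^ k} ≤
      Nat.card (ConjClasses (R : Subgroup H)) :=
    Nat.card_le_card_of_surjective _ (clR_surjective R)
  have hab : ∀ a b : (R : Subgroup H), a * b = b * a :=
    comm_of_lt hr2 R.isPGroup' (lt_of_lt_of_le h (Nat.mul_le_mul_left _ hkR))
  have hab' : IsMulCommutative (R : Subgroup H) := isMulCommutative_iff.mpr hab
  -- the normalizer acts trivially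
  have hNC : Subgroup.normalizer ((R : Subgroup H) : Set H) ≤
      Subgroup.centralizer ((R : Subgroup H) : Set H) := by
    by_contra hcon
    set N : Subgroup H := Subgroup.normalizer ((R : Subgroup H) : Set H) with hN
    have hKtop : Ker N (R : Subgroup H) ≠ ⊤ := by
      intro htop
      apply hcon
      intro n hn x hx
      have h1 : (⟨n, hn⟩ : N) ∈ Ker N (R : Subgroup H) := by rw [htop]; trivial
      have h2 := h1 ⟨x, hx⟩
      have h3 : n * x * n⁻¹ = x := congrArg Subtype.val h2
      calc x * n = (n * x * n⁻¹) * n := by rw [h3]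
        _ = n * x := by group
    set a := (Ker N (R : Subgroup H)).index with ha
    set c := Nat.card (Ker N (R : Subgroup H)) with hc
    have hNcard : a * c = Nat.card N := Subgroup.index_mul_card _
    have ha1 : a ≠ 1 := fun h1 => hKtop (Subgroup.index_eq_one.mp h1)
    have ha0 : a ≠ 0 := Subgroup.index_ne_zero_of_finite
    have haodd : Odd a := by
      apply Odd.of_dvd_nat hodd
      exact (Subgroup.index_dvd_card _).trans (Subgroup.card_subgroup_dvd_card N)
    -- `r ∤ a`
    have hRN : (R : Subgroup H) ≤ N := Subgroup.le_normalizer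
    have hRK : (R : Subgroup H).subgroupOf N ≤ Ker N (R : Subgroup H) := by
      intro u hu x
      rw [Subgroup.mem_subgroupOf] at hu
      apply Subtype.ext
      show (u : H) * (x : H) * (u : H)⁻¹ = x
      have := hab ⟨(u : H), hu⟩ x
      have h' : (u : H) * (x : H) = (x : H) * (u : H) := congrArg Subtype.val this
      rw [h', mul_inv_cancel_right]
    have hra : ¬ r ∣ a := by
      intro hdvd
      apply R.not_dvd_index
      have h1 : a ∣ ((R : Subgroup H).subgroupOf N).index := Subgroup.index_dvd_of_le hRK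
      have h2 : ((R : Subgroup H).subgroupOf N).index ∣ (R : Subgroup H).index :=
        Subgroup.relIndex_dvd_index_of_le hRN
      exact hdvd.trans (h1.trans h2)
    have hB := p_mul_orbits_le (A := N) (Q := (R : Subgroup H)) R.isPGroup'
    have hkorb : Nat.card {c : ConjClasses H // ∀ x ∈ c.carrier, ∃ k : ℕ, orderOf x = r ^ k} ≤
        Nat.card (orbitRel.Quotient N (R : Subgroup H)) := card_pClasses_le_orbits R
    set Ω := Nat.card (orbitRel.Quotient N (R : Subgroup H)) with hΩ
    set q := Nat.card (R : Subgroup H) with hq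
    rw [← hNcard] at hB
    have hcpos : 0 < c := Nat.card_pos
    -- r Ω a ≤ q (a + r - 1)
    have h1 : (r * (Ω * a)) * c ≤ (q * (a + (r - 1))) * c := by
      calc (r * (Ω * a)) * c = r * (Ω * (a * c)) := by ring
        _ ≤ a * c * q + c * ((r - 1) * q) := hB
        _ = (q * (a + (r - 1))) * c := by ring
    have h2 : r * (Ω * a) ≤ q * (a + (r - 1)) := Nat.le_of_mul_le_mul_right h1 hcpos
    have h3 : q < 2 * Ω := lt_of_lt_of_le h (Nat.mul_le_mul_left _ hkorb)
    -- arithmetic: `2 (a + r - 1) ≤ a r`
    have harith : 2 * (a + (r - 1)) ≤ a * r := by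
      obtain ⟨s, rfl⟩ : ∃ s, r = s + 3 := ⟨r - 3, by omega⟩
      obtain ⟨b, hb⟩ := haodd
      have hb1 : 1 ≤ b := by omega
      rcases Nat.eq_zero_or_pos s with rfl | hs
      · -- `r = 3`, so `a ≠ 3`
        have ha3 : a ≠ 3 := by
          intro h3'
          apply hra
          rw [h3']
        have : 5 ≤ a := by omega
        simp only [zero_add] at *
        omega
      · have hs2 : 2 ≤ s := by
          -- `s + 3` is odd
          obtain ⟨t, ht⟩ := hrodd
          omega
        have ha3 : 3 ≤ a := by omega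
        simp only [show s + 3 - 1 = s + 2 from rfl]
        nlinarith
    have h4 : (2 * Ω) * (a * r) ≤ q * (a * r) := by
      calc (2 * Ω) * (a * r) = 2 * (r * (Ω * a)) := by ring
        _ ≤ 2 * (q * (a + (r - 1))) := Nat.mul_le_mul_left _ h2
        _ = q * (2 * (a + (r - 1))) := by ring
        _ ≤ q * (a * r) := Nat.mul_le_mul_left _ harith
    have h5 : 2 * Ω ≤ q := Nat.le_of_mul_le_mul_right h4 (Nat.mul_pos (by omega) hr.pos)
    omega
  have hnpc := Cfsg.Agent.Lib.L0.hasNormalPComplement_of_normalizer_le_centralizer R hNC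
  obtain ⟨M, hMn, hMc, hMi⟩ := Cfsg.Agent.Lib.L0.HasNormalPComplement.exists_normal hnpc
  refine ⟨M, hMn, hMc, hMi, ?_⟩
  have hcomp := Cfsg.Agent.Lib.L0.isComplement'_sylow_of_normal M hMc hMi R
  exact Subgroup.Normal.commutator_le_of_self_sup_commutative_eq_top hcomp.sup_eq_top hab'

end main

end Cfsg.Agent.Lib.H19.OddR
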