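import Mathlib
import Cfsg.Agent.Lib.H19.BoundPair
import Cfsg.Agent.Lib.H19.NilCoverSylow

set_option autoImplicit false
set_option linter.unusedSectionVars false
set_option linter.style.haveILetI false

/-!
# `p`-subgroups of `PGL_n(F)` and the regular unipotent element

Lifting `p`-subgroups of `PGL_n(F)` (`F` finite of characteristic `p`) to `GL_n(F)`, fixed
(co)vectors of `p`-subgroups, and the upper shift matrix.
-/

namespace Cfsg.Agent.Lib.H19.PGLUnip

open Matrix Polynomial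

section shift
variable {F : Type*} [Field F] {n : ℕ}



/-- the upper shift matrix `e_{i+1} ↦ e_i` -/
def shift (n : ℕ) (F : Type*) [Field F] : Matrix (Fin n) (Fin n) F :=
  Matrix.of fun i j => if (i : ℕ) + 1 = (j : ℕ) then 1 else 0

theorem shift_apply (i j : Fin n) : shift n F i j = if (i : ℕ) + 1 = (j : ℕ) then 1 else 0 := rfl

theorem shift_mulVec (v : Fin n → F) (i : Fin n) :
    (shift n F *ᵥ v) i = if h : (i : ℕ) + 1 < n then v ⟨i + 1, h⟩ else 0 := by
  rw [Matrix.mulVec, dotProduct]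
  split_ifs with h
  · rw [Finset.sum_eq_single (⟨i + 1, h⟩ : Fin n)]
    · simp [shift_apply]
    · intro j _ hj
      rw [shift_apply, if_neg, zero_mul]
      intro e
      exact hj (Fin.ext e.symm)
    · intro h'; exact absurd (Finset.mem_univ _) h'
  · apply Finset.sum_eq_zero
    intro j _
    rw [shift_apply, if_neg, zero_mul]
    intro e
    have := j.2
    omega

theorem vecMul_shift (φ : Fin n → F) (j : Fin n) :
    (φ ᵥ* shift n F) j = if h : 0 < (j : ℕ) then φ ⟨j - 1, by omega⟩ else 0 := by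
  rw [Matrix.vecMul, dotProduct]
  split_ifs with h
  · rw [Finset.sum_eq_single (⟨j - 1, by omega⟩ : Fin n)]
    · rw [shift_apply, if_pos, mul_one]
      simp; omega
    · intro i _ hi
      rw [shift_apply, if_neg, mul_zero]
      intro e
      apply hi
      apply Fin.ext
      simp; omega
    · intro h'; exact absurd (Finset.mem_univ _) h'
  · apply Finset.sum_eq_zero
    intro i _
    rw [shift_apply, if_neg, mul_zero]
    omega

/-- the kernel of the shift is spanned by `e₀` -/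
theorem eq_zero_of_shift_mulVec {v : Fin n → F} (h : shift n F *ᵥ v = 0) (j : Fin n)
    (hj : 0 < (j : ℕ)) : v j = 0 := by
  have := congrFun h ⟨j - 1, by omega⟩
  rw [shift_mulVec, dif_pos (by simp; omega)] at this
  simp only [Pi.zero_apply] at this
  convert this using 2
  apply Fin.ext; simp; omega

/-- the left kernel of the shift is spanned by the last coordinate -/
theorem eq_zero_of_vecMul_shift {φ : Fin n → F} (h : φ ᵥ* shift n F = 0) (i : Fin n)
    (hi : (i : ℕ) + 1 < n) : φ i = 0 := by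
  have := congrFun h ⟨i + 1, hi⟩
  rw [vecMul_shift, dif_pos (by simp)] at this
  simp only [Pi.zero_apply] at this
  convert this using 2
  apply Fin.ext; simp

theorem mul_shift_apply (g : Matrix (Fin n) (Fin n) F) (i j : Fin n) :
    (g * shift n F) i j = if h : 0 < (j : ℕ) then g i ⟨j - 1, by omega⟩ else 0 := by
  rw [Matrix.mul_apply_eq_vecMul, vecMul_shift]

theorem shift_mul_apply (g : Matrix (Fin n) (Fin n) F) (i j : Fin n) :
    (shift n F * g) i j = if h : (i : ℕ) + 1 < n then g ⟨i + 1, h⟩ j else 0 := by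
  have : (shift n F * g) i j = (shift n F *ᵥ (fun k => g k j)) i := rfl
  rw [this, shift_mulVec]

/-- matrices commuting with the shift are upper triangular -/
theorem lower_zero_of_comm {g : Matrix (Fin n) (Fin n) F} (h : g * shift n F = shift n F * g) :
    ∀ (j : ℕ) (i : Fin n) (hj : j < n), j < (i : ℕ) → g i ⟨j, hj⟩ = 0 := by
  intro j
  induction j with
  | zero =>
    intro i hj hi
    have := congrFun (congrFun h ⟨i - 1, by omega⟩) ⟨0, hj⟩
    rw [mul_shift_apply, shift_mul_apply, dif_neg (by simp), dif_pos (by simp; omega)] at this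
    rw [this]
    congr 1
    apply Fin.ext; simp; omega
  | succ j ih =>
    intro i hj hi
    have := congrFun (congrFun h ⟨i - 1, by omega⟩) ⟨j + 1, hj⟩
    rw [mul_shift_apply, shift_mul_apply, dif_pos (by simp), dif_pos (by simp; omega)] at this
    have h1 : g ⟨i - 1, by omega⟩ ⟨j, by omega⟩ = 0 := ih ⟨i - 1, by omega⟩ (by omega) (by simp; omega)
    have h2 : g i ⟨j + 1, hj⟩ = g ⟨(i : ℕ) - 1 + 1, by omega⟩ ⟨j + 1, hj⟩ := by
      congr 1
      apply Fin.ext; simp; omega
    rw [h2, ← this]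
    convert h1 using 2
    apply Fin.ext; simp

/-- matrices commuting with the shift have constant diagonal -/
theorem diag_const_of_comm {g : Matrix (Fin n) (Fin n) F} (h : g * shift n F = shift n F * g)
    (hn : 0 < n) : ∀ i : Fin n, g i i = g ⟨0, hn⟩ ⟨0, hn⟩ := by
  intro i
  obtain ⟨i, hi⟩ := i
  induction i with
  | zero => rfl
  | succ i ih =>
    have := congrFun (congrFun h ⟨i, by omega⟩) ⟨i + 1, hi⟩
    rw [mul_shift_apply, shift_mul_apply, dif_pos (by simp), dif_pos (by simp; omega)] at this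
    rw [← ih (by omega)]
    rw [← this]
    rfl


end shift

section lift
variable {F : Type*} [Field F] [Fintype F] {n : ℕ}



/-- the quotient map `GL_n → PGL_n` -/
abbrev pr (n : ℕ) (F : Type*) [Field F] :
    GL (Fin n) F →* GL (Fin n) F ⧸ Subgroup.center (GL (Fin n) F) :=
  QuotientGroup.mk' (Subgroup.center (GL (Fin n) F))

theorem pr_surjective : Function.Surjective (pr n F) := QuotientGroup.mk'_surjective _

theorem pr_eq_one_iff {g : GL (Fin n) F} :
    pr n F g = 1 ↔ ∃ u : Fˣ, g = GeneralLinearGroup.scalar (Fin n) u := by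
  rw [← MonoidHom.mem_ker, QuotientGroup.ker_mk', GeneralLinearGroup.center_eq_range_scalar]
  constructor
  · rintro ⟨u, hu⟩; exact ⟨u, hu.symm⟩
  · rintro ⟨u, hu⟩; exact ⟨u, hu.symm⟩

/-- central elements of `GL_n(F)` have order dividing `q - 1` -/
theorem center_pow_card (z : GL (Fin n) F) (hz : z ∈ Subgroup.center (GL (Fin n) F)) :
    z ^ (Fintype.card F - 1) = 1 := by
  classical
  rw [GeneralLinearGroup.center_eq_range_scalar] at hz
  obtain ⟨u, rfl⟩ := hz
  rw [← map_pow]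
  have : u ^ (Fintype.card F - 1) = 1 := by
    rw [← Fintype.card_units]
    exact pow_card_eq_one
  rw [this, map_one]


variable (p : ℕ) [hp : Fact p.Prime] [CharP F p]

include hp in
theorem coprime_card_sub_one : (Fintype.card F - 1).Coprime p := by
  obtain ⟨k, hk⟩ := FiniteField.card F p
  have hk' : Fintype.card F = p ^ (k : ℕ) := hk.2
  rw [hk', Nat.coprime_comm, Nat.Prime.coprime_iff_not_dvd hp.out]
  intro hd
  have h1 : p ∣ p ^ (k : ℕ) := dvd_pow_self p k.pos.ne'
  have hpos : 0 < p ^ (k : ℕ) := pow_pos hp.out.pos _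
  have : p ∣ 1 := by
    have := Nat.dvd_sub h1 hd
    rwa [Nat.sub_sub_self hpos] at this
  exact hp.out.one_lt.ne' (Nat.dvd_one.mp this)

/-- a central `p`-element of `GL_n(F)` is trivial -/
theorem center_pElement_eq_one (z : GL (Fin n) F) (hz : z ∈ Subgroup.center (GL (Fin n) F))
    (k : ℕ) (hk : z ^ p ^ k = 1) : z = 1 := by
  have h1 := center_pow_card z hz
  have hcop : (p ^ k).Coprime (Fintype.card F - 1) :=
    Nat.Coprime.pow_left k (coprime_card_sub_one (F := F) p).symm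
  have h3 := orderOf_dvd_of_pow_eq_one hk
  have h2 := orderOf_dvd_of_pow_eq_one h1
  have h4 : orderOf z ∣ 1 := by
    rw [← hcop.gcd_eq_one]
    exact Nat.dvd_gcd h3 h2
  exact orderOf_eq_one_iff.mp (Nat.dvd_one.mp h4)

/-- lifting `p`-subgroups of `PGL_n(F)` to `p`-subgroups of `GL_n(F)` -/
theorem exists_lift (A : Subgroup (GL (Fin n) F ⧸ Subgroup.center (GL (Fin n) F)))
    (hA : IsPGroup p A) :
    ∃ A₀ : Subgroup (GL (Fin n) F), IsPGroup p A₀ ∧ A₀.map (pr n F) = A := by
  classical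
  set f : ↥(A.comap (pr n F)) →* ↥A := (pr n F).subgroupComap A with hf
  have hfs : Function.Surjective f :=
    MonoidHom.subgroupComap_surjective_of_surjective (pr n F) A pr_surjective
  have htop : IsPGroup p (⊤ : Subgroup ↥A) := fun a => by
    obtain ⟨k, hk⟩ := hA a.1
    exact ⟨k, Subtype.ext (by simpa using hk)⟩
  let P : Sylow p ↥A := ⟨⊤, htop, fun _ h => top_le_iff.mp h⟩
  obtain ⟨Q, hQ⟩ := Sylow.mapSurjective_surjective hfs p P
  refine ⟨(Q : Subgroup ↥(A.comap (pr n F))).map (A.comap (pr n F)).subtype, Q.isPGroup'.map _, ?_⟩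
  have hQ' : (Q : Subgroup ↥(A.comap (pr n F))).map f = ⊤ := by
    have := congrArg (fun S : Sylow p ↥A => (S : Subgroup ↥A)) hQ
    rw [← Sylow.coe_mapSurjective hfs Q]
    exact this
  apply le_antisymm
  · rintro _ ⟨g, ⟨g', hg', rfl⟩, rfl⟩
    exact g'.2
  · intro a ha
    have : (⟨a, ha⟩ : ↥A) ∈ (Q : Subgroup ↥(A.comap (pr n F))).map f := by rw [hQ']; trivial
    obtain ⟨g', hg', hg'a⟩ := this
    refine ⟨g'.1, ⟨g', hg', rfl⟩, ?_⟩
    have := congrArg Subtype.val hg'a
    exact this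

/-- a `p`-element of `GL_n(F)` whose image lies in the image of the `p`-group `A₀` lies in `A₀` -/
theorem mem_of_pr_mem (A₀ : Subgroup (GL (Fin n) F)) (hA₀ : IsPGroup p A₀) (x : GL (Fin n) F)
    (k : ℕ) (hx : x ^ p ^ k = 1) (hxA : pr n F x ∈ A₀.map (pr n F)) : x ∈ A₀ := by
  obtain ⟨a, ha, hax⟩ := hxA
  obtain ⟨j, hj⟩ := hA₀ ⟨a, ha⟩
  have hj' : a ^ p ^ j = 1 := by simpa using congrArg Subtype.val hj
  -- z = x⁻¹ a is central
  have hz : x⁻¹ * a ∈ Subgroup.center (GL (Fin n) F) := by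
    rw [← QuotientGroup.ker_mk' (Subgroup.center (GL (Fin n) F)), MonoidHom.mem_ker, map_mul,
      map_inv]
    change (pr n F x)⁻¹ * pr n F a = 1
    rw [hax, inv_mul_cancel]
  have hcomm : Commute x (x⁻¹ * a) := (Subgroup.mem_center_iff.mp hz) x
  have hcomm' : Commute x a := by
    have : a = x * (x⁻¹ * a) := by group
    rw [this]
    exact (Commute.refl x).mul_right hcomm
  have hzp : (x⁻¹ * a) ^ p ^ (k + j) = 1 := by
    rw [(hcomm'.inv_left).mul_pow, inv_pow, pow_add, pow_mul, hx, one_pow, inv_one, one_mul,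
      mul_comm (p ^ k), pow_mul, hj', one_pow]
  have := center_pElement_eq_one p _ hz _ hzp
  have hxa : x = a := by
    have h5 : a = x * (x⁻¹ * a) := by group
    rw [h5, this, mul_one]
  rw [hxa]; exact ha




/-- the natural action of a subgroup of `GL_n(F)` on column vectors -/
@[instance_reducible]
def colAct (A₀ : Subgroup (GL (Fin n) F)) : MulAction A₀ (Fin n → F) where
  smul g v := (g.1 : Matrix (Fin n) (Fin n) F) *ᵥ v
  one_smul v := by
    change ((1 : GL (Fin n) F) : Matrix (Fin n) (Fin n) F) *ᵥ v = v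
    simp
  mul_smul g h v := by
    change ((g.1 * h.1 : GL (Fin n) F) : Matrix (Fin n) (Fin n) F) *ᵥ v =
      (g.1 : Matrix (Fin n) (Fin n) F) *ᵥ ((h.1 : Matrix (Fin n) (Fin n) F) *ᵥ v)
    simp [Matrix.mulVec_mulVec]

/-- the action on row vectors -/
@[instance_reducible]
def rowAct (A₀ : Subgroup (GL (Fin n) F)) : MulAction A₀ (Fin n → F) where
  smul g v := v ᵥ* ((g.1⁻¹ : GL (Fin n) F) : Matrix (Fin n) (Fin n) F)
  one_smul v := by
    change v ᵥ* (((1 : GL (Fin n) F)⁻¹ : GL (Fin n) F) : Matrix (Fin n) (Fin n) F) = v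
    simp
  mul_smul g h v := by
    change v ᵥ* (((g.1 * h.1)⁻¹ : GL (Fin n) F) : Matrix (Fin n) (Fin n) F) =
      (v ᵥ* ((h.1⁻¹ : GL (Fin n) F) : Matrix (Fin n) (Fin n) F)) ᵥ*
        ((g.1⁻¹ : GL (Fin n) F) : Matrix (Fin n) (Fin n) F)
    rw [_root_.mul_inv_rev, Matrix.vecMul_vecMul]
    rfl

include hp in
theorem card_vec_dvd (hn : 0 < n) : p ∣ Nat.card (Fin n → F) := by
  obtain ⟨k, hk⟩ := FiniteField.card F p
  have hk' : Fintype.card F = p ^ (k : ℕ) := hk.2
  rw [Nat.card_eq_fintype_card, Fintype.card_fun, Fintype.card_fin, hk', ← pow_mul]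
  exact dvd_pow_self p (Nat.mul_pos k.pos hn).ne'

/-- a `p`-subgroup of `GL_n(F)` fixes a nonzero column vector -/
theorem exists_fixed_col (hn : 0 < n) (A₀ : Subgroup (GL (Fin n) F)) (hA₀ : IsPGroup p A₀) :
    ∃ v : Fin n → F, v ≠ 0 ∧ ∀ g ∈ A₀, (g : Matrix (Fin n) (Fin n) F) *ᵥ v = v := by
  letI := colAct A₀
  have h0 : (0 : Fin n → F) ∈ MulAction.fixedPoints A₀ (Fin n → F) := by
    intro g
    change (g.1 : Matrix (Fin n) (Fin n) F) *ᵥ 0 = 0
    simp
  obtain ⟨v, hv, hv0⟩ := hA₀.exists_fixed_point_of_prime_dvd_card_of_fixed_point (Fin n → F)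
    (card_vec_dvd p hn) h0
  exact ⟨v, fun h => hv0 h.symm, fun g hg => hv ⟨g, hg⟩⟩

/-- a `p`-subgroup of `GL_n(F)` fixes a nonzero row vector -/
theorem exists_fixed_row (hn : 0 < n) (A₀ : Subgroup (GL (Fin n) F)) (hA₀ : IsPGroup p A₀) :
    ∃ v : Fin n → F, v ≠ 0 ∧ ∀ g ∈ A₀, v ᵥ* (g : Matrix (Fin n) (Fin n) F) = v := by
  letI := rowAct A₀
  have h0 : (0 : Fin n → F) ∈ MulAction.fixedPoints A₀ (Fin n → F) := by
    intro g
    change (0 : Fin n → F) ᵥ* ((g.1⁻¹ : GL (Fin n) F) : Matrix (Fin n) (Fin n) F) = 0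
    simp
  obtain ⟨v, hv, hv0⟩ := hA₀.exists_fixed_point_of_prime_dvd_card_of_fixed_point (Fin n → F)
    (card_vec_dvd p hn) h0
  refine ⟨v, fun h => hv0 h.symm, fun g hg => ?_⟩
  have := hv ⟨g⁻¹, A₀.inv_mem hg⟩
  change v ᵥ* (((g⁻¹)⁻¹ : GL (Fin n) F) : Matrix (Fin n) (Fin n) F) = v at this
  rwa [inv_inv] at this


end lift

section comm

variable {F : Type*} [Field F] {n : ℕ}

theorem sub_scalar_pow_eq_zero {g : Matrix (Fin n) (Fin n) F}
    (h : g * shift n F = shift n F * g) (hn : 0 < n) :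
    (g - Matrix.scalar (Fin n) (g ⟨0, hn⟩ ⟨0, hn⟩)) ^ n = 0 := by
  have hup : g.IsUpperTriangular := by
    intro i j hij
    exact lower_zero_of_comm h j i j.2 hij
  have hcp := Matrix.charpoly_of_isUpperTriangular g hup
  simp_rw [diag_const_of_comm h hn] at hcp
  rw [Finset.prod_const, Finset.card_univ, Fintype.card_fin] at hcp
  have := Matrix.aeval_self_charpoly g
  rw [hcp] at this
  have h2 : (Matrix.scalar (Fin n) (g ⟨0, hn⟩ ⟨0, hn⟩)) = algebraMap F (Matrix (Fin n) (Fin n) F) (g ⟨0, hn⟩ ⟨0, hn⟩) := rfl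
  rw [h2]
  simpa using this


variable [Fintype F] (p : ℕ) [hp : Fact p.Prime] [CharP F p]

theorem le_prime_pow (n : ℕ) : n ≤ p ^ n :=
  (Nat.lt_pow_self hp.out.one_lt).le

/-- elements of `GL_n` commuting with the shift are `p`-elements modulo scalars -/
theorem pr_pow_eq_one_of_comm (hn : 0 < n) (g : GL (Fin n) F)
    (h : (g : Matrix (Fin n) (Fin n) F) * shift n F = shift n F * g) :
    (pr n F g) ^ p ^ n = 1 := by
  have : Nonempty (Fin n) := ⟨⟨0, hn⟩⟩
  have h1 := sub_scalar_pow_eq_zero h hn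
  set c := (g : Matrix (Fin n) (Fin n) F) ⟨0, hn⟩ ⟨0, hn⟩ with hc
  have h2 : ((g : Matrix (Fin n) (Fin n) F) - Matrix.scalar (Fin n) c) ^ p ^ n = 0 :=
    pow_eq_zero_of_le (le_prime_pow p n) h1
  have hcomm : Commute (g : Matrix (Fin n) (Fin n) F) (Matrix.scalar (Fin n) c) :=
    (Matrix.scalar_commute c (fun r => Commute.all c r) _).symm
  rw [sub_pow_char_pow_of_commute p n hcomm, sub_eq_zero] at h2
  rw [← map_pow, ← MonoidHom.mem_ker, QuotientGroup.ker_mk',
    GeneralLinearGroup.mem_center_iff_val_mem_range_scalar]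
  refine ⟨c ^ p ^ n, ?_⟩
  rw [map_pow, ← h2]
  simp


end comm

section unip
variable {F : Type*} [Field F] {n : ℕ}

/-- the regular unipotent matrix `1 + shift` -/
def unipMat (n : ℕ) (F : Type*) [Field F] : Matrix (Fin n) (Fin n) F := 1 + shift n F

theorem unipMat_upper : (unipMat n F).IsUpperTriangular := by
  intro i j hij
  have hij' : (j : ℕ) < (i : ℕ) := hij
  rw [unipMat, Matrix.add_apply, Matrix.one_apply_ne (by intro h; rw [h] at hij'; omega),
    shift_apply, if_neg (by omega), add_zero]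

theorem unipMat_diag (i : Fin n) : unipMat n F i i = 1 := by
  rw [unipMat, Matrix.add_apply, Matrix.one_apply_eq, shift_apply, if_neg (by omega), add_zero]

theorem det_unipMat : (unipMat n F).det = 1 := by
  rw [Matrix.det_of_isUpperTriangular unipMat_upper]
  simp [unipMat_diag]

/-- the regular unipotent element of `SL_n` -/
def unipSL (n : ℕ) (F : Type*) [Field F] : SpecialLinearGroup (Fin n) F :=
  ⟨unipMat n F, det_unipMat⟩

/-- the regular unipotent element of `GL_n` -/
def unipGL (n : ℕ) (F : Type*) [Field F] : GL (Fin n) F := SpecialLinearGroup.toGL (unipSL n F)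

theorem coe_unipGL : ((unipGL n F : GL (Fin n) F) : Matrix (Fin n) (Fin n) F) = 1 + shift n F := rfl

/-- if `g x` and `x g` agree up to a scalar, they agree -/
theorem comm_shift_of_comm_scalar (hn : 0 < n) (g : GL (Fin n) F) (u : Fˣ)
    (h : g * unipGL n F * GeneralLinearGroup.scalar (Fin n) u = unipGL n F * g) :
    (g : Matrix (Fin n) (Fin n) F) * shift n F = shift n F * g := by
  -- conjugating: `g⁻¹ x g = u • x`
  have h1 : ((g⁻¹ : GL (Fin n) F) : Matrix (Fin n) (Fin n) F) * unipMat n F * (g : Matrix (Fin n) (Fin n) F)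
      = (u : F) • unipMat n F := by
    have h2 : g⁻¹ * unipGL n F * g = unipGL n F * GeneralLinearGroup.scalar (Fin n) u := by
      have hz : GeneralLinearGroup.scalar (Fin n) u ∈ Subgroup.center (GL (Fin n) F) := by
        rw [GeneralLinearGroup.center_eq_range_scalar]; exact ⟨u, rfl⟩
      have hc := Subgroup.mem_center_iff.mp hz
      rw [mul_assoc, ← h, mul_assoc, ← mul_assoc g⁻¹, inv_mul_cancel, one_mul]
    have := congrArg (fun x : GL (Fin n) F => (x : Matrix (Fin n) (Fin n) F)) h2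
    simp only [Units.val_mul] at this
    rw [coe_unipGL] at this
    rw [unipMat, this]
    ext i j
    simp [Matrix.mul_apply, Matrix.scalar_apply, Matrix.diagonal_apply, mul_comm]
  -- compare characteristic polynomials
  have hu : (u : F) = 1 := by
    have hcp1 : ((u : F) • unipMat n F).charpoly = (unipMat n F).charpoly := by
      rw [← h1]
      have := Matrix.charpoly_units_conj (g⁻¹ : GL (Fin n) F) (unipMat n F)
      rwa [← Matrix.coe_units_inv, inv_inv] at this
    have hup : ((u : F) • unipMat n F).IsUpperTriangular := by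
      intro i j hij
      rw [Matrix.smul_apply, unipMat_upper hij, smul_zero]
    rw [Matrix.charpoly_of_isUpperTriangular _ hup,
      Matrix.charpoly_of_isUpperTriangular _ unipMat_upper] at hcp1
    simp only [Matrix.smul_apply, unipMat_diag, smul_eq_mul, mul_one, Finset.prod_const,
      Finset.card_univ, Fintype.card_fin] at hcp1
    have := congrArg (Polynomial.eval 1) hcp1
    simp only [eval_pow, eval_sub, eval_X, eval_C, sub_self] at this
    rw [zero_pow hn.ne'] at this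
    have h3 := pow_eq_zero_iff hn.ne' |>.mp this
    exact (sub_eq_zero.mp h3).symm
  have hu' : u = 1 := Units.ext hu
  rw [hu', map_one, mul_one] at h
  have := congrArg (fun x : GL (Fin n) F => (x : Matrix (Fin n) (Fin n) F)) h
  simp only [Units.val_mul] at this
  rw [coe_unipGL, mul_add, add_mul, mul_one, one_mul] at this
  exact add_left_cancel this


end unip

section good
open Cfsg.Agent.Lib.H19.BoundPair
variable {F : Type*} [Field F] [Fintype F] {n : ℕ} (p : ℕ) [hp : Fact p.Prime] [CharP F p]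

/-- `y` is good: elements of `PGL_n` commuting with the image of `y` are `p`-elements -/
def Good (y : GL (Fin n) F) : Prop :=
  ∀ g : GL (Fin n) F, Commute (pr n F g) (pr n F y) → (pr n F g) ^ p ^ n = 1

theorem good_unipGL (hn : 0 < n) : Good p (unipGL n F) := by
  intro g hc
  have h1 : pr n F (g * unipGL n F) = pr n F (unipGL n F * g) := by
    rw [map_mul, map_mul]; exact hc.eq
  obtain ⟨u, hu⟩ := Matrix.ProjGenLinGroup.mk_eq_mk_iff.mp h1
  exact pr_pow_eq_one_of_comm p hn g (comm_shift_of_comm_scalar hn g u hu)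

theorem Good.conj {y : GL (Fin n) F} (hy : Good p y) (t : GL (Fin n) F) :
    Good p (t * y * t⁻¹) := by
  intro g hc
  have h1 : Commute (pr n F (t⁻¹ * g * t)) (pr n F y) := by
    have e1 : pr n F (t⁻¹ * g * t) = (pr n F t)⁻¹ * pr n F g * pr n F t := by
      rw [map_mul, map_mul, map_inv]
    have e2 : pr n F (t * y * t⁻¹) = pr n F t * pr n F y * (pr n F t)⁻¹ := by
      rw [map_mul, map_mul, map_inv]
    rw [e2] at hc
    rw [e1]
    have := hc.eq
    unfold Commute SemiconjBy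
    calc (pr n F t)⁻¹ * pr n F g * pr n F t * pr n F y
        = (pr n F t)⁻¹ * (pr n F g * (pr n F t * pr n F y * (pr n F t)⁻¹)) * pr n F t := by group
      _ = (pr n F t)⁻¹ * ((pr n F t * pr n F y * (pr n F t)⁻¹) * pr n F g) * pr n F t := by rw [this]
      _ = pr n F y * ((pr n F t)⁻¹ * pr n F g * pr n F t) := by group
  have h2 := hy _ h1
  have e3 : pr n F g = pr n F t * pr n F (t⁻¹ * g * t) * (pr n F t)⁻¹ := by
    rw [map_mul, map_mul, map_inv]; group
  rw [e3, conj_pow, h2, mul_one, mul_inv_cancel]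

theorem isPGroup_of_good {y : GL (Fin n) F} (hy : Good p y)
    (A : Subgroup (GL (Fin n) F ⧸ Subgroup.center (GL (Fin n) F))) [Group.IsNilpotent A]
    (hyA : pr n F y ∈ A) : IsPGroup p A :=
  isPGroup_of_centralizer p A (pr n F y) hyA (fun a hc => by
    obtain ⟨g, rfl⟩ := pr_surjective a
    exact ⟨n, hy g hc⟩)

theorem exists_lift_of_good {y : GL (Fin n) F} (hy : Good p y)
    (A : Subgroup (GL (Fin n) F ⧸ Subgroup.center (GL (Fin n) F))) [Group.IsNilpotent A]
    (hyA : pr n F y ∈ A) :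
    ∃ A₀ : Subgroup (GL (Fin n) F), IsPGroup p A₀ ∧ A₀.map (pr n F) = A ∧
      ∀ z : GL (Fin n) F, (∃ j : ℕ, z ^ p ^ j = 1) → pr n F z ∈ A → z ∈ A₀ := by
  obtain ⟨A₀, hA₀, hmap⟩ := exists_lift p A (isPGroup_of_good p hy A hyA)
  refine ⟨A₀, hA₀, hmap, ?_⟩
  rintro z ⟨j, hj⟩ hz
  exact mem_of_pr_mem p A₀ hA₀ z j hj (hmap ▸ hz)


end good

section stab
variable {F : Type*} [Field F] {n : ℕ}

/-- the stabilizer in `GL_n` of the line spanned by `e₀` -/
def stabGL (hn : 0 < n) (F : Type*) [Field F] : Subgroup (GL (Fin n) F) where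
  carrier := {g | ∃ c : F, (g : Matrix (Fin n) (Fin n) F) *ᵥ Pi.single ⟨0, hn⟩ 1 =
    c • Pi.single ⟨0, hn⟩ 1}
  one_mem' := ⟨1, by rw [Units.val_one, Matrix.one_mulVec, one_smul]⟩
  mul_mem' := by
    rintro g h ⟨c, hc⟩ ⟨d, hd⟩
    refine ⟨d * c, ?_⟩
    rw [Units.val_mul, ← Matrix.mulVec_mulVec, hd, Matrix.mulVec_smul, hc, smul_smul]
  inv_mem' := by
    rintro g ⟨c, hc⟩
    have hc0 : c ≠ 0 := by
      intro h0
      rw [h0, zero_smul] at hc
      have h1 : ((g⁻¹ : GL (Fin n) F) : Matrix (Fin n) (Fin n) F) *ᵥ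
          ((g : Matrix (Fin n) (Fin n) F) *ᵥ Pi.single ⟨0, hn⟩ 1) = 0 := by
        rw [hc, Matrix.mulVec_zero]
      rw [Matrix.mulVec_mulVec, ← Units.val_mul, inv_mul_cancel, Units.val_one,
        Matrix.one_mulVec] at h1
      have := congrFun h1 ⟨0, hn⟩
      simp at this
    refine ⟨c⁻¹, ?_⟩
    have h1 : ((g⁻¹ : GL (Fin n) F) : Matrix (Fin n) (Fin n) F) *ᵥ
        ((g : Matrix (Fin n) (Fin n) F) *ᵥ Pi.single ⟨0, hn⟩ 1) =
        c • (((g⁻¹ : GL (Fin n) F) : Matrix (Fin n) (Fin n) F) *ᵥ Pi.single ⟨0, hn⟩ 1) := by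
      rw [hc, Matrix.mulVec_smul]
    rw [Matrix.mulVec_mulVec, ← Units.val_mul, inv_mul_cancel, Units.val_one,
      Matrix.one_mulVec] at h1
    have h2 := congrArg (fun w => c⁻¹ • w) h1
    simp only [smul_smul, inv_mul_cancel₀ hc0, one_smul] at h2
    exact h2.symm

theorem mem_stabGL_iff (hn : 0 < n) (g : GL (Fin n) F) :
    g ∈ stabGL hn F ↔ ∀ i : Fin n, 0 < (i : ℕ) → (g : Matrix (Fin n) (Fin n) F) i ⟨0, hn⟩ = 0 := by
  constructor
  · rintro ⟨c, hc⟩ i hi
    have := congrFun hc i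
    rw [Matrix.mulVec_single_one] at this
    simp only [Matrix.col_apply, Pi.smul_apply, smul_eq_mul] at this
    rw [this, Pi.single_apply, if_neg, mul_zero]
    intro h
    rw [h] at hi
    simp at hi
  · intro h
    refine ⟨(g : Matrix (Fin n) (Fin n) F) ⟨0, hn⟩ ⟨0, hn⟩, ?_⟩
    ext i
    rw [Matrix.mulVec_single_one]
    simp only [Matrix.col_apply, Pi.smul_apply, smul_eq_mul]
    by_cases hi : i = ⟨0, hn⟩
    · subst hi; simp
    · rw [Pi.single_apply, if_neg hi, mul_zero]
      apply h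
      by_contra h0
      apply hi
      apply Fin.ext
      simp; omega

theorem center_le_stabGL (hn : 0 < n) : Subgroup.center (GL (Fin n) F) ≤ stabGL hn F := by
  intro z hz
  rw [GeneralLinearGroup.center_eq_range_scalar] at hz
  obtain ⟨u, rfl⟩ := hz
  rw [mem_stabGL_iff]
  intro i hi
  simp only [GeneralLinearGroup.coe_scalar, Matrix.scalar_apply]
  rw [Matrix.diagonal_apply_ne]
  intro h
  rw [h] at hi
  simp at hi

theorem pr_mem_map_stabGL_iff (hn : 0 < n) (g : GL (Fin n) F) :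
    pr n F g ∈ (stabGL hn F).map (pr n F) ↔ g ∈ stabGL hn F := by
  constructor
  · rintro ⟨h, hh, hhg⟩
    have : h⁻¹ * g ∈ Subgroup.center (GL (Fin n) F) := by
      rw [← QuotientGroup.ker_mk' (Subgroup.center (GL (Fin n) F)), MonoidHom.mem_ker, map_mul,
        map_inv]
      change (pr n F h)⁻¹ * pr n F g = 1
      rw [hhg, inv_mul_cancel]
    have h2 := (stabGL hn F).mul_mem hh (center_le_stabGL hn this)
    rwa [mul_inv_cancel_left] at h2
  · intro hg
    exact ⟨g, hg, rfl⟩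

/-- an element fixing a nonzero multiple of `e₀` stabilizes its line -/
theorem mem_stabGL_of_fix (hn : 0 < n) (g : GL (Fin n) F) (v : Fin n → F) (hv : v ≠ 0)
    (hv0 : ∀ j : Fin n, 0 < (j : ℕ) → v j = 0)
    (hgv : (g : Matrix (Fin n) (Fin n) F) *ᵥ v = v) : g ∈ stabGL hn F := by
  have hv' : v = v ⟨0, hn⟩ • Pi.single ⟨0, hn⟩ 1 := by
    ext j
    by_cases hj : j = ⟨0, hn⟩
    · subst hj; simp
    · rw [Pi.smul_apply, Pi.single_apply, if_neg hj, smul_zero]
      apply hv0
      by_contra h0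
      apply hj
      apply Fin.ext
      simp; omega
  have hc : v ⟨0, hn⟩ ≠ 0 := by
    intro h0
    apply hv
    rw [hv', h0, zero_smul]
  refine ⟨1, ?_⟩
  rw [hv', Matrix.mulVec_smul] at hgv
  have := congrArg (fun w => (v ⟨0, hn⟩)⁻¹ • w) hgv
  simp only [smul_smul, inv_mul_cancel₀ hc, one_smul] at this
  rw [this, one_smul]


end stab

section hull
open Cfsg.Agent.Lib.H19.BoundPair
variable {F : Type*} [Field F] [Fintype F] {n : ℕ} (p : ℕ) [hp : Fact p.Prime] [CharP F p]

/-- hull lemma: nilpotent subgroups of `PGL_n` containing the image of a good `p`-element `y`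
whose fixed vectors are multiples of `e₀` stabilize the line of `e₀` -/
theorem le_stab_of_good (hn : 0 < n) {y : GL (Fin n) F} (hy : Good p y)
    (hyp : ∃ j : ℕ, y ^ p ^ j = 1)
    (hK : ∀ v : Fin n → F, (y : Matrix (Fin n) (Fin n) F) *ᵥ v = v →
      ∀ j : Fin n, 0 < (j : ℕ) → v j = 0)
    (A : Subgroup (GL (Fin n) F ⧸ Subgroup.center (GL (Fin n) F))) [Group.IsNilpotent A]
    (hyA : pr n F y ∈ A) : A ≤ (stabGL hn F).map (pr n F) := by
  obtain ⟨A₀, hA₀, hmap, hmem⟩ := exists_lift_of_good p hy A hyA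
  have hyA₀ : y ∈ A₀ := hmem y hyp hyA
  obtain ⟨v, hv, hfix⟩ := exists_fixed_col p hn A₀ hA₀
  have hv0 := hK v (hfix y hyA₀)
  rw [← hmap]
  apply Subgroup.map_mono
  intro g hg
  exact mem_stabGL_of_fix hn g v hv hv0 (hfix g hg)

/-- two good `p`-elements with no common fixed covector lie in no common nilpotent subgroup -/
theorem not_both_of_good (hn : 0 < n) {y y' : GL (Fin n) F} (hy : Good p y)
    (hyp : ∃ j : ℕ, y ^ p ^ j = 1) (hyp' : ∃ j : ℕ, y' ^ p ^ j = 1)
    (hR : ∀ φ : Fin n → F, φ ᵥ* (y : Matrix (Fin n) (Fin n) F) = φ →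
      φ ᵥ* (y' : Matrix (Fin n) (Fin n) F) = φ → φ = 0)
    (A : Subgroup (GL (Fin n) F ⧸ Subgroup.center (GL (Fin n) F))) [Group.IsNilpotent A]
    (hyA : pr n F y ∈ A) (hyA' : pr n F y' ∈ A) : False := by
  obtain ⟨A₀, hA₀, hmap, hmem⟩ := exists_lift_of_good p hy A hyA
  have hyA₀ : y ∈ A₀ := hmem y hyp hyA
  have hyA₀' : y' ∈ A₀ := hmem y' hyp' hyA'
  obtain ⟨φ, hφ, hfix⟩ := exists_fixed_row p hn A₀ hA₀
  exact hφ (hR φ (hfix y hyA₀) (hfix y' hyA₀'))

theorem unipGL_pow (hn : 0 < n) : (unipGL n F) ^ p ^ n = 1 := by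
  have : Nonempty (Fin n) := ⟨⟨0, hn⟩⟩
  have hcomm : unipMat n F * shift n F = shift n F * unipMat n F := by
    rw [unipMat, add_mul, mul_add, one_mul, mul_one]
  have h1 := sub_scalar_pow_eq_zero hcomm hn
  rw [unipMat_diag, map_one] at h1
  have h2 : (unipMat n F - 1) ^ p ^ n = 0 := pow_eq_zero_of_le (le_prime_pow p n) h1
  rw [sub_pow_char_pow_of_commute p n (Commute.one_right _), one_pow, sub_eq_zero] at h2
  apply Units.ext
  rw [Units.val_pow_eq_pow_val, Units.val_one]
  exact h2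

theorem unipGL_fix {v : Fin n → F} (h : (unipGL n F : Matrix (Fin n) (Fin n) F) *ᵥ v = v)
    (j : Fin n) (hj : 0 < (j : ℕ)) : v j = 0 := by
  rw [coe_unipGL, Matrix.add_mulVec, Matrix.one_mulVec, add_eq_left] at h
  exact eq_zero_of_shift_mulVec h j hj

theorem unipGL_fix_row {φ : Fin n → F} (h : φ ᵥ* (unipGL n F : Matrix (Fin n) (Fin n) F) = φ)
    (i : Fin n) (hi : (i : ℕ) + 1 < n) : φ i = 0 := by
  rw [coe_unipGL, Matrix.vecMul_add, Matrix.vecMul_one, add_eq_left] at h
  exact eq_zero_of_vecMul_shift h i hi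


end hull

section second
variable {F : Type*} [Field F] [Fintype F] {n : ℕ}

theorem transvection_mulVec (a b : Fin n) (c : F) (w : Fin n → F) (k : Fin n) :
    (Matrix.transvection a b c *ᵥ w) k = w k + if k = a then c * w b else 0 := by
  rw [Matrix.transvection, Matrix.add_mulVec, Matrix.one_mulVec, Pi.add_apply,
    Matrix.single_mulVec_eq]
  simp [Pi.single_apply]

theorem vecMul_transvection (a b : Fin n) (c : F) (φ : Fin n → F) (k : Fin n) :
    (φ ᵥ* Matrix.transvection a b c) k = φ k + if k = b then φ a * c else 0 := by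
  rw [Matrix.transvection, Matrix.vecMul_add, Matrix.vecMul_one, Pi.add_apply]
  congr 1
  simp only [Matrix.vecMul, dotProduct, Matrix.single_apply]
  split_ifs with h
  · subst h
    rw [Finset.sum_eq_single a]
    · simp
    · intro l _ hl
      rw [if_neg, mul_zero]
      rintro ⟨h1, -⟩; exact hl h1.symm
    · intro h'; exact absurd (Finset.mem_univ _) h'
  · apply Finset.sum_eq_zero
    intro l _
    rw [if_neg, mul_zero]
    rintro ⟨-, h2⟩; exact h h2.symm

/-- the transvection `1 + E_{n-1,1}` as an element of `SL_n` -/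
def tSL (hn : 3 ≤ n) (F : Type*) [Field F] : SpecialLinearGroup (Fin n) F :=
  ⟨Matrix.transvection ⟨n - 1, by omega⟩ ⟨1, by omega⟩ 1,
    Matrix.det_transvection_of_ne _ _ (by intro h; have := congrArg Fin.val h; simp at this; omega) _⟩

def tGL (hn : 3 ≤ n) (F : Type*) [Field F] : GL (Fin n) F := SpecialLinearGroup.toGL (tSL hn F)

theorem coe_tGL (hn : 3 ≤ n) : ((tGL hn F : GL (Fin n) F) : Matrix (Fin n) (Fin n) F) =
    Matrix.transvection ⟨n - 1, by omega⟩ ⟨1, by omega⟩ 1 := rfl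

/-- the second regular unipotent element -/
def unipGL' (hn : 3 ≤ n) (F : Type*) [Field F] : GL (Fin n) F :=
  tGL hn F * unipGL n F * (tGL hn F)⁻¹

theorem unipGL'_mem_range (hn : 3 ≤ n) : unipGL' hn F ∈
    (SpecialLinearGroup.toGL : SpecialLinearGroup (Fin n) F →* GL (Fin n) F).range :=
  ⟨tSL hn F * unipSL n F * (tSL hn F)⁻¹, by rw [map_mul, map_mul, map_inv]; rfl⟩

theorem unipGL_mem_range : unipGL n F ∈
    (SpecialLinearGroup.toGL : SpecialLinearGroup (Fin n) F →* GL (Fin n) F).range :=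
  ⟨unipSL n F, rfl⟩

/-- fixed vectors of `x'` are multiples of `e₀` -/
theorem unipGL'_fix (hn : 3 ≤ n) {v : Fin n → F}
    (h : (unipGL' hn F : Matrix (Fin n) (Fin n) F) *ᵥ v = v)
    (j : Fin n) (hj : 0 < (j : ℕ)) : v j = 0 := by
  set w := ((tGL hn F)⁻¹ : GL (Fin n) F).1 *ᵥ v with hw
  have hv : v = (tGL hn F : Matrix (Fin n) (Fin n) F) *ᵥ w := by
    rw [hw, Matrix.mulVec_mulVec, ← Units.val_mul, mul_inv_cancel, Units.val_one,
      Matrix.one_mulVec]
  have hxw : (unipGL n F : Matrix (Fin n) (Fin n) F) *ᵥ w = w := by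
    have h2 : ((tGL hn F)⁻¹ : GL (Fin n) F).1 *ᵥ
        ((unipGL' hn F : Matrix (Fin n) (Fin n) F) *ᵥ v) = w := by rw [h]
    rw [Matrix.mulVec_mulVec, ← Units.val_mul, unipGL'] at h2
    rw [show (tGL hn F)⁻¹ * (tGL hn F * unipGL n F * (tGL hn F)⁻¹) = unipGL n F * (tGL hn F)⁻¹ by
      group, Units.val_mul, ← Matrix.mulVec_mulVec] at h2
    exact h2
  have hw0 := fun j hj => unipGL_fix hxw j hj
  rw [hv, coe_tGL, transvection_mulVec, hw0 j hj, hw0 ⟨1, by omega⟩ (by simp)]
  simp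

/-- no nonzero covector is fixed by both `x` and `x'` -/
theorem no_common_row (hn : 3 ≤ n) (φ : Fin n → F)
    (h1 : φ ᵥ* (unipGL n F : Matrix (Fin n) (Fin n) F) = φ)
    (h2 : φ ᵥ* (unipGL' hn F : Matrix (Fin n) (Fin n) F) = φ) : φ = 0 := by
  have hφ := fun i hi => unipGL_fix_row h1 i hi
  set ψ := φ ᵥ* (tGL hn F : Matrix (Fin n) (Fin n) F) with hψ
  have hxψ : ψ ᵥ* (unipGL n F : Matrix (Fin n) (Fin n) F) = ψ := by
    have h3 : (φ ᵥ* (unipGL' hn F : Matrix (Fin n) (Fin n) F)) ᵥ*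
        (tGL hn F : Matrix (Fin n) (Fin n) F) = ψ := by rw [h2]
    rw [Matrix.vecMul_vecMul, ← Units.val_mul, unipGL'] at h3
    rw [show tGL hn F * unipGL n F * (tGL hn F)⁻¹ * tGL hn F = tGL hn F * unipGL n F by
      group, Units.val_mul, ← Matrix.vecMul_vecMul] at h3
    exact h3
  have hψ0 := unipGL_fix_row hxψ ⟨1, by omega⟩ (by simp; omega)
  rw [hψ, coe_tGL, vecMul_transvection, if_pos rfl, hφ ⟨1, by omega⟩ (by simp; omega),
    mul_one, zero_add] at hψ0
  ext i
  by_cases hi : (i : ℕ) + 1 < n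
  · exact hφ i hi
  · have : i = ⟨n - 1, by omega⟩ := by
      apply Fin.ext
      have := i.2
      simp; omega
    rw [this]; exact hψ0


end second

section main
open Cfsg.Agent.Lib.H19.NilCoverSylow Cfsg.Agent.Lib.H19.BoundPair
variable {F : Type*} [Field F] [Fintype F] {n : ℕ} (p : ℕ) [hp : Fact p.Prime] [CharP F p]

theorem unipGL'_pow (hn : 3 ≤ n) : (unipGL' hn F) ^ p ^ n = 1 := by
  rw [unipGL', conj_pow, unipGL_pow p (by omega), mul_one, mul_inv_cancel]

/-- a lower transvection, not stabilizing the line of `e₀` -/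
def sSL (hn : 2 ≤ n) (F : Type*) [Field F] : SpecialLinearGroup (Fin n) F :=
  ⟨Matrix.transvection ⟨1, by omega⟩ ⟨0, by omega⟩ 1,
    Matrix.det_transvection_of_ne _ _ (by intro h; have := congrArg Fin.val h; simp at this) _⟩

theorem sSL_not_mem (hn : 2 ≤ n) :
    SpecialLinearGroup.toGL (sSL hn F) ∉ stabGL (show 0 < n by omega) F := by
  intro h
  rw [mem_stabGL_iff] at h
  have := h ⟨1, by omega⟩ (by simp)
  change Matrix.transvection (⟨1, by omega⟩ : Fin n) ⟨0, by omega⟩ (1 : F) ⟨1, by omega⟩ ⟨0, by omega⟩ = 0 at this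
  simp [Matrix.transvection] at this

/-- the stabilizer of the line of `e₀` in a group between `PSL_n` and `PGL_n` is proper -/
theorem stab_ne_top (hn : 2 ≤ n)
    (G : Subgroup (GL (Fin n) F ⧸ Subgroup.center (GL (Fin n) F)))
    (hG : ((SpecialLinearGroup.toGL : SpecialLinearGroup (Fin n) F →* GL (Fin n) F).range).map
      (QuotientGroup.mk' (Subgroup.center (GL (Fin n) F))) ≤ G) :
    ((stabGL (show 0 < n by omega) F).map (pr n F)).subgroupOf G ≠ ⊤ := by
  intro h
  have hs : pr n F (SpecialLinearGroup.toGL (sSL hn F)) ∈ G := hG ⟨_, ⟨_, rfl⟩, rfl⟩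
  have : (⟨_, hs⟩ : G) ∈ ((stabGL (show 0 < n by omega) F).map (pr n F)).subgroupOf G := by
    rw [h]; trivial
  rw [Subgroup.mem_subgroupOf] at this
  exact sSL_not_mem hn ((pr_mem_map_stabGL_iff _ _).mp this)

theorem no_nmc_three (hn : 3 ≤ n)
    (G : Subgroup (GL (Fin n) F ⧸ Subgroup.center (GL (Fin n) F)))
    (hG : ((SpecialLinearGroup.toGL : SpecialLinearGroup (Fin n) F →* GL (Fin n) F).range).map
      (QuotientGroup.mk' (Subgroup.center (GL (Fin n) F))) ≤ G)
    (𝓐 : Finset (Subgroup ↥G)) (h : IsNMC 𝓐) : False := by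
  obtain ⟨p, hchar⟩ := CharP.exists F
  have : Fact p.Prime := ⟨CharP.char_is_prime F p⟩
  have hn0 : 0 < n := by omega
  have hX : pr n F (unipGL n F) ∈ G := hG ⟨_, unipGL_mem_range, rfl⟩
  have hX' : pr n F (unipGL' hn F) ∈ G := hG ⟨_, unipGL'_mem_range hn, rfl⟩
  have hgood : Good p (unipGL n F) := good_unipGL p hn0
  have hgood' : Good p (unipGL' hn F) := hgood.conj p _
  have key : ∀ (A : Subgroup ↥G), Group.IsNilpotent A →
      Group.IsNilpotent (A.map G.subtype) := fun A hA =>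
    Group.nilpotent_of_mulEquiv (Subgroup.equivMapOfInjective A G.subtype G.subtype_injective)
  refine no_nmc_of_bound_pair (((stabGL hn0 F).map (pr n F)).subgroupOf G)
    (stab_ne_top (by omega) G hG) ⟨_, hX⟩ ⟨_, hX'⟩ ?_ ?_ ?_ 𝓐 h
  · intro A hA hxA
    have := key A hA
    have hle := le_stab_of_good p hn0 hgood ⟨n, unipGL_pow p hn0⟩
      (fun v hv j hj => unipGL_fix hv j hj) (A.map G.subtype) ⟨_, hxA, rfl⟩
    intro a ha
    rw [Subgroup.mem_subgroupOf]
    exact hle ⟨a, ha, rfl⟩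
  · intro A hA hxA
    have := key A hA
    have hle := le_stab_of_good p hn0 hgood' ⟨n, unipGL'_pow p hn⟩
      (fun v hv j hj => unipGL'_fix hn hv j hj) (A.map G.subtype) ⟨_, hxA, rfl⟩
    intro a ha
    rw [Subgroup.mem_subgroupOf]
    exact hle ⟨a, ha, rfl⟩
  · intro A hA hxA hxA'
    have := key A hA
    exact not_both_of_good p hn0 hgood ⟨n, unipGL_pow p hn0⟩ ⟨n, unipGL'_pow p hn⟩
      (fun φ h1 h2 => no_common_row hn φ h1 h2) (A.map G.subtype) ⟨_, hxA, rfl⟩ ⟨_, hxA', rfl⟩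


end main

end Cfsg.Agent.Lib.H19.PGLUnip
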