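import Mathlib
import Cfsg.Agent.Lib.H19.PGLUnip
import Cfsg.Agent.Lib.H8.Nilpotent

set_option autoImplicit false
set_option linter.unusedSectionVars false
set_option linter.style.haveILetI false

/-!
# Subgroups of `PGL_2(F)`: commutants, tori and nilpotent covers
-/

namespace Cfsg.Agent.Lib.H19.PGL2

open Matrix Cfsg.Agent.Lib.H19.PGLUnip

section basic
variable {F : Type*} [Field F]

/-- a `2 × 2` matrix is scalar -/
def IsScalar (h : Matrix (Fin 2) (Fin 2) F) : Prop := h 0 1 = 0 ∧ h 1 0 = 0 ∧ h 0 0 = h 1 1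

theorem isScalar_iff (h : Matrix (Fin 2) (Fin 2) F) :
    IsScalar h ↔ ∃ c : F, h = Matrix.scalar (Fin 2) c := by
  constructor
  · rintro ⟨h1, h2, h3⟩
    refine ⟨h 0 0, ?_⟩
    ext i j
    fin_cases i <;> fin_cases j <;> simp [h1, h2, h3]
  · rintro ⟨c, rfl⟩
    simp [IsScalar]

theorem eq_add_smul_of_entries (g h : Matrix (Fin 2) (Fin 2) F) (α β : F)
    (e00 : g 0 0 = α + β * h 0 0) (e01 : g 0 1 = β * h 0 1) (e10 : g 1 0 = β * h 1 0)
    (e11 : g 1 1 = α + β * h 1 1) : g = α • (1 : Matrix (Fin 2) (Fin 2) F) + β • h := by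
  ext i j
  fin_cases i <;> fin_cases j <;> simp [e00, e01, e10, e11]

/-- the commutant of a non-scalar `2 × 2` matrix `h` is `F[h]` -/
theorem exists_eq_add_smul {h g : Matrix (Fin 2) (Fin 2) F} (hs : ¬ IsScalar h)
    (hc : g * h = h * g) : ∃ α β : F, g = α • (1 : Matrix (Fin 2) (Fin 2) F) + β • h := by
  have e00 := congrFun (congrFun hc 0) 0
  have e01 := congrFun (congrFun hc 0) 1
  have e10 := congrFun (congrFun hc 1) 0
  have e11 := congrFun (congrFun hc 1) 1
  simp only [Matrix.mul_apply, Fin.sum_univ_two] at e00 e01 e10 e11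
  by_cases h01 : h 0 1 = 0
  · by_cases h10 : h 1 0 = 0
    · have hd : h 0 0 ≠ h 1 1 := fun hd => hs ⟨h01, h10, hd⟩
      have hd' : h 0 0 - h 1 1 ≠ 0 := sub_ne_zero.mpr hd
      have g01 : g 0 1 = 0 := by
        have : g 0 1 * (h 0 0 - h 1 1) = 0 := by
          rw [h01] at e01; linear_combination -e01
        exact (mul_eq_zero.mp this).resolve_right hd'
      have g10 : g 1 0 = 0 := by
        have : g 1 0 * (h 0 0 - h 1 1) = 0 := by
          rw [h10] at e10; linear_combination e10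
        exact (mul_eq_zero.mp this).resolve_right hd'
      refine ⟨g 0 0 - (g 0 0 - g 1 1) / (h 0 0 - h 1 1) * h 0 0,
        (g 0 0 - g 1 1) / (h 0 0 - h 1 1), eq_add_smul_of_entries _ _ _ _ ?_ ?_ ?_ ?_⟩
      · ring
      · rw [g01, h01, mul_zero]
      · rw [g10, h10, mul_zero]
      · field_simp
        ring
    · refine ⟨g 1 1 - g 1 0 / h 1 0 * h 1 1, g 1 0 / h 1 0,
        eq_add_smul_of_entries _ _ _ _ ?_ ?_ ?_ ?_⟩
      · field_simp
        linear_combination -e10
      · field_simp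
        linear_combination -e11
      · field_simp
      · ring
  · refine ⟨g 0 0 - g 0 1 / h 0 1 * h 0 0, g 0 1 / h 0 1,
      eq_add_smul_of_entries _ _ _ _ ?_ ?_ ?_ ?_⟩
    · ring
    · field_simp
    · field_simp
      linear_combination -e00
    · field_simp
      linear_combination -e01

/-- the commutant of a non-scalar `2 × 2` matrix is commutative -/
theorem comm_of_comm {h g g' : Matrix (Fin 2) (Fin 2) F} (hs : ¬ IsScalar h)
    (hc : g * h = h * g) (hc' : g' * h = h * g') : g * g' = g' * g := by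
  obtain ⟨α, β, rfl⟩ := exists_eq_add_smul hs hc
  obtain ⟨α', β', rfl⟩ := exists_eq_add_smul hs hc'
  simp only [add_mul, mul_add, smul_mul_assoc, mul_smul_comm, one_mul, mul_one]
  module

/-- a non-scalar element of the commutant of `h` has the same commutant -/
theorem comm_of_comm' {h k g : Matrix (Fin 2) (Fin 2) F} (hk : ¬ IsScalar k)
    (hkh : k * h = h * k) (hg : g * k = k * g) : g * h = h * g := by
  by_cases hs : IsScalar h
  · obtain ⟨c, rfl⟩ := (isScalar_iff h).mp hs
    exact ((Matrix.scalar_commute c (fun r => Commute.all c r) g).eq).symm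
  · exact comm_of_comm hk hg (by rw [hkh])

theorem pr_eq_one_iff_isScalar (h : GL (Fin 2) F) :
    pr 2 F h = 1 ↔ IsScalar (h : Matrix (Fin 2) (Fin 2) F) := by
  rw [← MonoidHom.mem_ker, QuotientGroup.ker_mk',
    GeneralLinearGroup.mem_center_iff_val_mem_range_scalar, isScalar_iff]
  constructor
  · rintro ⟨c, hc⟩; exact ⟨c, hc.symm⟩
  · rintro ⟨c, hc⟩; exact ⟨c, hc.symm⟩

/-- a trace zero `2 × 2` matrix has scalar square -/
theorem isScalar_sq_of_trace (h : Matrix (Fin 2) (Fin 2) F) (ht : h 0 0 + h 1 1 = 0) :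
    IsScalar (h * h) := by
  have hd : h 1 1 = - h 0 0 := by linear_combination ht
  refine ⟨?_, ?_, ?_⟩ <;> simp only [Matrix.mul_apply, Fin.sum_univ_two, hd] <;> ring

/-- centralizers of odd order elements of `PGL_2` lift to commutants -/
theorem comm_of_commute_pr {h g : GL (Fin 2) F}
    (hs : ¬ IsScalar (h : Matrix (Fin 2) (Fin 2) F)) (m : ℕ) (hm : Odd m)
    (hhm : (pr 2 F h) ^ m = 1) (hc : Commute (pr 2 F g) (pr 2 F h)) :
    (g : Matrix (Fin 2) (Fin 2) F) * h = h * g := by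
  have h1 : pr 2 F (g * h) = pr 2 F (h * g) := by
    rw [map_mul, map_mul]; exact hc.eq
  obtain ⟨u, hu⟩ := Matrix.ProjGenLinGroup.mk_eq_mk_iff.mp h1
  have hu' : (u : F) • ((g : Matrix (Fin 2) (Fin 2) F) * h) = h * g := by
    have := congrArg (fun x : GL (Fin 2) F => (x : Matrix (Fin 2) (Fin 2) F)) hu
    simp only [Units.val_mul, GeneralLinearGroup.coe_scalar] at this
    rw [← this]
    ext i j
    simp [Matrix.mul_apply, Matrix.diagonal_apply, mul_comm]
  -- determinants: u² = 1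
  have hdet : (u : F) ^ 2 = 1 := by
    have := congrArg Matrix.det hu'
    rw [Matrix.det_smul, Matrix.det_mul, Matrix.det_mul, Fintype.card_fin, mul_comm (det (h : Matrix (Fin 2) (Fin 2) F))] at this
    have hne : det (g : Matrix (Fin 2) (Fin 2) F) * det (h : Matrix (Fin 2) (Fin 2) F) ≠ 0 := by
      apply mul_ne_zero
      · exact (Matrix.isUnits_det_units g).ne_zero
      · exact (Matrix.isUnits_det_units h).ne_zero
    exact mul_right_cancel₀ hne (by rw [this, one_mul])
  have hu1 : (u : F) = 1 ∨ (u : F) = -1 := by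
    have : ((u : F) - 1) * ((u : F) + 1) = 0 := by linear_combination hdet
    rcases mul_eq_zero.mp this with h | h
    · left; linear_combination h
    · right; linear_combination h
  rcases hu1 with h1 | h1
  · rw [h1, one_smul] at hu'; exact hu'
  · by_cases h2 : (2 : F) = 0
    · -- characteristic 2: -1 = 1
      have : (u : F) = 1 := by rw [h1]; linear_combination (-1 : F) * h2
      rw [this, one_smul] at hu'; exact hu'
    · exfalso
      rw [h1, neg_one_smul] at hu'
      -- `g h g⁻¹ = -h`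
      have hconj : (g : Matrix (Fin 2) (Fin 2) F) * h * ((g⁻¹ : GL (Fin 2) F) : Matrix (Fin 2) (Fin 2) F)
          = - (h : Matrix (Fin 2) (Fin 2) F) := by
        have h3 : (g : Matrix (Fin 2) (Fin 2) F) * h = - ((h : Matrix (Fin 2) (Fin 2) F) * g) := by
          rw [← hu', neg_neg]
        rw [h3, Matrix.neg_mul, Matrix.mul_assoc, ← Units.val_mul, mul_inv_cancel, Units.val_one,
          Matrix.mul_one]
      have htr : Matrix.trace (h : Matrix (Fin 2) (Fin 2) F) = 0 := by
        have h4 := Matrix.trace_units_conj g (h : Matrix (Fin 2) (Fin 2) F)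
        rw [hconj, Matrix.trace_neg] at h4
        have : (2 : F) * Matrix.trace (h : Matrix (Fin 2) (Fin 2) F) = 0 := by linear_combination -h4
        exact (mul_eq_zero.mp this).resolve_left h2
      rw [Matrix.trace_fin_two] at htr
      have hsq := isScalar_sq_of_trace _ htr
      have hsq' : (pr 2 F h) ^ 2 = 1 := by
        rw [← map_pow, pr_eq_one_iff_isScalar, pow_two, Units.val_mul]
        exact hsq
      obtain ⟨k, rfl⟩ := hm
      rw [pow_succ, pow_mul, hsq', one_pow, one_mul, pr_eq_one_iff_isScalar] at hhm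
      exact hs hhm


end basic

section torus
variable {F : Type*} [Field F] [Fintype F]

/-- the image in `PGL_2` of the commutant of `h` -/
def torus (h : GL (Fin 2) F) : Subgroup (GL (Fin 2) F ⧸ Subgroup.center (GL (Fin 2) F)) :=
  (Subgroup.centralizer {h}).map (pr 2 F)

theorem pr_mem_torus_iff (h g : GL (Fin 2) F) :
    pr 2 F g ∈ torus h ↔ (g : Matrix (Fin 2) (Fin 2) F) * h = h * g := by
  constructor
  · rintro ⟨g', hg', hgg'⟩
    rw [SetLike.mem_coe, Subgroup.mem_centralizer_singleton_iff] at hg'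
    have hz : g'⁻¹ * g ∈ Subgroup.center (GL (Fin 2) F) := by
      rw [← QuotientGroup.ker_mk' (Subgroup.center (GL (Fin 2) F)), MonoidHom.mem_ker, map_mul,
        map_inv]
      change (pr 2 F g')⁻¹ * pr 2 F g = 1
      rw [hgg', inv_mul_cancel]
    have hzc := Subgroup.mem_center_iff.mp hz
    have hg : g = g' * (g'⁻¹ * g) := by group
    have : g * h = h * g := by
      rw [hg, mul_assoc, ← hzc h, ← mul_assoc, hg', mul_assoc]
    have := congrArg (fun x : GL (Fin 2) F => (x : Matrix (Fin 2) (Fin 2) F)) this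
    simpa using this
  · intro hc
    refine ⟨g, ?_, rfl⟩
    rw [SetLike.mem_coe, Subgroup.mem_centralizer_singleton_iff]
    apply Units.ext
    simpa using hc

/-- hull lemma for semisimple elements of odd prime order -/
theorem le_torus_of_odd {h : GL (Fin 2) F} (hs : ¬ IsScalar (h : Matrix (Fin 2) (Fin 2) F))
    (r : ℕ) [hr : Fact r.Prime] (hr2 : r ≠ 2) (hhr : (pr 2 F h) ^ r = 1)
    (A : Subgroup (GL (Fin 2) F ⧸ Subgroup.center (GL (Fin 2) F))) [hA : Group.IsNilpotent A]
    (hhA : pr 2 F h ∈ A) : A ≤ torus h := by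
  obtain ⟨P, hPA, hP, -, hPall⟩ := Cfsg.Agent.Lib.H8.sylow_of_nilpotent A hA r
  have hrodd : Odd r := hr.out.odd_of_ne_two hr2
  have hyP : pr 2 F h ∈ P := hPall _ hhA ⟨1, by simpa using hhr⟩
  have hy1 : pr 2 F h ≠ 1 := fun h1 => hs ((pr_eq_one_iff_isScalar h).mp h1)
  have : Nontrivial P := ⟨⟨⟨_, hyP⟩, 1, fun h1 => hy1 (congrArg Subtype.val h1)⟩⟩
  have hcen := hP.center_nontrivial
  obtain ⟨⟨z, hzc⟩, hz1⟩ := exists_ne (1 : Subgroup.center P)
  have hz1' : (z : GL (Fin 2) F ⧸ Subgroup.center (GL (Fin 2) F)) ≠ 1 := by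
    intro h0
    apply hz1
    apply Subtype.ext
    apply Subtype.ext
    exact h0
  have hyc : ∀ u ∈ P, (z : GL (Fin 2) F ⧸ Subgroup.center (GL (Fin 2) F)) * u = u * z := by
    intro u hu
    have := (Subgroup.mem_center_iff.mp hzc) ⟨u, hu⟩
    exact (congrArg Subtype.val this).symm
  have hzA := Cfsg.Agent.Lib.H8.central_of_sylow_central A hA r P hPA hP hPall z.2 hyc
  obtain ⟨k, hk⟩ := pr_surjective (z : GL (Fin 2) F ⧸ Subgroup.center (GL (Fin 2) F))
  have hks : ¬ IsScalar (k : Matrix (Fin 2) (Fin 2) F) := by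
    intro hsc
    apply hz1'
    rw [← hk]
    exact (pr_eq_one_iff_isScalar k).mpr hsc
  obtain ⟨j, hj⟩ := hP z
  have hj' : (pr 2 F k) ^ r ^ j = 1 := by
    rw [hk]
    exact congrArg Subtype.val hj
  have hkh : (k : Matrix (Fin 2) (Fin 2) F) * h = h * k := by
    apply comm_of_commute_pr hs r hrodd hhr
    rw [hk]
    exact hzA _ hhA
  intro a ha
  obtain ⟨g, rfl⟩ := pr_surjective a
  rw [pr_mem_torus_iff]
  have hgk : (g : Matrix (Fin 2) (Fin 2) F) * k = k * g := by
    apply comm_of_commute_pr hks (r ^ j) (hrodd.pow) hj'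
    rw [hk]
    exact (hzA _ ha).symm
  exact comm_of_comm' hks hkh hgk


end torus

section diag
open Cfsg.Agent.Lib.H19.BoundPair Cfsg.Agent.Lib.H19.NilCoverSylow
variable {F : Type*} [Field F] [Fintype F]

/-- the diagonal element `diag(a, a⁻¹)` of `SL_2` -/
def dSL (a : Fˣ) : SpecialLinearGroup (Fin 2) F :=
  ⟨!![(a : F), 0; 0, ((a⁻¹ : Fˣ) : F)], by simp [Matrix.det_fin_two_of]⟩

def dGL (a : Fˣ) : GL (Fin 2) F := SpecialLinearGroup.toGL (dSL a)

theorem coe_dGL (a : Fˣ) : ((dGL a : GL (Fin 2) F) : Matrix (Fin 2) (Fin 2) F) =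
    !![(a : F), 0; 0, ((a⁻¹ : Fˣ) : F)] := rfl

theorem dGL_pow (a : Fˣ) (k : ℕ) : (dGL a) ^ k = dGL (a ^ k) := by
  induction k with
  | zero =>
    apply Units.ext
    rw [pow_zero, pow_zero, coe_dGL, Units.val_one]
    ext i j
    fin_cases i <;> fin_cases j <;> simp
  | succ k ih =>
    rw [pow_succ, ih]
    apply Units.ext
    rw [Units.val_mul, coe_dGL, coe_dGL, coe_dGL]
    ext i j
    fin_cases i <;> fin_cases j <;> simp [pow_succ, Matrix.mul_apply, Fin.sum_univ_two, mul_comm]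

theorem dGL_one : dGL (1 : Fˣ) = 1 := by
  have := dGL_pow (1 : Fˣ) 0
  rw [pow_zero, pow_zero] at this
  exact this.symm

theorem dGL_not_scalar (a : Fˣ) (ha : a ^ 2 ≠ 1) :
    ¬ IsScalar ((dGL a : GL (Fin 2) F) : Matrix (Fin 2) (Fin 2) F) := by
  rintro ⟨-, -, h3⟩
  rw [coe_dGL] at h3
  simp at h3
  apply ha
  apply Units.ext
  rw [Units.val_pow_eq_pow_val, pow_two, Units.val_one]
  have : (a : F) * ((a⁻¹ : Fˣ) : F) = 1 := by rw [← Units.val_mul, mul_inv_cancel, Units.val_one]
  nth_rewrite 2 [h3]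
  rw [← Units.val_inv_eq_inv_val]
  exact this

theorem torus_dGL_le (a : Fˣ) (ha : a ^ 2 ≠ 1) :
    torus (dGL a) ≤ (stabGL (show 0 < 2 by norm_num) F).map (pr 2 F) := by
  intro x hx
  obtain ⟨g, rfl⟩ := pr_surjective x
  rw [pr_mem_torus_iff] at hx
  rw [pr_mem_map_stabGL_iff, mem_stabGL_iff]
  intro i hi
  have hi1 : i = 1 := by
    apply Fin.ext
    have := i.2
    simp; omega
  subst hi1
  have h10 := congrFun (congrFun hx 1) 0
  rw [coe_dGL] at h10
  simp [Matrix.mul_apply, Fin.sum_univ_two] at h10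
  -- g 1 0 * a = a⁻¹ * g 1 0
  have hne : (a : F) - ((a⁻¹ : Fˣ) : F) ≠ 0 := by
    intro h0
    apply ha
    apply Units.ext
    rw [Units.val_pow_eq_pow_val, pow_two, Units.val_one]
    have h1 : (a : F) = ((a⁻¹ : Fˣ) : F) := sub_eq_zero.mp h0
    nth_rewrite 2 [h1]
    rw [← Units.val_mul, mul_inv_cancel, Units.val_one]
  have : (g : Matrix (Fin 2) (Fin 2) F) 1 0 * ((a : F) - ((a⁻¹ : Fˣ) : F)) = 0 := by
    rw [Units.val_inv_eq_inv_val]
    linear_combination h10
  exact (mul_eq_zero.mp this).resolve_right hne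


end diag

section caseA
open Cfsg.Agent.Lib.H19.BoundPair Cfsg.Agent.Lib.H19.NilCoverSylow
variable {F : Type*} [Field F] [Fintype F]

theorem dGL_mem_range (a : Fˣ) : dGL a ∈
    (SpecialLinearGroup.toGL : SpecialLinearGroup (Fin 2) F →* GL (Fin 2) F).range :=
  ⟨dSL a, rfl⟩

theorem key_nilp {Γ : Type*} [Group Γ] {G : Subgroup Γ} (A : Subgroup ↥G)
    (hA : Group.IsNilpotent A) : Group.IsNilpotent (A.map G.subtype) :=
  Group.nilpotent_of_mulEquiv (Subgroup.equivMapOfInjective A G.subtype G.subtype_injective)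

/-- case (A): `F^*` has an element of odd prime order -/
theorem no_nmc_two_A (a : Fˣ) (r : ℕ) (hr : r.Prime) (hr2 : r ≠ 2) (har : orderOf a = r)
    (G : Subgroup (GL (Fin 2) F ⧸ Subgroup.center (GL (Fin 2) F)))
    (hG : ((SpecialLinearGroup.toGL : SpecialLinearGroup (Fin 2) F →* GL (Fin 2) F).range).map
      (QuotientGroup.mk' (Subgroup.center (GL (Fin 2) F))) ≤ G)
    (𝓐 : Finset (Subgroup ↥G)) (h : IsNMC 𝓐) : False := by
  classical
  obtain ⟨p, hchar⟩ := CharP.exists F
  have : Fact p.Prime := ⟨CharP.char_is_prime F p⟩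
  have : Fact r.Prime := ⟨hr⟩
  have hn0 : 0 < 2 := by norm_num
  have hX : pr 2 F (unipGL 2 F) ∈ G := hG ⟨_, unipGL_mem_range, rfl⟩
  have hX' : pr 2 F (dGL a) ∈ G := hG ⟨_, dGL_mem_range a, rfl⟩
  have hgood : Good p (unipGL 2 F) := good_unipGL p hn0
  have ha2 : a ^ 2 ≠ 1 := by
    intro h2
    have := orderOf_dvd_of_pow_eq_one h2
    rw [har] at this
    exact hr2 ((Nat.prime_dvd_prime_iff_eq hr Nat.prime_two).mp this)
  have hns := dGL_not_scalar a ha2
  have hpow : (pr 2 F (dGL a)) ^ r = 1 := by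
    rw [← map_pow, dGL_pow, ← har, pow_orderOf_eq_one, dGL_one, map_one]
  -- r ≠ p
  have hrp : r ≠ p := by
    intro hrp
    have h1 : a ^ (Fintype.card F - 1) = 1 := by
      rw [← Fintype.card_units]; exact pow_card_eq_one
    have h2 := orderOf_dvd_of_pow_eq_one h1
    rw [har, hrp] at h2
    have := (Nat.Coprime.eq_one_of_dvd (coprime_card_sub_one (F := F) p).symm h2)
    exact (Fact.out : p.Prime).one_lt.ne' this
  refine no_nmc_of_bound_pair (((stabGL hn0 F).map (pr 2 F)).subgroupOf G)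
    (stab_ne_top (by norm_num) G hG) ⟨_, hX⟩ ⟨_, hX'⟩ ?_ ?_ ?_ 𝓐 h
  · intro A hA hxA
    have := key_nilp A hA
    have hle := le_stab_of_good p hn0 hgood ⟨2, unipGL_pow p hn0⟩
      (fun v hv j hj => unipGL_fix hv j hj) (A.map G.subtype) ⟨_, hxA, rfl⟩
    intro x hx
    rw [Subgroup.mem_subgroupOf]
    exact hle ⟨x, hx, rfl⟩
  · intro A hA hxA
    have := key_nilp A hA
    have hle := le_torus_of_odd hns r hr2 hpow (A.map G.subtype) ⟨_, hxA, rfl⟩
    intro x hx
    rw [Subgroup.mem_subgroupOf]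
    exact torus_dGL_le a ha2 (hle ⟨x, hx, rfl⟩)
  · intro A hA hxA hxA'
    have := key_nilp A hA
    have hpg := isPGroup_of_good p hgood (A.map G.subtype) ⟨_, hxA, rfl⟩
    obtain ⟨j, hj⟩ := hpg ⟨pr 2 F (dGL a), ⟨_, hxA', rfl⟩⟩
    have hj' : (pr 2 F (dGL a)) ^ p ^ j = 1 := congrArg Subtype.val hj
    have h1 := orderOf_dvd_of_pow_eq_one hj'
    have h2 := orderOf_dvd_of_pow_eq_one hpow
    have hcop : (p ^ j).Coprime r :=
      Nat.Coprime.pow_left j ((Nat.coprime_primes Fact.out hr).mpr (Ne.symm hrp))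
    have h3 : orderOf (pr 2 F (dGL a)) = 1 := Nat.eq_one_of_dvd_coprimes hcop h1 h2
    rw [orderOf_eq_one_iff, pr_eq_one_iff_isScalar] at h3
    exact hns h3


end caseA

end Cfsg.Agent.Lib.H19.PGL2
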