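import Mathlib
import Cfsg.Agent.Lib.H19.PGL2
import Cfsg.Agent.Lib.H19.NmcFamily

set_option autoImplicit false
set_option linter.unusedSectionVars false
set_option linter.style.haveILetI false

namespace Cfsg.Agent.Lib.H19.PGL2B

open Matrix Cfsg.Agent.Lib.H19.PGLUnip Cfsg.Agent.Lib.H19.PGL2

section lstab
variable {F : Type*} [Field F]

/-- the stabilizer in `GL_2` of the line spanned by `w` -/
def lstab (w : Fin 2 → F) : Subgroup (GL (Fin 2) F) where
  carrier := {g | ∃ c : F, (g : Matrix (Fin 2) (Fin 2) F) *ᵥ w = c • w}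
  one_mem' := ⟨1, by rw [Units.val_one, Matrix.one_mulVec, one_smul]⟩
  mul_mem' := by
    rintro g h ⟨c, hc⟩ ⟨d, hd⟩
    refine ⟨d * c, ?_⟩
    rw [Units.val_mul, ← Matrix.mulVec_mulVec, hd, Matrix.mulVec_smul, hc, smul_smul]
  inv_mem' := by
    rintro g ⟨c, hc⟩
    have h1 : ((g⁻¹ : GL (Fin 2) F) : Matrix (Fin 2) (Fin 2) F) *ᵥ
        ((g : Matrix (Fin 2) (Fin 2) F) *ᵥ w) =
        c • (((g⁻¹ : GL (Fin 2) F) : Matrix (Fin 2) (Fin 2) F) *ᵥ w) := by
      rw [hc, Matrix.mulVec_smul]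
    rw [Matrix.mulVec_mulVec, ← Units.val_mul, inv_mul_cancel, Units.val_one,
      Matrix.one_mulVec] at h1
    by_cases hc0 : c = 0
    · refine ⟨0, ?_⟩
      rw [hc0, zero_smul] at h1
      rw [h1, Matrix.mulVec_zero, smul_zero]
    · refine ⟨c⁻¹, ?_⟩
      have h2 := congrArg (fun w => c⁻¹ • w) h1
      simp only [smul_smul, inv_mul_cancel₀ hc0, one_smul] at h2
      exact h2.symm

theorem mem_lstab_iff (w : Fin 2 → F) (g : GL (Fin 2) F) :
    g ∈ lstab w ↔ ∃ c : F, (g : Matrix (Fin 2) (Fin 2) F) *ᵥ w = c • w := Iff.rfl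

theorem center_le_lstab (w : Fin 2 → F) : Subgroup.center (GL (Fin 2) F) ≤ lstab w := by
  intro z hz
  rw [GeneralLinearGroup.center_eq_range_scalar] at hz
  obtain ⟨u, rfl⟩ := hz
  refine ⟨(u : F), ?_⟩
  rw [GeneralLinearGroup.coe_scalar]
  ext i
  simp [Matrix.mulVec, dotProduct, Matrix.diagonal_apply]

theorem pr_mem_map_lstab_iff (w : Fin 2 → F) (g : GL (Fin 2) F) :
    pr 2 F g ∈ (lstab w).map (pr 2 F) ↔ g ∈ lstab w := by
  constructor
  · rintro ⟨h, hh, hhg⟩
    have : h⁻¹ * g ∈ Subgroup.center (GL (Fin 2) F) := by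
      rw [← QuotientGroup.ker_mk' (Subgroup.center (GL (Fin 2) F)), MonoidHom.mem_ker, map_mul,
        map_inv]
      change (pr 2 F h)⁻¹ * pr 2 F g = 1
      rw [hhg, inv_mul_cancel]
    have h2 := (lstab w).mul_mem hh (center_le_lstab w this)
    rwa [mul_inv_cancel_left] at h2
  · intro hg
    exact ⟨g, hg, rfl⟩

/-- the representatives of the points of the projective line -/
def wvec : Option F → (Fin 2 → F)
  | none => ![1, 0]
  | some s => ![s, 1]

/-- a matrix without eigenvectors -/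
def NoEig (h : Matrix (Fin 2) (Fin 2) F) : Prop :=
  ∀ v : Fin 2 → F, v ≠ 0 → ∀ c : F, h *ᵥ v ≠ c • v

theorem exists_mem_lstab_of_not_noEig (g : GL (Fin 2) F)
    (hg : ¬ NoEig (g : Matrix (Fin 2) (Fin 2) F)) : ∃ ℓ : Option F, g ∈ lstab (wvec ℓ) := by
  unfold NoEig at hg
  push Not at hg
  obtain ⟨v, hv, c, hc⟩ := hg
  by_cases h1 : v 1 = 0
  · have h0 : v 0 ≠ 0 := by
      intro h0
      apply hv
      ext i
      fin_cases i
      · exact h0
      · exact h1
    refine ⟨none, c, ?_⟩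
    have hvw : v = v 0 • wvec (none : Option F) := by
      ext i
      fin_cases i <;> simp [wvec, h1]
    rw [hvw, Matrix.mulVec_smul, smul_comm] at hc
    have := congrArg (fun w => (v 0)⁻¹ • w) hc
    simp only [smul_smul, ← mul_assoc, inv_mul_cancel₀ h0, one_smul, one_mul] at this
    exact this
  · refine ⟨some (v 0 / v 1), c, ?_⟩
    have hvw : v = v 1 • wvec (some (v 0 / v 1)) := by
      ext i
      fin_cases i <;> simp [wvec]
      field_simp
    rw [hvw, Matrix.mulVec_smul, smul_comm] at hc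
    have := congrArg (fun w => (v 1)⁻¹ • w) hc
    simp only [smul_smul, ← mul_assoc, inv_mul_cancel₀ h1, one_smul, one_mul] at this
    exact this

theorem noEig_one_zero {h : Matrix (Fin 2) (Fin 2) F} (hN : NoEig h) : h 1 0 ≠ 0 := by
  intro h0
  apply hN ![1, 0] (by intro h; simpa using congrFun h 0) (h 0 0)
  ext i
  fin_cases i <;> simp [Matrix.mulVec, dotProduct, h0]

theorem noEig_not_scalar {h : Matrix (Fin 2) (Fin 2) F} (hN : NoEig h) : ¬ IsScalar h :=
  fun hs => noEig_one_zero hN hs.2.1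

end lstab


section proper
variable {F : Type*} [Field F] [Fintype F]

theorem coe_unipGL_two : ((unipGL 2 F : GL (Fin 2) F) : Matrix (Fin 2) (Fin 2) F) = !![1, 1; 0, 1] := by
  rw [coe_unipGL]
  ext i j
  fin_cases i <;> fin_cases j <;> simp [shift_apply]

theorem coe_sSL_two : ((SpecialLinearGroup.toGL (sSL (le_refl 2) F) : GL (Fin 2) F) :
    Matrix (Fin 2) (Fin 2) F) = !![1, 0; 1, 1] := by
  change Matrix.transvection (⟨1, by omega⟩ : Fin 2) ⟨0, by omega⟩ (1 : F) = _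
  ext i j
  fin_cases i <;> fin_cases j <;> simp [Matrix.transvection]

theorem unipGL_not_mem_lstab (s : F) : unipGL 2 F ∉ lstab (wvec (some s)) := by
  rintro ⟨c, hc⟩
  rw [coe_unipGL_two] at hc
  have h0 := congrFun hc 0
  have h1 := congrFun hc 1
  simp [wvec, Matrix.mulVec, dotProduct, Fin.sum_univ_two] at h0 h1
  rw [← h1, one_mul] at h0
  simp at h0

theorem sSL_not_mem_lstab :
    SpecialLinearGroup.toGL (sSL (le_refl 2) F) ∉ lstab (wvec (none : Option F)) := by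
  rintro ⟨c, hc⟩
  rw [coe_sSL_two] at hc
  have h1 := congrFun hc 1
  simp [wvec, Matrix.mulVec, dotProduct, Fin.sum_univ_two] at h1

theorem lstab_ne_top (ℓ : Option F)
    (G : Subgroup (GL (Fin 2) F ⧸ Subgroup.center (GL (Fin 2) F)))
    (hG : ((SpecialLinearGroup.toGL : SpecialLinearGroup (Fin 2) F →* GL (Fin 2) F).range).map
      (QuotientGroup.mk' (Subgroup.center (GL (Fin 2) F))) ≤ G) :
    ((lstab (wvec ℓ)).map (pr 2 F)).subgroupOf G ≠ ⊤ := by
  intro h
  have hs : pr 2 F (SpecialLinearGroup.toGL (sSL (le_refl 2) F)) ∈ G := hG ⟨_, ⟨_, rfl⟩, rfl⟩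
  have hu : pr 2 F (unipGL 2 F) ∈ G := hG ⟨_, unipGL_mem_range, rfl⟩
  have h1 : (⟨_, hs⟩ : G) ∈ ((lstab (wvec ℓ)).map (pr 2 F)).subgroupOf G := by
    rw [h]; trivial
  have h2 : (⟨_, hu⟩ : G) ∈ ((lstab (wvec ℓ)).map (pr 2 F)).subgroupOf G := by
    rw [h]; trivial
  rw [Subgroup.mem_subgroupOf] at h1 h2
  rcases ℓ with _ | s
  · exact sSL_not_mem_lstab ((pr_mem_map_lstab_iff _ _).mp h1)
  · exact unipGL_not_mem_lstab s ((pr_mem_map_lstab_iff _ _).mp h2)

/-- a matrix commuting with both elementary transvections is scalar -/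
theorem isScalar_of_comm (h : Matrix (Fin 2) (Fin 2) F)
    (h1 : !![1, 1; 0, 1] * h = h * !![1, 1; 0, 1]) (h2 : !![1, 0; 1, 1] * h = h * !![1, 0; 1, 1]) :
    IsScalar h := by
  have e00 := congrFun (congrFun h1 0) 0
  have e01 := congrFun (congrFun h1 0) 1
  have f00 := congrFun (congrFun h2 0) 0
  simp [Matrix.mul_apply, Fin.sum_univ_two] at e00 e01 f00
  refine ⟨f00, e00, ?_⟩
  linear_combination -e01

theorem torus_ne_top (h : GL (Fin 2) F) (hs : ¬ IsScalar (h : Matrix (Fin 2) (Fin 2) F))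
    (G : Subgroup (GL (Fin 2) F ⧸ Subgroup.center (GL (Fin 2) F)))
    (hG : ((SpecialLinearGroup.toGL : SpecialLinearGroup (Fin 2) F →* GL (Fin 2) F).range).map
      (QuotientGroup.mk' (Subgroup.center (GL (Fin 2) F))) ≤ G) :
    (torus h).subgroupOf G ≠ ⊤ := by
  intro htop
  have hs' : pr 2 F (SpecialLinearGroup.toGL (sSL (le_refl 2) F)) ∈ G := hG ⟨_, ⟨_, rfl⟩, rfl⟩
  have hu : pr 2 F (unipGL 2 F) ∈ G := hG ⟨_, unipGL_mem_range, rfl⟩
  have h1 : (⟨_, hs'⟩ : G) ∈ (torus h).subgroupOf G := by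
    rw [htop]; trivial
  have h2 : (⟨_, hu⟩ : G) ∈ (torus h).subgroupOf G := by
    rw [htop]; trivial
  rw [Subgroup.mem_subgroupOf] at h1 h2
  rw [pr_mem_torus_iff] at h1 h2
  rw [coe_sSL_two] at h1
  rw [coe_unipGL_two] at h2
  exact hs (isScalar_of_comm _ h2 h1)

end proper


section count
variable {F : Type*} [Field F] [Fintype F]

/-- `α + β h` is invertible for `(α, β) ≠ 0` when `h` has no eigenvector -/
theorem det_add_smul_ne_zero {h : Matrix (Fin 2) (Fin 2) F} (hN : NoEig h) (α β : F)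
    (hαβ : α ≠ 0 ∨ β ≠ 0) : (α • (1 : Matrix (Fin 2) (Fin 2) F) + β • h).det ≠ 0 := by
  intro hdet
  obtain ⟨v, hv, hv0⟩ := Matrix.exists_mulVec_eq_zero_iff.mpr hdet
  rw [Matrix.add_mulVec, Matrix.smul_mulVec, Matrix.smul_mulVec, Matrix.one_mulVec] at hv0
  by_cases hβ : β = 0
  · rw [hβ, zero_smul, add_zero] at hv0
    have hα : α ≠ 0 := hαβ.resolve_right (not_not.mpr hβ)
    apply hv
    have := congrArg (fun w => α⁻¹ • w) hv0
    simpa [smul_smul, inv_mul_cancel₀ hα] using this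
  · apply hN v hv (-α / β)
    have h1 : β • (h *ᵥ v) = (-α) • v := by
      rw [neg_smul]; exact eq_neg_of_add_eq_zero_right hv0
    have := congrArg (fun w => β⁻¹ • w) h1
    simp only [smul_smul, inv_mul_cancel₀ hβ, one_smul] at this
    rw [this]; congr 1; field_simp

/-- a matrix with non-zero determinant as a unit -/
noncomputable def mkU (A : Matrix (Fin 2) (Fin 2) F) (hA : A.det ≠ 0) : GL (Fin 2) F :=
  ⟨A, A⁻¹, Matrix.mul_nonsing_inv A hA.isUnit, Matrix.nonsing_inv_mul A hA.isUnit⟩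

theorem coe_mkU (A : Matrix (Fin 2) (Fin 2) F) (hA : A.det ≠ 0) :
    ((mkU A hA : GL (Fin 2) F) : Matrix (Fin 2) (Fin 2) F) = A := rfl

/-- the parametrisation of the commutant of an element without eigenvectors -/
noncomputable def param (h : GL (Fin 2) F) (hN : NoEig (h : Matrix (Fin 2) (Fin 2) F)) :
    {v : F × F // v ≠ 0} → Subgroup.centralizer ({h} : Set (GL (Fin 2) F)) := fun v =>
  ⟨mkU (v.1.1 • 1 + v.1.2 • (h : Matrix (Fin 2) (Fin 2) F))
      (det_add_smul_ne_zero hN _ _ (by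
        by_contra hc; push Not at hc; exact v.2 (Prod.ext hc.1 hc.2))), by
    rw [Subgroup.mem_centralizer_singleton_iff]
    apply Units.ext
    rw [Units.val_mul, Units.val_mul, coe_mkU, add_mul, mul_add, smul_mul_assoc, smul_mul_assoc,
      mul_smul_comm, mul_smul_comm, one_mul, mul_one]⟩

theorem coe_param (h : GL (Fin 2) F) (hN : NoEig (h : Matrix (Fin 2) (Fin 2) F))
    (v : {v : F × F // v ≠ 0}) :
    (((param h hN v : Subgroup.centralizer ({h} : Set (GL (Fin 2) F))) : GL (Fin 2) F) :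
      Matrix (Fin 2) (Fin 2) F) = v.1.1 • 1 + v.1.2 • (h : Matrix (Fin 2) (Fin 2) F) := rfl

theorem param_bijective (h : GL (Fin 2) F) (hN : NoEig (h : Matrix (Fin 2) (Fin 2) F)) :
    Function.Bijective (param h hN) := by
  constructor
  · rintro ⟨⟨α, β⟩, hv⟩ ⟨⟨α', β'⟩, hv'⟩ he
    have h1 := congrArg (fun x : Subgroup.centralizer ({h} : Set (GL (Fin 2) F)) =>
      ((x : GL (Fin 2) F) : Matrix (Fin 2) (Fin 2) F)) he
    simp only [coe_param] at h1
    have e10 := congrFun (congrFun h1 1) 0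
    have e00 := congrFun (congrFun h1 0) 0
    simp at e10 e00
    have hβ : β = β' := by
      rcases e10 with h | h
      · exact h
      · exact absurd h (noEig_one_zero hN)
    subst hβ
    have hα : α = α' := by linear_combination e00
    subst hα
    rfl
  · rintro ⟨g, hg⟩
    rw [Subgroup.mem_centralizer_singleton_iff] at hg
    have hg' : (g : Matrix (Fin 2) (Fin 2) F) * h = h * g := by
      have := congrArg (fun x : GL (Fin 2) F => (x : Matrix (Fin 2) (Fin 2) F)) hg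
      simpa using this
    obtain ⟨α, β, hαβ⟩ := exists_eq_add_smul (noEig_not_scalar hN) hg'
    have hne : ((α, β) : F × F) ≠ 0 := by
      intro h0
      have h1 : α = 0 := congrArg Prod.fst h0
      have h2 : β = 0 := congrArg Prod.snd h0
      rw [h1, h2, zero_smul, zero_smul, add_zero] at hαβ
      have := (Matrix.isUnits_det_units g).ne_zero
      rw [hαβ, Matrix.det_zero] at this
      exact this rfl
    refine ⟨⟨(α, β), hne⟩, ?_⟩
    apply Subtype.ext
    apply Units.ext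
    rw [coe_param]
    exact hαβ.symm

theorem card_centralizer (h : GL (Fin 2) F) (hN : NoEig (h : Matrix (Fin 2) (Fin 2) F)) :
    Nat.card (Subgroup.centralizer ({h} : Set (GL (Fin 2) F))) = Fintype.card F ^ 2 - 1 := by
  classical
  rw [← Nat.card_eq_of_bijective _ (param_bijective h hN), Nat.card_eq_fintype_card,
    Fintype.card_subtype_compl, Fintype.card_subtype_eq, Fintype.card_prod, pow_two]

end count


section existsk
variable {F : Type*} [Field F] [Fintype F]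

theorem eq_one_of_pow_eq_one_of_coprime {M : Type*} [Monoid M] (x : M) (a b : ℕ)
    (hab : a.Coprime b) (ha : x ^ a = 1) (hb : x ^ b = 1) : x = 1 := by
  have := Nat.dvd_gcd (orderOf_dvd_of_pow_eq_one ha) (orderOf_dvd_of_pow_eq_one hb)
  rw [Nat.Coprime.gcd_eq_one hab, Nat.dvd_one, orderOf_eq_one_iff] at this
  exact this

theorem coprime_of_dvd_succ (r : ℕ) (hr : r.Prime) (hr2 : r ≠ 2) (q : ℕ) (hq : 1 ≤ q)
    (hrq : r ∣ q + 1) : r.Coprime (q - 1) := by
  rw [Nat.Prime.coprime_iff_not_dvd hr]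
  intro h
  have h2 : r ∣ (q + 1) - (q - 1) := Nat.dvd_sub hrq h
  have e : (q + 1) - (q - 1) = 2 := by omega
  rw [e] at h2
  exact hr2 ((Nat.prime_dvd_prime_iff_eq hr Nat.prime_two).mp h2)

theorem exists_k (r : ℕ) (hr : r.Prime) (hr2 : r ≠ 2) (hrq : r ∣ Fintype.card F + 1)
    (h : GL (Fin 2) F) (hN : NoEig (h : Matrix (Fin 2) (Fin 2) F)) :
    ∃ k : GL (Fin 2) F,
      k ∈ (SpecialLinearGroup.toGL : SpecialLinearGroup (Fin 2) F →* GL (Fin 2) F).range ∧
      (k : Matrix (Fin 2) (Fin 2) F) * h = h * k ∧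
      ¬ IsScalar (k : Matrix (Fin 2) (Fin 2) F) ∧ k ^ r = 1 := by
  classical
  have : Fact r.Prime := ⟨hr⟩
  have hq1 : 1 ≤ Fintype.card F := Fintype.card_pos
  have hcop := coprime_of_dvd_succ r hr hr2 _ hq1 hrq
  have hdvd : r ∣ Nat.card (Subgroup.centralizer ({h} : Set (GL (Fin 2) F))) := by
    rw [card_centralizer h hN]
    have : Fintype.card F ^ 2 - 1 = (Fintype.card F + 1) * (Fintype.card F - 1) := by
      obtain ⟨m, hm⟩ : ∃ m, Fintype.card F = m + 1 := ⟨Fintype.card F - 1, by omega⟩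
      rw [hm]
      simp only [Nat.add_sub_cancel]
      have : (m + 1) ^ 2 = (m + 1 + 1) * m + 1 := by ring
      rw [this, Nat.add_sub_cancel]
    rw [this]; exact Dvd.dvd.mul_right hrq _
  obtain ⟨⟨k, hk⟩, hko⟩ := exists_prime_orderOf_dvd_card' r hdvd
  have hkr : k ^ r = 1 := by
    have := pow_orderOf_eq_one (⟨k, hk⟩ : Subgroup.centralizer ({h} : Set (GL (Fin 2) F)))
    rw [hko] at this
    exact congrArg Subtype.val this
  have hk1 : k ≠ 1 := by
    rintro rfl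
    have : orderOf (⟨1, hk⟩ : Subgroup.centralizer ({h} : Set (GL (Fin 2) F))) = 1 :=
      orderOf_eq_one_iff.mpr rfl
    rw [hko] at this
    exact hr.one_lt.ne' this
  have hunit : ∀ c : Fˣ, c ^ r = 1 → c = 1 := by
    intro c hc
    apply eq_one_of_pow_eq_one_of_coprime c r (Fintype.card F - 1) hcop hc
    rw [← Fintype.card_units]; exact pow_card_eq_one
  refine ⟨k, ?_, ?_, ?_, hkr⟩
  · have hdet : Matrix.GeneralLinearGroup.det k = 1 := by
      apply hunit
      rw [← map_pow, hkr, map_one]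
    refine ⟨⟨(k : Matrix (Fin 2) (Fin 2) F), ?_⟩, Units.ext rfl⟩
    have := congrArg Units.val hdet
    simpa using this
  · rw [Subgroup.mem_centralizer_singleton_iff] at hk
    have := congrArg (fun x : GL (Fin 2) F => (x : Matrix (Fin 2) (Fin 2) F)) hk
    simpa using this
  · intro hs
    obtain ⟨c, hc⟩ := (isScalar_iff _).mp hs
    have hc0 : c ≠ 0 := by
      rintro rfl
      have := (Matrix.isUnits_det_units k).ne_zero
      rw [hc] at this; simp at this
    have hcr : (Units.mk0 c hc0) ^ r = 1 := by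
      have h1 := congrArg (fun x : GL (Fin 2) F => (x : Matrix (Fin 2) (Fin 2) F) 0 0) hkr
      simp only [Units.val_pow_eq_pow_val, hc] at h1
      rw [← map_pow] at h1
      apply Units.ext
      simpa using h1
    have h2 := hunit _ hcr
    apply hk1
    apply Units.ext
    rw [hc, Units.val_one]
    have : c = 1 := congrArg Units.val h2
    rw [this, map_one]

end existsk


section unipfam
variable {F : Type*} [Field F] [Fintype F]

/-- an element of `SL_2` mapping `e₀` to `wvec ℓ` -/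
def mSL : Option F → SpecialLinearGroup (Fin 2) F
  | none => 1
  | some s => ⟨!![s, -1; 1, 0], by simp [Matrix.det_fin_two_of]⟩

def mGL (ℓ : Option F) : GL (Fin 2) F := SpecialLinearGroup.toGL (mSL ℓ)

theorem coe_mGL_none : ((mGL (none : Option F) : GL (Fin 2) F) : Matrix (Fin 2) (Fin 2) F) = 1 := rfl

theorem coe_mGL_some (s : F) : ((mGL (some s) : GL (Fin 2) F) : Matrix (Fin 2) (Fin 2) F) =
    !![s, -1; 1, 0] := rfl

/-- a unipotent element fixing the line of `wvec ℓ` -/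
def uGL (ℓ : Option F) : GL (Fin 2) F := mGL ℓ * unipGL 2 F * (mGL ℓ)⁻¹

theorem uGL_mem_range (ℓ : Option F) : uGL ℓ ∈
    (SpecialLinearGroup.toGL : SpecialLinearGroup (Fin 2) F →* GL (Fin 2) F).range :=
  ⟨mSL ℓ * unipSL 2 F * (mSL ℓ)⁻¹, by rw [map_mul, map_mul, map_inv]; rfl⟩

theorem conj_fix_row (m y : GL (Fin 2) F) (φ : Fin 2 → F)
    (h : φ ᵥ* ((m * y * m⁻¹ : GL (Fin 2) F) : Matrix (Fin 2) (Fin 2) F) = φ) :
    (φ ᵥ* (m : Matrix (Fin 2) (Fin 2) F)) ᵥ* (y : Matrix (Fin 2) (Fin 2) F) =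
      φ ᵥ* (m : Matrix (Fin 2) (Fin 2) F) := by
  have h1 := congrArg (fun ψ => ψ ᵥ* (m : Matrix (Fin 2) (Fin 2) F)) h
  simp only [Matrix.vecMul_vecMul, ← Units.val_mul] at h1
  rw [inv_mul_cancel_right] at h1
  rw [Matrix.vecMul_vecMul, ← Units.val_mul]; exact h1

theorem uGL_row (ℓ : Option F) (φ : Fin 2 → F)
    (h : φ ᵥ* ((uGL ℓ : GL (Fin 2) F) : Matrix (Fin 2) (Fin 2) F) = φ) :
    φ 0 * wvec ℓ 0 + φ 1 * wvec ℓ 1 = 0 := by
  have h1 := unipGL_fix_row (conj_fix_row _ _ φ h) 0 (by simp)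
  rcases ℓ with _ | s
  · rw [coe_mGL_none] at h1
    simp [Matrix.vecMul, dotProduct, Fin.sum_univ_two] at h1
    simp [wvec, h1]
  · rw [coe_mGL_some] at h1
    simp [Matrix.vecMul, dotProduct, Fin.sum_univ_two] at h1
    simp [wvec, h1]

theorem uGL_indep (ℓ ℓ' : Option F) (hne : ℓ ≠ ℓ') (φ : Fin 2 → F)
    (h : φ ᵥ* ((uGL ℓ : GL (Fin 2) F) : Matrix (Fin 2) (Fin 2) F) = φ)
    (h' : φ ᵥ* ((uGL ℓ' : GL (Fin 2) F) : Matrix (Fin 2) (Fin 2) F) = φ) : φ = 0 := by
  have e := uGL_row ℓ φ h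
  have e' := uGL_row ℓ' φ h'
  rcases ℓ with _ | s <;> rcases ℓ' with _ | s'
  · exact absurd rfl hne
  · simp [wvec] at e e'
    rw [e, zero_mul, zero_add] at e'
    ext i; fin_cases i <;> simp [e, e']
  · simp [wvec] at e e'
    rw [e', zero_mul, zero_add] at e
    ext i; fin_cases i <;> simp [e, e']
  · simp [wvec] at e e'
    have hs : s - s' ≠ 0 := sub_ne_zero.mpr (fun h => hne (by rw [h]))
    have h0 : φ 0 * (s - s') = 0 := by linear_combination e - e'
    have h00 : φ 0 = 0 := (mul_eq_zero.mp h0).resolve_right hs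
    rw [h00, zero_mul, zero_add] at e
    ext i; fin_cases i <;> simp [e, h00]

variable (p : ℕ) [hp : Fact p.Prime] [CharP F p]

theorem good_uGL (ℓ : Option F) : Good p (uGL ℓ) :=
  (good_unipGL p (by norm_num)).conj p _

theorem uGL_pow (ℓ : Option F) : (uGL ℓ) ^ p ^ 2 = 1 := by
  rw [uGL, conj_pow, unipGL_pow p (by norm_num), mul_one, mul_inv_cancel]

end unipfam


section caseB
open Cfsg.Agent.Lib.H19.BoundPair Cfsg.Agent.Lib.H19.NilCoverSylow Cfsg.Agent.Lib.H19.NmcFamily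
variable {F : Type*} [Field F] [Fintype F]

theorem torus_eq_of_comm {h k : GL (Fin 2) F} (hh : ¬ IsScalar (h : Matrix (Fin 2) (Fin 2) F))
    (hk : ¬ IsScalar (k : Matrix (Fin 2) (Fin 2) F))
    (hkh : (k : Matrix (Fin 2) (Fin 2) F) * h = h * k) : torus h = torus k := by
  ext x
  obtain ⟨g, rfl⟩ := pr_surjective x
  rw [pr_mem_torus_iff, pr_mem_torus_iff]
  exact ⟨fun hg => comm_of_comm' hh hkh.symm hg, fun hg => comm_of_comm' hk hkh hg⟩

/-- the nonsplit tori of `PGL_2` -/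
def Tori (F : Type*) [Field F] [Fintype F] : Type _ :=
  {T : Subgroup (GL (Fin 2) F ⧸ Subgroup.center (GL (Fin 2) F)) //
    ∃ h : GL (Fin 2) F, NoEig (h : Matrix (Fin 2) (Fin 2) F) ∧ T = torus h}

noncomputable instance : Fintype (Tori F) := by
  classical
  unfold Tori
  exact Fintype.ofFinite _


/-- case (B): `q + 1` has an odd prime divisor -/
theorem no_nmc_two_B (r : ℕ) (hr : r.Prime) (hr2 : r ≠ 2) (hrq : r ∣ Fintype.card F + 1)
    (a : Fˣ) (ha : a ^ 2 ≠ 1)
    (G : Subgroup (GL (Fin 2) F ⧸ Subgroup.center (GL (Fin 2) F)))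
    (hG : ((SpecialLinearGroup.toGL : SpecialLinearGroup (Fin 2) F →* GL (Fin 2) F).range).map
      (QuotientGroup.mk' (Subgroup.center (GL (Fin 2) F))) ≤ G)
    (𝓐 : Finset (Subgroup ↥G)) (h : IsNMC 𝓐) : False := by
  classical
  obtain ⟨p, hchar⟩ := CharP.exists F
  have : Fact p.Prime := ⟨CharP.char_is_prime F p⟩
  have : Fact r.Prime := ⟨hr⟩
  have hn0 : 0 < 2 := by norm_num
  -- data for each torus
  have hT : ∀ T : Tori F, ∃ hk : GL (Fin 2) F × GL (Fin 2) F,
      NoEig (hk.1 : Matrix (Fin 2) (Fin 2) F) ∧ T.1 = torus hk.1 ∧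
      hk.2 ∈ (SpecialLinearGroup.toGL : SpecialLinearGroup (Fin 2) F →* GL (Fin 2) F).range ∧
      (hk.2 : Matrix (Fin 2) (Fin 2) F) * hk.1 = hk.1 * hk.2 ∧
      ¬ IsScalar (hk.2 : Matrix (Fin 2) (Fin 2) F) ∧ hk.2 ^ r = 1 := by
    rintro ⟨T, h, hN, rfl⟩
    obtain ⟨k, hk1, hk2, hk3, hk4⟩ := exists_k r hr hr2 hrq h hN
    exact ⟨(h, k), hN, rfl, hk1, hk2, hk3, hk4⟩
  choose hk hk1 hk2 hk3 hk4 hk5 hk6 using hT
  have hkpow : ∀ T : Tori F, (pr 2 F (hk T).2) ^ r = 1 := by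
    intro T
    rw [← map_pow, hk6 T, map_one]
  have htorus : ∀ T : Tori F, T.1 = torus (hk T).2 := by
    intro T
    rw [hk2 T]
    exact torus_eq_of_comm (noEig_not_scalar (hk1 T)) (hk5 T) (hk4 T)
  let y : Option F ⊕ Tori F → ↥G := Sum.elim
    (fun ℓ => ⟨pr 2 F (uGL ℓ), hG ⟨_, uGL_mem_range ℓ, rfl⟩⟩)
    (fun T => ⟨pr 2 F (hk T).2, hG ⟨_, hk3 T, rfl⟩⟩)
  let H : Option F ⊕ Tori F → Subgroup ↥G := Sum.elim
    (fun ℓ => ((lstab (wvec ℓ)).map (pr 2 F)).subgroupOf G)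
    (fun T => T.1.subgroupOf G)
  let ystar : ↥G := ⟨pr 2 F (dGL a), hG ⟨_, dGL_mem_range a, rfl⟩⟩
  have hns := dGL_not_scalar a ha
  -- `p`-group fact
  have hP : ∀ (ℓ : Option F) (A : Subgroup ↥G), Group.IsNilpotent A → y (Sum.inl ℓ) ∈ A →
      ∀ x : ↥G, x ∈ A → ∃ j : ℕ, (x : GL (Fin 2) F ⧸ Subgroup.center (GL (Fin 2) F)) ^ p ^ j = 1 := by
    intro ℓ A hA hyA x hx
    have := key_nilp A hA
    have hpg := isPGroup_of_good p (good_uGL p ℓ) (A.map G.subtype) ⟨_, hyA, rfl⟩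
    obtain ⟨j, hj⟩ := hpg ⟨(x : GL (Fin 2) F ⧸ Subgroup.center (GL (Fin 2) F)), ⟨x, hx, rfl⟩⟩
    exact ⟨j, congrArg Subtype.val hj⟩
  -- hull fact
  have hHull : ∀ (T : Tori F) (A : Subgroup ↥G), Group.IsNilpotent A → y (Sum.inr T) ∈ A →
      ∀ x : ↥G, x ∈ A → (x : GL (Fin 2) F ⧸ Subgroup.center (GL (Fin 2) F)) ∈ T.1 := by
    intro T A hA hyA x hx
    have := key_nilp A hA
    have hle := le_torus_of_odd (hk5 T) r hr2 (hkpow T) (A.map G.subtype) ⟨_, hyA, rfl⟩
    rw [htorus T]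
    exact hle ⟨x, hx, rfl⟩
  have hrp : r ≠ p := by
    intro hrp
    have h1 : (p : ℕ) ∣ Fintype.card F := by
      obtain ⟨n, -, hn⟩ := FiniteField.card F p
      rw [hn]
      exact dvd_pow_self _ (PNat.ne_zero n)
    have h2 : p ∣ 1 := by
      have := (Nat.dvd_add_right h1).mp (hrp ▸ hrq)
      exact this
    exact (Fact.out : p.Prime).one_lt.ne' (Nat.dvd_one.mp h2)
  have hPT : ∀ (ℓ : Option F) (T : Tori F) (A : Subgroup ↥G), Group.IsNilpotent A →
      y (Sum.inl ℓ) ∈ A → y (Sum.inr T) ∈ A → False := by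
    intro ℓ T A hA h1 h2
    obtain ⟨j, hj⟩ := hP ℓ A hA h1 _ h2
    have hj' : (pr 2 F (hk T).2) ^ p ^ j = 1 := hj
    have hcop : (p ^ j).Coprime r :=
      Nat.Coprime.pow_left j ((Nat.coprime_primes Fact.out hr).mpr (Ne.symm hrp))
    have h3 := eq_one_of_pow_eq_one_of_coprime _ _ _ hcop hj' (hkpow T)
    rw [pr_eq_one_iff_isScalar] at h3
    exact hk5 T h3
  refine no_nmc_of_family y H ystar ?_ ?_ ?_ ?_ 𝓐 h
  · rintro (ℓ | T)
    · exact lstab_ne_top ℓ G hG
    · change (T.1).subgroupOf G ≠ ⊤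
      rw [hk2 T]
      exact torus_ne_top _ (noEig_not_scalar (hk1 T)) G hG
  · rintro ⟨x, hx⟩
    obtain ⟨g, rfl⟩ := pr_surjective x
    by_cases hN : NoEig (g : Matrix (Fin 2) (Fin 2) F)
    · refine ⟨Sum.inr ⟨torus g, g, hN, rfl⟩, ?_⟩
      change _ ∈ (torus g).subgroupOf G
      rw [Subgroup.mem_subgroupOf, pr_mem_torus_iff]
    · obtain ⟨ℓ, hℓ⟩ := exists_mem_lstab_of_not_noEig g hN
      refine ⟨Sum.inl ℓ, ?_⟩
      change _ ∈ ((lstab (wvec ℓ)).map (pr 2 F)).subgroupOf G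
      rw [Subgroup.mem_subgroupOf]
      exact (pr_mem_map_lstab_iff _ _).mpr hℓ
  · rintro (ℓ | T) (ℓ' | T') hne A hA h1 h2
    · have hne' : ℓ ≠ ℓ' := fun e => hne (by rw [e])
      have := key_nilp A hA
      exact not_both_of_good p hn0 (good_uGL p ℓ) ⟨2, uGL_pow p ℓ⟩ ⟨2, uGL_pow p ℓ'⟩
        (fun φ e1 e2 => uGL_indep ℓ ℓ' hne' φ e1 e2) (A.map G.subtype) ⟨_, h1, rfl⟩ ⟨_, h2, rfl⟩
    · exact hPT ℓ T' A hA h1 h2
    · exact hPT ℓ' T A hA h2 h1
    · apply hne
      congr 1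
      apply Subtype.ext
      have h3 := hHull T A hA h1 _ h2
      have h3' : pr 2 F (hk T').2 ∈ torus (hk T).2 := by
        rw [← htorus T]; exact h3
      rw [pr_mem_torus_iff] at h3'
      rw [htorus T, htorus T']
      exact torus_eq_of_comm (hk5 T) (hk5 T') h3'
  · rintro (ℓ | T) A hA h1 h2
    · obtain ⟨j, hj⟩ := hP ℓ A hA h1 _ h2
      have hj' : (pr 2 F (dGL a)) ^ p ^ j = 1 := hj
      have hq : (pr 2 F (dGL a)) ^ (Fintype.card F - 1) = 1 := by
        rw [← map_pow, dGL_pow, ← Fintype.card_units, pow_card_eq_one, dGL_one, map_one]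
      have hcop : (p ^ j).Coprime (Fintype.card F - 1) :=
        Nat.Coprime.pow_left j (coprime_card_sub_one (F := F) p).symm
      have h3 := eq_one_of_pow_eq_one_of_coprime _ _ _ hcop hj' hq
      rw [pr_eq_one_iff_isScalar] at h3
      exact hns h3
    · have h3 := hHull T A hA h1 _ h2
      have h3' : pr 2 F (dGL a) ∈ torus (hk T).1 := by
        rw [← hk2 T]; exact h3
      rw [pr_mem_torus_iff] at h3'
      have h4 : pr 2 F (hk T).1 ∈ torus (dGL a) := by
        rw [pr_mem_torus_iff]; exact h3'.symm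
      have h5 := torus_dGL_le a ha h4
      rw [pr_mem_map_stabGL_iff] at h5
      obtain ⟨c, hc⟩ := h5
      refine hk1 T _ ?_ c hc
      intro h0
      have := congrFun h0 ⟨0, hn0⟩
      simp at this

end caseB

end Cfsg.Agent.Lib.H19.PGL2B
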