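/-
S2937 piece PSU, sub-piece XB (architect helper8; helper19): `|X_0| = |F|` for the flag unitary group, `n ≥ 4`.
-/
import Cfsg.Agent.Lib.H8.FBNMain
import Cfsg.Agent.Lib.H1.FBNNONTRIV

set_option autoImplicit false

namespace Cfsg.Agent.Lib.H19.PM

open Matrix Cfsg.Agent.Lib.H8.FBN Cfsg.Agent.Lib.H1.FBN

variable {F : Type*} [Field F]

/-- the entry of the product `g * star φ g` -/
theorem mul_star_apply {n : ℕ} (φ : F →+* F) (g : ↥(GS (n := n) φ)) (k l : Fin n) :
    ∑ m : Fin n, (g.1 : Matrix (Fin n) (Fin n) F) k m * φ ((g.1 : Matrix (Fin n) (Fin n) F) l.rev m.rev) =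
      (1 : Matrix (Fin n) (Fin n) F) k l := by
  have h := congrFun (congrFun (mul_star_self φ g) k) l
  rw [Matrix.mul_apply] at h
  exact h

variable [Finite F]

theorem card_X_zero {n : ℕ} (φ : F →+* F) (hφ2 : ∀ x, φ (φ x) = x) (hn : 4 ≤ n) :
    Nat.card ↥(X (n := n) φ ⟨0, by omega⟩) = Nat.card F := by
  have hj2 : 0 < n / 2 := by omega
  set j : Fin (n / 2) := ⟨0, hj2⟩ with hj
  have hjs : (j : ℕ) + 1 < n / 2 := by
    show 0 + 1 < n / 2
    omega
  set a : Fin n := lo j with hadef
  set b : Fin n := nx j with hbdef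
  have hav : (a : ℕ) = 0 := rfl
  have hbv : (b : ℕ) = 1 := rfl
  have harv : ((a.rev : Fin n) : ℕ) = n - 1 := by rw [Fin.val_rev, hav]
  have hbrv : ((b.rev : Fin n) : ℕ) = n - 2 := by rw [Fin.val_rev, hbv]
  have hab : a ≠ b := by
    intro h
    have := congrArg Fin.val h
    rw [hav, hbv] at this
    omega
  have ha : a ≠ a.rev := by
    intro h
    have := congrArg Fin.val h
    rw [harv, hav] at this
    omega
  have hb : b ≠ b.rev := by
    intro h
    have := congrArg Fin.val h
    rw [hbrv, hbv] at this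
    omega
  have habr : a ≠ b.rev := by
    intro h
    have := congrArg Fin.val h
    rw [hbrv, hav] at this
    omega
  have hPhi : ∀ k l : Fin n, Phi j k l ↔
      ((k : ℕ) = 0 ∧ (l : ℕ) = 1) ∨ ((k : ℕ) = n - 2 ∧ (l : ℕ) = n - 1) := by
    intro k l
    rw [Phi_iff, if_pos hjs]
    have : (j : ℕ) = 0 := rfl
    rw [this]
    simp
  -- the key relation
  have hkey : ∀ g : ↥(GS (n := n) φ), g ∈ X φ j →
      (g.1 : Matrix (Fin n) (Fin n) F) b.rev a.rev = - φ ((g.1 : Matrix (Fin n) (Fin n) F) a b) := by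
    intro g hg
    rw [mem_X] at hg
    have h := mul_star_apply φ g a b
    rw [Matrix.one_apply_ne hab, Finset.sum_eq_add a b hab] at h
    · rw [hg.1 a, hg.1 b.rev, map_one, one_mul, mul_one] at h
      have h2 : φ ((g.1 : Matrix (Fin n) (Fin n) F) b.rev a.rev) = - (g.1 : Matrix (Fin n) (Fin n) F) a b :=
        eq_neg_of_add_eq_zero_left h
      have h3 := congrArg φ h2
      rw [hφ2, map_neg] at h3
      exact h3
    · intro m _ hm
      have hne : a ≠ m := fun h' => hm.1 h'.symm
      have hnP : ¬ Phi j a m := by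
        rw [hPhi]
        rintro (⟨_, h2⟩ | ⟨h1, _⟩)
        · apply hm.2
          apply Fin.ext
          rw [h2, hbv]
        · rw [hav] at h1
          omega
      rw [hg.2 a m hne hnP, zero_mul]
    · intro h'
      exact absurd (Finset.mem_univ _) h'
    · intro h'
      exact absurd (Finset.mem_univ _) h'
  let f : ↥(X (n := n) φ j) → F := fun g => (g.1.1 : Matrix (Fin n) (Fin n) F) a b
  have hinj : Function.Injective f := by
    intro g h hgh
    have hgh' : (g.1.1 : Matrix (Fin n) (Fin n) F) a b = (h.1.1 : Matrix (Fin n) (Fin n) F) a b := hgh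
    apply Subtype.ext
    apply ext_val
    ext k l
    have hg := g.2
    have hh := h.2
    rw [mem_X] at hg hh
    by_cases hkl : k = l
    · subst hkl
      rw [hg.1 k, hh.1 k]
    · by_cases hP : Phi j k l
      · rw [hPhi] at hP
        rcases hP with ⟨h1, h2⟩ | ⟨h1, h2⟩
        · have hk : k = a := Fin.ext (by rw [h1, hav])
          have hl : l = b := Fin.ext (by rw [h2, hbv])
          rw [hk, hl]
          exact hgh'
        · have hk : k = b.rev := Fin.ext (by rw [h1, hbrv])
          have hl : l = a.rev := Fin.ext (by rw [h2, harv])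
          rw [hk, hl, hkey g.1 g.2, hkey h.1 h.2, hgh']
      · rw [hg.2 k l hkl hP, hh.2 k l hkl hP]
  have hsurj : Function.Surjective f := by
    intro c
    have hmem : mkGS φ (xSm φ a b c) (xSm_mul_star φ hφ2 a b hab ha hb c) ∈ X (n := n) φ j := by
      rw [mem_X]
      show IsUni (xSm φ a b c) ∧ _
      apply xSm_mem_aux φ a b hab c (Phi j)
      · rw [hPhi]
        left; exact ⟨hav, hbv⟩
      · rw [hPhi]
        right; exact ⟨hbrv, harv⟩
    refine ⟨⟨_, hmem⟩, ?_⟩
    show xSm φ a b c a b = c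
    rw [xSm_apply, Matrix.one_apply_ne hab, if_pos ⟨rfl, rfl⟩, if_neg]
    · simp
    · rintro ⟨h3, _⟩
      exact habr h3
  exact Nat.card_congr (Equiv.ofBijective f ⟨hinj, hsurj⟩)

end Cfsg.Agent.Lib.H19.PM
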