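/-
S2937 piece PSU, sub-piece XC (architect helper8; helper19): `|X_1| < |F|` for the flag unitary group, `n = 4`.
-/
import Cfsg.Agent.Lib.H19.PMPSUXB

set_option autoImplicit false

namespace Cfsg.Agent.Lib.H19.PM

open Matrix Cfsg.Agent.Lib.H8.FBN Cfsg.Agent.Lib.H1.FBN

variable {F : Type*} [Field F] [Finite F]

theorem card_X_one_four (φ : F →+* F) (hφ2 : ∀ x, φ (φ x) = x) (hne : ∃ c : F, c + φ c ≠ 0) :
    Nat.card ↥(X (n := 4) φ ⟨1, by norm_num⟩) < Nat.card F := by
  have hj2 : 1 < 4 / 2 := by norm_num
  set j : Fin (4 / 2) := ⟨1, hj2⟩ with hj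
  have hjs : ¬ ((j : ℕ) + 1 < 4 / 2) := by
    show ¬ (1 + 1 < 4 / 2)
    norm_num
  set a : Fin 4 := lo j with hadef
  have hav : (a : ℕ) = 1 := rfl
  have harv : ((a.rev : Fin 4) : ℕ) = 2 := by rw [Fin.val_rev, hav]
  have ha : a ≠ a.rev := by
    intro h
    have := congrArg Fin.val h
    rw [harv, hav] at this
    omega
  have hPhi : ∀ k l : Fin 4, Phi j k l ↔ ((k : ℕ) = 1 ∧ (l : ℕ) = 2) := by
    intro k l
    rw [Phi_iff, if_neg hjs]
    have : (j : ℕ) = 1 := rfl
    rw [this]
    have := k.2
    have := l.2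
    omega
  -- the key relation
  have hkey : ∀ g : ↥(GS (n := 4) φ), g ∈ X φ j →
      (g.1 : Matrix (Fin 4) (Fin 4) F) a a.rev + φ ((g.1 : Matrix (Fin 4) (Fin 4) F) a a.rev) = 0 := by
    intro g hg
    rw [mem_X] at hg
    have h := mul_star_apply φ g a a.rev
    rw [Matrix.one_apply_ne ha, Finset.sum_eq_add a a.rev ha] at h
    · rw [Fin.rev_rev, hg.1 a, map_one, one_mul, mul_one, add_comm] at h
      exact h
    · intro m _ hm
      have hne' : a ≠ m := fun h' => hm.1 h'.symm
      have hnP : ¬ Phi j a m := by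
        rw [hPhi]
        rintro ⟨_, h2⟩
        apply hm.2
        apply Fin.ext
        rw [h2, harv]
      rw [hg.2 a m hne' hnP, zero_mul]
    · intro h'
      exact absurd (Finset.mem_univ _) h'
    · intro h'
      exact absurd (Finset.mem_univ _) h'
  let f : ↥(X (n := 4) φ j) → F := fun g => (g.1.1 : Matrix (Fin 4) (Fin 4) F) a a.rev
  have hinj : Function.Injective f := by
    intro g h hgh
    have hgh' : (g.1.1 : Matrix (Fin 4) (Fin 4) F) a a.rev =
        (h.1.1 : Matrix (Fin 4) (Fin 4) F) a a.rev := hgh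
    apply Subtype.ext
    apply ext_val
    ext k l
    have hg := g.2
    have hh := h.2
    rw [mem_X] at hg hh
    by_cases hkl : k = l
    · subst hkl
      rw [hg.1 k, hh.1 k]
    · by_cases hP : Phi j k l
      · rw [hPhi] at hP
        obtain ⟨h1, h2⟩ := hP
        have hk : k = a := Fin.ext (by rw [h1, hav])
        have hl : l = a.rev := Fin.ext (by rw [h2, harv])
        rw [hk, hl]
        exact hgh'
      · rw [hg.2 k l hkl hP, hh.2 k l hkl hP]
  obtain ⟨c₀, hc₀⟩ := hne
  have hfin : Finite ↥(X (n := 4) φ j) := Finite.of_injective f hinj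
  let f' : Option ↥(X (n := 4) φ j) → F := fun o => o.elim c₀ f
  have hinj' : Function.Injective f' := by
    intro x y hxy
    cases x with
    | none =>
      cases y with
      | none => rfl
      | some h =>
        exfalso
        apply hc₀
        have h1 : c₀ = f h := hxy
        rw [h1]
        exact hkey h.1 h.2
    | some g =>
      cases y with
      | none =>
        exfalso
        apply hc₀
        have h1 : f g = c₀ := hxy
        rw [← h1]
        exact hkey g.1 g.2
      | some h =>
        have h1 : f g = f h := hxy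
        rw [hinj h1]
  have hle := Nat.card_le_card_of_injective f' hinj'
  rw [Finite.card_option] at hle
  exact hle

end Cfsg.Agent.Lib.H19.PM
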