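/-
S2937 piece PSU, sub-piece XD (architect helper8; helper19): `|F| < |X_1|` for the flag unitary group, `n = 5`.
-/
import Cfsg.Agent.Lib.H19.PMPSUXB

set_option autoImplicit false

namespace Cfsg.Agent.Lib.H19.PM

open Matrix Cfsg.Agent.Lib.H8.FBN Cfsg.Agent.Lib.H1.FBN

variable {F : Type*} [Field F] [Finite F]

theorem card_X_one_five (φ : F →+* F) (hφ2 : ∀ x, φ (φ x) = x) (h0 : ∃ c : F, c ≠ 0 ∧ c + φ c = 0)
    (h1 : ∃ β : F, β + φ β + 1 = 0) :
    Nat.card F < Nat.card ↥(X (n := 5) φ ⟨1, by norm_num⟩) := by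
  have hj2 : 1 < 5 / 2 := by norm_num
  set j : Fin (5 / 2) := ⟨1, hj2⟩ with hj
  have hjs : ¬ ((j : ℕ) + 1 < 5 / 2) := by
    show ¬ (1 + 1 < 5 / 2)
    norm_num
  set a : Fin 5 := lo j with hadef
  set m : Fin 5 := ⟨2, by norm_num⟩ with hmdef
  have hav : (a : ℕ) = 1 := rfl
  have hmv : (m : ℕ) = 2 := rfl
  have harv : ((a.rev : Fin 5) : ℕ) = 3 := by rw [Fin.val_rev, hav]
  have hm : m.rev = m := by
    apply Fin.ext
    rw [Fin.val_rev, hmv]
  have ha : a ≠ a.rev := by
    intro h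
    have := congrArg Fin.val h
    rw [harv, hav] at this
    omega
  have ham : a ≠ m := by
    intro h
    have := congrArg Fin.val h
    rw [hav, hmv] at this
    omega
  have harm : a.rev ≠ m := by
    intro h
    have := congrArg Fin.val h
    rw [harv, hmv] at this
    omega
  have hPhi : ∀ k l : Fin 5, Phi j k l ↔ (1 ≤ (k : ℕ) ∧ (k : ℕ) < l ∧ (l : ℕ) ≤ 3) := by
    intro k l
    rw [Phi_iff, if_neg hjs]
    have : (j : ℕ) = 1 := rfl
    rw [this]
  obtain ⟨c₀, hc₀, hc₀'⟩ := h0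
  obtain ⟨β₁, hβ₁⟩ := h1
  -- the elements
  have hrel : ∀ α : F, α * φ α * β₁ + φ (α * φ α * β₁) + α * φ α = 0 := by
    intro α
    rw [map_mul, map_mul, hφ2]
    have : α * φ α * β₁ + φ α * α * φ β₁ + α * φ α = α * φ α * (β₁ + φ β₁ + 1) := by ring
    rw [this, hβ₁, mul_zero]
  have hrel0 : c₀ + φ c₀ + (0 : F) * φ 0 = 0 := by
    rw [zero_mul, add_zero]
    exact hc₀'
  have hmem : ∀ (α β : F) (h : β + φ β + α * φ α = 0),
      mkGS φ (xMm φ a m α β) (Cfsg.Agent.Lib.H25.FBN.xMm_mul_star' φ hφ2 a m hm ha α β h) ∈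
        X (n := 5) φ j := by
    intro α β h
    rw [mem_X]
    show IsUni (xMm φ a m α β) ∧ _
    apply xMm_mem_aux φ a m hm ha α β (Phi j)
    · rw [hPhi, hav, hmv]
      omega
    · rw [hPhi, harv, hmv]
      omega
    · rw [hPhi, hav, harv]
      omega
  have he1 : ∀ α β : F, xMm φ a m α β a m = α := by
    intro α β
    rw [xMm_apply, Matrix.one_apply_ne ham, if_pos ⟨rfl, rfl⟩, if_neg, if_neg]
    · simp
    · rintro ⟨_, h4⟩
      exact harm h4.symm
    · rintro ⟨h3, _⟩
      exact ham h3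
  have he2 : ∀ α β : F, xMm φ a m α β a a.rev = β := by
    intro α β
    rw [xMm_apply, Matrix.one_apply_ne ha, if_neg, if_neg, if_pos ⟨rfl, rfl⟩]
    · simp
    · rintro ⟨h3, _⟩
      exact ham h3
    · rintro ⟨_, h4⟩
      exact harm h4
  let f : Option F → ↥(X (n := 5) φ j) := fun o =>
    match o with
    | none => ⟨_, hmem 0 c₀ hrel0⟩
    | some α => ⟨_, hmem α (α * φ α * β₁) (hrel α)⟩
  have hf1 : ∀ α : F, ((f (some α)).1.1 : Matrix (Fin 5) (Fin 5) F) a m = α := fun α => he1 _ _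
  have hf2 : ∀ α : F, ((f (some α)).1.1 : Matrix (Fin 5) (Fin 5) F) a a.rev = α * φ α * β₁ :=
    fun α => he2 _ _
  have hf3 : ((f none).1.1 : Matrix (Fin 5) (Fin 5) F) a m = 0 := he1 _ _
  have hf4 : ((f none).1.1 : Matrix (Fin 5) (Fin 5) F) a a.rev = c₀ := he2 _ _
  have hinj : Function.Injective f := by
    intro x y hxy
    cases x with
    | none =>
      cases y with
      | none => rfl
      | some α =>
        exfalso
        apply hc₀
        have h3 : (0 : F) = α := by rw [← hf3, hxy, hf1]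
        have h4 : c₀ = α * φ α * β₁ := by rw [← hf4, hxy, hf2]
        rw [h4, ← h3, zero_mul, zero_mul]
    | some α =>
      cases y with
      | none =>
        exfalso
        apply hc₀
        have h3 : α = (0 : F) := by rw [← hf3, ← hxy, hf1]
        have h4 : α * φ α * β₁ = c₀ := by rw [← hf4, ← hxy, hf2]
        rw [← h4, h3, zero_mul, zero_mul]
      | some α' =>
        have h3 : α = α' := by rw [← hf1 α, hxy, hf1]
        rw [h3]
  have hle := Nat.card_le_card_of_injective f hinj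
  rw [Finite.card_option] at hle
  exact hle

end Cfsg.Agent.Lib.H19.PM
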