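/-
S2937 piece PSU, sub-pieces XB, XC, XD (architect helper8; helper19): the cardinalities of the root sets
`X φ 0` (`n ≥ 4`), `X φ 1` (`n = 4`, `n = 5`) of the flag unitary group.  The three theorems
`card_X_zero`, `card_X_one_four`, `card_X_one_five` live in `Cfsg.Agent.Lib.H19.PM`.
-/
import Cfsg.Agent.Lib.H19.PMPSUXB
import Cfsg.Agent.Lib.H19.PMPSUXC
import Cfsg.Agent.Lib.H19.PMPSUXD
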