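/-
S4885 (architect helper23), piece **FINAL**: a finite `p`-solvable group `H` with `O_p(H) ≤ Φ(H)` and `O_{p'}(H) ≤ Φ(H)` is trivial.
`T/Φ` a nontrivial normal `p`-subgroup or `p'`-subgroup of `H/Φ`; `p`-case: Frattini argument for a Sylow `p`-subgroup of `T`;
`p'`-case: Frattini argument for a Schur-Zassenhaus complement of the (normal) Sylow `p`-subgroup of `Φ` in `T`.
-/
import Mathlib
import Cfsg.Prelude.Def_Local
import Cfsg.Prelude.Def_Solvable
import Cfsg.Agent.Lib.H10.PSolvable2
import Cfsg.Agent.Lib.H1.SchurZassenhaus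

set_option autoImplicit false

namespace Cfsg.Agent.Lib.H19.PQ

open Cfsg
open scoped Pointwise

variable {H : Type*} [Group H] [Finite H]

/-- `p`-case -/
theorem le_frattini_of_relIndex_pow (p : ℕ) [Fact p.Prime] (h1 : pCore p H ≤ frattini H)
    (T : Subgroup H) [T.Normal] (k : ℕ) (hk : (frattini H).relIndex T = p ^ k) :
    T ≤ frattini H := by
  obtain ⟨S⟩ := (inferInstance : Nonempty (Sylow p ↥T))
  set S' : Subgroup H := (S : Subgroup ↥T).map T.subtype with hS'
  have hfr := Sylow.normalizer_sup_eq_top S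
  have hS'T : S' ≤ T := Subgroup.map_subtype_le _
  have hsub : S'.subgroupOf T = (S : Subgroup ↥T) :=
    Subgroup.comap_map_eq_self_of_injective (Subgroup.subtype_injective T) _
  have hX : T ≤ frattini H ⊔ S' := by
    rw [← Subgroup.relIndex_eq_one]
    set d := (frattini H ⊔ S').relIndex T with hd
    have hd1 : d ∣ p ^ k := by
      rw [← hk]
      exact Subgroup.relIndex_dvd_of_le_left T le_sup_left
    have hd2 : d ∣ S'.relIndex T := Subgroup.relIndex_dvd_of_le_left T le_sup_right
    have hidx : S'.relIndex T = (S : Subgroup ↥T).index := by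
      unfold Subgroup.relIndex
      rw [hsub]
    rw [hidx] at hd2
    have hcop : (p ^ k).Coprime (S : Subgroup ↥T).index :=
      Nat.Coprime.pow_left k ((Nat.Prime.coprime_iff_not_dvd (Fact.out : p.Prime)).mpr S.not_dvd_index)
    have : d.Coprime d := Nat.Coprime.coprime_dvd_left hd1 (Nat.Coprime.coprime_dvd_right hd2 hcop)
    exact (Nat.coprime_self d).mp this
  have htop : Subgroup.normalizer (S' : Set H) ⊔ frattini H = ⊤ := by
    rw [eq_top_iff, ← hfr]
    apply sup_le le_sup_left
    refine hX.trans (sup_le le_sup_right ?_)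
    exact (Subgroup.le_normalizer).trans le_sup_left
  have hN := frattini_nongenerating htop
  have hS'n : S'.Normal := Subgroup.normalizer_eq_top_iff.mp hN
  have hS'p : IsPGroup p ↥S' := S.isPGroup'.map T.subtype
  have hS'c : S' ≤ pCore p H := le_sSup ⟨hS'n, hS'p⟩
  exact hX.trans (sup_le le_rfl (hS'c.trans h1))

/-- `p'`-case -/
theorem le_frattini_of_relIndex_coprime (p : ℕ) [Fact p.Prime] (h2 : pPrimeCore p H ≤ frattini H)
    (T : Subgroup H) [T.Normal] (hΦT : frattini H ≤ T) (hc : ((frattini H).relIndex T).Coprime p) :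
    T ≤ frattini H := by
  have hp : p.Prime := Fact.out
  obtain ⟨D⟩ := (inferInstance : Nonempty (Sylow p ↥(frattini H)))
  set D' : Subgroup H := (D : Subgroup ↥(frattini H)).map (frattini H).subtype with hD'
  -- `D'` is normal in `H`
  have hDn : D'.Normal := by
    have fa := Sylow.normalizer_sup_eq_top D
    exact Subgroup.normalizer_eq_top_iff.mp (frattini_nongenerating fa)
  have hD'Φ : D' ≤ frattini H := Subgroup.map_subtype_le _
  have hD'T : D' ≤ T := hD'Φ.trans hΦT
  have hD'p : IsPGroup p ↥D' := D.isPGroup'.map (frattini H).subtype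
  have hsubD : D'.subgroupOf (frattini H) = (D : Subgroup ↥(frattini H)) :=
    Subgroup.comap_map_eq_self_of_injective (Subgroup.subtype_injective _) _
  have hidxD : (D'.relIndex (frattini H)).Coprime p := by
    have e : D'.relIndex (frattini H) = (D : Subgroup ↥(frattini H)).index := by
      unfold Subgroup.relIndex
      rw [hsubD]
    rw [e]
    exact ((Nat.Prime.coprime_iff_not_dvd hp).mpr D.not_dvd_index).symm
  have hidxT : (D'.relIndex T).Coprime p := by
    rw [← Subgroup.relIndex_mul_relIndex D' (frattini H) T hD'Φ hΦT]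
    exact Nat.Coprime.mul_left hidxD hc
  -- Schur-Zassenhaus in `T`
  set N : Subgroup ↥T := D'.subgroupOf T with hN
  have hNcard : Nat.card ↥N = Nat.card ↥D' := Nat.card_congr (Subgroup.subgroupOfEquivOfLe hD'T).toEquiv
  obtain ⟨n, hn⟩ := hD'p.exists_card_eq
  have hcopN : (Nat.card ↥N).Coprime N.index := by
    rw [hNcard, hn]
    exact Nat.Coprime.pow_left n ((Nat.coprime_comm).mp hidxT)
  obtain ⟨K, hK⟩ := Subgroup.exists_right_complement'_of_coprime hcopN
  set K' : Subgroup H := K.map T.subtype with hK'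
  have hK'T : K' ≤ T := Subgroup.map_subtype_le _
  have hK'card : Nat.card ↥K' = N.index := by
    rw [hK', Subgroup.card_map_of_injective (Subgroup.subtype_injective T)]
    exact hK.symm.index_eq_card.symm
  have hcopK : (Nat.card ↥D').Coprime (Nat.card ↥K') := by
    rw [hK'card, ← hNcard]
    exact hcopN
  have hsupK : D' ⊔ K' = T := by
    have h1 := hK.sup_eq_top
    have h3 := congrArg (Subgroup.map T.subtype) h1
    rw [Subgroup.map_sup, ← MonoidHom.range_eq_map, Subgroup.range_subtype, hN,
      Subgroup.subgroupOf_map_subtype, inf_of_le_left hD'T] at h3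
    exact h3
  have hK'p : (Nat.card ↥K').Coprime p := by
    rw [hK'card]
    exact hidxT
  -- Frattini argument for complements
  have htop : Subgroup.normalizer (K' : Set H) ⊔ frattini H = ⊤ := by
    rw [eq_top_iff]
    intro h _
    set K'' : Subgroup H := MulAut.conj h • K' with hK''
    have hcard'' : Nat.card ↥K'' = Nat.card ↥K' :=
      (Nat.card_congr (Subgroup.equivSMul (MulAut.conj h) K').toEquiv).symm
    have hnormD : Subgroup.normalizer (D' : Set H) = ⊤ := Subgroup.normalizer_eq_top_iff.mpr hDn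
    have hd1 : Disjoint D' K' := Subgroup.disjoint_of_coprime_natCard hcopK
    have hd2 : Disjoint D' K'' := Subgroup.disjoint_of_coprime_natCard (by rw [hcard'']; exact hcopK)
    have hsup'' : D' ⊔ K' = D' ⊔ K'' := by
      have e1 : MulAut.conj h • (D' ⊔ K') = D' ⊔ K'' := by
        rw [Subgroup.smul_sup, Cfsg.Agent.Lib.H1.conj_smul_eq_self_of_normal (H := D') h]
      rw [← e1, hsupK, Cfsg.Agent.Lib.H1.conj_smul_eq_self_of_normal (H := T) h]
    have hsolv : Group.IsSolvable ↥D' := by
      have := hD'p.isNilpotent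
      infer_instance
    obtain ⟨x, hx, hxK⟩ := Cfsg.Agent.Lib.H1.sz_conj_internal (N := D') (H := K') (K := K'')
      (by rw [hnormD]; exact le_top) (by rw [hnormD]; exact le_top) hcopK hd1 hd2 hsup'' (Or.inl hsolv)
    -- `x⁻¹ * h` normalises `K'`
    have hnorm : x⁻¹ * h ∈ Subgroup.normalizer (K' : Set H) := by
      have e2 : MulAut.conj (x⁻¹ * h) • K' = K' := by
        rw [← Cfsg.Agent.Lib.H1.conj_smul_conj_smul, ← hK'', ← hxK, Cfsg.Agent.Lib.H1.conj_smul_conj_smul,
          inv_mul_cancel, map_one, one_smul]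
      rw [Subgroup.mem_normalizer_iff]
      intro y
      constructor
      · intro hy
        have : (x⁻¹ * h) * y * (x⁻¹ * h)⁻¹ ∈ MulAut.conj (x⁻¹ * h) • K' := by
          rw [Cfsg.Agent.Lib.H1.mem_conj_smul_iff]
          have e3 : (x⁻¹ * h)⁻¹ * ((x⁻¹ * h) * y * (x⁻¹ * h)⁻¹) * (x⁻¹ * h) = y := by group
          rw [e3]
          exact hy
        rwa [e2] at this
      · intro hy
        rw [← e2, Cfsg.Agent.Lib.H1.mem_conj_smul_iff] at hy
        have e3 : (x⁻¹ * h)⁻¹ * ((x⁻¹ * h) * y * (x⁻¹ * h)⁻¹) * (x⁻¹ * h) = y := by group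
        rwa [e3] at hy
    have e : h = x * (x⁻¹ * h) := by group
    rw [e]
    exact Subgroup.mul_mem _ (Subgroup.mem_sup_right (hD'Φ hx)) (Subgroup.mem_sup_left hnorm)
  have hKn : K'.Normal := Subgroup.normalizer_eq_top_iff.mp (frattini_nongenerating htop)
  have hKc : K' ≤ pPrimeCore p H := le_sSup ⟨hKn, hK'p⟩
  rw [← hsupK]
  exact sup_le hD'Φ (hKc.trans h2)

/-- FINAL -/
theorem subsingleton_of_cores_le_frattini {H : Type*} [Group H] [Finite H] (p : ℕ) [Fact p.Prime]
    (hps : IsPSolvable p H) (h1 : pCore p H ≤ frattini H) (h2 : pPrimeCore p H ≤ frattini H) :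
    Subsingleton H := by
  by_contra hns
  rw [not_subsingleton_iff_nontrivial] at hns
  have hΦ : frattini H ≠ ⊤ := by
    intro h
    have h3 : (⊥ : Subgroup H) = ⊤ := frattini_nongenerating (by rw [h, bot_sup_eq])
    exact bot_ne_top h3
  have : Nontrivial (H ⧸ frattini H) := by
    rw [← not_subsingleton_iff_nontrivial]
    intro hsub
    apply hΦ
    rw [eq_top_iff]
    intro x _
    rw [← QuotientGroup.eq_one_iff]
    exact Subsingleton.elim _ _
  obtain ⟨M, hMn, hM1, hM⟩ :=
    Cfsg.Agent.Lib.H10.exists_normal_of_isPSolvable (Cfsg.Agent.Lib.H10.isPSolvable_quotient hps (frattini H))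
  set T : Subgroup H := M.comap (QuotientGroup.mk' (frattini H)) with hT
  have : T.Normal := hMn.comap _
  have hΦT : frattini H ≤ T := by
    intro x hx
    rw [hT, Subgroup.mem_comap, QuotientGroup.mk'_apply, (QuotientGroup.eq_one_iff x).mpr hx]
    exact M.one_mem
  have hmap : T.map (QuotientGroup.mk' (frattini H)) = M :=
    Subgroup.map_comap_eq_self_of_surjective (QuotientGroup.mk'_surjective _) M
  have hrel : (frattini H).relIndex T = Nat.card ↥M := by
    have e : frattini H = (⊥ : Subgroup (H ⧸ frattini H)).comap (QuotientGroup.mk' (frattini H)) := by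
      rw [MonoidHom.comap_bot, QuotientGroup.ker_mk']
    conv_lhs => rw [e]
    rw [Subgroup.relIndex_comap, hmap, Subgroup.relIndex_bot_left]
  have hTn : ¬ T ≤ frattini H := by
    intro hle
    apply hM1
    rw [← hmap, eq_bot_iff]
    rintro _ ⟨x, hx, rfl⟩
    rw [Subgroup.mem_bot, QuotientGroup.mk'_apply, QuotientGroup.eq_one_iff]
    exact hle hx
  rcases hM with hp | hc
  · obtain ⟨k, hk⟩ := hp.exists_card_eq
    exact hTn (le_frattini_of_relIndex_pow p h1 T k (hrel.trans hk))
  · exact hTn (le_frattini_of_relIndex_coprime p h2 T hΦT (by rw [hrel]; exact hc))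

end Cfsg.Agent.Lib.H19.PQ
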