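import Mathlib
import Cfsg.Prelude.Def_Local
import Cfsg.Agent.Lib.H19.Basic
import Cfsg.Agent.Lib.H19.PComplement
import Cfsg.Agent.Lib.H1.SchurZassenhaus
import Cfsg.Agent.Lib.H1.PCore
import Cfsg.Agent.Lib.H1.QuotientBasic

/-!
# `p`-soluble groups: `p`-complements (Hall `p'`-subgroups) exist, are conjugate, and dominate
`p'`-subgroups.
-/

set_option autoImplicit false

namespace Cfsg.Agent.Lib.H19

open scoped Pointwise

universe u

/-- a `p`-chain of length `n` -/
def HasPChain (p n : ℕ) (G : Type*) [Group G] : Prop :=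
  ∃ H : Fin (n + 1) → Subgroup G,
    H 0 = ⊥ ∧ H (Fin.last n) = ⊤ ∧ Monotone H ∧ (∀ i, (H i).Normal) ∧
    ∀ i : Fin n, (∃ m : ℕ, (H i.castSucc).relIndex (H i.succ) = p ^ m) ∨
      ((H i.castSucc).relIndex (H i.succ)).Coprime p

theorem isPSolvable_iff_hasPChain {p : ℕ} {G : Type*} [Group G] :
    Cfsg.IsPSolvable p G ↔ ∃ n, HasPChain p n G := Iff.rfl

theorem relIndex_map_map_of_ker_le {G G' : Type*} [Group G] [Group G'] (f : G →* G')
    {A : Subgroup G} (B : Subgroup G) (h : f.ker ≤ A) :
    (A.map f).relIndex (B.map f) = A.relIndex B := by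
  rw [← Subgroup.relIndex_comap, Subgroup.comap_map_eq, sup_of_le_left h]

theorem hasPChain_zero {p : ℕ} {G : Type*} [Group G] (h : HasPChain p 0 G) : Subsingleton G := by
  obtain ⟨H, h0, hlast, -, -, -⟩ := h
  have : (⊥ : Subgroup G) = ⊤ := by
    rw [← h0, ← hlast]; rfl
  exact (Subgroup.subsingleton_iff).1 (subsingleton_of_bot_eq_top this)

/-- the quotient by the first term of a `p`-chain has a shorter `p`-chain -/
theorem hasPChain_quotient {p n : ℕ} {G : Type u} [Group G] (h : HasPChain p (n + 1) G) :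
    ∃ (N : Subgroup G) (_ : N.Normal),
      ((∃ m : ℕ, Nat.card N = p ^ m) ∨ (Nat.card N).Coprime p) ∧ HasPChain p n (G ⧸ N) := by
  obtain ⟨H, h0, hlast, hmono, hnorm, hidx⟩ := h
  have hN : (H 1).Normal := hnorm 1
  refine ⟨H 1, hN, ?_, ?_⟩
  · have := hidx 0
    have e1 : ((0 : Fin (n + 1)).castSucc : Fin (n + 2)) = 0 := rfl
    have e2 : ((0 : Fin (n + 1)).succ : Fin (n + 2)) = 1 := rfl
    rw [e1, e2, h0, Subgroup.relIndex_bot_left] at this
    exact this
  · refine ⟨fun i => (H i.succ).map (QuotientGroup.mk' (H 1)), ?_, ?_, ?_, ?_, ?_⟩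
    · show (H (Fin.succ 0)).map (QuotientGroup.mk' (H 1)) = ⊥
      have e2 : ((0 : Fin (n + 1)).succ : Fin (n + 2)) = 1 := rfl
      rw [e2]
      exact QuotientGroup.map_mk'_self (H 1)
    · show (H (Fin.last n).succ).map (QuotientGroup.mk' (H 1)) = ⊤
      rw [Fin.succ_last, hlast]
      exact Subgroup.map_top_of_surjective _ (QuotientGroup.mk'_surjective _)
    · intro i j hij
      exact Subgroup.map_mono (hmono (Fin.succ_le_succ_iff.2 hij))
    · intro i
      exact (hnorm i.succ).map _ (QuotientGroup.mk'_surjective _)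
    · intro i
      have hker : (QuotientGroup.mk' (H 1)).ker ≤ H i.succ.castSucc := by
        rw [QuotientGroup.ker_mk']
        apply hmono
        rw [Fin.le_def]
        simp
      have e := relIndex_map_map_of_ker_le (QuotientGroup.mk' (H 1)) (H i.succ.succ) hker
      show (∃ m : ℕ, ((H i.castSucc.succ).map (QuotientGroup.mk' (H 1))).relIndex
          ((H i.succ.succ).map (QuotientGroup.mk' (H 1))) = p ^ m) ∨
        (((H i.castSucc.succ).map (QuotientGroup.mk' (H 1))).relIndex
          ((H i.succ.succ).map (QuotientGroup.mk' (H 1)))).Coprime p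
      rw [Fin.succ_castSucc, e]
      exact hidx i.succ

/-- `H` is a `p`-complement: order prime to `p`, index a power of `p` -/
def IsPCompl (p : ℕ) {G : Type*} [Group G] (H : Subgroup G) : Prop :=
  (Nat.card H).Coprime p ∧ ∃ n : ℕ, H.index = p ^ n

section
set_option linter.unusedSectionVars false
variable {G : Type u} [Group G] [Finite G] {p : ℕ} [hp : Fact p.Prime]

/-- a `p'`-subgroup containing a `p`-complement equals it -/
theorem IsPCompl.eq_of_le {H K : Subgroup G} (hH : IsPCompl p H) (hle : H ≤ K)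
    (hK : (Nat.card K).Coprime p) : H = K := by
  apply Subgroup.eq_of_le_of_card_ge hle
  obtain ⟨n, hn⟩ := hH.2
  have h1 := H.card_mul_index
  rw [hn] at h1
  have h2 : Nat.card K ∣ Nat.card H * p ^ n := by rw [h1]; exact Subgroup.card_subgroup_dvd_card K
  have h3 : Nat.card K ∣ Nat.card H :=
    Nat.Coprime.dvd_of_dvd_mul_right (Nat.Coprime.pow_right n hK) h2
  exact Nat.le_of_dvd Nat.card_pos h3

theorem IsPCompl.card_eq {H K : Subgroup G} (hH : IsPCompl p H) (hK : IsPCompl p K) :
    Nat.card H = Nat.card K := by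
  obtain ⟨n, hn⟩ := hH.2
  obtain ⟨m, hm⟩ := hK.2
  have h1 := H.card_mul_index
  have h2 := K.card_mul_index
  rw [hn] at h1
  rw [hm] at h2
  have h3 : p ^ n * Nat.card H = p ^ m * Nat.card K := by
    rw [mul_comm, h1, mul_comm, h2]
  exact eq_of_pow_mul_eq hp.out h3 hH.1 hK.1

theorem IsPCompl.map_mk' {H : Subgroup G} (hH : IsPCompl p H) (N : Subgroup G) [N.Normal] :
    IsPCompl p (H.map (QuotientGroup.mk' N)) := by
  refine ⟨Nat.Coprime.coprime_dvd_left (Subgroup.card_map_dvd H _) hH.1, ?_⟩
  obtain ⟨n, hn⟩ := hH.2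
  have h1 := Subgroup.index_map_dvd H (QuotientGroup.mk'_surjective N)
  rw [hn] at h1
  obtain ⟨j, -, hj⟩ := (Nat.dvd_prime_pow hp.out).1 h1
  exact ⟨j, hj⟩

/-- existence and dominance for a group with a `p`-chain of length `n` -/
theorem pCompl_aux : ∀ (n : ℕ) (G : Type u) [Group G] [Finite G], HasPChain p n G →
    (∃ H : Subgroup G, IsPCompl p H) ∧
    ∀ H U : Subgroup G, IsPCompl p H → (Nat.card U).Coprime p →
      ∃ g : G, U.map (MulAut.conj g).toMonoidHom ≤ H := by
  intro n
  induction n with
  | zero =>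
    intro G _ _ hch
    have hss := hasPChain_zero hch
    refine ⟨⟨⊥, ?_, 0, ?_⟩, ?_⟩
    · rw [Subgroup.card_bot]; exact Nat.coprime_one_left p
    · rw [pow_zero, Subgroup.index_eq_one]
      exact Subsingleton.elim _ _
    · intro H U _ _
      refine ⟨1, ?_⟩
      intro x _
      have : x = 1 := Subsingleton.elim _ _
      rw [this]; exact H.one_mem
  | succ n ih =>
    intro G _ _ hch
    obtain ⟨N, hNn, hNcard, hq⟩ := hasPChain_quotient hch
    obtain ⟨⟨Kb, hKb⟩, hdom⟩ := ih (G ⧸ N) hq
    constructor
    · -- existence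
      set K := Kb.comap (QuotientGroup.mk' N) with hKdef
      have hNK : N ≤ K := Cfsg.Agent.Lib.H1.le_comap_mk' N Kb
      have hKcard : Nat.card K = Nat.card Kb * Nat.card N := Cfsg.Agent.Lib.H1.card_comap_mk' N Kb
      have hKidx : K.index = Kb.index :=
        Subgroup.index_comap_of_surjective Kb (QuotientGroup.mk'_surjective N)
      obtain ⟨a, ha⟩ := hKb.2
      rcases hNcard with ⟨m, hm⟩ | hcop
      · -- `N` a `p`-group: complement in `K`
        have hrel : N.relIndex K = Nat.card Kb := by
          have h1 := card_mul_relIndex hNK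
          rw [hKcard, mul_comm (Nat.card Kb)] at h1
          exact Nat.eq_of_mul_eq_mul_left Nat.card_pos h1
        have hKN : K ≤ Subgroup.normalizer (N : Set G) := by
          rw [Subgroup.normalizer_eq_top_iff.2 hNn]; exact le_top
        have hc : (Nat.card N).Coprime (N.relIndex K) := by
          rw [hrel, hm]
          exact Nat.Coprime.pow_left m hKb.1.symm
        obtain ⟨L, hLK, -, -, hLcard⟩ := exists_complement_internal hNK hKN hc
        refine ⟨L, ?_, m + a, ?_⟩
        · rw [hLcard, hrel]; exact hKb.1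
        · have h1 := L.card_mul_index
          have h2 := K.card_mul_index
          rw [hKcard, hKidx, ha, hm] at h2
          rw [hLcard, hrel, ← h2] at h1
          have h3 : Nat.card Kb * L.index = Nat.card Kb * p ^ (m + a) := by
            rw [h1, pow_add]; ring
          exact Nat.eq_of_mul_eq_mul_left Nat.card_pos h3
      · refine ⟨K, ?_, a, ?_⟩
        · rw [hKcard]; exact Nat.Coprime.mul_left hKb.1 hcop
        · rw [hKidx, ha]
    · -- dominance
      intro H U hH hU
      have hHb := hH.map_mk' N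
      have hUb : (Nat.card (U.map (QuotientGroup.mk' N))).Coprime p :=
        Nat.Coprime.coprime_dvd_left (Subgroup.card_map_dvd U _) hU
      obtain ⟨gb, hgb⟩ := hdom _ _ hHb hUb
      obtain ⟨g, rfl⟩ := QuotientGroup.mk_surjective gb
      -- `U1 = g U g⁻¹ ≤ H ⊔ N`
      have hU1 : U.map (MulAut.conj g).toMonoidHom ≤ H ⊔ N := by
        rintro _ ⟨u, hu, rfl⟩
        have h1 : (QuotientGroup.mk' N) (g * u * g⁻¹) ∈ H.map (QuotientGroup.mk' N) := by
          apply hgb
          refine ⟨QuotientGroup.mk' N u, ⟨u, hu, rfl⟩, ?_⟩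
          simp [MulAut.conj_apply]
        rw [← Subgroup.mem_comap, Cfsg.Agent.Lib.H1.comap_map_mk'] at h1
        simpa [MulAut.conj_apply] using h1
      have hU1card : (Nat.card (U.map (MulAut.conj g).toMonoidHom)).Coprime p := by
        rw [card_map_conj]; exact hU
      rcases hNcard with ⟨m, hm⟩ | hcop
      · -- `N` a `p`-group
        have hNp : IsPGroup p N := IsPGroup.of_card hm
        have hdHN : H ⊓ N = ⊥ := by
          apply disjoint_iff.1
          apply Subgroup.disjoint_of_coprime_natCard
          rw [hm]; exact Nat.Coprime.pow_right m hH.1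
        set U1 := U.map (MulAut.conj g).toMonoidHom with hU1def
        set L := (N ⊔ U1) ⊓ H with hLdef
        have hsup : N ⊔ U1 = N ⊔ L := by
          apply le_antisymm
          · apply sup_le le_sup_left
            intro u hu
            have h1 := hU1 hu
            rw [Subgroup.mem_sup_of_normal_right] at h1
            obtain ⟨h, hh, n, hn, rfl⟩ := h1
            have hhL : h ∈ L := by
              refine ⟨?_, hh⟩
              have : h = (h * n) * n⁻¹ := by group
              rw [this]
              exact Subgroup.mul_mem _ (Subgroup.mem_sup_right hu)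
                (Subgroup.inv_mem _ (Subgroup.mem_sup_left hn))
            exact Subgroup.mul_mem _ (Subgroup.mem_sup_right hhL) (Subgroup.mem_sup_left hn)
          · exact sup_le le_sup_left inf_le_left
        have hU1N : U1 ≤ Subgroup.normalizer (N : Set G) := by
          rw [Subgroup.normalizer_eq_top_iff.2 hNn]; exact le_top
        have hLN : L ≤ Subgroup.normalizer (N : Set G) := by
          rw [Subgroup.normalizer_eq_top_iff.2 hNn]; exact le_top
        have hcopU : (Nat.card N).Coprime (Nat.card U1) := by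
          rw [hm]; exact Nat.Coprime.pow_left m hU1card.symm
        have hd1 : Disjoint N U1 := Subgroup.disjoint_of_coprime_natCard hcopU
        have hd2 : Disjoint N L := by
          rw [disjoint_iff, eq_bot_iff, ← hdHN]
          exact le_inf (inf_le_right.trans inf_le_right) inf_le_left
        have hsolv : Group.IsSolvable N := by
          have : Group.IsNilpotent N := hNp.isNilpotent
          infer_instance
        obtain ⟨x, -, hx⟩ :=
          Cfsg.Agent.Lib.H1.sz_conj_internal hU1N hLN hcopU hd1 hd2 hsup (Or.inl hsolv)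
        refine ⟨x * g, ?_⟩
        rw [map_conj_mul]
        intro y hy
        rw [mem_map_conj, ← Cfsg.Agent.Lib.H1.mem_conj_smul_iff, hx] at hy
        exact hy.2
      · -- `N` a `p'`-group: `N ≤ H`
        have hsupcard : (Nat.card (H ⊔ N : Subgroup G)).Coprime p := by
          have h1 := Cfsg.Agent.Lib.H1.card_map_mk'_mul N (H ⊔ N)
          have h2 : (H ⊔ N).map (QuotientGroup.mk' N) = H.map (QuotientGroup.mk' N) := by
            rw [Subgroup.map_sup, QuotientGroup.map_mk'_self, sup_bot_eq]
          rw [h2] at h1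
          rw [← h1]
          apply Nat.Coprime.mul_left hHb.1
          exact Nat.Coprime.coprime_dvd_left (Subgroup.card_dvd_of_le inf_le_left) hcop
        have heq : H = H ⊔ N := hH.eq_of_le le_sup_left hsupcard
        exact ⟨g, by rw [heq]; exact hU1⟩

/-- `p`-complements of a finite `p`-soluble group: existence, conjugacy, dominance -/
theorem pCompl_of_isPSolvable (hG : Cfsg.IsPSolvable p G) :
    (∃ H : Subgroup G, IsPCompl p H) ∧
    (∀ H₁ H₂ : Subgroup G, IsPCompl p H₁ → IsPCompl p H₂ →
      ∃ g : G, H₂ = H₁.map (MulAut.conj g).toMonoidHom) ∧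
    (∀ H U : Subgroup G, IsPCompl p H → (Nat.card U).Coprime p →
      ∃ g : G, U.map (MulAut.conj g).toMonoidHom ≤ H) := by
  obtain ⟨n, hn⟩ := hG
  obtain ⟨hex, hdom⟩ := pCompl_aux n G hn
  refine ⟨hex, ?_, hdom⟩
  intro H₁ H₂ h1 h2
  obtain ⟨g, hg⟩ := hdom H₂ H₁ h2 h1.1
  refine ⟨g, (Subgroup.eq_of_le_of_card_ge hg ?_).symm⟩
  rw [card_map_conj, h1.card_eq h2]

end

end Cfsg.Agent.Lib.H19
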