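import Mathlib
import Cfsg.Agent.S0626
import Cfsg.Agent.Lib.H1.QdGroup

/-!
For odd `p`, a finite group with abelian Sylow 2-subgroups acts `p`-stably on each of its normal
`p`-subgroups (helper19's library, for S3753).
-/

set_option autoImplicit false

namespace Cfsg.Agent.Lib.H19.PSt

universe u

theorem isPStableOn_of_abSyl2 {X : Type u} [Group X] [Finite X] {p : ℕ} [Fact p.Prime]
    (hp : p ≠ 2) (hX : ∀ T : Sylow 2 X, IsMulCommutative T)
    (P : Subgroup X) [P.Normal] (hP : IsPGroup p P) : Cfsg.IsPStableOn p P :=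
  Cfsg.Agent.Lib.H1.QdGroup.isPStableOn_of_quotient_EA
    (fun Φ _ V _ hV => Cfsg.Agent.S0626.bb hp (X ⧸ Φ) (Cfsg.Agent.S0626.abSyl2_quot X Φ hX) V hV)
    P hP

end Cfsg.Agent.Lib.H19.PSt
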