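import Mathlib
import Cfsg.Prelude.Def_OddOrderLocal
import Cfsg.Agent.Lib.L0.TransferPC

/-!
# Normal `π`-complements from normal `r`-complements (helper19)
-/

set_option autoImplicit false

namespace Cfsg.Agent.Lib.H19.PiCompl

open scoped commutatorElement

variable {G : Type*} [Group G] [Finite G]

/-- If for each `r ∈ π` there is a normal `r`-complement containing the derived subgroup, then `G`
has a normal `π`-complement and an abelian Hall `π`-subgroup. -/
theorem exists_piComplement_and_hall (π : Finset ℕ) (hπ : ∀ r ∈ π, r.Prime)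
    (hex' : ∀ r ∈ π, ∃ K : Subgroup G, K.Normal ∧ ¬ r ∣ Nat.card K ∧
      (∃ k, K.index = r ^ k) ∧ _root_.commutator G ≤ K) :
    (∃ N : Subgroup G, N.Normal ∧ (∀ r : ℕ, r.Prime → r ∣ Nat.card ↥N → r ∉ π) ∧
      ∀ r : ℕ, r.Prime → r ∣ N.index → r ∈ π) ∧
    ∃ H : Subgroup G, Cfsg.IsPiHall (↑π : Set ℕ) H ∧ IsMulCommutative ↥H := by
  have hex : ∀ r : π, ∃ K : Subgroup G, K.Normal ∧ ¬ (r : ℕ) ∣ Nat.card K ∧
      (∃ k, K.index = (r : ℕ) ^ k) ∧ _root_.commutator G ≤ K := fun r => hex' r.1 r.2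
  choose K hKn hKc hKi hKcomm using hex
  let N : Subgroup G := ⨅ r : π, K r
  have hNn : N.Normal := Subgroup.normal_iInf_normal hKn
  have hNcard : ∀ r : ℕ, r.Prime → r ∣ Nat.card ↥N → r ∉ π := by
    intro r hr hrd hrπ
    apply hKc ⟨r, hrπ⟩
    exact hrd.trans (Subgroup.card_dvd_of_le (iInf_le _ _))
  have hNidx : ∀ r : ℕ, r.Prime → r ∣ N.index → r ∈ π := by
    intro q hq hqd
    by_contra hqπ
    have : Fact q.Prime := ⟨hq⟩
    obtain ⟨Q⟩ : Nonempty (Sylow q G) := inferInstance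
    have hQN : (Q : Subgroup G) ≤ N := by
      intro g hg
      rw [Subgroup.mem_iInf]
      intro r
      obtain ⟨k, hk⟩ := hKi r
      have := hKn r
      apply Cfsg.Agent.Lib.L0.mem_of_coprime_orderOf_of_index_pow (K r) k hk g
      obtain ⟨j, hj⟩ := (IsPGroup.iff_orderOf.1 Q.2) ⟨g, hg⟩
      rw [Subgroup.orderOf_mk] at hj
      rw [hj]
      apply Nat.Coprime.pow_left
      rw [Nat.coprime_primes hq (hπ r r.2)]
      rintro rfl
      exact hqπ r.2
    exact Q.not_dvd_index (hqd.trans (Subgroup.index_dvd_of_le hQN))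
  refine ⟨⟨N, hNn, hNcard, hNidx⟩, ?_⟩
  have hcop : Nat.Coprime (Nat.card N) N.index := by
    by_contra hnc
    obtain ⟨q, hq, hq1, hq2⟩ := Nat.Prime.not_coprime_iff_dvd.1 hnc
    exact hNcard q hq hq1 (hNidx q hq hq2)
  obtain ⟨H, hH⟩ := Subgroup.exists_right_complement'_of_coprime hcop
  refine ⟨H, ⟨?_, ?_⟩, ?_⟩
  · intro q hq hqd
    apply hNidx q hq
    rw [hH.symm.index_eq_card]; exact hqd
  · intro q hq hqπ hqd
    apply hNcard q hq _ hqπ
    rw [← hH.index_eq_card]; exact hqd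
  · refine ⟨⟨fun a b => ?_⟩⟩
    have h1 : ⁅(a : G), (b : G)⁆ ∈ N := by
      rw [Subgroup.mem_iInf]
      intro r
      apply hKcomm r
      rw [commutator_def]
      exact Subgroup.commutator_mem_commutator (Subgroup.mem_top _) (Subgroup.mem_top _)
    have h3 : ⁅(a : G), (b : G)⁆ ∈ H := by
      rw [commutatorElement_def]
      exact H.mul_mem (H.mul_mem (H.mul_mem a.2 b.2) (H.inv_mem a.2)) (H.inv_mem b.2)
    have h4 := Subgroup.disjoint_def.1 hH.disjoint h1 h3
    rw [commutatorElement_eq_one_iff_mul_comm] at h4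
    exact Subtype.ext h4

end Cfsg.Agent.Lib.H19.PiCompl
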