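import Mathlib

/-!
# Fixed-point spaces in primitive soluble linear groups, part 1: generalities (helper19)

* `fixS ρ g` : the fixed space of `ρ g`; `FixB ρ B` : the common fixed space of a subgroup.
* `two_mul_finrank_fixS_le` : `2 dim C_V(g) ≤ dim C_V([g,h]) + dim V`.
* `iSupIndep_FixB` : the common fixed spaces of pairwise commuting subgroups with pairwise trivial
  intersections of fixed spaces are independent.
-/

set_option autoImplicit false
set_option linter.unusedSectionVars false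

namespace Cfsg.Agent.Lib.H19.PrimFix

open Module

variable {F : Type*} [Field F] {Γ : Type*} [Group Γ] {V : Type*} [AddCommGroup V] [Module F V]

theorem rho_inv_apply (ρ : Representation F Γ V) (g : Γ) (v : V) : ρ g⁻¹ (ρ g v) = v := by
  rw [← Module.End.mul_apply, ← map_mul, inv_mul_cancel, map_one, Module.End.one_apply]

theorem rho_apply_inv (ρ : Representation F Γ V) (g : Γ) (v : V) : ρ g (ρ g⁻¹ v) = v := by
  rw [← Module.End.mul_apply, ← map_mul, mul_inv_cancel, map_one, Module.End.one_apply]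

/-- `ρ g` as a linear equivalence -/
def rhoEquiv (ρ : Representation F Γ V) (g : Γ) : V ≃ₗ[F] V :=
  LinearEquiv.ofLinearMap (ρ g) (ρ g⁻¹) (LinearMap.ext fun v => rho_apply_inv ρ g v)
    (LinearMap.ext fun v => rho_inv_apply ρ g v)

theorem rhoEquiv_coe (ρ : Representation F Γ V) (g : Γ) :
    ((rhoEquiv ρ g : V ≃ₗ[F] V) : V →ₗ[F] V) = ρ g := rfl

/-- the fixed space of an element -/
def fixS (ρ : Representation F Γ V) (g : Γ) : Submodule F V :=
  LinearMap.eqLocus (ρ g) LinearMap.id

theorem mem_fixS {ρ : Representation F Γ V} {g : Γ} {v : V} : v ∈ fixS ρ g ↔ ρ g v = v := by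
  rw [fixS, LinearMap.mem_eqLocus, LinearMap.id_apply]

theorem fixS_one (ρ : Representation F Γ V) : fixS ρ 1 = ⊤ := by
  rw [eq_top_iff]
  intro v _
  rw [mem_fixS, map_one, Module.End.one_apply]

theorem fixS_inv (ρ : Representation F Γ V) (g : Γ) : fixS ρ g⁻¹ = fixS ρ g := by
  ext v
  rw [mem_fixS, mem_fixS]
  constructor
  · intro h
    have := rho_apply_inv ρ g v
    rw [h] at this
    exact this
  · intro h
    have := rho_inv_apply ρ g v
    rw [h] at this
    exact this

theorem fixS_conj (ρ : Representation F Γ V) (h g : Γ) :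
    fixS ρ (h * g * h⁻¹) = (fixS ρ g).map (ρ h) := by
  ext v
  rw [mem_fixS, Submodule.mem_map]
  constructor
  · intro hv
    refine ⟨ρ h⁻¹ v, ?_, rho_apply_inv ρ h v⟩
    rw [mem_fixS]
    have h1 : ρ h⁻¹ (ρ (h * g * h⁻¹) v) = ρ h⁻¹ v := by rw [hv]
    rw [map_mul, map_mul, Module.End.mul_apply, Module.End.mul_apply, rho_inv_apply] at h1
    exact h1
  · rintro ⟨w, hw, rfl⟩
    rw [mem_fixS] at hw
    rw [map_mul, map_mul, Module.End.mul_apply, Module.End.mul_apply, rho_inv_apply, hw]

theorem finrank_fixS_conj (ρ : Representation F Γ V) (h g : Γ) :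
    finrank F (fixS ρ (h * g * h⁻¹)) = finrank F (fixS ρ g) := by
  rw [fixS_conj, ← rhoEquiv_coe]
  exact LinearEquiv.finrank_map_eq (rhoEquiv ρ h) (fixS ρ g)

theorem fixS_inf_le (ρ : Representation F Γ V) (g k : Γ) :
    fixS ρ g ⊓ fixS ρ k ≤ fixS ρ (g * k) := by
  intro v hv
  rw [Submodule.mem_inf, mem_fixS, mem_fixS] at hv
  rw [mem_fixS, map_mul, Module.End.mul_apply, hv.2, hv.1]

/-- the commutator trick -/
theorem two_mul_finrank_fixS_le [FiniteDimensional F V] (ρ : Representation F Γ V) (g h : Γ) :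
    2 * finrank F (fixS ρ g) ≤ finrank F (fixS ρ (g * h * g⁻¹ * h⁻¹)) + finrank F V := by
  have e : g * h * g⁻¹ * h⁻¹ = g * (h * g⁻¹ * h⁻¹) := by group
  have h1 : fixS ρ g ⊓ fixS ρ (h * g⁻¹ * h⁻¹) ≤ fixS ρ (g * h * g⁻¹ * h⁻¹) := by
    rw [e]
    exact fixS_inf_le ρ g _
  have h2 := Submodule.finrank_mono h1
  have h3 := Submodule.finrank_sup_add_finrank_inf_eq (fixS ρ g) (fixS ρ (h * g⁻¹ * h⁻¹))
  have h4 : finrank F (fixS ρ (h * g⁻¹ * h⁻¹)) = finrank F (fixS ρ g) := by
    rw [finrank_fixS_conj, fixS_inv]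
  have h5 : finrank F ↥(fixS ρ g ⊔ fixS ρ (h * g⁻¹ * h⁻¹)) ≤ finrank F V := Submodule.finrank_le _
  omega

/-- the common fixed space of a subgroup -/
def FixB (ρ : Representation F Γ V) (B : Subgroup Γ) : Submodule F V where
  carrier := {v | ∀ b ∈ B, ρ b v = v}
  add_mem' := by
    intro v w hv hw b hb
    rw [map_add, hv b hb, hw b hb]
  zero_mem' := fun b _ => map_zero _
  smul_mem' := by
    intro c v hv b hb
    rw [map_smul, hv b hb]

theorem mem_FixB {ρ : Representation F Γ V} {B : Subgroup Γ} {v : V} :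
    v ∈ FixB ρ B ↔ ∀ b ∈ B, ρ b v = v := Iff.rfl

theorem FixB_anti (ρ : Representation F Γ V) {B B' : Subgroup Γ} (h : B ≤ B') :
    FixB ρ B' ≤ FixB ρ B := fun _ hv b hb => hv b (h hb)

/-- the stabilizer of a vector -/
def stabV (ρ : Representation F Γ V) (v : V) : Subgroup Γ where
  carrier := {g | ρ g v = v}
  mul_mem' := by
    intro a b ha hb
    show ρ (a * b) v = v
    rw [map_mul, Module.End.mul_apply]
    have ha' : ρ a v = v := ha
    have hb' : ρ b v = v := hb
    rw [hb', ha']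
  one_mem' := by
    show ρ 1 v = v
    rw [map_one, Module.End.one_apply]
  inv_mem' := by
    intro a ha
    show ρ a⁻¹ v = v
    have ha' : ρ a v = v := ha
    have := rho_inv_apply ρ a v
    rw [ha'] at this
    exact this

theorem mem_stabV {ρ : Representation F Γ V} {v : V} {g : Γ} : g ∈ stabV ρ v ↔ ρ g v = v := Iff.rfl

theorem FixB_sup (ρ : Representation F Γ V) (B₁ B₂ : Subgroup Γ) :
    FixB ρ (B₁ ⊔ B₂) = FixB ρ B₁ ⊓ FixB ρ B₂ := by
  apply le_antisymm
  · exact le_inf (FixB_anti ρ le_sup_left) (FixB_anti ρ le_sup_right)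
  · intro v hv
    rw [Submodule.mem_inf] at hv
    have h1 : B₁ ⊔ B₂ ≤ stabV ρ v := sup_le (fun b hb => hv.1 b hb) (fun b hb => hv.2 b hb)
    exact fun b hb => h1 hb

theorem FixB_zpowers (ρ : Representation F Γ V) (a : Γ) : FixB ρ (Subgroup.zpowers a) = fixS ρ a := by
  ext v
  rw [mem_fixS]
  constructor
  · intro h
    exact h a (Subgroup.mem_zpowers a)
  · intro h
    have h1 : Subgroup.zpowers a ≤ stabV ρ v := by
      rw [Subgroup.zpowers_le]
      exact h
    exact fun b hb => h1 hb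

theorem FixB_map_conj (ρ : Representation F Γ V) (B : Subgroup Γ) (g : Γ) :
    FixB ρ (B.map (MulAut.conj g).toMonoidHom) = (FixB ρ B).map (ρ g) := by
  ext v
  rw [Submodule.mem_map]
  constructor
  · intro hv
    refine ⟨ρ g⁻¹ v, ?_, rho_apply_inv ρ g v⟩
    intro b hb
    have h1 := hv (g * b * g⁻¹) ⟨b, hb, rfl⟩
    have h2 : ρ g⁻¹ (ρ (g * b * g⁻¹) v) = ρ g⁻¹ v := by rw [h1]
    rw [map_mul, map_mul, Module.End.mul_apply, Module.End.mul_apply, rho_inv_apply] at h2
    exact h2
  · rintro ⟨w, hw, rfl⟩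
    rintro _ ⟨b, hb, rfl⟩
    show ρ (g * b * g⁻¹) (ρ g w) = ρ g w
    rw [map_mul, map_mul, Module.End.mul_apply, Module.End.mul_apply, rho_inv_apply, hw b hb]

/-- independence of the fixed spaces of commuting subgroups -/
theorem iSupIndep_FixB (ρ : Representation F Γ V) {ι : Type*} (C : ι → Subgroup Γ)
    (hcomm : ∀ i j, ∀ x ∈ C i, ∀ y ∈ C j, x * y = y * x)
    (hdisj : ∀ i j, i ≠ j → FixB ρ (C i) ⊓ FixB ρ (C j) = ⊥) :
    iSupIndep (fun i => FixB ρ (C i)) := by
  classical
  rw [iSupIndep_iff_finsetSum_eq_zero_imp_eq_zero]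
  intro s
  induction s using Finset.induction_on with
  | empty =>
    intro v _ _ i hi
    exact absurd hi (Finset.notMem_empty i)
  | insert i₀ s hi₀ ih =>
    intro v hv hsum
    rw [Finset.sum_insert hi₀] at hsum
    have hv₀ : v i₀ ∈ FixB ρ (C i₀) := hv i₀ (Finset.mem_insert_self _ _)
    have hvs : ∀ i ∈ s, v i ∈ FixB ρ (C i) := fun i hi => hv i (Finset.mem_insert_of_mem hi)
    -- the terms in `s` vanish
    have hzero : ∀ i ∈ s, v i = 0 := by
      intro i hi
      have hne : i ≠ i₀ := fun h => hi₀ (h ▸ hi)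
      have hmem : v i ∈ FixB ρ (C i₀) ⊓ FixB ρ (C i) := by
        rw [Submodule.mem_inf]
        refine ⟨?_, hvs i hi⟩
        intro b hb
        -- apply `ρ b - 1` to the relation
        have h1 : ∑ j ∈ s, (ρ b (v j) - v j) = 0 := by
          have h2 := congrArg (fun w => ρ b w - w) hsum
          simp only [map_add, map_sum, map_zero, sub_zero] at h2
          rw [hv₀ b hb] at h2
          rw [Finset.sum_sub_distrib]
          have h3 : v i₀ + ∑ j ∈ s, (ρ b) (v j) - (v i₀ + ∑ j ∈ s, v j) =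
              ∑ j ∈ s, (ρ b) (v j) - ∑ j ∈ s, v j := by abel
          rw [← h3]
          exact h2
        have h4 := ih (fun j => ρ b (v j) - v j) (by
          intro j hj c hc
          have hcomm' : ρ c (ρ b (v j)) = ρ b (ρ c (v j)) := by
            rw [← Module.End.mul_apply, ← Module.End.mul_apply, ← map_mul, ← map_mul,
              hcomm j i₀ c hc b hb]
          rw [map_sub, hcomm', hvs j hj c hc]) h1 i hi
        exact sub_eq_zero.mp h4
      rw [hdisj i₀ i (Ne.symm hne), Submodule.mem_bot] at hmem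
      exact hmem
    intro i hi
    rcases Finset.mem_insert.mp hi with rfl | hi'
    · rw [Finset.sum_eq_zero hzero, add_zero] at hsum
      exact hsum
    · exact hzero i hi'

end Cfsg.Agent.Lib.H19.PrimFix
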