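import Mathlib
import Cfsg.Agent.Lib.H19.PrimFix1

/-!
# Fixed-point spaces in primitive soluble linear groups, part 2 (helper19)

`fixS_eq_bot_of_mem` : in an irreducible primitive linear group, the non-identity elements of an
abelian normal subgroup have no non-zero fixed vectors.  (Elementary proof: no Clifford theory.)
-/

set_option autoImplicit false
set_option linter.unusedSectionVars false
set_option linter.style.haveILetI false

namespace Cfsg.Agent.Lib.H19.PrimFix

open Module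

variable {F : Type*} [Field F] {Γ : Type*} [Group Γ] {V : Type*} [AddCommGroup V] [Module F V]

/-- irreducibility -/
def Irr (ρ : Representation F Γ V) : Prop :=
  ∀ W : Submodule F V, (∀ g : Γ, W.map (ρ g) ≤ W) → W = ⊥ ∨ W = ⊤

/-- primitivity -/
def Prim (ρ : Representation F Γ V) : Prop :=
  ∀ (t : ℕ) (D : Fin t → Submodule F V), 2 ≤ t → (∃ m, 0 < m ∧ ∀ i, finrank F (D i) = m) →
    iSupIndep D → iSup D = ⊤ →
    (∀ g : Γ, ∃ σ : Equiv.Perm (Fin t), ∀ i, (D i).map (ρ g) = D (σ i)) → False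

theorem Prim.false_of_family {ρ : Representation F Γ V} (hprim : Prim ρ) {ι : Type*} [Finite ι]
    (D : ι → Submodule F V) (h2 : 2 ≤ Nat.card ι) {m : ℕ} (hm : 0 < m)
    (hfin : ∀ i, finrank F (D i) = m) (hind : iSupIndep D) (htop : iSup D = ⊤)
    (hperm : ∀ g : Γ, ∃ σ : Equiv.Perm ι, ∀ i, (D i).map (ρ g) = D (σ i)) : False := by
  let e := Finite.equivFin ι
  apply hprim (Nat.card ι) (fun i => D (e.symm i)) h2 ⟨m, hm, fun i => hfin _⟩
    (hind.comp e.symm.injective)
  · rw [← htop]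
    exact e.symm.iSup_comp (g := D)
  · intro g
    obtain ⟨σ, hσ⟩ := hperm g
    refine ⟨(e.symm.trans σ).trans e, fun i => ?_⟩
    rw [hσ]
    simp

/-- the conjugate of a subgroup -/
def cj (B : Subgroup Γ) (g : Γ) : Subgroup Γ := B.map (MulAut.conj g).toMonoidHom

theorem mem_cj {B : Subgroup Γ} {g x : Γ} : x ∈ cj B g ↔ g⁻¹ * x * g ∈ B := by
  constructor
  · rintro ⟨b, hb, rfl⟩
    show g⁻¹ * (g * b * g⁻¹) * g ∈ B
    have e : g⁻¹ * (g * b * g⁻¹) * g = b := by group
    rw [e]
    exact hb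
  · intro h
    refine ⟨g⁻¹ * x * g, h, ?_⟩
    show g * (g⁻¹ * x * g) * g⁻¹ = x
    group

theorem cj_one (B : Subgroup Γ) : cj B 1 = B := by
  ext x
  rw [mem_cj, inv_one, one_mul, mul_one]

theorem cj_cj (B : Subgroup Γ) (g h : Γ) : cj (cj B h) g = cj B (g * h) := by
  ext x
  rw [mem_cj, mem_cj, mem_cj]
  have e : h⁻¹ * (g⁻¹ * x * g) * h = (g * h)⁻¹ * x * (g * h) := by group
  rw [e]

theorem cj_mono {B B' : Subgroup Γ} (h : B ≤ B') (g : Γ) : cj B g ≤ cj B' g :=
  Subgroup.map_mono h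

theorem cj_le_normal {B A : Subgroup Γ} [A.Normal] (h : B ≤ A) (g : Γ) : cj B g ≤ A := by
  intro x hx
  rw [mem_cj] at hx
  have h1 := ‹A.Normal›.conj_mem _ (h hx) g
  have e : g * (g⁻¹ * x * g) * g⁻¹ = x := by group
  rwa [e] at h1

theorem FixB_cj (ρ : Representation F Γ V) (B : Subgroup Γ) (g : Γ) :
    FixB ρ (cj B g) = (FixB ρ B).map (ρ g) := FixB_map_conj ρ B g

theorem map_ne_bot (ρ : Representation F Γ V) {W : Submodule F V} (hW : W ≠ ⊥) (g : Γ) :
    W.map (ρ g) ≠ ⊥ := by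
  intro h
  apply hW
  rw [eq_bot_iff]
  intro w hw
  have h1 : ρ g w ∈ W.map (ρ g) := Submodule.mem_map_of_mem hw
  rw [h, Submodule.mem_bot] at h1
  have h2 := rho_inv_apply ρ g w
  rw [h1, map_zero] at h2
  rw [Submodule.mem_bot]
  exact h2.symm

theorem finrank_map_rho (ρ : Representation F Γ V) (W : Submodule F V) (g : Γ) :
    finrank F (W.map (ρ g)) = finrank F W := by
  rw [← rhoEquiv_coe]
  exact LinearEquiv.finrank_map_eq (rhoEquiv ρ g) W

theorem fixS_eq_bot_of_mem [Finite Γ] [FiniteDimensional F V] {ρ : Representation F Γ V}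
    (hfaith : ∀ g, ρ g = 1 → g = 1) (hirr : Irr ρ) (hprim : Prim ρ)
    (A : Subgroup Γ) [A.Normal] (hA : ∀ a ∈ A, ∀ b ∈ A, a * b = b * a) {a : Γ} (ha : a ∈ A)
    (ha1 : a ≠ 1) : fixS ρ a = ⊥ := by
  classical
  by_contra hne
  -- a maximal subgroup with non-zero fixed space
  obtain ⟨B, hB, hBmax⟩ := WellFounded.has_min
    (measure (fun B : Subgroup Γ => Nat.card Γ - Nat.card B)).wf
    {B : Subgroup Γ | B ≤ A ∧ a ∈ B ∧ FixB ρ B ≠ ⊥}
    ⟨Subgroup.zpowers a, by rw [Subgroup.zpowers_le]; exact ha, Subgroup.mem_zpowers a, by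
      rw [FixB_zpowers]; exact hne⟩
  obtain ⟨hBA, haB, hBfix⟩ := hB
  have hmax : ∀ B' : Subgroup Γ, B ≤ B' → B' ≤ A → FixB ρ B' ≠ ⊥ → B' = B := by
    intro B' hBB' hB'A hB'fix
    have h1 : ¬ (Nat.card Γ - Nat.card B' < Nat.card Γ - Nat.card B) :=
      hBmax B' ⟨hB'A, hBB' haB, hB'fix⟩
    have h2 : Nat.card B' ≤ Nat.card Γ := Subgroup.card_le_card_group B'
    have h3 : Nat.card B ≤ Nat.card B' := Subgroup.card_le_of_le hBB'
    have h4 : Nat.card B' ≤ Nat.card B := by omega
    exact (Subgroup.eq_of_le_of_card_ge hBB' h4).symm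
  -- the conjugates are maximal too
  have hcjA : ∀ g, cj B g ≤ A := fun g => cj_le_normal hBA g
  have hcjfix : ∀ g, FixB ρ (cj B g) ≠ ⊥ := by
    intro g
    rw [FixB_cj]
    exact map_ne_bot ρ hBfix g
  have hcjmax : ∀ g (B' : Subgroup Γ), cj B g ≤ B' → B' ≤ A → FixB ρ B' ≠ ⊥ → B' = cj B g := by
    intro g B' h1 h2 h3
    have h4 : B ≤ cj B' g⁻¹ := by
      have := cj_mono h1 g⁻¹
      rwa [cj_cj, inv_mul_cancel, cj_one] at this
    have h5 := hmax (cj B' g⁻¹) h4 (cj_le_normal h2 _) (by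
      rw [FixB_cj]
      exact map_ne_bot ρ h3 _)
    rw [← h5, cj_cj, mul_inv_cancel, cj_one]
  by_cases hall : ∀ g, cj B g = B
  · -- `B` is normal: its fixed space is invariant
    have h1 : FixB ρ B = ⊥ ∨ FixB ρ B = ⊤ := by
      apply hirr
      intro g
      rw [← FixB_cj, hall g]
    rcases h1 with h1 | h1
    · exact hBfix h1
    · apply ha1
      apply hfaith
      apply LinearMap.ext
      intro v
      have hv : v ∈ FixB ρ B := by rw [h1]; exact Submodule.mem_top
      rw [Module.End.one_apply]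
      exact hv a haB
  · push Not at hall
    obtain ⟨g₀, hg₀⟩ := hall
    -- the family of conjugates
    let ι := ↥(Set.range (cj B))
    let D : ι → Submodule F V := fun C => FixB ρ C.val
    have hιA : ∀ C : ι, C.val ≤ A := by
      rintro ⟨C, g, rfl⟩
      exact hcjA g
    have hιmax : ∀ (C : ι) (B' : Subgroup Γ), C.val ≤ B' → B' ≤ A → FixB ρ B' ≠ ⊥ → B' = C.val := by
      rintro ⟨C, g, rfl⟩
      exact hcjmax g
    have hdisj : ∀ C₁ C₂ : ι, C₁ ≠ C₂ → FixB ρ C₁.val ⊓ FixB ρ C₂.val = ⊥ := by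
      intro C₁ C₂ hne'
      by_contra hcon
      rw [← FixB_sup] at hcon
      have hsupA : C₁.val ⊔ C₂.val ≤ A := sup_le (hιA C₁) (hιA C₂)
      have h1 := hιmax C₁ _ le_sup_left hsupA hcon
      have h2 := hιmax C₂ _ le_sup_right hsupA hcon
      apply hne'
      apply Subtype.ext
      rw [← h1, h2]
    have hind : iSupIndep D := by
      apply iSupIndep_FixB ρ (fun C : ι => C.val)
      · intro i j x hx y hy
        exact hA x (hιA i hx) y (hιA j hy)
      · exact hdisj
    -- the permutations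
    have hmemι : ∀ (C : ι) (g : Γ), cj C.val g ∈ Set.range (cj B) := by
      rintro ⟨C, h, rfl⟩ g
      exact ⟨g * h, (cj_cj B g h).symm⟩
    let σ : Γ → Equiv.Perm ι := fun g =>
      { toFun := fun C => ⟨cj C.val g, hmemι C g⟩
        invFun := fun C => ⟨cj C.val g⁻¹, hmemι C g⁻¹⟩
        left_inv := by
          intro C
          apply Subtype.ext
          show cj (cj C.val g) g⁻¹ = C.val
          rw [cj_cj, inv_mul_cancel, cj_one]
        right_inv := by
          intro C
          apply Subtype.ext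
          show cj (cj C.val g⁻¹) g = C.val
          rw [cj_cj, mul_inv_cancel, cj_one] }
    have hσ : ∀ (g : Γ) (C : ι), (D C).map (ρ g) = D (σ g C) := by
      intro g C
      show (FixB ρ C.val).map (ρ g) = FixB ρ (cj C.val g)
      rw [FixB_cj]
    have hB0 : B ∈ Set.range (cj B) := ⟨1, cj_one B⟩
    -- the sum is everything
    have htop : iSup D = ⊤ := by
      have h1 : iSup D = ⊥ ∨ iSup D = ⊤ := by
        apply hirr
        intro g
        rw [Submodule.map_iSup]
        apply iSup_le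
        intro C
        rw [hσ]
        exact le_iSup D (σ g C)
      rcases h1 with h1 | h1
      · exfalso
        apply hBfix
        rw [eq_bot_iff, ← h1]
        exact le_iSup D ⟨B, hB0⟩
      · exact h1
    -- dimensions
    have hfin : ∀ C : ι, finrank F (D C) = finrank F (FixB ρ B) := by
      rintro ⟨C, g, rfl⟩
      show finrank F (FixB ρ (cj B g)) = _
      rw [FixB_cj, finrank_map_rho]
    have hm : 0 < finrank F (FixB ρ B) := by
      rw [Module.finrank_pos_iff]
      exact Submodule.nontrivial_iff_ne_bot.mpr hBfix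
    have h2 : 2 ≤ Nat.card ι := by
      haveI : Nontrivial ι := ⟨⟨⟨B, hB0⟩, ⟨cj B g₀, g₀, rfl⟩, fun h => hg₀ (congrArg Subtype.val h).symm⟩⟩
      exact Finite.one_lt_card_iff_nontrivial.mpr inferInstance
    exact hprim.false_of_family D h2 hm hfin hind htop (fun g => ⟨σ g, hσ g⟩)

end Cfsg.Agent.Lib.H19.PrimFix
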