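import Mathlib
import Cfsg.Agent.Lib.H19.PrimFix2

/-!
# Fixed-point spaces in primitive soluble linear groups, part 3: the 3/4 bound (helper19)

`fix_bound` : for a finite soluble group `Γ` acting faithfully, irreducibly and primitively on a
finite-dimensional space `V`, every `g ≠ 1` has `4 dim C_V(g) ≤ 3 dim V`.
-/

set_option autoImplicit false
set_option linter.unusedSectionVars false

namespace Cfsg.Agent.Lib.H19.PrimFix

open Module

variable {F : Type*} [Field F] {Γ : Type*} [Group Γ] {V : Type*} [AddCommGroup V] [Module F V]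

/-- a subgroup of maximal order with a given property -/
theorem exists_max_card [Finite Γ] (P : Subgroup Γ → Prop) (h : ∃ B, P B) :
    ∃ B, P B ∧ ∀ B', P B' → B ≤ B' → B' = B := by
  obtain ⟨B0, hB0⟩ := h
  obtain ⟨B, hB, hBmax⟩ := WellFounded.has_min
    (measure (fun B : Subgroup Γ => Nat.card Γ - Nat.card B)).wf
    {B : Subgroup Γ | P B} ⟨B0, hB0⟩
  refine ⟨B, hB, fun B' hB' hle => ?_⟩
  have h1 : ¬ (Nat.card Γ - Nat.card B' < Nat.card Γ - Nat.card B) := hBmax B' hB'
  have h2 : Nat.card B' ≤ Nat.card Γ := Subgroup.card_le_card_group B'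
  have h3 : Nat.card B ≤ Nat.card Γ := Subgroup.card_le_card_group B
  have h4 : Nat.card B' ≤ Nat.card B := by omega
  exact (Subgroup.eq_of_le_of_card_ge hle h4).symm

/-- all non-identity elements have a fixed space of at most half the dimension -/
def Small (ρ : Representation F Γ V) (K : Subgroup Γ) : Prop :=
  ∀ k ∈ K, k ≠ 1 → 2 * finrank F (fixS ρ k) ≤ finrank F V

/-- the derived series of a subgroup, inside the ambient group -/
def dser (H : Subgroup Γ) : ℕ → Subgroup Γ
  | 0 => H
  | (i + 1) => ⁅dser H i, dser H i⁆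

theorem dser_zero (H : Subgroup Γ) : dser H 0 = H := rfl

theorem dser_succ (H : Subgroup Γ) (i : ℕ) : dser H (i + 1) = ⁅dser H i, dser H i⁆ := rfl

theorem dser_normal (H : Subgroup Γ) [H.Normal] (i : ℕ) : (dser H i).Normal := by
  induction i with
  | zero => rw [dser_zero]; infer_instance
  | succ i ih =>
    rw [dser_succ]
    have := ih
    infer_instance

theorem dser_le (H : Subgroup Γ) [H.Normal] (i : ℕ) : dser H i ≤ H := by
  induction i with
  | zero => rw [dser_zero]
  | succ i ih =>
    rw [dser_succ]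
    have := dser_normal H i
    exact (Subgroup.commutator_le_left (dser H i) (dser H i)).trans ih

theorem dser_le_derivedSeries (H : Subgroup Γ) (i : ℕ) : dser H i ≤ derivedSeries Γ i := by
  induction i with
  | zero => rw [derivedSeries_zero]; exact le_top
  | succ i ih =>
    rw [dser_succ, derivedSeries_succ]
    exact Subgroup.commutator_mono ih ih

theorem exists_dser_eq_bot [Group.IsSolvable Γ] (H : Subgroup Γ) : ∃ i, dser H i = ⊥ := by
  obtain ⟨n, hn⟩ := (Group.isSolvable_def Γ).mp inferInstance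
  exact ⟨n, le_bot_iff.mp ((dser_le_derivedSeries H n).trans (le_of_eq hn))⟩

theorem fix_bound [Finite Γ] [Group.IsSolvable Γ] [FiniteDimensional F V] {ρ : Representation F Γ V}
    (hfaith : ∀ g, ρ g = 1 → g = 1) (hirr : Irr ρ) (hprim : Prim ρ) {g : Γ} (hg : g ≠ 1) :
    4 * finrank F (fixS ρ g) ≤ 3 * finrank F V := by
  classical
  -- Step A : a normal abelian subgroup of maximal order
  obtain ⟨A, ⟨hAn, hAab⟩, hAmax⟩ := exists_max_card
    (fun B : Subgroup Γ => B.Normal ∧ B ≤ Subgroup.centralizer (B : Set Γ))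
    ⟨⊥, inferInstance, bot_le⟩
  have := hAn
  have hAcomm : ∀ a ∈ A, ∀ b ∈ A, a * b = b * a := fun a ha b hb =>
    (Subgroup.mem_centralizer_iff.mp (hAab hb) a ha)
  have hAfix : ∀ a ∈ A, a ≠ 1 → fixS ρ a = ⊥ := fun a ha ha1 =>
    fixS_eq_bot_of_mem hfaith hirr hprim A hAcomm ha ha1
  -- Step B : a maximal "small" normal subgroup between A and its centralizer
  obtain ⟨K, ⟨hKn, hAK, hKC, hKs⟩, hKmax⟩ := exists_max_card
    (fun K : Subgroup Γ => K.Normal ∧ A ≤ K ∧ K ≤ Subgroup.centralizer (A : Set Γ) ∧ Small ρ K)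
    ⟨A, hAn, le_rfl, hAab, fun k hk hk1 => by rw [hAfix k hk hk1]; simp⟩
  have := hKn
  -- Step C : K is self-centralizing
  have hCK : Subgroup.centralizer (K : Set Γ) ≤ K := by
    by_contra hnot
    have hAC' : A ≤ Subgroup.centralizer (K : Set Γ) := Subgroup.le_centralizer_iff.mp hKC
    have hC'A : Subgroup.centralizer (K : Set Γ) ≤ Subgroup.centralizer (A : Set Γ) :=
      Subgroup.centralizer_le hAK
    have hinter : Subgroup.centralizer (K : Set Γ) ⊓ K = A := by
      apply hAmax (Subgroup.centralizer (K : Set Γ) ⊓ K) ⟨inferInstance, ?_⟩ (le_inf hAC' hAK)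
      intro x hx y hy
      exact hx.1 y hy.2
    have hnotA : ¬ Subgroup.centralizer (K : Set Γ) ≤ A := fun h => hnot (h.trans hAK)
    obtain ⟨i1, hi1⟩ := exists_dser_eq_bot (Subgroup.centralizer (K : Set Γ))
    have hex : ∃ i, dser (Subgroup.centralizer (K : Set Γ)) i ≤ A :=
      ⟨i1, by rw [hi1]; exact bot_le⟩
    have h0 : Nat.find hex ≠ 0 := by
      intro h0
      have := Nat.find_spec hex
      rw [h0] at this
      exact hnotA this
    obtain ⟨j, hj⟩ := Nat.exists_eq_succ_of_ne_zero h0
    have hD1 : ⁅dser (Subgroup.centralizer (K : Set Γ)) j,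
        dser (Subgroup.centralizer (K : Set Γ)) j⁆ ≤ A := by
      have := Nat.find_spec hex
      rw [hj] at this
      exact this
    have hD0 : ¬ dser (Subgroup.centralizer (K : Set Γ)) j ≤ A :=
      Nat.find_min hex (by rw [hj]; exact Nat.lt_succ_self j)
    have hDn : (dser (Subgroup.centralizer (K : Set Γ)) j).Normal := dser_normal _ j
    have hD0C : dser (Subgroup.centralizer (K : Set Γ)) j ≤ Subgroup.centralizer (K : Set Γ) :=
      dser_le _ j
    generalize dser (Subgroup.centralizer (K : Set Γ)) j = D₀ at hD1 hD0 hDn hD0C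
    -- the centre of D₀ lies in A
    have hZ : D₀ ⊓ Subgroup.centralizer (D₀ : Set Γ) ≤ A := by
      have hZA : (D₀ ⊓ Subgroup.centralizer (D₀ : Set Γ)) ⊔ A = A := by
        apply hAmax _ ⟨inferInstance, ?_⟩ le_sup_right
        rw [sup_le_iff]
        constructor
        · rw [Subgroup.le_centralizer_iff, sup_le_iff]
          constructor
          · intro x hx y hy
            exact hx.2 y hy.1
          · intro a ha z hz
            exact (hC'A (hD0C hz.1) a ha).symm
        · rw [Subgroup.le_centralizer_iff, sup_le_iff]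
          constructor
          · intro z hz
            exact hC'A (hD0C hz.1)
          · exact hAab
      exact le_sup_left.trans (le_of_eq hZA)
    have hK1 : K ⊔ D₀ = K := by
      apply hKmax (K ⊔ D₀) ⟨inferInstance, hAK.trans le_sup_left,
        sup_le hKC (hD0C.trans hC'A), ?_⟩ le_sup_left
      intro x hx hx1
      obtain ⟨k, hk, d, hd, rfl⟩ := Subgroup.mem_sup_of_normal_right.mp hx
      by_cases hdA : d ∈ A
      · exact hKs _ (K.mul_mem hk (hAK hdA)) hx1
      · have hdZ : d ∉ Subgroup.centralizer (D₀ : Set Γ) := fun h => hdA (hZ ⟨hd, h⟩)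
        rw [Subgroup.mem_centralizer_iff] at hdZ
        push Not at hdZ
        obtain ⟨d', hd', hne⟩ := hdZ
        have hw : k * (d * d' * d⁻¹) = (d * d' * d⁻¹) * k :=
          (hD0C (D₀.mul_mem (D₀.mul_mem hd hd') (D₀.inv_mem hd))) k hk
        have hz : (k * d) * d' * (k * d)⁻¹ * d'⁻¹ = d * d' * d⁻¹ * d'⁻¹ := by
          calc (k * d) * d' * (k * d)⁻¹ * d'⁻¹ = (k * (d * d' * d⁻¹)) * k⁻¹ * d'⁻¹ := by group
            _ = (d * d' * d⁻¹ * k) * k⁻¹ * d'⁻¹ := by rw [hw]
            _ = d * d' * d⁻¹ * d'⁻¹ := by group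
        have hzA : d * d' * d⁻¹ * d'⁻¹ ∈ A := by
          rw [← commutatorElement_def]
          exact hD1 (Subgroup.commutator_mem_commutator hd hd')
        have hz1 : d * d' * d⁻¹ * d'⁻¹ ≠ 1 := by
          intro h
          apply hne
          have : d * d' = d' * d := by
            calc d * d' = (d * d' * d⁻¹ * d'⁻¹) * (d' * d) := by group
              _ = d' * d := by rw [h, one_mul]
          exact this.symm
        have hfix := hAfix _ hzA hz1
        have h2 := two_mul_finrank_fixS_le ρ (k * d) d'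
        rw [hz, hfix] at h2
        simpa using h2
    have hDK : D₀ ≤ K := le_sup_right.trans (le_of_eq hK1)
    exact hD0 ((le_inf hD0C hDK).trans (le_of_eq hinter))
  -- conclusion
  by_cases hgK : g ∈ K
  · have := hKs g hgK hg
    omega
  · have hgC : g ∉ Subgroup.centralizer (K : Set Γ) := fun h => hgK (hCK h)
    rw [Subgroup.mem_centralizer_iff] at hgC
    push Not at hgC
    obtain ⟨k, hk, hne⟩ := hgC
    have hzK : g * k * g⁻¹ * k⁻¹ ∈ K := K.mul_mem (hKn.conj_mem k hk g) (K.inv_mem hk)
    have hz1 : g * k * g⁻¹ * k⁻¹ ≠ 1 := by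
      intro h
      apply hne
      have : g * k = k * g := by
        calc g * k = (g * k * g⁻¹ * k⁻¹) * (k * g) := by group
          _ = k * g := by rw [h, one_mul]
      exact this.symm
    have h1 := hKs _ hzK hz1
    have h2 := two_mul_finrank_fixS_le ρ g k
    omega

end Cfsg.Agent.Lib.H19.PrimFix
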