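import Mathlib
import Cfsg.Prelude.Def_DStar
import Cfsg.Prelude.Def_PLocal
import Cfsg.Agent.Lib.H1.PCore
import Cfsg.Agent.Lib.H15.DStarNormal
import Cfsg.Agent.Lib.H15.Conj
import Cfsg.Agent.Lib.H19.PCoreSub
import Cfsg.Agent.Lib.H19.DStarTransport
import Cfsg.Agent.Lib.H19.DStarPush
import Cfsg.Agent.Lib.H19.PStableAb

/-!
Primitive pairs of characteristic `p` (Kurzweil–Stellmacher 10.1): for odd `p` and `p`-stable
`M₁, M₂`, the subgroup `D*(O_p(M₁) O_p(M₂))` is normal in both (helper19's library, for S3753).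
-/

set_option autoImplicit false
set_option linter.style.haveILetI false
open scoped commutatorElement

namespace Cfsg.Agent.Lib.H19.PP

open Cfsg.Agent.Lib.H15 Cfsg.Agent.Lib.H19.DSt

variable {G : Type*} [Group G]

theorem le_normalizer_map_subtype {M : Subgroup G} (N : Subgroup ↥M) [hN : N.Normal] :
    M ≤ Subgroup.normalizer ((N.map M.subtype : Subgroup G) : Set G) := by
  intro m hm
  rw [Subgroup.mem_normalizer_iff]
  intro x
  constructor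
  · rintro ⟨n, hn, rfl⟩
    exact ⟨⟨m, hm⟩ * n * ⟨m, hm⟩⁻¹, hN.conj_mem n hn ⟨m, hm⟩, by simp⟩
  · rintro ⟨n, hn, hnx⟩
    refine ⟨⟨m, hm⟩⁻¹ * n * ⟨m, hm⟩, ?_, ?_⟩
    · have := hN.conj_mem n hn ⟨m, hm⟩⁻¹
      simpa using this
    · have h1 : (M.subtype n : G) = m * x * m⁻¹ := hnx
      simp only [map_mul, map_inv, Subgroup.subtype_apply] at h1 ⊢
      rw [h1]
      group

theorem normalizer_inf_le_normalizer_sup (H K : Subgroup G) :
    Subgroup.normalizer (H : Set G) ⊓ Subgroup.normalizer (K : Set G) ≤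
      Subgroup.normalizer ((H ⊔ K : Subgroup G) : Set G) := by
  intro d hd
  have h1 : d ∈ Subgroup.normalizer (H : Set G) := (Subgroup.mem_inf.mp hd).1
  have h2 : d ∈ Subgroup.normalizer (K : Set G) := (Subgroup.mem_inf.mp hd).2
  rw [mem_normalizer_iff_cj_eq] at h1 h2 ⊢
  unfold cj at h1 h2 ⊢
  rw [Subgroup.map_sup, h1, h2]

/-- If `O_p(M) = 1` and `C_M(O_p(M)) ≤ O_p(M)` then `M = 1`. -/
theorem eq_bot_of_pCore_eq_bot {p : ℕ} (M : Subgroup G)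
    (hc : Subgroup.centralizer (Cfsg.pCore p ↥M : Set ↥M) ≤ Cfsg.pCore p ↥M)
    (h : Cfsg.pCore p ↥M = ⊥) : M = ⊥ := by
  rw [h] at hc
  rw [eq_bot_iff]
  intro x hx
  have h1 : (⟨x, hx⟩ : ↥M) ∈ Subgroup.centralizer ((⊥ : Subgroup ↥M) : Set ↥M) := by
    rw [Subgroup.mem_centralizer_iff]
    intro y hy
    have : y = 1 := Subgroup.mem_bot.mp hy
    rw [this]; simp
  have h2 := hc h1
  have h3 : (⟨x, hx⟩ : ↥M) = 1 := Subgroup.mem_bot.mp h2
  exact Subgroup.mem_bot.mpr (congrArg Subtype.val h3)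


/-- `O_p(M) O_p(M')` is a `p`-group when it lies in `M ∩ M'`. -/
theorem isPGroup_sup_pCore {p : ℕ} [Fact p.Prime] (M M' : Subgroup G)
    (hO : (Cfsg.pCore p ↥M).map M.subtype ⊔ (Cfsg.pCore p ↥M').map M'.subtype ≤ M ⊓ M') :
    IsPGroup p ↥((Cfsg.pCore p ↥M).map M.subtype ⊔ (Cfsg.pCore p ↥M').map M'.subtype) := by
  haveI hQn : (Cfsg.pCore p ↥M).Normal := Cfsg.Agent.Lib.H1.pCore_normal p ↥M
  have hQp : IsPGroup p ↥((Cfsg.pCore p ↥M).map M.subtype) :=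
    (Cfsg.Agent.Lib.H1.pCore_isPGroup p ↥M).map _
  have hQ'p : IsPGroup p ↥((Cfsg.pCore p ↥M').map M'.subtype) :=
    (Cfsg.Agent.Lib.H1.pCore_isPGroup p ↥M').map _
  have hMQ : M ≤ Subgroup.normalizer (((Cfsg.pCore p ↥M).map M.subtype : Subgroup G) : Set G) :=
    le_normalizer_map_subtype _
  exact IsPGroup.to_sup_of_normal_left' hQp hQ'p (((le_sup_right.trans hO).trans inf_le_left).trans hMQ)

/-- If a Sylow `p`-subgroup of `X` is abelian and `C_X(O_p(X)) ≤ O_p(X)`, then every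
`p`-subgroup of `X` lies in `O_p(X)`. -/
theorem le_pCore_of_abelian_sylow {X : Type*} [Group X] [Finite X] {p : ℕ} [Fact p.Prime]
    (hc : Subgroup.centralizer (Cfsg.pCore p X : Set X) ≤ Cfsg.pCore p X)
    (S : Sylow p X) (hS : ∀ a ∈ (S : Subgroup X), ∀ b ∈ (S : Subgroup X), a * b = b * a)
    (R : Subgroup X) (hR : IsPGroup p ↥R) : R ≤ Cfsg.pCore p X := by
  have hQS : Cfsg.pCore p X ≤ (S : Subgroup X) := Cfsg.Agent.Lib.H1.pCore_le_sylow S
  have hSQ : (S : Subgroup X) ≤ Cfsg.pCore p X := by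
    intro s hs
    apply hc
    rw [Subgroup.mem_centralizer_iff]
    intro q hq
    exact hS q (hQS hq) s hs
  have hSeq : (S : Subgroup X) = Cfsg.pCore p X := le_antisymm hSQ hQS
  haveI hSn : (S : Subgroup X).Normal := hSeq ▸ Cfsg.Agent.Lib.H1.pCore_normal p X
  obtain ⟨P, hP⟩ := hR.exists_le_sylow
  obtain ⟨g, hg⟩ := MulAction.exists_smul_eq X S P
  rw [Sylow.smul_eq_of_normal] at hg
  rw [← hSeq, hg]
  exact hP

universe u

/-- One side of the primitive pair theorem: `M` normalises `D*(O_p(M) O_p(M'))`. -/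
theorem side {G : Type u} [Group G] [Finite G] {p : ℕ} [Fact p.Prime] (hp : p ≠ 2)
    (M M' : Subgroup G)
    (hprim : ∀ A : Subgroup G, A ≠ ⊥ → A ≤ M ⊓ M' → M' ≤ Subgroup.normalizer (A : Set G) →
      M ⊓ Subgroup.normalizer (A : Set G) = M ⊓ M')
    (hc : Subgroup.centralizer (Cfsg.pCore p ↥M : Set ↥M) ≤ Cfsg.pCore p ↥M)
    (hc' : Subgroup.centralizer (Cfsg.pCore p ↥M' : Set ↥M') ≤ Cfsg.pCore p ↥M')
    (hab : ∀ S : Sylow 2 ↥M, IsMulCommutative S) (hab' : ∀ S : Sylow 2 ↥M', IsMulCommutative S)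
    (hO : (Cfsg.pCore p ↥M).map M.subtype ⊔ (Cfsg.pCore p ↥M').map M'.subtype ≤ M ⊓ M')
    (hne' : (Cfsg.pCore p ↥M').map M'.subtype ≠ ⊥) :
    M ≤ Subgroup.normalizer (Cfsg.dStarOf
      ((Cfsg.pCore p ↥M).map M.subtype ⊔ (Cfsg.pCore p ↥M').map M'.subtype) : Set G) := by
  classical
  have hst : ∀ (P : Subgroup ↥M) [P.Normal], IsPGroup p P → Cfsg.IsPStableOn p P :=
    fun P _ hP => Cfsg.Agent.Lib.H19.PSt.isPStableOn_of_abSyl2 hp hab P hP
  have hst' : ∀ (P : Subgroup ↥M') [P.Normal], IsPGroup p P → Cfsg.IsPStableOn p P :=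
    fun P _ hP => Cfsg.Agent.Lib.H19.PSt.isPStableOn_of_abSyl2 hp hab' P hP
  haveI hQn : (Cfsg.pCore p ↥M).Normal := Cfsg.Agent.Lib.H1.pCore_normal p ↥M
  haveI hQn' : (Cfsg.pCore p ↥M').Normal := Cfsg.Agent.Lib.H1.pCore_normal p ↥M'
  obtain ⟨Q, hQ⟩ : ∃ Q : Subgroup G, Q = (Cfsg.pCore p ↥M).map M.subtype := ⟨_, rfl⟩
  obtain ⟨Q', hQ'⟩ : ∃ Q' : Subgroup G, Q' = (Cfsg.pCore p ↥M').map M'.subtype := ⟨_, rfl⟩
  rw [← hQ, ← hQ'] at hO ⊢
  rw [← hQ'] at hne'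
  have hQp : IsPGroup p ↥Q := hQ ▸ (Cfsg.Agent.Lib.H1.pCore_isPGroup p ↥M).map _
  have hQ'p : IsPGroup p ↥Q' := hQ' ▸ (Cfsg.Agent.Lib.H1.pCore_isPGroup p ↥M').map _
  have hMQ : M ≤ Subgroup.normalizer (Q : Set G) := hQ ▸ le_normalizer_map_subtype _
  have hM'Q' : M' ≤ Subgroup.normalizer (Q' : Set G) := hQ' ▸ le_normalizer_map_subtype _
  have hQD : Q ≤ M ⊓ M' := le_sup_left.trans hO
  have hQ'D : Q' ≤ M ⊓ M' := le_sup_right.trans hO
  obtain ⟨BG, hBG⟩ : ∃ BG : Subgroup G, BG = Q ⊔ Q' := ⟨_, rfl⟩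
  rw [← hBG] at hO ⊢
  have hBp : IsPGroup p ↥BG :=
    hBG ▸ IsPGroup.to_sup_of_normal_left' hQp hQ'p ((hQ'D.trans inf_le_left).trans hMQ)
  have hDB : M ⊓ M' ≤ Subgroup.normalizer (BG : Set G) := by
    rw [hBG]
    refine le_trans ?_ (normalizer_inf_le_normalizer_sup Q Q')
    exact le_inf (inf_le_left.trans hMQ) (inf_le_right.trans hM'Q')
  have hBM : BG ≤ M := hO.trans inf_le_left
  have hBM' : BG ≤ M' := hO.trans inf_le_right
  -- inside `M`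
  obtain ⟨B₁, hB₁⟩ : ∃ B₁ : Subgroup ↥M, B₁ = BG.subgroupOf M := ⟨_, rfl⟩
  have hB₁map : B₁.map M.subtype = BG := by
    rw [hB₁]; exact Subgroup.map_subgroupOf_eq_of_le hBM
  have hB₁p : IsPGroup p ↥B₁ := hB₁ ▸ hBp.comap_subtype
  have hQB₁ : Cfsg.pCore p ↥M ≤ B₁ := by
    intro q hq
    rw [hB₁, Subgroup.mem_subgroupOf, hBG]
    exact (le_sup_left : Q ≤ Q ⊔ Q') (hQ ▸ Subgroup.mem_map_of_mem M.subtype hq)
  have hE : Cfsg.dStarOf BG = (Cfsg.dStarOf B₁).map M.subtype := by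
    have := dStarOf_map M.subtype M.subtype_injective B₁
    rwa [hB₁map] at this
  -- inside `M'`
  obtain ⟨T', hT'⟩ := (hBp.comap_subtype (K := M')).exists_le_sylow
  obtain ⟨T'G, hT'G⟩ : ∃ T'G : Subgroup G, T'G = (T' : Subgroup ↥M').map M'.subtype := ⟨_, rfl⟩
  have hBT' : BG ≤ T'G := by
    intro b hb
    rw [hT'G]
    exact ⟨⟨b, hBM' hb⟩, hT' (Subgroup.mem_subgroupOf.mpr hb), rfl⟩
  have hT'Gp : IsPGroup p ↥T'G := hT'G ▸ T'.isPGroup'.map _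
  have hE' : Cfsg.dStarOf T'G = (Cfsg.dStarOf (T' : Subgroup ↥M')).map M'.subtype := by
    rw [hT'G]; exact dStarOf_map M'.subtype M'.subtype_injective _
  haveI hE'norm : (Cfsg.dStarOf (T' : Subgroup ↥M')).Normal :=
    dStarOf_normal_of_pstable hc' hst' T'
  have hM'E' : M' ≤ Subgroup.normalizer (Cfsg.dStarOf T'G : Set G) := by
    rw [hE']; exact le_normalizer_map_subtype _
  have hE'Q' : Cfsg.dStarOf T'G ≤ Q' := by
    rw [hE', hQ']
    apply Subgroup.map_mono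
    exact dStarOf_le_pCore hc' (hst' _ (Cfsg.Agent.Lib.H1.pCore_isPGroup p ↥M')) _ T'.isPGroup'
      (Cfsg.Agent.Lib.H1.pCore_le_sylow T')
  have hE'B : Cfsg.dStarOf T'G ≤ BG := hE'Q'.trans (hBG ▸ le_sup_right)
  have hE'E : Cfsg.dStarOf T'G ≤ Cfsg.dStarOf BG := dStarOf_anti hT'Gp hBT' hE'B
  have hT'Gne : T'G ≠ ⊥ := by
    intro h
    apply hne'
    rw [eq_bot_iff, ← h]
    exact (hBG ▸ le_sup_right : Q' ≤ BG).trans hBT'
  have hE'ne : Cfsg.dStarOf T'G ≠ ⊥ := dStarOf_ne_bot hT'Gp hT'Gne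
  have hprimE := hprim _ hE'ne (hE'B.trans hO) hM'E'
  -- the key hypothesis of the `D*`-theorem for `B₁`
  have hCN : ∀ (N : Subgroup ↥M) [N.Normal], IsPGroup p N → (∀ a ∈ N, ∀ b ∈ N, a * b = b * a) →
      Cfsg.dStarOf B₁ ≤ N →
      Subgroup.centralizer (N : Set ↥M) ≤ Subgroup.normalizer (B₁ : Set ↥M) := by
    intro N _ _ _ hEN c hcN
    have hcE : (c : G) ∈ Subgroup.centralizer ((Cfsg.dStarOf T'G : Subgroup G) : Set G) := by
      rw [Subgroup.mem_centralizer_iff]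
      intro x hx
      have hx2 : x ∈ (Cfsg.dStarOf B₁).map M.subtype := hE ▸ hE'E hx
      obtain ⟨n, hn, rfl⟩ := hx2
      have := (Subgroup.mem_centralizer_iff.mp hcN) n (hEN hn)
      exact congrArg Subtype.val this
    have hcD : (c : G) ∈ M ⊓ M' := by
      rw [← hprimE]
      exact ⟨c.2, (Subgroup.centralizer_le_normalizer _) hcE⟩
    have hcB := hDB hcD
    rw [Subgroup.mem_normalizer_iff] at hcB ⊢
    intro h
    rw [hB₁, Subgroup.mem_subgroupOf, Subgroup.mem_subgroupOf]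
    exact hcB (h : G)
  haveI hnorm : (Cfsg.dStarOf B₁).Normal :=
    dStarOf_normal_of_pstable_sub hc hst B₁ hB₁p hQB₁ hCN
  rw [hE]
  exact le_normalizer_map_subtype _

end Cfsg.Agent.Lib.H19.PP
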