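import Mathlib
import Cfsg.Agent.Lib.H11.RK2Defs
import Cfsg.Agent.Lib.H11.R2LIFT

/-!
# S5289 farm-out (helper11), piece **T3AUT** (helper19)

For Blackburn's type `T3` group `G = ⟨x, y, z⟩` the subgroup `A = ⟨y, z⟩ = C_G(y)` is abelian, normal of index `p`
and characteristic, and every automorphism of `G` acts on `G / A ≅ C_p` as `±1`.
-/

set_option autoImplicit false
set_option linter.unusedSectionVars false

namespace Cfsg.Agent.Lib.H19.RK2

open Cfsg.Agent.Lib.H11.RK2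

section abstract

variable {M : Type*}

theorem phi_pow_formulas [CommGroup M] (φ : MulAut M) (y z w : M) (s : ℕ)
    (hy : φ y = y * w ^ s) (hz : φ z = y * z) (hw : φ w = w) (a : ℕ) :
    (φ ^ a) w = w ∧ (φ ^ a) y = y * w ^ (s * a) ∧
      (φ ^ a) z = z * y ^ a * w ^ (s * a.choose 2) := by
  induction a with
  | zero => simp
  | succ a ih =>
    obtain ⟨h1, h2, h3⟩ := ih
    have e : φ ^ (a + 1) = φ ^ a * φ := pow_succ φ a
    refine ⟨?_, ?_, ?_⟩
    · rw [e, MulAut.mul_apply, hw, h1]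
    · rw [e, MulAut.mul_apply, hy, map_mul, map_pow, h1, h2, mul_assoc, ← pow_add, mul_add, mul_one]
    · rw [e, MulAut.mul_apply, hz, map_mul, h2, h3]
      have hc : (a + 1).choose 2 = a + a.choose 2 := by
        rw [Nat.choose_succ_succ' a 1, Nat.choose_one_right]
      rw [hc, mul_add, pow_add w, pow_succ y]
      ac_rfl

theorem key_relation [CommGroup M] (φ : MulAut M) (y z w : M) (s a β μ k : ℕ)
    (hy : φ y = y * w ^ s) (hz : φ z = y * z) (hw : φ w = w)
    (y' z' : M) (hz' : z' = y ^ β * z ^ μ)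
    (R1 : (φ ^ a) z' = y' * z') (R2 : (φ ^ a) y' = y' * z' ^ k) :
    w ^ (s * a * a * μ) = z' ^ k := by
  obtain ⟨h1, h2, h3⟩ := phi_pow_formulas φ y z w s hy hz hw a
  set D : M →* M := (φ ^ a).toMonoidHom / MonoidHom.id M with hD
  have Dapp : ∀ e, D e = (φ ^ a) e / e := fun e => rfl
  have Dw : D w = 1 := by rw [Dapp, h1, div_self']
  have Dy : D y = w ^ (s * a) := by rw [Dapp, h2, mul_div_cancel_left]
  have Dz : D z = y ^ a * w ^ (s * a.choose 2) := by rw [Dapp, h3, mul_assoc, mul_div_cancel_left]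
  have D1 : D z' = y' := by rw [Dapp, R1, mul_div_cancel_right]
  have D2 : D y' = z' ^ k := by rw [Dapp, R2, mul_div_cancel_left]
  rw [← D2, ← D1, hz']
  simp only [map_mul, map_pow, Dy, Dz, Dw, one_pow, mul_one, one_mul]
  rw [← pow_mul, ← pow_mul]
  congr 1
  ring

theorem phi_pow_y_grp [Group M] (hc : ∀ a b : M, a * b = b * a) (φ : MulAut M) (y z w : M) (s : ℕ)
    (hy : φ y = y * w ^ s) (hz : φ z = y * z) (hw : φ w = w) (a : ℕ) :
    (φ ^ a) y = y * w ^ (s * a) := by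
  let _ : CommGroup M := { (inferInstance : Group M) with mul_comm := hc }
  exact (phi_pow_formulas φ y z w s hy hz hw a).2.1

theorem key_relation_grp [Group M] (hc : ∀ a b : M, a * b = b * a) (φ : MulAut M) (y z w : M)
    (s a β μ k : ℕ)
    (hy : φ y = y * w ^ s) (hz : φ z = y * z) (hw : φ w = w)
    (y' z' : M) (hz' : z' = y ^ β * z ^ μ)
    (R1 : (φ ^ a) z' = y' * z') (R2 : (φ ^ a) y' = y' * z' ^ k) :
    w ^ (s * a * a * μ) = z' ^ k := by
  let _ : CommGroup M := { (inferInstance : Group M) with mul_comm := hc }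
  exact key_relation φ y z w s a β μ k hy hz hw y' z' hz' R1 R2

end abstract

section T3

variable {G : Type*} [Group G] [Finite G] {p n s : ℕ} [Fact p.Prime] {x y z : G}

theorem T3.aut_y_mem (_h : T3 p n s x y z) : y ∈ Subgroup.closure ({y, z} : Set G) :=
  Subgroup.subset_closure (by simp)

theorem T3.aut_z_mem (_h : T3 p n s x y z) : z ∈ Subgroup.closure ({y, z} : Set G) :=
  Subgroup.subset_closure (by simp)

theorem T3.aut_A_comm (h : T3 p n s x y z) :
    ∀ a ∈ Subgroup.closure ({y, z} : Set G), ∀ b ∈ Subgroup.closure ({y, z} : Set G),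
      a * b = b * a := by
  have hk : ∀ a ∈ ({y, z} : Set G), ∀ b ∈ ({y, z} : Set G), a * b = b * a := by
    intro a ha b hb
    rcases ha with ha | ha <;> rcases hb with hb | hb
    · rw [ha, hb]
    · rw [ha, Set.mem_singleton_iff.mp hb]; exact h.hyz
    · rw [Set.mem_singleton_iff.mp ha, hb]; exact h.hyz.symm
    · rw [Set.mem_singleton_iff.mp ha, Set.mem_singleton_iff.mp hb]
  intro a ha b hb
  have := (Subgroup.isMulCommutative_closure hk).is_comm.comm ⟨a, ha⟩ ⟨b, hb⟩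
  exact congrArg Subtype.val this

theorem T3.aut_A_form (h : T3 p n s x y z) :
    ∀ e ∈ Subgroup.closure ({y, z} : Set G), ∃ β μ : ℕ, e = y ^ β * z ^ μ := by
  intro e he
  have he' : e ∈ Submonoid.closure ({y, z} : Set G) := by
    rw [← Subgroup.closure_toSubmonoid_of_finite]; exact he
  clear he
  induction he' using Submonoid.closure_induction with
  | mem g hg =>
    rcases hg with hg | hg
    · exact ⟨1, 0, by rw [hg]; simp⟩
    · exact ⟨0, 1, by rw [Set.mem_singleton_iff.mp hg]; simp⟩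
  | one => exact ⟨0, 0, by simp⟩
  | mul a b _ _ iha ihb =>
    obtain ⟨β1, μ1, rfl⟩ := iha
    obtain ⟨β2, μ2, rfl⟩ := ihb
    refine ⟨β1 + β2, μ1 + μ2, ?_⟩
    have hc : Commute y z := h.hyz
    have h1 : z ^ μ1 * y ^ β2 = y ^ β2 * z ^ μ1 := ((hc.pow_pow β2 μ1).eq).symm
    rw [pow_add, pow_add]
    calc y ^ β1 * z ^ μ1 * (y ^ β2 * z ^ μ2) = y ^ β1 * (z ^ μ1 * y ^ β2) * z ^ μ2 := by
          simp only [mul_assoc]
      _ = y ^ β1 * (y ^ β2 * z ^ μ1) * z ^ μ2 := by rw [h1]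
      _ = y ^ β1 * y ^ β2 * (z ^ μ1 * z ^ μ2) := by simp only [mul_assoc]

theorem T3.aut_A_normal (h : T3 p n s x y z) : (Subgroup.closure ({y, z} : Set G)).Normal := by
  have hyA := (T3.aut_y_mem h)
  have hzA := (T3.aut_z_mem h)
  have hconj : ∀ e ∈ ((Subgroup.closure ({y, z} : Set G) : Subgroup G) : Set G),
      x⁻¹ * e * x⁻¹⁻¹ ∈ ((Subgroup.closure ({y, z} : Set G) : Subgroup G) : Set G) := by
    intro e he
    rw [inv_inv]
    have he2 : e ∈ Subgroup.closure ({y, z} : Set G) := he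
    show x⁻¹ * e * x ∈ Subgroup.closure ({y, z} : Set G)
    clear he
    induction he2 using Subgroup.closure_induction with
    | mem g hg =>
      rcases hg with hg | hg
      · rw [hg, h.hxy]; exact Subgroup.mul_mem _ hyA (Subgroup.pow_mem _ hzA _)
      · rw [Set.mem_singleton_iff.mp hg, h.hxz]; exact Subgroup.mul_mem _ hyA hzA
    | one => simp
    | mul a b _ _ iha ihb =>
      have : x⁻¹ * (a * b) * x = (x⁻¹ * a * x) * (x⁻¹ * b * x) := by group
      rw [this]; exact Subgroup.mul_mem _ iha ihb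
    | inv a _ iha =>
      have : x⁻¹ * a⁻¹ * x = (x⁻¹ * a * x)⁻¹ := by group
      rw [this]; exact Subgroup.inv_mem _ iha
  have hxN : x⁻¹ ∈ Subgroup.normalizer ((Subgroup.closure ({y, z} : Set G) : Subgroup G) : Set G) :=
    Subgroup.mem_normalizer_fintype hconj
  rw [← Subgroup.normalizer_eq_top_iff, eq_top_iff, ← h.gen, Subgroup.closure_le]
  intro g hg
  rcases hg with hg | hg | hg
  · rw [hg]; have := Subgroup.inv_mem _ hxN; rwa [inv_inv] at this
  · rw [hg]; exact Subgroup.le_normalizer hyA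
  · rw [Set.mem_singleton_iff.mp hg]; exact Subgroup.le_normalizer hzA

theorem T3.aut_decomp (h : T3 p n s x y z) :
    ∀ g : G, ∃ a : ℕ, ∃ e ∈ Subgroup.closure ({y, z} : Set G), g = x ^ a * e := by
  have _hN := (T3.aut_A_normal h)
  have hyA := (T3.aut_y_mem h)
  have hzA := (T3.aut_z_mem h)
  have key : (⊤ : Subgroup G) ≤ Subgroup.zpowers x ⊔ Subgroup.closure ({y, z} : Set G) := by
    rw [← h.gen, Subgroup.closure_le]
    intro g hg
    rcases hg with hg | hg | hg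
    · rw [hg]; exact Subgroup.mem_sup_left (Subgroup.mem_zpowers x)
    · rw [hg]; exact Subgroup.mem_sup_right hyA
    · rw [Set.mem_singleton_iff.mp hg]; exact Subgroup.mem_sup_right hzA
  intro g
  have hg := key (Subgroup.mem_top g)
  rw [Subgroup.mem_sup_of_normal_right] at hg
  obtain ⟨u, hu, e, he, rfl⟩ := hg
  have hu' : u ∈ Submonoid.powers x :=
    (isOfFinOrder_of_finite x).mem_powers_iff_mem_zpowers.mpr hu
  obtain ⟨a, rfl⟩ := (Submonoid.mem_powers_iff u x).mp hu'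
  exact ⟨a, e, he, rfl⟩

theorem T3.aut_orderOf_z (h : T3 p n s x y z) : orderOf z = p ^ (n - 2) := by
  have hp := (Fact.out : p.Prime)
  have hdvd := Cfsg.Agent.Lib.H11.R2.card_dvd_of_gens x y z h.gen h.hyz
    (by rw [h.hxy]; exact Subgroup.mul_mem _ (Subgroup.mem_sup_left (Subgroup.mem_zpowers y))
          (Subgroup.mem_sup_right (Subgroup.pow_mem _ (Subgroup.mem_zpowers z) _)))
    (by rw [h.hxz]; exact Subgroup.mul_mem _ (Subgroup.mem_sup_left (Subgroup.mem_zpowers y))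
          (Subgroup.mem_sup_right (Subgroup.mem_zpowers z)))
  rw [h.card] at hdvd
  have ox : orderOf x ∣ p := orderOf_dvd_of_pow_eq_one h.hx
  have oy : orderOf y ∣ p := orderOf_dvd_of_pow_eq_one h.hy
  have oz : orderOf z ∣ p ^ (n - 2) := orderOf_dvd_of_pow_eq_one h.hz
  have h2 : p ^ n ∣ p * (p * orderOf z) := hdvd.trans (mul_dvd_mul ox (mul_dvd_mul oy dvd_rfl))
  have hn : p ^ n = p * (p * p ^ (n - 2)) := by
    have hn' : n = (n - 2) + 1 + 1 := by have := h.hn; omega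
    conv_lhs => rw [hn']
    rw [pow_succ, pow_succ]; ring
  rw [hn] at h2
  have h3 : p ^ (n - 2) ∣ orderOf z :=
    Nat.dvd_of_mul_dvd_mul_left hp.pos (Nat.dvd_of_mul_dvd_mul_left hp.pos h2)
  exact Nat.dvd_antisymm oz h3

theorem T3.aut_orderOf_w (h : T3 p n s x y z) : orderOf (z ^ p ^ (n - 3)) = p := by
  have hp := (Fact.out : p.Prime)
  have hn := h.hn
  rw [orderOf_pow_of_dvd (pow_ne_zero _ hp.ne_zero)
    (by rw [(T3.aut_orderOf_z h)]; exact pow_dvd_pow p (by omega)),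
    (T3.aut_orderOf_z h), Nat.pow_div (by omega) hp.pos]
  have h1 : n - 2 - (n - 3) = 1 := by omega
  rw [h1, pow_one]

theorem T3.aut_conj_zpow (h : T3 p n s x y z) (k : ℕ) : x⁻¹ * z ^ k * x = y ^ k * z ^ k := by
  have h1 : x⁻¹ * z ^ k * x = (x⁻¹ * z * x) ^ k := by
    have h2 := conj_pow (a := x⁻¹) (b := z) (i := k)
    rw [inv_inv] at h2; exact h2.symm
  rw [h1, h.hxz, (show Commute y z from h.hyz).mul_pow]

theorem T3.aut_y_pow (h : T3 p n s x y z) : y ^ p ^ (n - 3) = 1 := by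
  have h1 : p ^ (n - 3) = p * p ^ (n - 4) := by
    rw [← pow_succ']; congr 1; have := h.hn; omega
  rw [h1, pow_mul, h.hy, one_pow]

theorem T3.aut_conj_w (h : T3 p n s x y z) :
    x⁻¹ * z ^ p ^ (n - 3) * x = z ^ p ^ (n - 3) := by
  rw [(T3.aut_conj_zpow h), (T3.aut_y_pow h), one_mul]

theorem T3.aut_conj_pow_y (h : T3 p n s x y z) (a : ℕ) :
    (x⁻¹) ^ a * y * ((x⁻¹) ^ a)⁻¹ = y * (z ^ p ^ (n - 3)) ^ (s * a) := by
  have hN : (Subgroup.closure ({y, z} : Set G)).Normal := T3.aut_A_normal h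
  have hc : ∀ a b : ↥(Subgroup.closure ({y, z} : Set G)), a * b = b * a := fun a b =>
    Subtype.ext (T3.aut_A_comm h a a.2 b b.2)
  have key := phi_pow_y_grp hc (MulAut.conjNormal x⁻¹)
    ⟨y, T3.aut_y_mem h⟩ ⟨z, T3.aut_z_mem h⟩ (⟨z, T3.aut_z_mem h⟩ ^ p ^ (n - 3)) s
    (by
      apply Subtype.ext
      rw [MulAut.conjNormal_apply, inv_inv]
      simp only [Subgroup.coe_mul, Subgroup.coe_pow]
      rw [h.hxy, ← pow_mul, mul_comm s])
    (by
      apply Subtype.ext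
      rw [MulAut.conjNormal_apply, inv_inv]
      simp only [Subgroup.coe_mul]
      exact h.hxz)
    (by
      apply Subtype.ext
      rw [MulAut.conjNormal_apply, inv_inv]
      simp only [Subgroup.coe_pow]
      exact T3.aut_conj_w h) a
  have hpow : (MulAut.conjNormal x⁻¹ : MulAut ↥(Subgroup.closure ({y, z} : Set G))) ^ a
      = MulAut.conjNormal ((x⁻¹) ^ a) := (map_pow MulAut.conjNormal x⁻¹ a).symm
  rw [hpow] at key
  have key2 := congrArg Subtype.val key
  rw [MulAut.conjNormal_apply] at key2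
  simpa only [Subgroup.coe_mul, Subgroup.coe_pow] using key2

theorem T3.aut_pow_comm (h : T3 p n s x y z) (i : ℕ) (hi : x ^ i * y = y * x ^ i) : p ∣ i := by
  have hp := (Fact.out : p.Prime)
  have h1 := T3.aut_conj_pow_y h i
  have hc : Commute (x ^ i) y := hi
  have h2 : (x⁻¹) ^ i * y * ((x⁻¹) ^ i)⁻¹ = y := by
    rw [inv_pow, (hc.inv_left).eq, mul_inv_cancel_right]
  rw [h2] at h1
  have h3 : (z ^ p ^ (n - 3)) ^ (s * i) = 1 := by
    have h4 : y * (z ^ p ^ (n - 3)) ^ (s * i) = y * 1 := by rw [mul_one, ← h1]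
    exact mul_left_cancel h4
  have h5 : p ∣ s * i := by
    have := orderOf_dvd_of_pow_eq_one h3
    rwa [T3.aut_orderOf_w h] at this
  rcases (Nat.Prime.dvd_mul hp).mp h5 with h6 | h6
  · exact absurd h6 h.hs
  · exact h6

theorem T3.aut_key (h : T3 p n s x y z) (a β μ : ℕ) (y' : G)
    (hy' : y' ∈ Subgroup.closure ({y, z} : Set G))
    (R1 : (x⁻¹) ^ a * (y ^ β * z ^ μ) * ((x⁻¹) ^ a)⁻¹ = y' * (y ^ β * z ^ μ))
    (R2 : (x⁻¹) ^ a * y' * ((x⁻¹) ^ a)⁻¹ = y' * (y ^ β * z ^ μ) ^ (s * p ^ (n - 3))) :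
    (z ^ p ^ (n - 3)) ^ (s * a * a * μ) = (y ^ β * z ^ μ) ^ (s * p ^ (n - 3)) := by
  have hN : (Subgroup.closure ({y, z} : Set G)).Normal := T3.aut_A_normal h
  have hc : ∀ a b : ↥(Subgroup.closure ({y, z} : Set G)), a * b = b * a := fun a b =>
    Subtype.ext (T3.aut_A_comm h a a.2 b b.2)
  have hpow : (MulAut.conjNormal x⁻¹ : MulAut ↥(Subgroup.closure ({y, z} : Set G))) ^ a
      = MulAut.conjNormal ((x⁻¹) ^ a) := (map_pow MulAut.conjNormal x⁻¹ a).symm
  have key := key_relation_grp hc (MulAut.conjNormal x⁻¹)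
    ⟨y, T3.aut_y_mem h⟩ ⟨z, T3.aut_z_mem h⟩ (⟨z, T3.aut_z_mem h⟩ ^ p ^ (n - 3)) s a β μ
    (s * p ^ (n - 3))
    (by
      apply Subtype.ext
      rw [MulAut.conjNormal_apply, inv_inv]
      simp only [Subgroup.coe_mul, Subgroup.coe_pow]
      rw [h.hxy, ← pow_mul, mul_comm s])
    (by
      apply Subtype.ext
      rw [MulAut.conjNormal_apply, inv_inv]
      simp only [Subgroup.coe_mul]
      exact h.hxz)
    (by
      apply Subtype.ext
      rw [MulAut.conjNormal_apply, inv_inv]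
      simp only [Subgroup.coe_pow]
      exact T3.aut_conj_w h)
    ⟨y', hy'⟩ (⟨y, T3.aut_y_mem h⟩ ^ β * ⟨z, T3.aut_z_mem h⟩ ^ μ) rfl
    (by
      rw [hpow]
      apply Subtype.ext
      rw [MulAut.conjNormal_apply]
      simp only [Subgroup.coe_mul, Subgroup.coe_pow]
      exact R1)
    (by
      rw [hpow]
      apply Subtype.ext
      rw [MulAut.conjNormal_apply]
      simp only [Subgroup.coe_mul, Subgroup.coe_pow]
      exact R2)
  have key2 := congrArg Subtype.val key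
  simpa only [Subgroup.coe_mul, Subgroup.coe_pow] using key2

theorem T3.aut_exists_chi (h : T3 p n s x y z) :
    ∃ χ : G →* Multiplicative (ZMod p), χ x ≠ 1 ∧
      ∀ g, χ g = 1 ↔ g ∈ Subgroup.closure ({y, z} : Set G) := by
  have hp := (Fact.out : p.Prime)
  have hN : (Subgroup.closure ({y, z} : Set G)).Normal := T3.aut_A_normal h
  have hxA : x ∉ Subgroup.closure ({y, z} : Set G) := fun hx => by
    have h1 := T3.aut_pow_comm h 1 (by rw [pow_one]; exact T3.aut_A_comm h x hx y (T3.aut_y_mem h))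
    exact hp.one_lt.ne' (Nat.dvd_one.mp h1)
  have hgenQ : ∀ q : G ⧸ Subgroup.closure ({y, z} : Set G),
      q ∈ Subgroup.zpowers ((x : G) : G ⧸ Subgroup.closure ({y, z} : Set G)) := by
    intro q
    obtain ⟨g, rfl⟩ := QuotientGroup.mk_surjective q
    obtain ⟨a, e, he, rfl⟩ := T3.aut_decomp h g
    rw [Subgroup.mem_zpowers_iff]
    refine ⟨(a : ℤ), ?_⟩
    rw [zpow_natCast, QuotientGroup.mk_mul, QuotientGroup.mk_pow,
      (QuotientGroup.eq_one_iff e).mpr he, mul_one]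
  have hxQ : ((x : G) : G ⧸ Subgroup.closure ({y, z} : Set G)) ≠ 1 := fun h1 =>
    hxA ((QuotientGroup.eq_one_iff x).mp h1)
  have hxpQ : ((x : G) : G ⧸ Subgroup.closure ({y, z} : Set G)) ^ p = 1 := by
    rw [← QuotientGroup.mk_pow, h.hx, QuotientGroup.mk_one]
  have hord : orderOf ((x : G) : G ⧸ Subgroup.closure ({y, z} : Set G)) = p :=
    orderOf_eq_prime hxpQ hxQ
  have hcardQ : Nat.card (G ⧸ Subgroup.closure ({y, z} : Set G)) = p := by
    rw [← orderOf_eq_card_of_forall_mem_zpowers hgenQ, hord]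
  have hcardZ : Nat.card (Multiplicative (ZMod p)) = p := Nat.card_zmod p
  let iso : G ⧸ Subgroup.closure ({y, z} : Set G) ≃* Multiplicative (ZMod p) :=
    mulEquivOfPrimeCardEq hcardQ hcardZ
  refine ⟨iso.toMonoidHom.comp (QuotientGroup.mk' (Subgroup.closure ({y, z} : Set G))), ?_, ?_⟩
  · intro h1
    have h2 : iso ((x : G) : G ⧸ Subgroup.closure ({y, z} : Set G)) = 1 := h1
    exact hxQ ((MulEquiv.map_eq_one_iff iso).mp h2)
  · intro g
    show iso ((g : G) : G ⧸ Subgroup.closure ({y, z} : Set G)) = 1 ↔ _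
    rw [MulEquiv.map_eq_one_iff, QuotientGroup.eq_one_iff]

theorem T3.aut_cent_y (h : T3 p n s x y z) (g : G) (hg : g * y = y * g) :
    g ∈ Subgroup.closure ({y, z} : Set G) := by
  obtain ⟨a, e, he, rfl⟩ := T3.aut_decomp h g
  have hey : e * y = y * e := T3.aut_A_comm h e he y (T3.aut_y_mem h)
  have hxa : x ^ a * y = y * x ^ a := by
    have h1 : x ^ a * y = (x ^ a * e * y) * e⁻¹ := by
      rw [mul_assoc (x ^ a), hey, ← mul_assoc, mul_inv_cancel_right]
    rw [h1, hg]; simp only [mul_assoc, mul_inv_cancel, mul_one]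
  obtain ⟨k, rfl⟩ := T3.aut_pow_comm h a hxa
  rw [pow_mul, h.hx, one_pow, one_mul]
  exact he

theorem T3.aut_char (h : T3 p n s x y z) (b : G ≃* G) :
    ∀ e ∈ Subgroup.closure ({y, z} : Set G), b e ∈ Subgroup.closure ({y, z} : Set G) := by
  obtain ⟨χ, _, hker⟩ := T3.aut_exists_chi h
  have hcomm : ∀ u v : G, u⁻¹ * v * u * v⁻¹ ∈ Subgroup.closure ({y, z} : Set G) := by
    intro u v
    rw [← hker]
    simp only [map_mul, map_inv]
    calc (χ u)⁻¹ * χ v * χ u * (χ v)⁻¹ = ((χ u)⁻¹ * χ u) * (χ v * (χ v)⁻¹) := by ac_rfl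
      _ = 1 := by simp
  have hy_eq : y = x⁻¹ * z * x * z⁻¹ := by rw [h.hxz, mul_inv_cancel_right]
  have hby : ∀ c : G ≃* G, c y ∈ Subgroup.closure ({y, z} : Set G) := by
    intro c
    have h1 : c y = (c x)⁻¹ * c z * c x * (c z)⁻¹ := by
      conv_lhs => rw [hy_eq]
      simp only [map_mul, map_inv]
    rw [h1]; exact hcomm _ _
  intro e he
  apply T3.aut_cent_y h
  have h1 : e * b.symm y = b.symm y * e := T3.aut_A_comm h e he _ (hby b.symm)
  have h2 := congrArg b h1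
  simpa only [map_mul, MulEquiv.apply_symm_apply] using h2

theorem T3.aut_sq (h : T3 p n s x y z) (b : G ≃* G) (a : ℕ) (e₀ : G)
    (he₀ : e₀ ∈ Subgroup.closure ({y, z} : Set G)) (hbx : b x = x ^ a * e₀) :
    ((a : ZMod p) = 1) ∨ ((a : ZMod p) = -1) := by
  have hp := (Fact.out : p.Prime)
  have hN : (Subgroup.closure ({y, z} : Set G)).Normal := T3.aut_A_normal h
  have hbz : b z ∈ Subgroup.closure ({y, z} : Set G) := T3.aut_char h b z (T3.aut_z_mem h)
  have hby : b y ∈ Subgroup.closure ({y, z} : Set G) := T3.aut_char h b y (T3.aut_y_mem h)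
  obtain ⟨β, μ, hβμ⟩ := T3.aut_A_form h (b z) hbz
  -- conjugation by `b x` on `A` is conjugation by `x ^ a`
  have hconj : ∀ t ∈ Subgroup.closure ({y, z} : Set G),
      (x⁻¹) ^ a * t * ((x⁻¹) ^ a)⁻¹ = (b x)⁻¹ * t * b x := by
    intro t ht
    have hu : (x⁻¹) ^ a * t * ((x⁻¹) ^ a)⁻¹ ∈ Subgroup.closure ({y, z} : Set G) :=
      hN.conj_mem t ht _
    have hcu := T3.aut_A_comm h _ hu e₀ he₀
    have hu_inv : x ^ a = ((x⁻¹) ^ a)⁻¹ := by rw [inv_pow, inv_inv]
    rw [hbx, hu_inv]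
    generalize (x⁻¹) ^ a = u at hu hcu ⊢
    rw [mul_inv_rev, inv_inv]
    calc u * t * u⁻¹ = e₀⁻¹ * (e₀ * (u * t * u⁻¹)) := by rw [inv_mul_cancel_left]
      _ = e₀⁻¹ * ((u * t * u⁻¹) * e₀) := by rw [← hcu]
      _ = e₀⁻¹ * u * t * (u⁻¹ * e₀) := by simp only [mul_assoc]
  have R1 : (x⁻¹) ^ a * (y ^ β * z ^ μ) * ((x⁻¹) ^ a)⁻¹ = b y * (y ^ β * z ^ μ) := by
    rw [← hβμ, hconj _ hbz]
    have h1 := congrArg b h.hxz
    simpa only [map_mul, map_inv] using h1
  have R2 : (x⁻¹) ^ a * b y * ((x⁻¹) ^ a)⁻¹ = b y * (y ^ β * z ^ μ) ^ (s * p ^ (n - 3)) := by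
    rw [← hβμ, hconj _ hby]
    have h1 := congrArg b h.hxy
    simpa only [map_mul, map_inv, map_pow] using h1
  have key := T3.aut_key h a β μ (b y) hby R1 R2
  -- `(b z) ^ (p ^ (n-3)) = w ^ μ`
  have hbw : (y ^ β * z ^ μ) ^ p ^ (n - 3) = (z ^ p ^ (n - 3)) ^ μ := by
    have hc : Commute (y ^ β) (z ^ μ) := (show Commute y z from h.hyz).pow_pow β μ
    rw [hc.mul_pow, pow_right_comm y, T3.aut_y_pow h, one_pow, one_mul, pow_right_comm z]
  have hbw2 : (y ^ β * z ^ μ) ^ (s * p ^ (n - 3)) = (z ^ p ^ (n - 3)) ^ (μ * s) := by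
    rw [pow_mul', hbw, ← pow_mul]
  have hw1 : z ^ p ^ (n - 3) ≠ 1 := by
    intro h1
    have h2 := T3.aut_orderOf_w h
    rw [h1, orderOf_one] at h2
    exact hp.one_lt.ne h2
  have hμ : ¬ p ∣ μ := by
    intro hd
    have h1 : (z ^ p ^ (n - 3)) ^ μ = 1 := by
      obtain ⟨k, hk⟩ := hd
      have h3 := pow_orderOf_eq_one (z ^ p ^ (n - 3))
      rw [T3.aut_orderOf_w h] at h3
      rw [hk, pow_mul, h3, one_pow]
    have h2 : b (z ^ p ^ (n - 3)) = 1 := by rw [map_pow, hβμ, hbw, h1]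
    exact hw1 ((MulEquiv.map_eq_one_iff b).mp h2)
  rw [hbw2] at key
  have hmod : s * a * a * μ ≡ μ * s [MOD p] := by
    have h1 := pow_eq_pow_iff_modEq.mp key
    rwa [T3.aut_orderOf_w h] at h1
  have h2 : ((s * a * a * μ : ℕ) : ZMod p) = ((μ * s : ℕ) : ZMod p) :=
    (ZMod.natCast_eq_natCast_iff _ _ _).mpr hmod
  push_cast at h2
  have hs' : (s : ZMod p) ≠ 0 := by
    intro h0; exact h.hs ((ZMod.natCast_eq_zero_iff s p).mp h0)
  have hμ' : (μ : ZMod p) ≠ 0 := by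
    intro h0; exact hμ ((ZMod.natCast_eq_zero_iff μ p).mp h0)
  have h3 : (s : ZMod p) * μ * ((a : ZMod p) * a) = (s : ZMod p) * μ * 1 := by
    linear_combination h2
  have h4 : (a : ZMod p) * a = 1 := mul_left_cancel₀ (mul_ne_zero hs' hμ') h3
  exact mul_self_eq_one_iff.mp h4

theorem T3.aut (h : T3 p n s x y z) :
    ∃ χ : G →* Multiplicative (ZMod p), χ x ≠ 1 ∧ χ y = 1 ∧ χ z = 1 ∧
      (∀ g, χ g = 1 → g ∈ Subgroup.closure ({y, z} : Set G)) ∧
      ∀ b : G ≃* G, (∀ g, χ (b g) = χ g) ∨ (∀ g, χ (b g) = (χ g)⁻¹) := by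
  have hp := (Fact.out : p.Prime)
  obtain ⟨χ, hχx, hker⟩ := T3.aut_exists_chi h
  have hχy : χ y = 1 := (hker y).mpr (T3.aut_y_mem h)
  have hχz : χ z = 1 := (hker z).mpr (T3.aut_z_mem h)
  refine ⟨χ, hχx, hχy, hχz, fun g hg => (hker g).mp hg, fun b => ?_⟩
  obtain ⟨a, e₀, he₀, hbx⟩ := T3.aut_decomp h (b x)
  have hcardZ : Nat.card (Multiplicative (ZMod p)) = p := Nat.card_zmod p
  have ht : ∀ t : Multiplicative (ZMod p), t ^ p = 1 := by
    intro t
    have h1 := pow_card_eq_one' (G := Multiplicative (ZMod p)) (x := t)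
    rwa [hcardZ] at h1
  have hhom : χ.comp b.toMonoidHom = (powMonoidHom a).comp χ := by
    apply MonoidHom.eq_of_eqOn_dense h.gen
    intro g hg
    rcases hg with hg | hg | hg
    · rw [hg]
      show χ (b x) = (χ x) ^ a
      rw [hbx, map_mul, map_pow, (hker e₀).mpr he₀, mul_one]
    · rw [hg]
      show χ (b y) = (χ y) ^ a
      rw [hχy, one_pow]
      exact (hker _).mpr (T3.aut_char h b y (T3.aut_y_mem h))
    · rw [Set.mem_singleton_iff.mp hg]
      show χ (b z) = (χ z) ^ a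
      rw [hχz, one_pow]
      exact (hker _).mpr (T3.aut_char h b z (T3.aut_z_mem h))
  have hpowa : ∀ g, χ (b g) = (χ g) ^ a := fun g => DFunLike.congr_fun hhom g
  rcases T3.aut_sq h b a e₀ he₀ hbx with h1 | h1
  · left
    intro g
    rw [hpowa]
    have hmod : a ≡ 1 [MOD p] := by
      apply (ZMod.natCast_eq_natCast_iff a 1 p).mp
      rw [h1, Nat.cast_one]
    have hmod' : a ≡ 1 [MOD orderOf (χ g)] :=
      hmod.of_dvd (orderOf_dvd_of_pow_eq_one (ht (χ g)))
    have h2 := pow_eq_pow_iff_modEq.mpr hmod'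
    rw [h2, pow_one]
  · right
    intro g
    rw [hpowa]
    have hd : p ∣ a + 1 := by
      apply (ZMod.natCast_eq_zero_iff (a + 1) p).mp
      rw [Nat.cast_add, h1, Nat.cast_one, neg_add_cancel]
    obtain ⟨k, hk⟩ := hd
    have h2 : (χ g) ^ (a + 1) = 1 := by rw [hk, pow_mul, ht, one_pow]
    rw [pow_succ] at h2
    exact eq_inv_of_mul_eq_one_left h2

end T3

end Cfsg.Agent.Lib.H19.RK2
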