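import Mathlib
import Cfsg.Prelude.Def_Transfer
import Cfsg.Agent.Lib.H16.RTWDefs
import Cfsg.Agent.Lib.H1.NilpotentBasic

/-!
# S3175 piece ODD3 (`mul_inv_mem_ucs3`), helper19 (architect helper15)

An automorphism `α` of odd order of `T` which is trivial on `Z₃`, on `T/W` and on `Z₄/Z₃` is trivial on `W/Z₃`
(the `A × B`-lemma step).
-/

set_option autoImplicit false

namespace Cfsg.Agent.Lib.H19.RTN

open scoped commutatorElement
open Cfsg.Agent.Lib.H16.RTW

/-- **ODD3** (the `A × B`-lemma step): `α` is trivial on `W/Z₃`. -/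
theorem mul_inv_mem_ucs3 {T : Type*} [Group T] [Finite T] (c : Ctx T) (α : MulAut T) (m : ℕ) (hm : Odd m)
    (hα : α ^ m = 1)
    (h3 : ∀ z ∈ Subgroup.upperCentralSeries T 3, α z = z)
    (hTW : ∀ t : T, α t * t⁻¹ ∈ c.W)
    (h4 : ∀ y ∈ Subgroup.upperCentralSeries T 4, α y * y⁻¹ ∈ Subgroup.upperCentralSeries T 3) :
    ∀ w ∈ c.W, α w * w⁻¹ ∈ Subgroup.upperCentralSeries T 3 := by
  have hWn := c.hWn
  have h2prime : Fact (Nat.Prime 2) := ⟨Nat.prime_two⟩
  have hnil : Group.IsNilpotent T := c.hT.isNilpotent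
  have hZ3n : (Subgroup.upperCentralSeries T 3).Normal := inferInstance
  set π : T →* T ⧸ Subgroup.upperCentralSeries T 3 :=
    QuotientGroup.mk' (Subgroup.upperCentralSeries T 3) with hπ
  have hπs : Function.Surjective π := QuotientGroup.mk'_surjective _
  have hπ1 : ∀ e : T, π e = 1 ↔ e ∈ Subgroup.upperCentralSeries T 3 := fun e =>
    QuotientGroup.eq_one_iff e
  have hαW : ∀ u ∈ c.W, α u ∈ c.W := by
    intro u hu
    have h1 : α u = (α u * u⁻¹) * u := by group
    rw [h1]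
    exact c.W.mul_mem (hTW u) hu
  -- images of elements of `W` commute
  have hcommW : ∀ u ∈ c.W, ∀ u' ∈ c.W, π u * π u' = π u' * π u := by
    intro u hu u' hu'
    have h1 : u * u' = ⁅u, u'⁆ * (u' * u) := by
      simp only [commutatorElement_def]
      group
    rw [← map_mul, ← map_mul, h1, map_mul, (hπ1 _).mpr (c.hcomm u hu u' hu'), one_mul]
  -- the induced endomorphism of the quotient
  have hle : Subgroup.upperCentralSeries T 3 ≤
      (Subgroup.upperCentralSeries T 3).comap α.toMonoidHom := by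
    intro z hz
    rw [Subgroup.mem_comap]
    show α z ∈ _
    rw [h3 z hz]
    exact hz
  set αb : T ⧸ Subgroup.upperCentralSeries T 3 →* T ⧸ Subgroup.upperCentralSeries T 3 :=
    QuotientGroup.map _ _ α.toMonoidHom hle with hαb
  have hαbπ : ∀ x : T, αb (π x) = π (α x) := fun x => rfl
  -- the homomorphism `u ↦ π (α u * u⁻¹)` on `W`
  have hβmul : ∀ a b : ↥c.W, π (α ((a * b : ↥c.W) : T) * ((a * b : ↥c.W) : T)⁻¹) =
      π (α (a : T) * (a : T)⁻¹) * π (α (b : T) * (b : T)⁻¹) := by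
    intro a b
    have h1 : α ((a * b : ↥c.W) : T) * ((a * b : ↥c.W) : T)⁻¹ =
        α (a : T) * ((α (b : T) * (b : T)⁻¹) * (a : T)⁻¹) := by
      rw [Subgroup.coe_mul, map_mul]
      group
    rw [h1, map_mul, map_mul, hcommW _ (hTW b) _ (c.W.inv_mem a.2), ← mul_assoc, ← map_mul]
  set β : ↥c.W →* T ⧸ Subgroup.upperCentralSeries T 3 :=
    MonoidHom.mk' (fun u => π (α (u : T) * (u : T)⁻¹)) hβmul with hβ
  have hβapp : ∀ u : ↥c.W, β u = π (α (u : T) * (u : T)⁻¹) := fun u => rfl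
  -- its range is normal
  have hBn : β.range.Normal := by
    constructor
    intro b hb q
    obtain ⟨⟨u, hu⟩, rfl⟩ := hb
    obtain ⟨t, rfl⟩ := hπs q
    refine ⟨⟨t * u * t⁻¹, hWn.conj_mem u hu t⟩, ?_⟩
    rw [hβapp, hβapp]
    show π (α (t * u * t⁻¹) * (t * u * t⁻¹)⁻¹) = π t * π (α u * u⁻¹) * (π t)⁻¹
    have hA : t * α u * t⁻¹ ∈ c.W := hWn.conj_mem _ (hαW u hu) t
    have h1 : α (t * u * t⁻¹) * (t * u * t⁻¹)⁻¹ =
        (α t * t⁻¹) * (t * α u * t⁻¹) * (α t * t⁻¹)⁻¹ * (t * u⁻¹ * t⁻¹) := by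
      rw [map_mul, map_mul, map_inv]
      group
    have h2 : π t * π (α u * u⁻¹) * (π t)⁻¹ = π (t * α u * t⁻¹) * π (t * u⁻¹ * t⁻¹) := by
      rw [← map_inv, ← map_mul, ← map_mul, ← map_mul]
      congr 1
      group
    rw [h1, h2, map_mul, map_mul, map_mul, map_inv, hcommW _ (hTW t) _ hA, mul_inv_cancel_right]
  intro w hw
  by_cases hbot : β.range = ⊥
  · have h1 : β ⟨w, hw⟩ ∈ β.range := ⟨_, rfl⟩
    rw [hbot, Subgroup.mem_bot, hβapp] at h1
    exact (hπ1 _).mp h1
  · exfalso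
    have hne := Cfsg.Agent.Lib.H1.normal_inf_center_ne_bot β.range hbot
    obtain ⟨⟨v, hv⟩, hv1'⟩ := (Subgroup.ne_bot_iff_exists_ne_one).mp hne
    have hv1 : v ≠ 1 := fun h => hv1' (Subtype.ext h)
    obtain ⟨⟨⟨u, hu⟩, huv⟩, hvZ⟩ := hv
    rw [hβapp] at huv
    set y : T := α u * u⁻¹ with hy
    have hyW : y ∈ c.W := hTW u
    -- `y ∈ Z₄`
    have hy4 : y ∈ Subgroup.upperCentralSeries T 4 := by
      rw [show (4 : ℕ) = 3 + 1 from rfl, Subgroup.mem_upperCentralSeries_succ_iff]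
      intro t
      have h1 : π t * v = v * π t := Subgroup.mem_center_iff.mp hvZ (π t)
      rw [← huv] at h1
      have h2 : π ⁅y, t⁆ = 1 := by
        rw [commutatorElement_def, map_mul, map_mul, map_mul, map_inv, map_inv, ← h1]
        group
      exact (hπ1 _).mp h2
    have hy3 : y ∉ Subgroup.upperCentralSeries T 3 := by
      intro h
      apply hv1
      rw [← huv]
      exact (hπ1 y).mpr h
    -- `α` fixes `π y`
    have hαy : π (α y) = π y := by
      have h1 : α y = (α y * y⁻¹) * y := by group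
      rw [h1, map_mul, (hπ1 _).mpr (h4 y hy4), one_mul]
    have hαu : π (α u) = π y * π u := by
      rw [← map_mul, hy]
      congr 1
      group
    -- iterate
    have hiter : ∀ j : ℕ, π ((α ^ j) u) = (π y) ^ j * π u := by
      intro j
      induction j with
      | zero => simp
      | succ j ih =>
        rw [pow_succ', MulAut.mul_apply, ← hαbπ, ih, map_mul, map_pow, hαbπ, hαbπ, hαy, hαu,
          pow_succ, mul_assoc]
    have h5 := hiter m
    rw [hα, MulAut.one_apply] at h5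
    have h6 : (π y) ^ m = 1 := by
      have : (π y) ^ m * π u = 1 * π u := by rw [one_mul, ← h5]
      exact mul_right_cancel this
    have h7 : (π y) ^ 2 = 1 := by
      rw [← map_pow]
      exact (hπ1 _).mpr (c.hsq y hyW)
    obtain ⟨k', hk'⟩ := hm
    rw [hk', pow_succ, pow_mul, h7, one_pow, one_mul] at h6
    exact hy3 ((hπ1 y).mp h6)

end Cfsg.Agent.Lib.H19.RTN
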