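import Mathlib
import Cfsg.Agent.Lib.H16.RTWDefs

/-!
# S3174 piece KPAR (`key_parity`), helper19 (architect helper16)

If `Z₄ ≤ Z(W)` then for every `w ∈ W` the number of cosets `gW` with `⁅w, ᵍw⁆ ∉ Z₂` is even.
-/

set_option autoImplicit false

namespace Cfsg.Agent.Lib.H19.RTW

open scoped commutatorElement
open Cfsg.Agent.Lib.H16.RTW

variable {T : Type*} [Group T] [Finite T]

/-- (B1): `⁅w, y z⁆ = ⁅w, y⁆ ⁅w, z⁆` in `W`. -/
theorem comm_mul_right (c : Ctx T) {w y z : T} (hw : w ∈ c.W) (hy : y ∈ c.W) (hz : z ∈ c.W) :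
    ⁅w, y * z⁆ = ⁅w, y⁆ * ⁅w, z⁆ := by
  have he : ⁅w, z⁆ ∈ Subgroup.upperCentralSeries T 3 := c.hcomm w hw z hz
  have hy' := hy
  rw [c.hW] at hy'
  have hye : ⁅w, z⁆ * y = y * ⁅w, z⁆ := Subgroup.mem_centralizer_iff.mp hy' _ he
  have h1 : ⁅w, y * z⁆ = ⁅w, y⁆ * (y * ⁅w, z⁆ * y⁻¹) := by
    simp only [commutatorElement_def]
    group
  rw [h1, ← hye, mul_inv_cancel_right]

/-- (B2): `Z₂` has index two in `Z₃`. -/
theorem mul_mem_ucs2_iff (c : Ctx T) {e e' : T} (he : e ∈ Subgroup.upperCentralSeries T 3)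
    (he' : e' ∈ Subgroup.upperCentralSeries T 3) :
    e * e' ∈ Subgroup.upperCentralSeries T 2 ↔
      (e ∈ Subgroup.upperCentralSeries T 2 ↔ e' ∈ Subgroup.upperCentralSeries T 2) := by
  have hle : Subgroup.upperCentralSeries T 2 ≤ Subgroup.upperCentralSeries T 3 :=
    Subgroup.upperCentralSeries_mono T (by norm_num)
  have hidx : ((Subgroup.upperCentralSeries T 2).subgroupOf (Subgroup.upperCentralSeries T 3)).index = 2 := by
    have h1 := Subgroup.card_mul_index
      ((Subgroup.upperCentralSeries T 2).subgroupOf (Subgroup.upperCentralSeries T 3))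
    rw [Nat.card_congr (Subgroup.subgroupOfEquivOfLe hle).toEquiv, c.c2, c.c3] at h1
    omega
  have h := Subgroup.mul_mem_iff_of_index_two hidx
    (a := (⟨e, he⟩ : ↥(Subgroup.upperCentralSeries T 3))) (b := ⟨e', he'⟩)
  simpa [Subgroup.mem_subgroupOf] using h

theorem key_parity (c : Ctx T) (k : Coord c)
    (hZ4 : ∀ y ∈ Subgroup.upperCentralSeries T 4, y ∈ c.W ∧ ∀ v ∈ c.W, y * v = v * y)
    (w : T) (hw : w ∈ c.W) (rep : UT3 → T) (hrep : ∀ g, k.φ (rep g) = g) :
    Even (Nat.card {g : UT3 // ⁅w, rep g * w * (rep g)⁻¹⁆ ∉ Subgroup.upperCentralSeries T 2}) := by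
  classical
  have hWn := c.hWn
  set v : UT3 → T := fun g => rep g * w * (rep g)⁻¹ with hv
  have hvW : ∀ g, v g ∈ c.W := fun g => hWn.conj_mem w hw (rep g)
  have hprodW : ∀ l' : List UT3, (l'.map v).prod ∈ c.W := by
    intro l'
    apply Subgroup.list_prod_mem
    intro x hx
    obtain ⟨g, _, rfl⟩ := List.mem_map.mp hx
    exact hvW g
  -- the parity induction
  have hpar : ∀ l' : List UT3, ⁅w, (l'.map v).prod⁆ ∈ Subgroup.upperCentralSeries T 3 ∧
      (⁅w, (l'.map v).prod⁆ ∈ Subgroup.upperCentralSeries T 2 ↔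
        Even (l'.countP (fun g => decide (⁅w, v g⁆ ∉ Subgroup.upperCentralSeries T 2)))) := by
    intro l'
    induction l' with
    | nil =>
      simp only [List.map_nil, List.prod_nil, commutatorElement_one_right, List.countP_nil]
      exact ⟨Subgroup.one_mem _, by simp⟩
    | cons g l' ih =>
      have h1 : ⁅w, ((g :: l').map v).prod⁆ = ⁅w, v g⁆ * ⁅w, (l'.map v).prod⁆ := by
        rw [List.map_cons, List.prod_cons]
        exact comm_mul_right c hw (hvW g) (hprodW l')
      have h2 : ⁅w, v g⁆ ∈ Subgroup.upperCentralSeries T 3 := c.hcomm w hw _ (hvW g)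
      refine ⟨by rw [h1]; exact Subgroup.mul_mem _ h2 ih.1, ?_⟩
      rw [h1, mul_mem_ucs2_iff c h2 ih.1, ih.2, List.countP_cons]
      by_cases hg : ⁅w, v g⁆ ∈ Subgroup.upperCentralSeries T 2
      · simp [hg]
      · simp [hg, Nat.even_add_one]
  -- the product `N`
  set l : List UT3 := (Finset.univ : Finset UT3).toList with hl
  set N : T := (l.map v).prod with hN
  have hNW : N ∈ c.W := hprodW l
  have hZ3n : (Subgroup.upperCentralSeries T 3).Normal := inferInstance
  set π : T →* T ⧸ Subgroup.upperCentralSeries T 3 :=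
    QuotientGroup.mk' (Subgroup.upperCentralSeries T 3) with hπ
  have hπ1 : ∀ e ∈ Subgroup.upperCentralSeries T 3, π e = 1 := by
    intro e he
    exact (QuotientGroup.eq_one_iff e).mpr he
  -- images of elements of `W` commute
  have hcommW : ∀ u ∈ c.W, ∀ u' ∈ c.W, Commute (π u) (π u') := by
    intro u hu u' hu'
    have h1 : u * u' = ⁅u, u'⁆ * (u' * u) := by
      simp only [commutatorElement_def]
      group
    show π u * π u' = π u' * π u
    rw [← map_mul, ← map_mul, h1, map_mul, hπ1 _ (c.hcomm u hu u' hu'), one_mul]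
  -- conjugation permutes the images of the `v g`
  have hconj : ∀ (t : T) (g : UT3), π (t * v g * t⁻¹) = π (v (k.φ t * g)) := by
    intro t g
    have hs : (rep (k.φ t * g))⁻¹ * t * rep g ∈ c.W := by
      rw [← k.hker, MonoidHom.mem_ker, map_mul, map_mul, map_inv, hrep, hrep]
      group
    have h1 : t * v g * t⁻¹ =
        (rep (k.φ t * g) * ⁅(rep (k.φ t * g))⁻¹ * t * rep g, w⁆ * (rep (k.φ t * g))⁻¹) *
          v (k.φ t * g) := by
      simp only [hv, commutatorElement_def]
      group
    have h2 : rep (k.φ t * g) * ⁅(rep (k.φ t * g))⁻¹ * t * rep g, w⁆ * (rep (k.φ t * g))⁻¹ ∈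
        Subgroup.upperCentralSeries T 3 :=
      Subgroup.Normal.conj_mem inferInstance _ (c.hcomm _ hs w hw) _
    rw [h1, map_mul, hπ1 _ h2, one_mul]
  -- `N` is invariant modulo `Z₃`
  have hinv : ∀ t : T, π (t * N * t⁻¹) = π N := by
    intro t
    have h1 : π (t * N * t⁻¹) = (l.map (fun g => π (t * v g * t⁻¹))).prod := by
      have := map_list_prod (π.comp (MulAut.conj t).toMonoidHom) (l.map v)
      rw [List.map_map] at this
      exact this
    have h2 : π N = (l.map (fun g => π (v g))).prod := by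
      have := map_list_prod π (l.map v)
      rw [List.map_map] at this
      exact this
    rw [h1, h2]
    have h3 : l.map (fun g => π (t * v g * t⁻¹)) =
        (l.map (fun g => k.φ t * g)).map (fun g => π (v g)) := by
      rw [List.map_map]
      apply List.map_congr_left
      intro g _
      exact hconj t g
    rw [h3]
    have hperm : (l.map (fun g => k.φ t * g)).Perm l := by
      apply (List.perm_ext_iff_of_nodup ?_ ?_).mpr
      · intro a
        constructor
        · intro _
          exact Finset.mem_toList.mpr (Finset.mem_univ a)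
        · intro _
          refine List.mem_map.mpr ⟨(k.φ t)⁻¹ * a, Finset.mem_toList.mpr (Finset.mem_univ _), ?_⟩
          simp
      · exact List.Nodup.map (mul_right_injective (k.φ t)) (Finset.nodup_toList _)
      · exact Finset.nodup_toList _
    apply List.Perm.prod_eq' (hperm.map _)
    apply List.pairwise_of_forall_mem_list
    intro a ha b hb
    obtain ⟨g, _, rfl⟩ := List.mem_map.mp ha
    obtain ⟨g', _, rfl⟩ := List.mem_map.mp hb
    exact hcommW _ (hvW g) _ (hvW g')
  -- hence `N ∈ Z₄`
  have hN4 : N ∈ Subgroup.upperCentralSeries T 4 := by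
    show N ∈ Subgroup.upperCentralSeries T (3 + 1)
    rw [Subgroup.mem_upperCentralSeries_succ_iff]
    intro t
    rw [← QuotientGroup.eq_one_iff]
    show π ⁅N, t⁆ = 1
    have h1 := hinv t
    rw [map_mul, map_mul, map_inv] at h1
    rw [commutatorElement_def, map_mul, map_mul, map_mul, map_inv, map_inv]
    have h2 : π t * π N = π N * π t := by
      calc π t * π N = (π t * π N * (π t)⁻¹) * π t := by group
        _ = π N * π t := by rw [h1]
    rw [← h2]
    group
  have hNc := (hZ4 N hN4).2 w hw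
  have hone : ⁅w, N⁆ = 1 := by
    rw [commutatorElement_def, ← hNc]
    group
  have heven := (hpar l).2.mp (by rw [← hN, hone]; exact Subgroup.one_mem _)
  -- translate the count
  have hcount : Nat.card {g : UT3 // ⁅w, rep g * w * (rep g)⁻¹⁆ ∉ Subgroup.upperCentralSeries T 2} =
      l.countP (fun g => decide (⁅w, v g⁆ ∉ Subgroup.upperCentralSeries T 2)) := by
    rw [Nat.card_eq_fintype_card, Fintype.card_subtype, ← Multiset.coe_countP, hl, Finset.coe_toList,
      Multiset.countP_eq_card_filter]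
    rfl
  rw [hcount]
  exact heven

end Cfsg.Agent.Lib.H19.RTW
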