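import Mathlib
import Cfsg.Agent.Lib.H9.S3776Defs
import Cfsg.Agent.Lib.H1.PGroupBasic

/-!
# S3776, piece (6) S1Q: the induction hypothesis for `G ⧸ V` with the induced action, pulled back to `G`
-/

set_option autoImplicit false

namespace Cfsg.Agent.Lib.H19.S3776S1Q

universe u

open Cfsg.Agent.Lib.H9.S3776
open scoped commutatorElement

/-- the induced action on `G ⧸ V` -/
noncomputable def quotAct {G E : Type u} [Group G] [Group E] (φ : E →* MulAut G) (V : Subgroup G)
    [V.Normal] (hinv : ∀ e : E, ∀ v ∈ V, φ e v ∈ V) : E →* MulAut (G ⧸ V) where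
  toFun e := QuotientGroup.congr V V (φ e) (by
    apply le_antisymm
    · rintro _ ⟨v, hv, rfl⟩
      exact hinv e v hv
    · intro v hv
      refine ⟨φ e⁻¹ v, hinv e⁻¹ v hv, ?_⟩
      show φ e (φ e⁻¹ v) = v
      rw [← MulAut.mul_apply, ← map_mul, mul_inv_cancel, map_one, MulAut.one_apply])
  map_one' := by
    ext x
    induction x using QuotientGroup.induction_on with
    | H x => simp
  map_mul' e f := by
    ext x
    induction x using QuotientGroup.induction_on with
    | H x => simp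

@[simp] theorem quotAct_mk {G E : Type u} [Group G] [Group E] (φ : E →* MulAut G) (V : Subgroup G)
    [V.Normal] (hinv : ∀ e : E, ∀ v ∈ V, φ e v ∈ V) (e : E) (x : G) :
    quotAct φ V hinv e (QuotientGroup.mk x : G ⧸ V) = QuotientGroup.mk (φ e x) := rfl

/-- (S1Q) -/
theorem s1q : S1QStmt.{u} := by
  intro G E _ _ _ _ φ V hyp ih fr hroot hcen
  classical
  haveI hVn : V.Normal := by
    constructor
    intro v hv g
    have : g * v * g⁻¹ = v := by rw [fr.cen v hv g, mul_inv_cancel_right]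
    rw [this]; exact hv
  let ψ := quotAct φ V fr.inv
  -- cardinality
  have hcard : Nat.card (G ⧸ V) < Nat.card G := by
    have h1 : Nat.card G = Nat.card (G ⧸ V) * Nat.card V := Subgroup.card_eq_card_quotient_mul_card_subgroup V
    have h2 : 1 < Nat.card V := by
      obtain ⟨x, _, hx, _, _, hx1, _⟩ := fr.two
      rw [Subgroup.one_lt_card_iff_ne_bot]
      intro hbot
      rw [hbot, Subgroup.mem_bot] at hx
      exact hx1 hx
    have h3 : 0 < Nat.card (G ⧸ V) := Nat.card_pos
    rw [h1]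
    nlinarith
  -- facts on squares
  have hmk1 : ∀ x : G, (QuotientGroup.mk x : G ⧸ V) = 1 ↔ x ∈ V := fun x => QuotientGroup.eq_one_iff x
  -- Hyp for the quotient
  have hypQ : Hyp (G ⧸ V) E ψ := by
    refine ⟨hyp.pG.to_quotient V, hyp.solv, hyp.odd, ?_, ?_⟩
    · obtain ⟨x, y, hx, hy, hxy, hx1, hy1⟩ := fr.two
      obtain ⟨zx, hzx, hzx2⟩ := hroot x hx
      obtain ⟨zy, hzy, hzy2⟩ := hroot y hy
      refine ⟨QuotientGroup.mk zx, QuotientGroup.mk zy, ?_, ?_, ?_, ?_, ?_⟩
      · intro h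
        rw [QuotientGroup.eq] at h
        -- v = zx⁻¹ zy ∈ V
        have hv2 : (zx⁻¹ * zy) ^ 2 = 1 := (fr.mem _).1 h
        have hzxc : ∀ g : G, g * zx = zx * g := fun g => Subgroup.mem_center_iff.1 hzx g
        have : y = x := by
          have e1 : zy = zx * (zx⁻¹ * zy) := by group
          rw [← hzy2, ← hzx2, e1, pow_two, pow_two]
          have e2 : zx * (zx⁻¹ * zy) * (zx * (zx⁻¹ * zy)) = zx * ((zx⁻¹ * zy) * zx) * (zx⁻¹ * zy) := by
            group
          rw [e2, hzxc (zx⁻¹ * zy)]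
          have e3 : zx * (zx * (zx⁻¹ * zy)) * (zx⁻¹ * zy) = zx * zx * ((zx⁻¹ * zy) ^ 2) := by
            rw [pow_two]; group
          rw [e3, hv2, mul_one]
        exact hxy this.symm
      · rw [Ne, hmk1, fr.mem, hzx2]; exact hx1
      · rw [← QuotientGroup.mk_pow, hmk1, hzx2]; exact hx
      · rw [Ne, hmk1, fr.mem, hzy2]; exact hy1
      · rw [← QuotientGroup.mk_pow, hmk1, hzy2]; exact hy
    · intro X Y hX1 hX2 hY1 hY2
      induction X using QuotientGroup.induction_on with
      | H x =>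
      induction Y using QuotientGroup.induction_on with
      | H y =>
      rw [← QuotientGroup.mk_pow, hmk1] at hX2 hY2
      rw [Ne, hmk1, fr.mem] at hX1 hY1
      obtain ⟨e, he⟩ := fr.trans (x ^ 2) (y ^ 2) hX2 hY2 hX1 hY1
      refine ⟨e, ?_⟩
      show (QuotientGroup.mk (φ e x) : G ⧸ V) = QuotientGroup.mk y
      rw [QuotientGroup.eq]
      have hx'2 : (φ e x) ^ 2 = y ^ 2 := by rw [← map_pow, he]
      have hx'c : φ e x ∈ Subgroup.center G := hcen _ (by rw [hx'2]; exact hY2)
      have hc : ∀ g : G, g * φ e x = φ e x * g := fun g => Subgroup.mem_center_iff.1 hx'c g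
      have hc' : ∀ g : G, g * (φ e x)⁻¹ = (φ e x)⁻¹ * g := by
        intro g
        have := hc g
        calc g * (φ e x)⁻¹ = (φ e x)⁻¹ * (φ e x * g) * (φ e x)⁻¹ := by group
          _ = (φ e x)⁻¹ * (g * φ e x) * (φ e x)⁻¹ := by rw [this]
          _ = (φ e x)⁻¹ * g := by group
      rw [fr.mem, pow_two]
      calc (φ e x)⁻¹ * y * ((φ e x)⁻¹ * y) = (φ e x)⁻¹ * (y * (φ e x)⁻¹) * y := by group
        _ = (φ e x)⁻¹ * ((φ e x)⁻¹ * y) * y := by rw [hc' y]
        _ = ((φ e x) ^ 2)⁻¹ * y ^ 2 := by rw [pow_two, pow_two]; group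
        _ = 1 := by rw [hx'2]; group
  have hconcl : Concl (G ⧸ V) := ih (G ⧸ V) E ψ hcard hypQ
  rcases hconcl with hcomm | ⟨hcf, hfc, hc⟩
  · left
    intro x y
    rw [← hmk1]
    have := hcomm (QuotientGroup.mk x) (QuotientGroup.mk y)
    rw [QuotientGroup.mk_mul, QuotientGroup.mk_mul, QuotientGroup.mk_mul, QuotientGroup.mk_inv,
      QuotientGroup.mk_inv, this]
    group
  · right
    constructor
    · intro x
      rw [← hmk1, QuotientGroup.mk_pow, QuotientGroup.mk_pow]
      have h1 : (QuotientGroup.mk x : G ⧸ V) ^ 2 ∈ frattini (G ⧸ V) :=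
        Cfsg.Agent.Lib.H1.isPGroup_pow_mem_frattini (p := 2) (hyp.pG.to_quotient V) _
      rw [hfc] at h1
      exact (hc _).1 h1
    · intro x y
      rw [← hmk1, QuotientGroup.mk_pow]
      have h1 : ⁅(QuotientGroup.mk x : G ⧸ V), QuotientGroup.mk y⁆ ∈ commutator (G ⧸ V) := by
        rw [commutator_def]
        exact Subgroup.commutator_mem_commutator (Subgroup.mem_top _) (Subgroup.mem_top _)
      rw [hcf, hfc] at h1
      have h2 := (hc _).1 h1
      rw [commutatorElement_def] at h2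
      rw [QuotientGroup.mk_mul, QuotientGroup.mk_mul, QuotientGroup.mk_mul, QuotientGroup.mk_inv,
        QuotientGroup.mk_inv]
      exact h2

example : S1QStmt.{0} := s1q

end Cfsg.Agent.Lib.H19.S3776S1Q
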