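import Cfsg.Agent.Lib.H5.S3777Defs

/-!
# S3777: the `P3` step (helper19)

`P3StepStmt`: if every maximal (index `p`) subgroup `M` has `M' = G'` pass to `M`; otherwise use `P1`
for a pair `(G, M)` with `M' ≠ G'`.
-/

set_option autoImplicit false
set_option linter.style.haveILetI false

namespace Cfsg.Agent.Lib.H19.S3777P3

open Cfsg.Agent.Lib.H5.S3777

universe u

/-- breadth in a subgroup is at most breadth in the group -/
theorem index_centralizer_subgroup_le {G : Type u} [Group G] [Finite G] (K : Subgroup G) (k : ↥K) :
    (Subgroup.centralizer ({k} : Set ↥K)).index ≤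
      (Subgroup.centralizer ({(k : G)} : Set G)).index := by
  have h1 : Subgroup.centralizer ({k} : Set ↥K) =
      (Subgroup.centralizer ({(k : G)} : Set G)).subgroupOf K := by
    ext x
    simp only [Subgroup.mem_centralizer_iff, Set.mem_singleton_iff, forall_eq,
      Subgroup.mem_subgroupOf]
    constructor
    · intro h
      have := congrArg (Subtype.val) h
      simpa using this
    · intro h
      apply Subtype.ext
      simpa using h
  rw [h1]
  have h2 : ((Subgroup.centralizer ({(k : G)} : Set G)).subgroupOf K).index =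
      (Subgroup.centralizer ({(k : G)} : Set G)).relIndex K := rfl
  rw [h2, ← Subgroup.relIndex_top_right (Subgroup.centralizer ({(k : G)} : Set G))]
  apply Subgroup.relIndex_le_of_le_right le_top
  rw [Subgroup.relIndex_top_right]
  exact Subgroup.index_ne_zero_of_finite

/-- the derived subgroup of `↥K` has the order of `⁅K, K⁆` -/
theorem card_commutator_subgroup {G : Type u} [Group G] (K : Subgroup G) :
    Nat.card ↥(commutator ↥K) = Nat.card ↥⁅K, K⁆ := by
  rw [← Subgroup.map_subtype_commutator K]
  exact Nat.card_congr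
    ((commutator ↥K).equivMapOfInjective K.subtype K.subtype_injective).toEquiv

/-- a nontrivial finite `p`-group has a subgroup of index `p` -/
theorem exists_index_eq {p : ℕ} [Fact p.Prime] {G : Type u} [Group G] [Finite G]
    (hG : IsPGroup p G) (hnt : Nontrivial G) : ∃ M : Subgroup G, M.index = p := by
  obtain ⟨n, hn⟩ := IsPGroup.iff_card.mp hG
  have hp : p.Prime := Fact.out
  have hn0 : n ≠ 0 := by
    intro h0
    rw [h0, pow_zero] at hn
    have : Subsingleton G := (Nat.card_eq_one_iff_unique.mp hn).1
    exact not_subsingleton G this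
  obtain ⟨m, rfl⟩ := Nat.exists_eq_succ_of_ne_zero hn0
  obtain ⟨M, hM⟩ := Sylow.exists_subgroup_card_pow_prime (G := G) p (n := m)
    (by rw [hn]; exact pow_dvd_pow p (Nat.le_succ m))
  refine ⟨M, ?_⟩
  have h := M.card_mul_index
  rw [hM, hn, pow_succ] at h
  exact Nat.eq_of_mul_eq_mul_left (pow_pos hp.pos m) h

/-- **the `P3` step** -/
theorem p3step : P3StepStmt.{u} := by
  intro p _ G _ _ hG hIH hP1 b hb
  have hp : p.Prime := Fact.out
  by_cases hc : commutator G = ⊥
  · rw [hc]
    simp only [Subgroup.mem_bot, Nat.card_unique]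
    exact Nat.one_le_pow _ _ hp.pos
  have hnt : Nontrivial G := by
    by_contra hns
    rw [not_nontrivial_iff_subsingleton] at hns
    exact hc (Subsingleton.elim _ _)
  by_cases hex : ∃ M : Subgroup G, M.index = p ∧ ⁅M, M⁆ ≠ commutator G
  · obtain ⟨M, hM, hne⟩ := hex
    exact hP1 M b ⟨hM, fun y _ => hb y⟩ hne
  · push Not at hex
    obtain ⟨M, hM⟩ := exists_index_eq hG hnt
    have hMc : ⁅M, M⁆ = commutator G := hex M hM
    have hlt : Nat.card ↥M < Nat.card G := by
      have h := M.card_mul_index
      rw [hM] at h
      have hpos : 0 < Nat.card ↥M := Nat.card_pos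
      calc Nat.card ↥M = Nat.card ↥M * 1 := (mul_one _).symm
        _ < Nat.card ↥M * p := (Nat.mul_lt_mul_left hpos).mpr hp.one_lt
        _ = Nat.card G := h
    have hM3 : P3 p ↥M := (hIH ↥M (hG.to_subgroup M) hlt).2.2
    have hle := hM3 b (fun x => (index_centralizer_subgroup_le M x).trans (hb (x : G)))
    rw [card_commutator_subgroup M, hMc] at hle
    exact hle

end Cfsg.Agent.Lib.H19.S3777P3
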