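import Cfsg.Agent.Lib.H5.S3777P1Defs

/-!
# S3777: piece (S6) of the `P1` step (helper19)

The elements outside `M` generate `G`: if they all act trivially on `A / A'`, so does `G`.
-/

set_option autoImplicit false
set_option linter.style.haveILetI false

namespace Cfsg.Agent.Lib.H19.S3777S6

open Cfsg.Agent.Lib.H5.S3777
open scoped commutatorElement

universe u

/-- for a normal subgroup `N`, the elements `g` with `⁅a, g⁆ ∈ N` for all `a ∈ A` form a subgroup -/
def actTriv {G : Type u} [Group G] (A N : Subgroup G) [hN : N.Normal] : Subgroup G where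
  carrier := {g | ∀ a ∈ A, ⁅a, g⁆ ∈ N}
  one_mem' := by
    intro a _
    simp [commutatorElement_def]
  mul_mem' := by
    intro g h hg hh a ha
    have e : ⁅a, g * h⁆ = ⁅a, g⁆ * (g * ⁅a, h⁆ * g⁻¹) := by
      simp only [commutatorElement_def]; group
    rw [e]
    exact mul_mem (hg a ha) (hN.conj_mem _ (hh a ha) g)
  inv_mem' := by
    intro g hg a ha
    have e : ⁅a, g⁻¹⁆ = g⁻¹ * (⁅a, g⁆)⁻¹ * g⁻¹⁻¹ := by
      simp only [commutatorElement_def]; group
    rw [e]
    exact hN.conj_mem _ (inv_mem (hg a ha)) g⁻¹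

theorem mem_actTriv {G : Type u} [Group G] (A N : Subgroup G) [N.Normal] (g : G) :
    g ∈ actTriv A N ↔ ∀ a ∈ A, ⁅a, g⁆ ∈ N := Iff.rfl

/-- a subgroup containing the complement of a proper subgroup is everything -/
theorem eq_top_of_compl_le {G : Type u} [Group G] (M B : Subgroup G) (hM : M ≠ ⊤)
    (hB : ∀ y, y ∉ M → y ∈ B) : B = ⊤ := by
  rw [eq_top_iff]
  intro g _
  by_cases hg : g ∈ M
  · obtain ⟨y, hyM⟩ : ∃ y, y ∉ M := by
      by_contra h
      push Not at h
      exact hM (by rw [eq_top_iff]; intro x _; exact h x)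
    have h1 : g * y ∉ M := fun h => hyM (by simpa using M.mul_mem (M.inv_mem hg) h)
    have h2 : y⁻¹ ∉ M := fun h => hyM (by simpa using M.inv_mem h)
    have e : g = (g * y) * y⁻¹ := by group
    rw [e]
    exact B.mul_mem (hB _ h1) (hB _ h2)
  · exact hB g hg

/-- **(S6)** -/
theorem s6 : S6Stmt.{u} := by
  intro p _ G _ _ M A hM hA hy
  haveI := hA
  have hp : p.Prime := Fact.out
  haveI hN : (⁅A, A⁆).Normal := Subgroup.commutator_normal A A
  have hMtop : M ≠ ⊤ := by
    intro h
    rw [h, Subgroup.index_top] at hM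
    exact hp.one_lt.ne hM
  have hB : ∀ y, y ∉ M → y ∈ actTriv A ⁅A, A⁆ := by
    intro y hyM a ha
    exact hy y hyM (Subgroup.commutator_mem_commutator ha (Subgroup.mem_zpowers y))
  have hBtop := eq_top_of_compl_le M (actTriv A ⁅A, A⁆) hMtop hB
  rw [Subgroup.commutator_le]
  intro a ha g _
  have hg : g ∈ actTriv A ⁅A, A⁆ := hBtop ▸ Subgroup.mem_top g
  exact hg a ha

end Cfsg.Agent.Lib.H19.S3777S6
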