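import Cfsg.Agent.Lib.H19.S3797Defs

/-!
# S3797: the assemblies (helper19)
-/

set_option autoImplicit false
set_option linter.style.haveILetI false

namespace Cfsg.Agent.Lib.H19.S3797

universe u

/-- a normal subgroup of odd index contains every Sylow 2-subgroup -/
theorem sylow_le_of_odd_index {G : Type u} [Group G] [Finite G] (C : Subgroup G) [hC : C.Normal]
    (hodd : ¬ Even C.index) (S : Sylow 2 G) : (S : Subgroup G) ≤ C := by
  intro s hs
  have h2 : IsPGroup 2 (S : Subgroup G) := S.isPGroup'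
  obtain ⟨k, hk⟩ := h2 ⟨s, hs⟩
  have hk' : s ^ 2 ^ k = 1 := by
    have := congrArg Subtype.val hk
    simpa using this
  -- the image of `s` in `G ⧸ C` has odd order and 2-power order
  have h1 : (QuotientGroup.mk' C s) ^ 2 ^ k = 1 := by
    rw [← map_pow, hk', map_one]
  have h3 : (QuotientGroup.mk' C s) ^ C.index = 1 := by
    have : Nat.card (G ⧸ C) = C.index := rfl
    rw [← this]
    exact pow_card_eq_one'
  have hcop : Nat.Coprime (2 ^ k) C.index := by
    apply Nat.Coprime.pow_left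
    rw [Nat.coprime_comm, Nat.coprime_two_right]  
    exact Nat.not_even_iff_odd.1 hodd
  have h4 : QuotientGroup.mk' C s = 1 := by
    have hd1 := orderOf_dvd_of_pow_eq_one h1
    have hd3 := orderOf_dvd_of_pow_eq_one h3
    have := Nat.dvd_gcd hd1 hd3
    rw [hcop] at this
    exact orderOf_eq_one_iff.1 (Nat.dvd_one.1 this)
  exact (QuotientGroup.eq_one_iff s).1 h4

/-- **Theorem T from the pieces** -/
theorem t_of (hFrame : FrameStmt.{u}) (hIdx2 : Idx2Stmt.{u}) (hDesc : DescStmt.{u})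
    (hE0 : E0Stmt.{u}) (hCrit : CritStmt.{u}) (hSer : SerStmt.{u}) (hFin : FinStmt.{u})
    (hML : MLStmt.{u}) : TStmt.{u} := by
  have key : ∀ n : ℕ, ∀ (G : Type u) [Group G] [Finite G], Nat.card G = n → THyp G →
      ∀ S : Sylow 2 G, (S : Subgroup G).Normal := by
    intro n
    induction n using Nat.strong_induction_on with
    | _ n ih =>
      intro G _ _ hn hT S
      have hIH : IH G := by
        intro H _ _ hlt hH T
        exact ih (Nat.card H) (hn ▸ hlt) H rfl hH T
      obtain ⟨Q, V, fr⟩ := hFrame G hT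
      by_cases hev : Even (Subgroup.centralizer (V : Set G)).index
      · obtain ⟨G1, hG1n, hG1i⟩ := hIdx2 G hT.1 Q V fr hev
        exact hDesc G hT hIH Q V fr G1 hG1n hG1i S
      · haveI := fr.Vn
        haveI : (Subgroup.centralizer (V : Set G)).Normal := Subgroup.normal_centralizer
        have hSC : (S : Subgroup G) ≤ Subgroup.centralizer (V : Set G) :=
          sylow_le_of_odd_index _ hev S
        obtain ⟨E, hEodd, hEn, hEt, hEf⟩ := hE0 G Q V fr S hSC
        obtain ⟨K, cr⟩ := hCrit G Q fr.Qn fr.Q2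
        have hSV : ∀ s ∈ (S : Subgroup G), ∀ v ∈ V, s * v = v * s := by
          intro s hs v hv
          exact ((Subgroup.mem_centralizer_iff.1 (hSC hs)) v hv).symm
        have hVK : V ≤ K := by
          intro v hv
          apply cr.selfc v (fr.VQ hv)
          intro k hk
          exact (fr.Vcen v hv k (cr.KQ hk)).symm
        have hML' : ∀ K1 : Subgroup G, K1.Normal → V ≤ K1 → K1 ≤ K → (∀ k ∈ K1, k ^ 2 ∈ V) →
            MLConcl V K1 (S : Subgroup G) := by
          intro K1 hK1n hVK1 hK1K hsq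
          exact hML G V K1 (S : Subgroup G) E fr.Vn hK1n hVK1 fr.Vmem
            (fun v hv k hk => fr.Vcen v hv k (cr.KQ (hK1K hk))) hsq S.isPGroup' hSV hEodd hEn hEt hEf
        have hser := hSer G Q V K fr cr (S : Subgroup G) hSV hML'
        have hSQ := hFin G Q V K fr cr S hSC hser
        have : Q = (S : Subgroup G) := S.is_maximal' fr.Q2 hSQ
        rw [← this]
        exact fr.Qn
  intro G _ _ hT S
  exact key _ G rfl hT S

/-- **S3797 from Theorem T and the reduction pieces** -/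
theorem main_of (hT : TStmt.{u}) (hA : RedAStmt.{u}) (hB : RedBStmt.{u}) (hC : RedCStmt.{u})
    (hH : HomoStmt.{u}) {G : Type u} [Group G] [Finite G] (hG : Group.IsSolvable G)
    (_heven : Even (Nat.card G)) (S : Sylow 2 G)
    (htwo : ∃ x y : G, x ∈ (S : Subgroup G) ∧ y ∈ (S : Subgroup G) ∧ x ≠ y ∧ x ≠ 1 ∧ x ^ 2 = 1 ∧
      y ≠ 1 ∧ y ^ 2 = 1)
    (hconj : ∀ x y : G, x ≠ 1 → x ^ 2 = 1 → y ≠ 1 → y ^ 2 = 1 → IsConj x y) :
    Cfsg.PLengthLE 2 1 G ∧
      ((∃ m r : ℕ, Nonempty (↥(S : Subgroup G) ≃* (Fin r → Multiplicative (ZMod (2 ^ m))))) ∨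
        (¬ IsMulCommutative (S : Subgroup G) ∧
          ∃ Y : Subgroup (MulAut ↥(S : Subgroup G)), Group.IsSolvable Y ∧
            ∀ x y : ↥(S : Subgroup G), x ≠ 1 → x ^ 2 = 1 → y ≠ 1 → y ^ 2 = 1 → ∃ a ∈ Y, a x = y)) := by
  obtain ⟨N, hNn, hNodd, hTN⟩ := hA G hG S htwo hconj
  haveI := hNn
  have hnorm := hT (G ⧸ N) hTN
  refine ⟨hB G N hNodd hnorm, ?_⟩
  obtain ⟨Y, hYs, hYt⟩ := hC G N hG hNodd hnorm hconj S
  by_cases hcomm : IsMulCommutative (S : Subgroup G)
  · left
    refine hH ↥(S : Subgroup G) ?_ ?_ ⟨Y, hYt⟩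
    · exact S.isPGroup'
    · intro a b
      exact hcomm.is_comm.comm a b
  · right
    exact ⟨hcomm, Y, hYs, hYt⟩

end Cfsg.Agent.Lib.H19.S3797
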