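import Cfsg.Agent.Lib.H19.S3797Defs

/-!
# S3797, piece (SER): the series `L j = {k ∈ K | k ^ 2 ^ j = 1}` of the critical subgroup (helper19)
-/

set_option autoImplicit false
set_option linter.style.haveILetI false

namespace Cfsg.Agent.Lib.H19.S3797

universe u

section
variable {G : Type u} [Group G]

/-- commutators of `K` have square one when squares and commutators of `K` are central in `K` -/
theorem comm_sq_eq_one {K : Subgroup G}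
    (sqc : ∀ k ∈ K, ∀ c ∈ K, k ^ 2 * c = c * k ^ 2)
    (comc : ∀ a ∈ K, ∀ b ∈ K, ∀ c ∈ K, (a * b * a⁻¹ * b⁻¹) * c = c * (a * b * a⁻¹ * b⁻¹))
    {a b : G} (ha : a ∈ K) (hb : b ∈ K) : (a * b * a⁻¹ * b⁻¹) ^ 2 = 1 := by
  have hcb : (a * b * a⁻¹ * b⁻¹) * b = b * (a * b * a⁻¹ * b⁻¹) := comc a ha b hb b hb
  have h1 : a * b * a⁻¹ = (a * b * a⁻¹ * b⁻¹) * b := by group
  have h2 : (a * b * a⁻¹) ^ 2 = b ^ 2 := by
    have h : b ^ 2 * a = a * b ^ 2 := sqc b hb a ha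
    calc (a * b * a⁻¹) ^ 2 = (a * b ^ 2) * a⁻¹ := by rw [pow_two, pow_two]; group
      _ = (b ^ 2 * a) * a⁻¹ := by rw [h]
      _ = b ^ 2 := by rw [mul_assoc, mul_inv_cancel, mul_one]
  have h3 : ((a * b * a⁻¹ * b⁻¹) * b) ^ 2 = (a * b * a⁻¹ * b⁻¹) ^ 2 * b ^ 2 :=
    (show Commute (a * b * a⁻¹ * b⁻¹) b from hcb).mul_pow 2
  rw [h1, h3] at h2
  exact mul_eq_right.1 h2

/-- `(a b)^4 = a^4 b^4` in `K` -/
theorem mul_pow_four {K : Subgroup G}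
    (sqc : ∀ k ∈ K, ∀ c ∈ K, k ^ 2 * c = c * k ^ 2)
    (comc : ∀ a ∈ K, ∀ b ∈ K, ∀ c ∈ K, (a * b * a⁻¹ * b⁻¹) * c = c * (a * b * a⁻¹ * b⁻¹))
    {a b : G} (ha : a ∈ K) (hb : b ∈ K) : (a * b) ^ 4 = a ^ 4 * b ^ 4 := by
  -- `c = b⁻¹ a⁻¹ b a`, `b a = a b c`
  have hbi : b⁻¹ ∈ K := K.inv_mem hb
  have hai : a⁻¹ ∈ K := K.inv_mem ha
  have hcK : b⁻¹ * a⁻¹ * b * a ∈ K := K.mul_mem (K.mul_mem (K.mul_mem hbi hai) hb) ha
  have hc_eq : b⁻¹ * a⁻¹ * b * a = b⁻¹ * a⁻¹ * (b⁻¹)⁻¹ * (a⁻¹)⁻¹ := by simp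
  have hc2 : (b⁻¹ * a⁻¹ * b * a) ^ 2 = 1 := by
    rw [hc_eq]; exact comm_sq_eq_one sqc comc hbi hai
  have hcc : ∀ x ∈ K, Commute (b⁻¹ * a⁻¹ * b * a) x := by
    intro x hx
    show (b⁻¹ * a⁻¹ * b * a) * x = x * (b⁻¹ * a⁻¹ * b * a)
    rw [hc_eq]; exact comc _ hbi _ hai x hx
  have hsq : (a * b) ^ 2 = a ^ 2 * (b ^ 2 * (b⁻¹ * a⁻¹ * b * a)) := by
    have hcb : (b⁻¹ * a⁻¹ * b * a) * b = b * (b⁻¹ * a⁻¹ * b * a) := hcc b hb
    calc (a * b) ^ 2 = a * a * b * ((b⁻¹ * a⁻¹ * b * a) * b) := by rw [pow_two]; group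
      _ = a * a * b * (b * (b⁻¹ * a⁻¹ * b * a)) := by rw [hcb]
      _ = a ^ 2 * (b ^ 2 * (b⁻¹ * a⁻¹ * b * a)) := by rw [pow_two, pow_two]; group
  have hb2K : b ^ 2 ∈ K := K.pow_mem hb 2
  have hYK : b ^ 2 * (b⁻¹ * a⁻¹ * b * a) ∈ K := K.mul_mem hb2K hcK
  have hXY : Commute (a ^ 2) (b ^ 2 * (b⁻¹ * a⁻¹ * b * a)) := sqc a ha _ hYK
  have hbc : Commute (b ^ 2) (b⁻¹ * a⁻¹ * b * a) := (hcc _ hb2K).symm
  calc (a * b) ^ 4 = ((a * b) ^ 2) ^ 2 := by rw [← pow_mul]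
    _ = (a ^ 2 * (b ^ 2 * (b⁻¹ * a⁻¹ * b * a))) ^ 2 := by rw [hsq]
    _ = (a ^ 2) ^ 2 * (b ^ 2 * (b⁻¹ * a⁻¹ * b * a)) ^ 2 := hXY.mul_pow 2
    _ = (a ^ 2) ^ 2 * ((b ^ 2) ^ 2 * (b⁻¹ * a⁻¹ * b * a) ^ 2) := by rw [hbc.mul_pow 2]
    _ = a ^ 4 * b ^ 4 := by rw [hc2, mul_one, ← pow_mul, ← pow_mul]

/-- `(a b)^(2^j) = a^(2^j) b^(2^j)` in `K` for `j ≥ 2` -/
theorem mul_pow_two_pow {K : Subgroup G}
    (sqc : ∀ k ∈ K, ∀ c ∈ K, k ^ 2 * c = c * k ^ 2)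
    (comc : ∀ a ∈ K, ∀ b ∈ K, ∀ c ∈ K, (a * b * a⁻¹ * b⁻¹) * c = c * (a * b * a⁻¹ * b⁻¹))
    {a b : G} (ha : a ∈ K) (hb : b ∈ K) (j : ℕ) :
    (a * b) ^ 2 ^ (j + 2) = a ^ 2 ^ (j + 2) * b ^ 2 ^ (j + 2) := by
  have h4 : (2 : ℕ) ^ (j + 2) = 4 * 2 ^ j := by rw [pow_add]; ring
  have hcomm : Commute (a ^ 4) (b ^ 4) := by
    have h : a ^ 4 = (a ^ 2) ^ 2 := by rw [← pow_mul]
    rw [h]
    exact (show Commute (a ^ 2) (b ^ 4) from sqc a ha _ (K.pow_mem hb 4)).pow_left 2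
  rw [h4, pow_mul, pow_mul a, pow_mul b, mul_pow_four sqc comc ha hb, hcomm.mul_pow]

end

/-- **(SER)** -/
theorem ser : SerStmt.{u} := by
  intro G _ _ Q V K fr cr S hSV hML
  haveI hKn := cr.Kn
  haveI hVn := fr.Vn
  have hVK : V ≤ K := by
    intro v hv
    apply cr.selfc v (fr.VQ hv)
    intro k hk
    exact (fr.Vcen v hv k (cr.KQ hk)).symm
  -- closure under multiplication of `{k ∈ K | k^(2^j) = 1}`
  have hmul : ∀ j : ℕ, ∀ a ∈ K, ∀ b ∈ K, a ^ 2 ^ j = 1 → b ^ 2 ^ j = 1 → (a * b) ^ 2 ^ j = 1 := by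
    intro j a ha b hb h1 h2
    rcases j with _ | _ | j
    · simp only [pow_zero, pow_one] at h1 h2 ⊢
      rw [h1, h2, one_mul]
    · simp only [zero_add, pow_one] at h1 h2 ⊢
      have hav : a ∈ V := (fr.Vmem a).2 h1
      have hbv : b ∈ V := (fr.Vmem b).2 h2
      exact (fr.Vmem _).1 (V.mul_mem hav hbv)
    · rw [mul_pow_two_pow cr.sqc cr.comc ha hb, h1, h2, one_mul]
  let L : ℕ → Subgroup G := fun j =>
    { carrier := {k | k ∈ K ∧ k ^ 2 ^ j = 1}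
      one_mem' := ⟨K.one_mem, one_pow _⟩
      mul_mem' := fun {a b} ha hb => ⟨K.mul_mem ha.1 hb.1, hmul j a ha.1 b hb.1 ha.2 hb.2⟩
      inv_mem' := fun {a} ha => ⟨K.inv_mem ha.1, by rw [inv_pow, ha.2, inv_one]⟩ }
  have hLmem : ∀ j k, k ∈ L j ↔ k ∈ K ∧ k ^ 2 ^ j = 1 := fun j k => Iff.rfl
  -- a uniform bound for the exponent
  have hexp : ∀ k ∈ K, k ^ 2 ^ Nat.card G = 1 := by
    intro k hk
    obtain ⟨m, hm⟩ := fr.Q2 ⟨k, cr.KQ hk⟩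
    have hm' : k ^ 2 ^ m = 1 := by
      have := congrArg Subtype.val hm
      simpa using this
    have hd : orderOf k ∣ 2 ^ m := orderOf_dvd_of_pow_eq_one hm'
    obtain ⟨a, _, ha⟩ := (Nat.dvd_prime_pow Nat.prime_two).1 hd
    have hle : orderOf k ≤ Nat.card G := orderOf_le_card
    have halt : a < Nat.card G := by
      have : a < 2 ^ a := Nat.lt_two_pow_self
      rw [ha] at hle
      omega
    have : orderOf k ∣ 2 ^ Nat.card G := by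
      rw [ha]; exact pow_dvd_pow 2 halt.le
    exact orderOf_dvd_iff_pow_eq_one.1 this
  refine ⟨Nat.card G, L, ?_, ?_, ?_, ?_, ?_⟩
  · -- L 0 = ⊥
    ext k
    rw [hLmem, Subgroup.mem_bot]
    constructor
    · rintro ⟨_, h⟩; simpa using h
    · rintro rfl; exact ⟨K.one_mem, one_pow _⟩
  · -- L r = K
    ext k
    rw [hLmem]
    exact ⟨fun h => h.1, fun h => ⟨h, hexp k h⟩⟩
  · -- normal
    intro j
    constructor
    intro k hk g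
    rw [hLmem] at hk ⊢
    refine ⟨hKn.conj_mem k hk.1 g, ?_⟩
    rw [conj_pow, hk.2, mul_one, mul_inv_cancel]
  · -- monotone
    intro j k hk
    rw [hLmem] at hk ⊢
    refine ⟨hk.1, ?_⟩
    rw [pow_succ, pow_mul, hk.2, one_pow]
  · -- the action of S
    intro s hs i _ k hk
    rw [hLmem] at hk ⊢
    have hk1 : s * k * s⁻¹ ∈ K := hKn.conj_mem k hk.1 s
    have hwK : s * k * s⁻¹ * k⁻¹ ∈ K := K.mul_mem hk1 (K.inv_mem hk.1)
    refine ⟨hwK, ?_⟩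
    rcases i with _ | _ | j
    · -- k ∈ V
      simp only [zero_add, pow_one, pow_zero] at hk ⊢
      have hkv : k ∈ V := (fr.Vmem k).2 hk.2
      have := hSV s hs k hkv
      rw [this]; group
    · -- main lemma for `L 2`
      simp only [zero_add, pow_one]
      have hL2n : (L 2).Normal := by
        constructor
        intro x hx g
        rw [hLmem] at hx ⊢
        refine ⟨hKn.conj_mem x hx.1 g, ?_⟩
        rw [conj_pow, hx.2, mul_one, mul_inv_cancel]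
      have hVL2 : V ≤ L 2 := by
        intro v hv
        rw [hLmem]
        refine ⟨hVK hv, ?_⟩
        have : v ^ 2 = 1 := (fr.Vmem v).1 hv
        have e : (2 : ℕ) ^ 2 = 2 * 2 := by norm_num
        rw [e, pow_mul, this, one_pow]
      have hL2K : L 2 ≤ K := fun x hx => ((hLmem 2 x).1 hx).1
      have hsq : ∀ x ∈ L 2, x ^ 2 ∈ V := by
        intro x hx
        rw [hLmem] at hx
        apply (fr.Vmem _).2
        have e : (2 : ℕ) ^ 2 = 2 * 2 := by norm_num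
        rw [← pow_mul, ← e]
        exact hx.2
      have hk2 : k ∈ L 2 := (hLmem 2 k).2 hk
      have := hML (L 2) hL2n hVL2 hL2K hsq s hs k hk2
      exact (fr.Vmem _).1 this
    · -- j + 2
      have hpow := mul_pow_two_pow cr.sqc cr.comc hk1 (K.inv_mem hk.1) j
      rw [hpow, conj_pow, inv_pow]
      -- v := k ^ 2 ^ (j+2) lies in V
      have hv : k ^ 2 ^ (j + 2) ∈ V := by
        apply (fr.Vmem _).2
        rw [← pow_mul, ← pow_succ]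
        exact hk.2
      have hsv := hSV s hs _ hv
      rw [hsv]; group

end Cfsg.Agent.Lib.H19.S3797
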