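import Cfsg.Agent.Lib.H22.S3901Defs
import Cfsg.Agent.S0071

/-!
# S3901, piece (3) STEPB (helper19, twin)

A finite group whose order is not a prime power has a nontrivial `p`-subgroup normalised by an
element of prime order `q ≠ p`.  Route: Frobenius' normal `p`-complement theorem (landed S0071).
-/

set_option autoImplicit false

namespace Cfsg.Agent.Lib.H19.S3901StepB

open Cfsg.Agent.Lib.H22.S3901Defs

universe u

/-- Case A: the Frobenius condition fails. -/
theorem caseA {X : Type u} [Group X] [Finite X] {p : ℕ} (hp : p.Prime)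
    (Q : Subgroup X) (hQ : IsPGroup p Q) (g : X)
    (hg : g ∈ Subgroup.normalizer (Q : Set X)) (hcop : Nat.Coprime (orderOf g) p)
    (hgc : g ∉ Subgroup.centralizer (Q : Set X)) :
    ∃ p q : ℕ, p.Prime ∧ q.Prime ∧ p ≠ q ∧ ∃ H : Subgroup X, IsPGroup p H ∧ H ≠ ⊥ ∧
      ∃ y : X, y ∈ Subgroup.normalizer (H : Set X) ∧ orderOf y = q := by
  have hQne : Q ≠ ⊥ := by
    rintro rfl
    apply hgc
    rw [Subgroup.mem_centralizer_iff]
    intro h hh
    have : h = 1 := by simpa using hh
    subst this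
    simp
  have hg1 : orderOf g ≠ 1 := by
    intro h1
    rw [orderOf_eq_one_iff] at h1
    apply hgc
    rw [h1]
    exact Subgroup.one_mem _
  obtain ⟨q, hq, hqd⟩ := Nat.exists_prime_and_dvd hg1
  have hpq : p ≠ q := by
    rintro rfl
    have h2 : p ∣ Nat.gcd (orderOf g) p := Nat.dvd_gcd hqd dvd_rfl
    rw [hcop.gcd_eq_one] at h2
    exact hp.one_lt.ne' (Nat.dvd_one.mp h2)
  refine ⟨p, q, hp, hq, hpq, Q, hQ, hQne, g ^ (orderOf g / q), ?_, ?_⟩
  · exact Subgroup.pow_mem _ hg _
  · exact orderOf_pow_orderOf_div (orderOf_pos g).ne' hqd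

/-- Case B: a normal `p`-complement exists. -/
theorem caseB {X : Type u} [Group X] [Finite X] {p : ℕ} [hp : Fact p.Prime] (P : Sylow p X)
    (hpd : p ∣ Nat.card X)
    (hX : ¬ ∃ p k : ℕ, p.Prime ∧ Nat.card X = p ^ k)
    (N : Subgroup X) (hN : N.Normal) (hc : N.IsComplement' (P : Subgroup X)) :
    ∃ p q : ℕ, p.Prime ∧ q.Prime ∧ p ≠ q ∧ ∃ H : Subgroup X, IsPGroup p H ∧ H ≠ ⊥ ∧
      ∃ y : X, y ∈ Subgroup.normalizer (H : Set X) ∧ orderOf y = q := by
  haveI := hN
  have hcardN : (P : Subgroup X).index = Nat.card N := hc.index_eq_card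
  have hpN : ¬ p ∣ Nat.card N := by
    rw [← hcardN]; exact P.not_dvd_index
  have hN1 : Nat.card N ≠ 1 := by
    intro h1
    apply hX
    obtain ⟨k, hk⟩ := P.2.exists_card_eq
    refine ⟨p, k, hp.out, ?_⟩
    rw [← hc.card_mul_card, h1, one_mul, hk]
  obtain ⟨q, hq, hqd⟩ := Nat.exists_prime_and_dvd hN1
  have hqp : q ≠ p := by
    rintro rfl
    exact hpN hqd
  haveI : Fact q.Prime := ⟨hq⟩
  let Q0 : Sylow q N := default
  have hQ0ne : (Q0 : Subgroup N) ≠ ⊥ := Q0.ne_bot_of_dvd_card hqd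
  set H : Subgroup X := (Q0 : Subgroup N).map N.subtype with hH
  have hHp : IsPGroup q H := Q0.2.map N.subtype
  have hHne : H ≠ ⊥ := by
    intro h
    apply hQ0ne
    exact (Subgroup.map_eq_bot_iff_of_injective _ N.subtype_injective).mp h
  have hfr : Subgroup.normalizer (H : Set X) ⊔ N = ⊤ := Sylow.normalizer_sup_eq_top Q0
  -- p divides the index of N
  have hpidx : p ∣ N.index := by
    have h1 : Nat.card N * N.index = Nat.card X := N.card_mul_index
    rw [← h1] at hpd
    exact ((Nat.Prime.dvd_mul hp.out).mp hpd).resolve_left hpN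
  -- index of N equals the relative index in the normalizer
  have hrel : N.relIndex (Subgroup.normalizer (H : Set X)) = N.index := by
    rw [← Subgroup.relIndex_sup_right, hfr, Subgroup.relIndex_top_right]
  have hpA : p ∣ Nat.card (Subgroup.normalizer (H : Set X)) := by
    have h2 : N.relIndex (Subgroup.normalizer (H : Set X)) ∣
        Nat.card (Subgroup.normalizer (H : Set X)) := Subgroup.index_dvd_card _
    rw [hrel] at h2
    exact dvd_trans hpidx h2
  obtain ⟨a, ha⟩ := exists_prime_orderOf_dvd_card' p hpA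
  refine ⟨q, p, hq, hp.out, hqp, H, hHp, hHne, (a : X), a.2, ?_⟩
  rw [Subgroup.orderOf_coe]; exact ha

theorem stepB : StepBStmt.{u} := by
  intro X _ _ hX
  have hX1 : Nat.card X ≠ 1 := by
    intro h1
    exact hX ⟨2, 0, Nat.prime_two, by simpa using h1⟩
  obtain ⟨p, hp, hpd⟩ := Nat.exists_prime_and_dvd hX1
  haveI : Fact p.Prime := ⟨hp⟩
  let P : Sylow p X := default
  by_cases hF : ∀ Q : Subgroup X, Q ≤ (P : Subgroup X) →
      ∀ g ∈ Subgroup.normalizer (Q : Set X), Nat.Coprime (orderOf g) p →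
        g ∈ Subgroup.centralizer (Q : Set X)
  · obtain ⟨N, hN, hc⟩ := (Cfsg.Agent.S0071.result P).mpr hF
    exact caseB P hpd hX N hN hc
  · push_neg at hF
    obtain ⟨Q, hQP, g, hg, hcop, hgc⟩ := hF
    exact caseA hp Q (P.2.to_le hQP) g hg hcop hgc

example : StepBStmt.{0} := stepB
example : StepBStmt.{3} := stepB

end Cfsg.Agent.Lib.H19.S3901StepB
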