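/-
S4625 piece SU (architect helper6), part 1 (helper19): in the flag-form unitary group `GS φ` the unipotent radical
`Us φ` is generated by root elements (row elimination by right multiplication), and in characteristic 2 the squares of
these root elements lie in the derived subgroup of `Us φ`.
-/
import Cfsg.Agent.Lib.H8.FBNRefl
import Cfsg.Agent.Lib.H28.FBNROOT
import Cfsg.Agent.Lib.H1.FBNNONTRIV
import Cfsg.Agent.Lib.H25.FBNGEND
import Cfsg.Agent.Lib.H25.DBNUGEN
import Cfsg.Agent.Lib.H6.SEADefs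

set_option autoImplicit false
set_option linter.unusedSimpArgs false
set_option linter.unusedVariables false
set_option linter.unusedSectionVars false

namespace Cfsg.Agent.Lib.H19.SEASU

open Matrix Cfsg.Agent.Lib.H12.DCos Cfsg.Agent.Lib.H8.FBN
open Cfsg.Agent.Lib.H25.DBN (mul_xSm_apply xSm_diag URows)

variable {F : Type*} [Field F] {n : ℕ} (φ : F →+* F)

/-! ### right multiplication by root elements -/

/-- columns of `g * xLm` -/
theorem mul_xLm_apply (a : Fin n) (c : F) (g : Matrix (Fin n) (Fin n) F) (t u : Fin n) :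
    (g * xLm a c) t u = g t u + (if u = a.rev then g t a * c else 0) := by
  unfold xLm
  rw [Matrix.mul_add, Matrix.mul_one, Matrix.add_apply]
  congr 1
  by_cases h : u = a.rev
  · subst h; rw [if_pos rfl, Matrix.mul_single_apply_same]
  · rw [if_neg h, Matrix.mul_single_apply_of_ne _ _ _ _ _ h]

/-- columns of `g * xMm` -/
theorem mul_xMm_apply (a m : Fin n) (α β : F) (g : Matrix (Fin n) (Fin n) F) (t u : Fin n) :
    (g * xMm φ a m α β) t u =
      g t u + (if u = m then g t a * α else 0) - (if u = a.rev then g t m * φ α else 0) +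
        (if u = a.rev then g t a * β else 0) := by
  unfold xMm
  rw [Matrix.mul_add, Matrix.mul_sub, Matrix.mul_add, Matrix.mul_one, Matrix.add_apply, Matrix.sub_apply,
    Matrix.add_apply]
  congr 1
  · congr 1
    · congr 1
      by_cases h : u = m
      · subst h; rw [if_pos rfl, Matrix.mul_single_apply_same]
      · rw [if_neg h, Matrix.mul_single_apply_of_ne _ _ _ _ _ h]
    · by_cases h : u = a.rev
      · subst h; rw [if_pos rfl, Matrix.mul_single_apply_same]
      · rw [if_neg h, Matrix.mul_single_apply_of_ne _ _ _ _ _ h]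
  · by_cases h : u = a.rev
    · subst h; rw [if_pos rfl, Matrix.mul_single_apply_same]
    · rw [if_neg h, Matrix.mul_single_apply_of_ne _ _ _ _ _ h]

theorem xLm_diag (a : Fin n) (ha : a ≠ a.rev) (c : F) (t : Fin n) : xLm a c t t = 1 := by
  have h3 : ¬ (t = a ∧ t = a.rev) := fun h => ha (h.1.symm.trans h.2)
  rw [Cfsg.Agent.Lib.H1.FBN.xLm_apply, Matrix.one_apply_eq, if_neg h3, add_zero]

theorem xMm_diag (a m : Fin n) (hm : m.rev = m) (ha : a ≠ a.rev) (α β : F) (t : Fin n) :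
    xMm φ a m α β t t = 1 := by
  have ham : a ≠ m := fun h' => ha (by rw [h', hm])
  have ham' : a.rev ≠ m := fun h' => ham (by rw [← Fin.rev_rev a, h', hm])
  have h1 : ¬ (t = a ∧ t = m) := fun h => ham (h.1.symm.trans h.2)
  have h2 : ¬ (t = m ∧ t = a.rev) := fun h => ham' (h.2.symm.trans h.1)
  have h3 : ¬ (t = a ∧ t = a.rev) := fun h => ha (h.1.symm.trans h.2)
  rw [Cfsg.Agent.Lib.H1.FBN.xMm_apply, Matrix.one_apply_eq, if_neg h1, if_neg h2, if_neg h3]
  ring

/-! ### the generating set -/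

/-- the root elements of `Us φ` -/
def rootSet : Set ↥(GS (n := n) φ) :=
  {g | ∃ (a b : Fin n) (c : F), a < b ∧ a ≠ a.rev ∧ b ≠ b.rev ∧
      (g.1 : Matrix (Fin n) (Fin n) F) = xSm φ a b c} ∪
    ({g | ∃ (a : Fin n) (c : F), a < a.rev ∧ (g.1 : Matrix (Fin n) (Fin n) F) = xLm a c} ∪
      {g | ∃ (a m : Fin n) (α β : F), m.rev = m ∧ a < m ∧
        (g.1 : Matrix (Fin n) (Fin n) F) = xMm φ a m α β})

theorem mem_Us_of_xSm {g : ↥(GS (n := n) φ)} (a b : Fin n) (c : F) (hab : a < b)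
    (hg : (g.1 : Matrix (Fin n) (Fin n) F) = xSm φ a b c) : g ∈ Us φ := by
  refine ⟨?_, ?_⟩
  · rw [hg]; exact Cfsg.Agent.Lib.H1.FBN.xSm_isUp φ a b hab c
  · intro t; rw [hg]; exact xSm_diag φ a b (ne_of_lt hab) c t

theorem mem_Us_of_xLm {g : ↥(GS (n := n) φ)} (a : Fin n) (c : F) (ha : a < a.rev)
    (hg : (g.1 : Matrix (Fin n) (Fin n) F) = xLm a c) : g ∈ Us φ := by
  refine ⟨?_, ?_⟩
  · rw [hg]; exact Cfsg.Agent.Lib.H1.FBN.xLm_isUp a ha c
  · intro t; rw [hg]; exact xLm_diag a (ne_of_lt ha) c t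

theorem mem_Us_of_xMm {g : ↥(GS (n := n) φ)} (a m : Fin n) (α β : F) (hm : m.rev = m) (ham : a < m)
    (hg : (g.1 : Matrix (Fin n) (Fin n) F) = xMm φ a m α β) : g ∈ Us φ := by
  have hma : m < a.rev := by
    have := Fin.rev_lt_rev.mpr ham
    rwa [hm] at this
  refine ⟨?_, ?_⟩
  · rw [hg]; exact Cfsg.Agent.Lib.H25.FBN.xMm_isUp φ a m α β ham hma
  · intro t; rw [hg]; exact xMm_diag φ a m hm (ne_of_lt (lt_trans ham hma)) α β t

theorem rootSet_subset_Us : rootSet (n := n) φ ⊆ (Us (n := n) φ : Set ↥(GS (n := n) φ)) := by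
  rintro g (⟨a, b, c, hab, -, -, hg⟩ | ⟨a, c, ha, hg⟩ | ⟨a, m, α, β, hm, ham, hg⟩)
  · exact mem_Us_of_xSm φ a b c hab hg
  · exact mem_Us_of_xLm φ a c ha hg
  · exact mem_Us_of_xMm φ a m α β hm ham hg

/-! ### row elimination -/

/-- the elimination step for the entry `(k, l)` -/
theorem clear_entry (hφ2 : ∀ x, φ (φ x) = x) (hO : ∃ β : F, β + φ β + 1 = 0) (k : ℕ) (hk : k < n / 2)
    (u : ↥(GS (n := n) φ)) (hu : u ∈ Us φ) (hR : URows k (u.1 : Matrix (Fin n) (Fin n) F))
    (l : ℕ) (hkl : k < l) (hl : l < n - 1 - k) :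
    ∃ x ∈ Subgroup.closure (rootSet (n := n) φ), x ∈ Us φ ∧
      URows k ((u * x).1 : Matrix (Fin n) (Fin n) F) ∧
      (∀ i c : Fin n, (i : ℕ) = k → (c : ℕ) = l → ((u * x).1 : Matrix (Fin n) (Fin n) F) i c = 0) ∧
      (∀ i c : Fin n, (i : ℕ) = k → (c : ℕ) ≠ l → (c : ℕ) ≠ n - 1 - k →
        ((u * x).1 : Matrix (Fin n) (Fin n) F) i c = (u.1 : Matrix (Fin n) (Fin n) F) i c) := by
  set kk : Fin n := ⟨k, by omega⟩ with hkkdef
  set cl : Fin n := ⟨l, by omega⟩ with hcldef
  have hkkv : (kk : ℕ) = k := rfl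
  have hclv : (cl : ℕ) = l := rfl
  have hkkr : (kk.rev : ℕ) = n - 1 - k := by rw [Fin.val_rev, hkkv]; omega
  have hclr : (cl.rev : ℕ) = n - 1 - l := by rw [Fin.val_rev, hclv]; omega
  have hlt : kk < cl := by rw [Fin.lt_def, hkkv, hclv]; exact hkl
  have ha : kk ≠ kk.rev := by
    intro h; have := congrArg Fin.val h; rw [hkkr, hkkv] at this; omega
  have hclkr : cl ≠ kk.rev := by
    intro h; have := congrArg Fin.val h; rw [hkkr, hclv] at this; omega
  have hkk : (u.1 : Matrix (Fin n) (Fin n) F) kk kk = 1 := hu.2 kk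
  -- rows `< k`
  have hrow0 : ∀ i : Fin n, (i : ℕ) < k → ∀ c : Fin n, (c : ℕ) ≠ (i : ℕ) →
      (u.1 : Matrix (Fin n) (Fin n) F) i c = 0 := by
    intro i hi c hci
    rw [hR i c hi, Matrix.one_apply_ne (fun h => hci (by rw [h]))]
  by_cases hmid : cl.rev = cl
  · -- the middle column
    obtain ⟨β0, hβ0⟩ := hO
    set α : F := -((u.1 : Matrix (Fin n) (Fin n) F) kk cl) with hα
    set β : F := β0 * (α * φ α) with hβ
    have hαβ : β + φ β + α * φ α = 0 := by
      rw [hβ, map_mul, map_mul, hφ2]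
      linear_combination (α * φ α) * hβ0
    set x : ↥(GS (n := n) φ) := mkGS φ (xMm φ kk cl α β)
      (Cfsg.Agent.Lib.H28.FBN.xMm_mul_star φ hφ2 kk cl hmid ha α β hαβ) with hx
    have hxv : (x.1 : Matrix (Fin n) (Fin n) F) = xMm φ kk cl α β := rfl
    have hxU : x ∈ Us φ := mem_Us_of_xMm φ kk cl α β hmid hlt hxv
    have hxK : x ∈ Subgroup.closure (rootSet (n := n) φ) :=
      Subgroup.subset_closure (Or.inr (Or.inr ⟨kk, cl, α, β, hmid, hlt, hxv⟩))
    refine ⟨x, hxK, hxU, ?_, ?_, ?_⟩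
    · intro i c hi
      rw [val_mul, hxv, mul_xMm_apply, hrow0 i hi kk (by rw [hkkv]; omega),
        hrow0 i hi cl (by rw [hclv]; omega)]
      simp only [zero_mul, ite_self, add_zero, sub_zero]
      exact hR i c hi
    · intro i c hi hc
      have hik : i = kk := Fin.ext (by rw [hi])
      have hcc : c = cl := Fin.ext (by rw [hc])
      subst hik
      subst hcc
      rw [val_mul, hxv, mul_xMm_apply, if_pos rfl, if_neg hclkr, if_neg hclkr, hkk, hα]
      ring
    · intro i c hi hc1 hc2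
      have hik : i = kk := Fin.ext (by rw [hi])
      subst hik
      have h1 : ¬ (c = cl) := fun h => hc1 (by rw [h])
      have h2 : ¬ (c = kk.rev) := fun h => hc2 (by rw [h, hkkr])
      rw [val_mul, hxv, mul_xMm_apply, if_neg h1, if_neg h2, if_neg h2]
      ring
  · -- another column: a short root element
    have hb : cl ≠ cl.rev := fun h => hmid h.symm
    set e : F := -((u.1 : Matrix (Fin n) (Fin n) F) kk cl) with he
    set x : ↥(GS (n := n) φ) := mkGS φ (xSm φ kk cl e)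
      (Cfsg.Agent.Lib.H28.FBN.xSm_mul_star φ hφ2 kk cl (ne_of_lt hlt) ha hb e) with hx
    have hxv : (x.1 : Matrix (Fin n) (Fin n) F) = xSm φ kk cl e := rfl
    have hxU : x ∈ Us φ := mem_Us_of_xSm φ kk cl e hlt hxv
    have hxK : x ∈ Subgroup.closure (rootSet (n := n) φ) :=
      Subgroup.subset_closure (Or.inl ⟨kk, cl, e, hlt, ha, hb, hxv⟩)
    refine ⟨x, hxK, hxU, ?_, ?_, ?_⟩
    · intro i c hi
      rw [val_mul, hxv, mul_xSm_apply, hrow0 i hi kk (by rw [hkkv]; omega),
        hrow0 i hi cl.rev (by rw [hclr]; omega)]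
      simp only [zero_mul, ite_self, add_zero, sub_zero]
      exact hR i c hi
    · intro i c hi hc
      have hik : i = kk := Fin.ext (by rw [hi])
      have hcc : c = cl := Fin.ext (by rw [hc])
      subst hik
      subst hcc
      rw [val_mul, hxv, mul_xSm_apply, if_pos rfl, if_neg hclkr, hkk, he]
      ring
    · intro i c hi hc1 hc2
      have hik : i = kk := Fin.ext (by rw [hi])
      subst hik
      have h1 : ¬ (c = cl) := fun h => hc1 (by rw [h])
      have h2 : ¬ (c = kk.rev) := fun h => hc2 (by rw [h, hkkr])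
      rw [val_mul, hxv, mul_xSm_apply, if_neg h1, if_neg h2]
      ring

/-- clearing row `k` strictly between the columns `k` and `rev k` -/
theorem clear_row (hφ2 : ∀ x, φ (φ x) = x) (hO : ∃ β : F, β + φ β + 1 = 0) (k : ℕ) (hk : k < n / 2) :
    ∀ (d l : ℕ), k < l → l + d = n - 1 - k → ∀ u : ↥(GS (n := n) φ), u ∈ Us φ →
      URows k (u.1 : Matrix (Fin n) (Fin n) F) →
      (∀ i c : Fin n, (i : ℕ) = k → k < (c : ℕ) → (c : ℕ) < l → (u.1 : Matrix (Fin n) (Fin n) F) i c = 0) →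
      ∃ x ∈ Subgroup.closure (rootSet (n := n) φ), x ∈ Us φ ∧
        URows k ((u * x).1 : Matrix (Fin n) (Fin n) F) ∧
        ∀ i c : Fin n, (i : ℕ) = k → k < (c : ℕ) → (c : ℕ) < n - 1 - k →
          ((u * x).1 : Matrix (Fin n) (Fin n) F) i c = 0 := by
  intro d
  induction d with
  | zero =>
    intro l hkl hl u hu hR hz
    refine ⟨1, Subgroup.one_mem _, Subgroup.one_mem _, by rwa [mul_one], ?_⟩
    intro i c hi hc1 hc2
    rw [mul_one]
    exact hz i c hi hc1 (by omega)
  | succ d ih =>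
    intro l hkl hl u hu hR hz
    obtain ⟨x, hxK, hxU, hxR, hx0, hxe⟩ := clear_entry φ hφ2 hO k hk u hu hR l hkl (by omega)
    have hz' : ∀ i c : Fin n, (i : ℕ) = k → k < (c : ℕ) → (c : ℕ) < l + 1 →
        ((u * x).1 : Matrix (Fin n) (Fin n) F) i c = 0 := by
      intro i c hi hc1 hc2
      by_cases hcl : (c : ℕ) = l
      · exact hx0 i c hi hcl
      · rw [hxe i c hi hcl (by omega)]
        exact hz i c hi hc1 (by omega)
    obtain ⟨y, hyK, hyU, hyR, hyz⟩ :=
      ih (l + 1) (by omega) (by omega) (u * x) (Subgroup.mul_mem _ hu hxU) hxR hz'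
    refine ⟨x * y, Subgroup.mul_mem _ hxK hyK, Subgroup.mul_mem _ hxU hyU, ?_, ?_⟩
    · rw [← mul_assoc]; exact hyR
    · rw [← mul_assoc]; exact hyz

/-- `u * star u = 1`, entrywise -/
theorem mul_star_apply (u : ↥(GS (n := n) φ)) (a b : Fin n) :
    ∑ t, (u.1 : Matrix (Fin n) (Fin n) F) a t * φ ((u.1 : Matrix (Fin n) (Fin n) F) b.rev t.rev) =
      (1 : Matrix (Fin n) (Fin n) F) a b := by
  have h := congrFun (congrFun (mul_star_self φ u) a) b
  rw [Matrix.mul_apply] at h
  rw [← h]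
  refine Finset.sum_congr rfl fun t _ => ?_
  rw [Cfsg.Agent.Lib.H8.FBN.star_apply]

/-- unit rows `< k` give unit columns `> rev k` -/
theorem col_of_URows (hφ2 : ∀ x, φ (φ x) = x) (k : ℕ) (u : ↥(GS (n := n) φ))
    (hR : URows k (u.1 : Matrix (Fin n) (Fin n) F))
    (i c : Fin n) (hc : n - 1 - k < (c : ℕ)) :
    (u.1 : Matrix (Fin n) (Fin n) F) i c = (1 : Matrix (Fin n) (Fin n) F) i c := by
  have hc2 := c.2
  have h := mul_star_apply φ u c.rev i.rev
  rw [Finset.sum_eq_single c.rev] at h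
  · rw [hR c.rev c.rev (by rw [Fin.val_rev]; omega), Matrix.one_apply_eq, one_mul, Fin.rev_rev, Fin.rev_rev] at h
    have h' : (u.1 : Matrix (Fin n) (Fin n) F) i c = φ ((1 : Matrix (Fin n) (Fin n) F) c.rev i.rev) := by
      rw [← h, hφ2]
    rw [h']
    by_cases hic : i = c
    · subst hic
      rw [Matrix.one_apply_eq, Matrix.one_apply_eq, map_one]
    · rw [Matrix.one_apply_ne hic, Matrix.one_apply_ne, map_zero]
      intro h''
      exact hic (Fin.rev_injective h'').symm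
  · intro t _ ht
    rw [hR c.rev t (by rw [Fin.val_rev]; omega), Matrix.one_apply_ne ht.symm, zero_mul]
  · intro h'; exact absurd (Finset.mem_univ _) h'

/-- one more unit row -/
theorem step_row (hφ2 : ∀ x, φ (φ x) = x) (hO : ∃ β : F, β + φ β + 1 = 0) (k : ℕ) (hk : k < n / 2)
    (u : ↥(GS (n := n) φ)) (hu : u ∈ Us φ) (hR : URows k (u.1 : Matrix (Fin n) (Fin n) F)) :
    ∃ x ∈ Subgroup.closure (rootSet (n := n) φ), x ∈ Us φ ∧
      URows (k + 1) ((u * x).1 : Matrix (Fin n) (Fin n) F) := by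
  obtain ⟨x, hxK, hxU, hxR, hxz⟩ := clear_row φ hφ2 hO k hk (n - 1 - k - (k + 1)) (k + 1) (by omega) (by omega)
    u hu hR (by intro i c _ h1 h2; omega)
  set v : ↥(GS (n := n) φ) := u * x with hv
  have hvU : v ∈ Us φ := Subgroup.mul_mem _ hu hxU
  set kk : Fin n := ⟨k, by omega⟩ with hkkdef
  have hkkv : (kk : ℕ) = k := rfl
  have hkr : (kk.rev : ℕ) = n - 1 - k := by rw [Fin.val_rev, hkkv]; omega
  have ha : kk < kk.rev := by rw [Fin.lt_def, hkr, hkkv]; omega
  have hkk : (v.1 : Matrix (Fin n) (Fin n) F) kk kk = 1 := hvU.2 kk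
  -- the row `k` of `v`
  have hrow : ∀ c : Fin n, c ≠ kk → c ≠ kk.rev → (v.1 : Matrix (Fin n) (Fin n) F) kk c = 0 := by
    intro c hc1 hc2
    have hc3 := c.2
    have hc1' : (c : ℕ) ≠ k := fun h => hc1 (Fin.ext (by rw [h]))
    have hc2' : (c : ℕ) ≠ n - 1 - k := fun h => hc2 (Fin.ext (by rw [h, hkr]))
    rcases Nat.lt_or_ge (c : ℕ) k with h | h
    · exact hvU.1 kk c (by rw [Fin.lt_def, hkkv]; exact h)
    · rcases Nat.lt_or_ge (c : ℕ) (n - 1 - k) with h1 | h1
      · exact hxz kk c hkkv (by omega) h1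
      · rw [col_of_URows φ hφ2 k v hxR kk c (by omega), Matrix.one_apply_ne (fun h' => hc1 h'.symm)]
  set e : F := (v.1 : Matrix (Fin n) (Fin n) F) kk kk.rev with he
  have hee : e + φ e = 0 := by
    have h := mul_star_apply φ v kk kk.rev
    rw [Matrix.one_apply_ne (ne_of_lt ha), Fin.rev_rev,
      Finset.sum_eq_add kk kk.rev (ne_of_lt ha)] at h
    · rw [Fin.rev_rev, hkk, map_one, mul_one, one_mul, ← he] at h
      rw [← h]; ring
    · intro t _ ht
      rw [hrow t ht.1 ht.2, zero_mul]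
    · intro h'; exact absurd (Finset.mem_univ _) h'
    · intro h'; exact absurd (Finset.mem_univ _) h'
  have hee' : -e + φ (-e) = 0 := by
    rw [map_neg]; linear_combination -hee
  set y : ↥(GS (n := n) φ) := mkGS φ (xLm kk (-e))
    (Cfsg.Agent.Lib.H28.FBN.xLm_mul_star φ kk (ne_of_lt ha) (-e) hee') with hy
  have hyv : (y.1 : Matrix (Fin n) (Fin n) F) = xLm kk (-e) := rfl
  have hyU : y ∈ Us φ := mem_Us_of_xLm φ kk (-e) ha hyv
  have hyK : y ∈ Subgroup.closure (rootSet (n := n) φ) :=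
    Subgroup.subset_closure (Or.inr (Or.inl ⟨kk, -e, ha, hyv⟩))
  refine ⟨x * y, Subgroup.mul_mem _ hxK hyK, Subgroup.mul_mem _ hxU hyU, ?_⟩
  rw [← mul_assoc, ← hv]
  intro i c hi
  rw [val_mul, hyv, mul_xLm_apply]
  rcases Nat.lt_succ_iff_lt_or_eq.mp hi with hi' | hi'
  · rw [hxR i c hi', hxR i kk hi',
      Matrix.one_apply_ne (show i ≠ kk from fun h => by rw [h, hkkv] at hi'; omega)]
    simp only [zero_mul, ite_self, add_zero]
  · have hik : i = kk := Fin.ext (by rw [hi'])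
    subst hik
    by_cases hc : c = kk.rev
    · subst hc
      rw [if_pos rfl, hkk, ← he, Matrix.one_apply_ne (ne_of_lt ha)]
      ring
    · rw [if_neg hc, add_zero]
      by_cases hc' : c = kk
      · subst hc'
        rw [hkk, Matrix.one_apply_eq]
      · rw [hrow c hc' hc, Matrix.one_apply_ne (fun h' => hc' h'.symm)]

/-- an element of `Us φ` whose first `n/2` rows are unit rows is `1` -/
theorem eq_one_of_URows (hφ2 : ∀ x, φ (φ x) = x) (u : ↥(GS (n := n) φ)) (hu : u ∈ Us φ)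
    (hR : URows (n / 2) (u.1 : Matrix (Fin n) (Fin n) F)) : u = 1 := by
  apply ext_val
  rw [val_one]
  ext i c
  have hi2 := i.2
  have hc2 := c.2
  by_cases hi : (i : ℕ) < n / 2
  · exact hR i c hi
  · rcases lt_trichotomy (c : ℕ) (i : ℕ) with h | h | h
    · rw [hu.1 i c (by rw [Fin.lt_def]; exact h), Matrix.one_apply_ne]
      intro h'; rw [h'] at h; exact lt_irrefl _ h
    · have : i = c := Fin.ext h.symm
      subst this
      rw [hu.2 i, Matrix.one_apply_eq]
    · exact col_of_URows φ hφ2 (n / 2) u hR i c (by omega)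

theorem mem_closure_of_URows (hφ2 : ∀ x, φ (φ x) = x) (hO : ∃ β : F, β + φ β + 1 = 0) :
    ∀ (d k : ℕ), k + d = n / 2 → ∀ u : ↥(GS (n := n) φ), u ∈ Us φ →
      URows k (u.1 : Matrix (Fin n) (Fin n) F) → u ∈ Subgroup.closure (rootSet (n := n) φ) := by
  intro d
  induction d with
  | zero =>
    intro k hk u hu hR
    rw [add_zero] at hk
    rw [hk] at hR
    rw [eq_one_of_URows φ hφ2 u hu hR]
    exact Subgroup.one_mem _
  | succ d ih =>
    intro k hk u hu hR
    obtain ⟨x, hxK, hxU, hxR⟩ := step_row φ hφ2 hO k (by omega) u hu hR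
    have h1 := ih (k + 1) (by omega) (u * x) (Subgroup.mul_mem _ hu hxU) hxR
    have e : u = (u * x) * x⁻¹ := by group
    rw [e]
    exact Subgroup.mul_mem _ h1 (Subgroup.inv_mem _ hxK)

/-- **generation**: `Us φ` is generated by the root elements -/
theorem Us_le_closure (hφ2 : ∀ x, φ (φ x) = x) (hO : ∃ β : F, β + φ β + 1 = 0) :
    Us (n := n) φ ≤ Subgroup.closure (rootSet (n := n) φ) := by
  intro u hu
  apply mem_closure_of_URows φ hφ2 hO (n / 2) 0 (by omega) u hu
  intro i l hi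
  exact absurd hi (Nat.not_lt_zero _)

end Cfsg.Agent.Lib.H19.SEASU
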