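/-
S4625 piece SU (architect helper6), part 2 (helper19): `SylEA (SU n F q)` for `|F| = q²`, `char F = 2`.
In the flag-form group `GS φ` (φ = Frobenius) the unipotent radical `Us φ` is generated by root elements whose squares lie
in the derived subgroup (`SEASUGen`), `Us φ` has odd index in `SUs φ` (restricted root data of S2546), and
`SUs φ ≅ SU_n(q)`.
-/
import Cfsg.Agent.Lib.H19.SEASUGen
import Cfsg.Agent.Lib.H8.FBNUnitary
import Cfsg.Agent.Lib.H6.SEARoot

set_option autoImplicit false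
set_option linter.unusedSimpArgs false
set_option linter.unusedVariables false
set_option linter.unusedSectionVars false

namespace Cfsg.Agent.Lib.H19.SEASU

open Matrix Cfsg.Agent.Lib.H12.DCos Cfsg.Agent.Lib.H8.FBN Cfsg.Agent.Lib.H6.SEA
open scoped commutatorElement

variable {F : Type*} [Field F] {n : ℕ} (φ : F →+* F)

/-! ### squares of the root elements in characteristic 2 -/

theorem sq_eq_one_of_val {g : ↥(GS (n := n) φ)}
    (h : (g.1 : Matrix (Fin n) (Fin n) F) * (g.1 : Matrix (Fin n) (Fin n) F) = 1) : g ^ 2 = 1 := by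
  apply ext_val
  rw [pow_two, val_mul, val_one]
  exact h

theorem single_sub' (i j : Fin n) (x y : F) :
    (Matrix.single i j (x - y) : Matrix (Fin n) (Fin n) F) = Matrix.single i j x - Matrix.single i j y := by
  rw [sub_eq_add_neg, Matrix.single_add, ← Matrix.single_neg, sub_eq_add_neg]

theorem single_add_self [CharP F 2] (i j : Fin n) (x : F) :
    (Matrix.single i j x + Matrix.single i j x : Matrix (Fin n) (Fin n) F) = 0 := by
  rw [← Matrix.single_add, CharTwo.add_self_eq_zero, Matrix.single_zero]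

theorem xSm_mul_self [CharP F 2] (a b : Fin n) (hab : a ≠ b) (ha : a ≠ a.rev) (hb : b ≠ b.rev) (c : F) :
    xSm φ a b c * xSm φ a b c = 1 := by
  unfold xSm
  have hab' : b.rev ≠ a.rev := fun h => hab (Fin.rev_injective h).symm
  have PP : Matrix.single a b c * Matrix.single a b c = 0 :=
    Matrix.single_mul_single_of_ne _ _ _ _ hab.symm _
  have PQ : Matrix.single a b c * Matrix.single b.rev a.rev (φ c) = 0 :=
    Matrix.single_mul_single_of_ne _ _ _ _ hb _
  have QP : Matrix.single b.rev a.rev (φ c) * Matrix.single a b c = 0 :=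
    Matrix.single_mul_single_of_ne _ _ _ _ ha.symm _
  have QQ : Matrix.single b.rev a.rev (φ c) * Matrix.single b.rev a.rev (φ c) = 0 :=
    Matrix.single_mul_single_of_ne _ _ _ _ hab'.symm _
  have key : ∀ P Q : Matrix (Fin n) (Fin n) F, (1 + P - Q) * (1 + P - Q) =
      1 + (P + P) - (Q + Q) + (P * P - P * Q - Q * P + Q * Q) := by
    intro P Q; noncomm_ring
  rw [key, PP, PQ, QP, QQ, single_add_self, single_add_self]
  simp

theorem xLm_mul_self [CharP F 2] (a : Fin n) (ha : a ≠ a.rev) (c : F) : xLm a c * xLm a c = 1 := by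
  unfold xLm
  have CC : Matrix.single a a.rev c * Matrix.single a a.rev c = 0 :=
    Matrix.single_mul_single_of_ne _ _ _ _ ha.symm _
  have key : ∀ C : Matrix (Fin n) (Fin n) F, (1 + C) * (1 + C) = 1 + (C + C) + C * C := by
    intro C; noncomm_ring
  rw [key, CC, single_add_self]
  simp

/-- the multiplication in the Heisenberg type root group -/
theorem xMm_mul (a m : Fin n) (hm : m.rev = m) (ha : a ≠ a.rev) (α β α' β' : F) :
    xMm φ a m α β * xMm φ a m α' β' = xMm φ a m (α + α') (β + β' - α * φ α') := by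
  unfold xMm
  have ham : a ≠ m := fun h' => ha (by rw [h', hm])
  have ham' : a.rev ≠ m := fun h' => ham (by rw [← Fin.rev_rev a, h', hm])
  have AA : ∀ x y : F, Matrix.single a m x * Matrix.single a m y = 0 := fun x y =>
    Matrix.single_mul_single_of_ne _ _ _ _ ham.symm _
  have AB : ∀ x y : F, Matrix.single a m x * Matrix.single m a.rev y = Matrix.single a a.rev (x * y) := fun x y =>
    Matrix.single_mul_single_same _ _ _ _ _
  have AC : ∀ x y : F, Matrix.single a m x * Matrix.single a a.rev y = 0 := fun x y =>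
    Matrix.single_mul_single_of_ne _ _ _ _ ham.symm _
  have BA : ∀ x y : F, Matrix.single m a.rev x * Matrix.single a m y = 0 := fun x y =>
    Matrix.single_mul_single_of_ne _ _ _ _ ha.symm _
  have BB : ∀ x y : F, Matrix.single m a.rev x * Matrix.single m a.rev y = 0 := fun x y =>
    Matrix.single_mul_single_of_ne _ _ _ _ ham' _
  have BC : ∀ x y : F, Matrix.single m a.rev x * Matrix.single a a.rev y = 0 := fun x y =>
    Matrix.single_mul_single_of_ne _ _ _ _ ha.symm _
  have CA : ∀ x y : F, Matrix.single a a.rev x * Matrix.single a m y = 0 := fun x y =>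
    Matrix.single_mul_single_of_ne _ _ _ _ ha.symm _
  have CB : ∀ x y : F, Matrix.single a a.rev x * Matrix.single m a.rev y = 0 := fun x y =>
    Matrix.single_mul_single_of_ne _ _ _ _ ham' _
  have CC : ∀ x y : F, Matrix.single a a.rev x * Matrix.single a a.rev y = 0 := fun x y =>
    Matrix.single_mul_single_of_ne _ _ _ _ ha.symm _
  have key : ∀ A B C A' B' C' : Matrix (Fin n) (Fin n) F, (1 + A - B + C) * (1 + A' - B' + C') =
      1 + (A + A') - (B + B') + (C + C') +
        (A * A' - A * B' + A * C' - B * A' + B * B' - B * C' + C * A' - C * B' + C * C') := by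
    intro A B C A' B' C'; noncomm_ring
  rw [key, AA, AB, AC, BA, BB, BC, CA, CB, CC, map_add, Matrix.single_add, Matrix.single_add, single_sub',
    Matrix.single_add]
  abel

/-- the squares of the root elements lie in the derived subgroup of `Us φ` -/
theorem sq_mem_of_rootSet [CharP F 2] (hφ2 : ∀ x, φ (φ x) = x) (hO : ∃ β : F, β + φ β + 1 = 0)
    (g : ↥(GS (n := n) φ)) (hg : g ∈ rootSet (n := n) φ) : g ^ 2 ∈ ⁅Us (n := n) φ, Us (n := n) φ⁆ := by
  rcases hg with ⟨a, b, c, hab, ha, hb, hg⟩ | ⟨a, c, ha, hg⟩ | ⟨a, m, α, β, hm, ham, hg⟩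
  · have h1 : g ^ 2 = 1 := sq_eq_one_of_val φ (by rw [hg]; exact xSm_mul_self φ a b (ne_of_lt hab) ha hb c)
    rw [h1]; exact Subgroup.one_mem _
  · have h1 : g ^ 2 = 1 := sq_eq_one_of_val φ (by rw [hg]; exact xLm_mul_self a (ne_of_lt ha) c)
    rw [h1]; exact Subgroup.one_mem _
  · obtain ⟨β0, hβ0⟩ := hO
    have h11 : (1 : F) + 1 = 0 := CharTwo.add_self_eq_zero 1
    have hlam : β0 + φ β0 = 1 := by linear_combination hβ0 - h11
    have hma : m < a.rev := by
      have := Fin.rev_lt_rev.mpr ham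
      rwa [hm] at this
    have ha : a ≠ a.rev := ne_of_lt (lt_trans ham hma)
    obtain ⟨α', hα'⟩ : ∃ α' : F, α' = β0 * α := ⟨_, rfl⟩
    obtain ⟨β', hβ'⟩ : ∃ β' : F, β' = β0 * (α' * φ α') := ⟨_, rfl⟩
    have hφα' : φ α' = φ β0 * φ α := by rw [hα', map_mul]
    have hαβ' : β' + φ β' + α' * φ α' = 0 := by
      rw [hβ', map_mul, map_mul, hφ2]
      linear_combination (α' * φ α') * hβ0
    set Y : ↥(GS (n := n) φ) := mkGS φ (xMm φ a m α' β')
      (Cfsg.Agent.Lib.H28.FBN.xMm_mul_star φ hφ2 a m hm ha α' β' hαβ') with hY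
    have hYv : (Y.1 : Matrix (Fin n) (Fin n) F) = xMm φ a m α' β' := rfl
    have hYU : Y ∈ Us φ := mem_Us_of_xMm φ a m α' β' hm ham hYv
    have hgU : g ∈ Us φ := mem_Us_of_xMm φ a m α β hm ham hg
    have e1 : α + α' + α = α' := by
      have h2 : α + α = 0 := CharTwo.add_self_eq_zero α
      linear_combination h2
    have e2 : β + β' - α * φ α' + β - (α + α') * φ α = β' := by
      have h2 : (2 : F) = 0 := CharTwo.two_eq_zero
      linear_combination (β - α * φ α) * h2 + (-(α * φ α)) * hlam + (-α) * hφα' + (-φ α) * hα'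
    have hXYX : g * Y * g = Y := by
      apply ext_val
      rw [val_mul, val_mul, hg, hYv, xMm_mul φ a m hm ha, xMm_mul φ a m hm ha, e1, e2]
    have hsq : g ^ 2 = ⁅g, Y⁆ := by
      have e : g * g = g * (g * Y * g) * g⁻¹ * Y⁻¹ := by group
      rw [pow_two, e, hXYX, commutatorElement_def]
    rw [hsq]
    exact Subgroup.commutator_mem_commutator hgU hYU

/-! ### assembly -/

/-- `Us φ` has abelianization of exponent `2` -/
theorem ea_Us [Fintype F] [CharP F 2] {q : ℕ} (hF : Fintype.card F = q ^ 2) (hφ : ∀ x, φ x = x ^ q)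
    (hφ2 : ∀ x, φ (φ x) = x) : EA ↥(Us (n := n) φ) := by
  have hO : ∃ β : F, β + φ β + 1 = 0 := Cfsg.Agent.Lib.H6.FBN.exists_trace_neg_one φ hF hφ
  exact EA.of_gen (Us (n := n) φ) (rootSet (n := n) φ) (rootSet_subset_Us φ) (Us_le_closure φ hφ2 hO)
    (fun s hs => sq_mem_of_rootSet φ hφ2 hO s hs)

theorem sylEA_of_subsingleton (G : Type*) [Group G] [Subsingleton G] : SylEA G := by
  intro P x
  have h : x = 1 := Subtype.ext (Subsingleton.elim _ _)
  rw [h, one_pow]
  exact Subgroup.one_mem _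

theorem subsingleton_SUs (hn : n < 2) : Subsingleton ↥(SUs (n := n) φ) := by
  obtain rfl | rfl : n = 0 ∨ n = 1 := by omega
  · constructor
    intro g h
    apply Subtype.ext
    apply ext_val
    ext i j
    exact i.elim0
  · constructor
    intro g h
    apply Subtype.ext
    apply ext_val
    have hg := mem_SUs.mp g.2
    have hh := mem_SUs.mp h.2
    rw [Matrix.det_unique] at hg hh
    ext i j
    have hi : i = default := Subsingleton.elim _ _
    have hj : j = default := Subsingleton.elim _ _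
    rw [hi, hj, hg, hh]

open Cfsg.Agent.Lib.H8.SpBN Cfsg.Agent.Lib.H8.BNRoot Cfsg.Agent.Lib.H8.BNRes Cfsg.Agent.Lib.H8.BNSteinberg in
/-- `SylEA` for the flag-form special unitary group -/
theorem sylEA_SUs [Fintype F] [CharP F 2] {q : ℕ} (hF : Fintype.card F = q ^ 2) (hφ : ∀ x, φ x = x ^ q)
    (hφ2 : ∀ x, φ (φ x) = x) (hn : 2 ≤ n) : SylEA ↥(SUs (n := n) φ) := by
  classical
  have : Fact (Nat.Prime 2) := ⟨Nat.prime_two⟩
  have hE : n % 2 = 0 → ∃ c : F, c ≠ 0 ∧ c + φ c = 0 :=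
    fun _ => Cfsg.Agent.Lib.H6.FBN.exists_trace_zero φ hF hφ
  have hO : n % 2 = 1 → ∃ β : F, β + φ β + 1 = 0 :=
    fun _ => Cfsg.Agent.Lib.H6.FBN.exists_trace_neg_one φ hF hφ
  let P := flagBN (n := n) φ hφ2 hE hO
  let D := flagRootData (n := n) φ hφ2 hE hO
  have hcov : Covers P (SUs (n := n) φ) := by
    intro h
    obtain ⟨t, ht, h'⟩ := Cfsg.Agent.Lib.H25.FBN.covers φ hF hφ hn h
    exact ⟨t, ⟨Ts_le_Bs ht, Ts_le_Ns ht⟩, h'⟩
  choose τ hτ1 hτ2 using Cfsg.Agent.Lib.H25.FBN.covers (n := n) φ hF hφ hn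
  have hτ : ∀ s ∈ P.S, τ s ∈ P.B ⊓ P.N := fun s _ => ⟨Ts_le_Bs (hτ1 s), Ts_le_Ns (hτ1 s)⟩
  have hτG : ∀ s ∈ P.S, s * τ s ∈ SUs (n := n) φ := fun s _ => hτ2 s
  have hτT : ∀ i, τ (D.e i) ∈ D.T := fun i => hτ1 _
  have hUG : D.U ≤ SUs (n := n) φ :=
    fun u hu => mem_SUs.mpr (Cfsg.Agent.Lib.H4.FBN.det_eq_one_of_mem_Us φ u hu)
  have hXG : ∀ i, D.X i ⊆ ((SUs (n := n) φ : Subgroup ↥(GS (n := n) φ)) : Set ↥(GS (n := n) φ)) :=
    fun i x hx => hUG (X_subset_Us i hx)
  have hYG : ∀ i, D.Y i ⊆ ((SUs (n := n) φ : Subgroup ↥(GS (n := n) φ)) : Set ↥(GS (n := n) φ)) :=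
    fun i y hy => mem_SUs.mpr (Cfsg.Agent.Lib.H4.FBN.det_eq_one_of_mem_Y φ i y hy)
  let D' := D.restrict (SUs (n := n) φ) hcov τ hτ hτG hτT hXG hYG hUG
  have hU' : IsPGroup 2 ↥D'.U := by
    have h1 : IsPGroup 2 ↥(Us (n := n) φ) := Cfsg.Agent.Lib.H6.FBN.Us_isPGroup φ 2
    exact h1.of_injective (Subgroup.subgroupOfEquivOfLe hUG).toMonoidHom
      (Subgroup.subgroupOfEquivOfLe hUG).injective
  have hT' : (Nat.card ↥D'.T).Coprime 2 := by
    have h1 : (Nat.card ↥(Ts (n := n) φ)).Coprime 2 := Cfsg.Agent.Lib.H6.FBN.card_Ts_coprime φ 2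
    let f : ↥((Ts (n := n) φ).subgroupOf (SUs (n := n) φ)) →* ↥(Ts (n := n) φ) :=
      { toFun := fun x => ⟨(x : ↥(SUs (n := n) φ)), Subgroup.mem_subgroupOf.mp x.2⟩
        map_one' := rfl
        map_mul' := fun _ _ => rfl }
    have hf : Function.Injective f := by
      intro x y h
      apply Subtype.ext
      apply Subtype.ext
      exact congrArg (fun z : ↥(Ts (n := n) φ) => (z : ↥(GS (n := n) φ))) h
    exact Nat.Coprime.coprime_dvd_left (Subgroup.card_dvd_of_injective f hf) h1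
  have hidx : ¬ 2 ∣ D'.U.index := rootData_not_dvd_index_U D' hU' hT'
  have hEA : EA ↥D'.U := EA.of_equiv (Subgroup.subgroupOfEquivOfLe hUG) (ea_Us φ hF hφ hφ2)
  exact sylEA_of_subgroup D'.U hU' hidx hEA

end Cfsg.Agent.Lib.H19.SEASU

namespace Cfsg.Agent.Lib.H19.SEA

open Cfsg Cfsg.Agent.Lib.H6.SEA

/-- **S4625 piece SU** -/
theorem sylEA_SU (F : Type*) [Field F] [Fintype F] [CharP F 2] (n q : ℕ)
    (hF : Fintype.card F = q ^ 2) : SylEA (SU n F q) := by
  obtain ⟨φ, hφ, hφ2⟩ := Cfsg.Agent.Lib.H4.exists_frob hF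
  obtain ⟨ψ⟩ := Cfsg.Agent.Lib.H23.FBN.nonempty_iso φ hF hφ n
  have h : SylEA ↥(Cfsg.Agent.Lib.H8.FBN.SUs (n := n) φ) := by
    by_cases hn : 2 ≤ n
    · exact Cfsg.Agent.Lib.H19.SEASU.sylEA_SUs φ hF hφ hφ2 hn
    · have := Cfsg.Agent.Lib.H19.SEASU.subsingleton_SUs φ (n := n) (by omega)
      exact Cfsg.Agent.Lib.H19.SEASU.sylEA_of_subsingleton _
  exact SylEA.of_equiv ψ.symm h

end Cfsg.Agent.Lib.H19.SEA
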