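import Mathlib
import Cfsg.Prelude.Def_Local
import Cfsg.Agent.Lib.H7.PComponent2
import Cfsg.Agent.Lib.H7.Quasisimple

/-!
S2924 piece KEY1 (helper9's exact signature): a subnormal central extension `L` of a quasisimple
group `L/A` (with `A` central in `L`) has a quasisimple subnormal commutator subgroup, i.e.
`⁅L, L⁆` is a component.
-/

set_option autoImplicit false
open Cfsg
open scoped commutatorElement

namespace Cfsg.Agent.Lib.H19.SG

/-- A perfect central extension of a quasisimple group is quasisimple. -/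
theorem quasisimple_of_central_surjective {D K : Type*} [Group D] [Group K]
    (hD : Group.IsPerfect D) (hK : Cfsg.IsQuasisimple K) (φ : D →* K)
    (hφ : Function.Surjective φ) (hker : φ.ker ≤ Subgroup.center D) : Cfsg.IsQuasisimple D := by
  have hKnt : Nontrivial K := Cfsg.Agent.Lib.H7.quasisimple_nontrivial hK
  have hDnt : Nontrivial D := by
    obtain ⟨k1, k2, hk⟩ := hKnt
    obtain ⟨d1, rfl⟩ := hφ k1
    obtain ⟨d2, rfl⟩ := hφ k2
    exact ⟨d1, d2, fun h => hk (by rw [h])⟩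
  apply Cfsg.Agent.Lib.H7.isQuasisimple_of_forall_normal hD hDnt
  intro N hN
  have hNn : (N.map φ).Normal := hN.map φ hφ
  rcases Cfsg.Agent.Lib.H7.quasisimple_normal hK (N.map φ) with h1 | h1
  · left
    have hc : commutator D ≤ N := by
      rw [commutator_eq_closure, Subgroup.closure_le]
      rintro _ ⟨a, b, rfl⟩
      have ha : φ a ∈ N.map φ := by rw [h1]; exact Subgroup.mem_top _
      obtain ⟨n1, hn1, hn1'⟩ := ha
      have hz1 : n1⁻¹ * a ∈ Subgroup.center D :=
        hker (by rw [MonoidHom.mem_ker, map_mul, map_inv, hn1', inv_mul_cancel])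
      obtain ⟨z, hzc, rfl⟩ : ∃ z, (∀ g, g * z = z * g) ∧ a = n1 * z :=
        ⟨n1⁻¹ * a, Subgroup.mem_center_iff.1 hz1, by group⟩
      have hcomm : ⁅n1 * z, b⁆ = n1 * (b * n1⁻¹ * b⁻¹) := by
        rw [commutatorElement_def, mul_inv_rev]
        have h1' : z * b = b * z := (hzc b).symm
        calc n1 * z * b * (z⁻¹ * n1⁻¹) * b⁻¹ = n1 * (z * b) * z⁻¹ * n1⁻¹ * b⁻¹ := by group
          _ = n1 * (b * z) * z⁻¹ * n1⁻¹ * b⁻¹ := by rw [h1']
          _ = n1 * (b * n1⁻¹ * b⁻¹) := by group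
      rw [SetLike.mem_coe, hcomm]
      exact N.mul_mem hn1 (hN.conj_mem _ (N.inv_mem hn1) b)
    rw [hD.commutator_eq_top] at hc
    exact top_le_iff.1 hc
  · right
    have hNc : ⁅N, (⊤ : Subgroup D)⁆ ≤ Subgroup.center D := by
      refine le_trans ?_ hker
      rw [Subgroup.commutator_le]
      intro n hn d _
      rw [MonoidHom.mem_ker, map_commutatorElement]
      have hc : φ n ∈ Subgroup.center K := h1 (Subgroup.mem_map_of_mem φ hn)
      rw [commutatorElement_def, ← Subgroup.mem_center_iff.1 hc (φ d)]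
      group
    have h2 : ⁅⁅N, (⊤ : Subgroup D)⁆, (⊤ : Subgroup D)⁆ = ⊥ := by
      rw [Subgroup.commutator_eq_bot_iff_le_centralizer, Subgroup.coe_top,
        Subgroup.centralizer_univ]
      exact hNc
    have h3 : ⁅⁅(⊤ : Subgroup D), N⁆, (⊤ : Subgroup D)⁆ = ⊥ := by
      rw [Subgroup.commutator_comm ⊤ N]; exact h2
    have h4 : ⁅⁅(⊤ : Subgroup D), (⊤ : Subgroup D)⁆, N⁆ = ⊥ :=
      Subgroup.commutator_commutator_eq_bot_of_rotate h3 h2
    have h5 : ⁅(⊤ : Subgroup D), (⊤ : Subgroup D)⁆ = ⊤ := by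
      rw [← commutator_def]; exact hD.commutator_eq_top
    rw [h5, Subgroup.commutator_comm, Subgroup.commutator_eq_bot_iff_le_centralizer,
      Subgroup.coe_top, Subgroup.centralizer_univ] at h4
    exact h4

theorem commutatorElement_mul_left_of_comm {G : Type*} [Group G] (x z y : G)
    (h : z * y = y * z) : ⁅x * z, y⁆ = ⁅x, y⁆ := by
  rw [commutatorElement_def, commutatorElement_def, mul_inv_rev]
  calc x * z * y * (z⁻¹ * x⁻¹) * y⁻¹ = x * (z * y) * z⁻¹ * x⁻¹ * y⁻¹ := by group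
    _ = x * (y * z) * z⁻¹ * x⁻¹ * y⁻¹ := by rw [h]
    _ = x * y * x⁻¹ * y⁻¹ := by group

theorem commutatorElement_mul_right_of_comm {G : Type*} [Group G] (x y z : G)
    (h : z * x = x * z) : ⁅x, y * z⁆ = ⁅x, y⁆ := by
  have h' : z * x⁻¹ = x⁻¹ * z := by
    calc z * x⁻¹ = x⁻¹ * (x * z) * x⁻¹ := by group
      _ = x⁻¹ * (z * x) * x⁻¹ := by rw [h]
      _ = x⁻¹ * z := by group
  rw [commutatorElement_def, commutatorElement_def, mul_inv_rev]
  calc x * (y * z) * x⁻¹ * (z⁻¹ * y⁻¹) = x * y * (z * x⁻¹) * z⁻¹ * y⁻¹ := by group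
    _ = x * y * (x⁻¹ * z) * z⁻¹ * y⁻¹ := by rw [h']
    _ = x * y * x⁻¹ * y⁻¹ := by group

/-- **S2924 KEY1** (helper9's signature). -/
theorem component_of_central_ext {H : Type*} [Group H] [Finite H] (A L : Subgroup H) [A.Normal]
    (hAL : A ≤ L) (hcent : L ≤ Subgroup.centralizer (A : Set H)) (hLs : L.IsSubnormal)
    (hq : Cfsg.IsQuasisimple ↥(L.map (QuotientGroup.mk' A))) : Cfsg.IsComponent ⁅L, L⁆ := by
  have hDL : ⁅L, L⁆ ≤ L := by
    rw [Subgroup.commutator_le]
    intro g1 h1 g2 h2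
    rw [commutatorElement_def]
    exact L.mul_mem (L.mul_mem (L.mul_mem h1 h2) (L.inv_mem h1)) (L.inv_mem h2)
  -- `A` is central in `L`
  have hAc : ∀ a ∈ A, ∀ l ∈ L, a * l = l * a := fun a ha l hl =>
    (Subgroup.mem_centralizer_iff.1 (hcent hl)) a ha
  -- the image of `⁅L, L⁆` is all of `L/A`
  have hmap : (⁅L, L⁆).map (QuotientGroup.mk' A) = L.map (QuotientGroup.mk' A) := by
    rw [Subgroup.map_commutator]
    exact Subgroup.isPerfect_iff.1 hq.1
  -- every element of `L` is `d * a`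
  have hdec : ∀ l ∈ L, ∃ d ∈ ⁅L, L⁆, ∃ a ∈ A, l = d * a := by
    intro l hl
    have h1 : (QuotientGroup.mk' A) l ∈ (⁅L, L⁆).map (QuotientGroup.mk' A) := by
      rw [hmap]; exact Subgroup.mem_map_of_mem _ hl
    obtain ⟨d, hd, hdl⟩ := h1
    refine ⟨d, hd, d⁻¹ * l, ?_, by group⟩
    rw [QuotientGroup.mk'_apply, QuotientGroup.mk'_apply, QuotientGroup.eq] at hdl
    exact hdl
  -- `⁅L, L⁆` is perfect
  have hperf : ⁅⁅L, L⁆, ⁅L, L⁆⁆ = ⁅L, L⁆ := by
    apply le_antisymm
    · exact Subgroup.commutator_mono hDL hDL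
    · rw [Subgroup.commutator_le]
      intro l1 hl1 l2 hl2
      obtain ⟨d1, hd1, a1, ha1, rfl⟩ := hdec l1 hl1
      obtain ⟨d2, hd2, a2, ha2, rfl⟩ := hdec l2 hl2
      rw [commutatorElement_mul_left_of_comm d1 a1 (d2 * a2) (hAc a1 ha1 _ hl2),
        commutatorElement_mul_right_of_comm d1 d2 a2 (hAc a2 ha2 _ (hDL hd1))]
      exact Subgroup.commutator_mem_commutator hd1 hd2
  have hP : Group.IsPerfect ↥(⁅L, L⁆) := Subgroup.isPerfect_iff.2 hperf
  refine ⟨?_, ?_⟩
  · -- subnormal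
    have hN : ((⁅L, L⁆).subgroupOf L).Normal := by
      have : (⁅L, L⁆).subgroupOf L = commutator ↥L := by
        rw [← Subgroup.map_subtype_commutator L]
        exact Subgroup.comap_map_eq_self_of_injective L.subtype_injective _
      rw [this]; infer_instance
    exact Subgroup.IsSubnormal.step _ L hDL hLs hN
  · -- quasisimple
    let φ : ↥(⁅L, L⁆) →* ↥(L.map (QuotientGroup.mk' A)) :=
      ((QuotientGroup.mk' A).subgroupMap L).comp (Subgroup.inclusion hDL)
    have hφ : Function.Surjective φ := by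
      rintro ⟨k, hk⟩
      rw [← hmap] at hk
      obtain ⟨d, hd, rfl⟩ := hk
      exact ⟨⟨d, hd⟩, Subtype.ext rfl⟩
    have hker : φ.ker ≤ Subgroup.center ↥(⁅L, L⁆) := by
      intro d hd
      rw [MonoidHom.mem_ker] at hd
      have h1 : (QuotientGroup.mk' A) (d : H) = 1 := congrArg Subtype.val hd
      have hdA : (d : H) ∈ A := by
        rw [QuotientGroup.mk'_apply] at h1
        exact (QuotientGroup.eq_one_iff (d : H)).1 h1
      rw [Subgroup.mem_center_iff]
      intro e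
      apply Subtype.ext
      exact (hAc (d : H) hdA (e : H) (hDL e.2)).symm
    exact quasisimple_of_central_surjective hP hq φ hφ hker

end Cfsg.Agent.Lib.H19.SG
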