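import Mathlib
import Cfsg.Agent.Lib.H19.SGTDefs

/-!
# Gross `p = 2`, part 1: a refined fixed-space bound for monomial operators and minimal stable
subspaces (helper19)
-/

set_option autoImplicit false
set_option linter.unusedSectionVars false
set_option linter.style.haveILetI false

namespace Cfsg.Agent.Lib.H19.SGT

open Module Cfsg.Agent.Lib.H19.ModRep Cfsg.Agent.Lib.H19.SG

section monomial

variable {k : Type*} [Field k] {M : Type*} [AddCommGroup M] [Module k M] {I : Type*} [Fintype I]
  [DecidableEq I]

/-- A monomial operator has fixed space of dimension at most the number of orbits, not counting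
the "dead" fixed points (fixed points of `σ` whose coefficient is not `1`). -/
theorem finrank_fixed_le_dead (e : Basis I k M) (τ : M →ₗ[k] M) (σ : Equiv.Perm I) (c : I → k)
    (hτ : ∀ i, τ (e i) = c i • e (σ i)) (Z : Finset I) (hZ : ∀ i ∈ Z, σ i = i ∧ c i ≠ 1) :
    finrank k (LinearMap.eqLocus τ LinearMap.id) + Z.card ≤
      Nat.card (MulAction.orbitRel.Quotient (Subgroup.zpowers σ) I) := by
  classical
  have : Module.Finite k M := Module.Finite.of_basis e
  -- the coefficient relation
  have hrel : ∀ (f : M) (i : I), e.coord (σ i) (τ f) = c i * e.coord i f := by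
    intro f i
    have h : (e.coord (σ i)) ∘ₗ τ = c i • e.coord i := by
      apply e.ext
      intro l
      rw [LinearMap.comp_apply, hτ, map_smul, LinearMap.smul_apply, Basis.coord_apply,
        Basis.repr_self, smul_eq_mul, smul_eq_mul, Basis.coord_apply, Basis.repr_self]
      by_cases hli : l = i
      · rw [hli, Finsupp.single_eq_same, Finsupp.single_eq_same]
      · have : σ l ≠ σ i := fun h => hli (σ.injective h)
        rw [Finsupp.single_eq_of_ne (Ne.symm this), Finsupp.single_eq_of_ne (Ne.symm hli),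
          mul_zero, mul_zero]
    have := congrArg (fun F : M →ₗ[k] k => F f) h
    simpa using this
  let Ω := MulAction.orbitRel.Quotient (Subgroup.zpowers σ) I
  have : Finite Ω := Quotient.finite _
  have : Fintype Ω := Fintype.ofFinite Ω
  let mk : I → Ω := fun i => Quotient.mk'' i
  -- points in the orbit of a fixed point
  have horb : ∀ i i' : I, σ i = i → mk i' = mk i → i' = i := by
    intro i i' hi h
    have h3 : (MulAction.orbitRel (Subgroup.zpowers σ) I).r i' i := Quotient.exact' h
    rw [MulAction.orbitRel_apply, MulAction.mem_orbit_iff] at h3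
    obtain ⟨g, hg⟩ := h3
    obtain ⟨j, hj⟩ := mem_powers_iff_mem_zpowers.mpr g.2
    have hj' : σ ^ j = (g : Equiv.Perm I) := hj
    have h4 : (σ ^ j) i = i' := by
      rw [hj']
      exact hg
    have h5 : ∀ j : ℕ, (σ ^ j) i = i := by
      intro j
      induction j with
      | zero => simp
      | succ j ih => rw [pow_succ, Equiv.Perm.mul_apply, hi, ih]
    rw [← h4, h5]
  let Zb : Finset Ω := Z.image mk
  have hZb : Zb.card = Z.card := by
    apply Finset.card_image_of_injOn
    intro i hi i' hi' h
    exact horb i' i (hZ i' hi').1 h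
  let Φ : LinearMap.eqLocus τ LinearMap.id →ₗ[k] ({o : Ω // o ∉ Zb} → k) :=
    { toFun := fun f o => e.coord (Quotient.out o.1) (f : M)
      map_add' := by
        intro f g
        funext o
        simp
      map_smul' := by
        intro a f
        funext o
        simp }
  have hΦ : Function.Injective Φ := by
    rw [← LinearMap.ker_eq_bot, eq_bot_iff]
    intro f hf
    rw [LinearMap.mem_ker] at hf
    rw [Submodule.mem_bot]
    apply Subtype.ext
    have hfix : τ (f : M) = f := f.2
    -- the coordinates at all orbit representatives vanish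
    have hrep : ∀ o : Ω, e.coord (Quotient.out o) (f : M) = 0 := by
      intro o
      by_cases ho : o ∈ Zb
      · obtain ⟨i, hi, rfl⟩ := Finset.mem_image.mp ho
        have h1 : Quotient.out (mk i) = i := horb i _ (hZ i hi).1 (Quotient.out_eq' (mk i))
        rw [h1]
        have h2 := hrel (f : M) i
        rw [hfix, (hZ i hi).1] at h2
        have h3 : (1 - c i) * e.coord i (f : M) = 0 := by
          rw [sub_mul, one_mul, ← h2, sub_self]
        rcases mul_eq_zero.mp h3 with h4 | h4
        · exact absurd (sub_eq_zero.mp h4).symm (hZ i hi).2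
        · exact h4
      · exact congrFun hf ⟨o, ho⟩
    -- vanishing propagates along `σ`
    have hstep : ∀ i, e.coord i (f : M) = 0 → e.coord (σ i) (f : M) = 0 := by
      intro i hi
      have := hrel (f : M) i
      rw [hfix, hi, mul_zero] at this
      exact this
    have hpow : ∀ (j : ℕ) (i : I), e.coord i (f : M) = 0 → e.coord ((σ ^ j) i) (f : M) = 0 := by
      intro j
      induction j with
      | zero => intro i hi; simpa using hi
      | succ j ih =>
        intro i hi
        rw [pow_succ', Equiv.Perm.mul_apply]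
        exact hstep _ (ih i hi)
    have hall : ∀ i, e.coord i (f : M) = 0 := by
      intro i
      set o : Ω := Quotient.mk'' i with ho
      have h1 : e.coord (Quotient.out o) (f : M) = 0 := hrep o
      have h2 : Quotient.mk'' (Quotient.out o) = (Quotient.mk'' i : Ω) := by
        rw [ho]
        exact Quotient.out_eq' _
      have h3 : (MulAction.orbitRel (Subgroup.zpowers σ) I).r i (Quotient.out o) :=
        Quotient.exact' h2.symm
      rw [MulAction.orbitRel_apply, MulAction.mem_orbit_iff] at h3
      obtain ⟨g, hg⟩ := h3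
      obtain ⟨j, hj⟩ := mem_powers_iff_mem_zpowers.mpr g.2
      have hj' : σ ^ j = (g : Equiv.Perm I) := hj
      have h4 : (σ ^ j) (Quotient.out o) = i := by
        rw [hj']
        exact hg
      rw [← h4]
      exact hpow j _ h1
    apply e.ext_elem
    intro i
    have := hall i
    rw [Basis.coord_apply] at this
    rw [this]
    simp
  have h1 := LinearMap.finrank_le_finrank_of_injective hΦ
  rw [Module.finrank_fintype_fun_eq_card] at h1
  have h2 : Fintype.card {o : Ω // o ∉ Zb} = Fintype.card Ω - Zb.card := by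
    rw [Fintype.card_subtype_compl, Fintype.card_coe]
  have h3 : Zb.card ≤ Fintype.card Ω := Finset.card_le_univ Zb
  rw [Nat.card_eq_fintype_card]
  show _ ≤ Fintype.card Ω
  omega

end monomial

theorem numeric_two {d c x D nΩ s z : ℕ} (hd : 2 ≤ d) (hc : 1 ≤ c) (hx : x * x = d * d * c)
    (h1 : nΩ * (s + 1) = d * d * c + s * c) (h2 : D + z ≤ nΩ) (hz : c ≤ z + 1)
    (h3 : x * x ≤ s * D) (h4 : x ≤ D) : c = 1 ∧ d = s ∧ D ≤ s := by
  have hI3 : D * (s + 1) + c ≤ x * x + s + 1 := by
    have h5 : D + c ≤ nΩ + 1 := by omega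
    have h6 : (D + c) * (s + 1) ≤ (nΩ + 1) * (s + 1) := Nat.mul_le_mul_right _ h5
    have h7 : (nΩ + 1) * (s + 1) = d * d * c + s * c + s + 1 := by rw [add_mul, h1]; ring
    rw [h7, ← hx] at h6
    nlinarith
  have hA : x * x + s * c ≤ s * (s + 1) := by
    have h5 : x * x * (s + 1) ≤ s * D * (s + 1) := Nat.mul_le_mul_right _ h3
    have h6 : s * (D * (s + 1) + c) ≤ s * (x * x + s + 1) := Nat.mul_le_mul_left _ hI3
    nlinarith
  have hxs : x ≤ s := by
    by_contra hcon
    push Not at hcon
    have : s * s < x * x := by nlinarith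
    nlinarith
  have hB : x * (s + 1) + c ≤ x * x + s + 1 := by
    have h5 : x * (s + 1) ≤ D * (s + 1) := Nat.mul_le_mul_right _ h4
    omega
  have hx2 : 2 ≤ x := by
    by_contra hcon
    push Not at hcon
    have h5 : 4 ≤ d * d * c := by nlinarith
    interval_cases x <;> omega
  obtain ⟨e, rfl⟩ := Nat.exists_eq_add_of_le hxs
  have h5 : x * e + c ≤ e + 1 := by nlinarith
  have h6 : 2 * e ≤ x * e := Nat.mul_le_mul_right _ hx2
  have he : e = 0 := by omega
  subst he
  have hc1 : c = 1 := by omega
  subst hc1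
  simp only [add_zero, mul_one] at *
  have hxd : x = d := Nat.mul_self_inj.mp hx
  refine ⟨trivial, hxd.symm, ?_⟩
  have h7 : D * (x + 1) ≤ x * (x + 1) := by nlinarith
  exact Nat.le_of_mul_le_mul_right h7 (Nat.succ_pos x)

section stable

variable {k : Type*} [Field k] {E : Type*} [Group E] {W : Type*} [AddCommGroup W] [Module k W]

/-- stability under `ρ(E)` and `T` -/
def Stab (ρ : Representation k E W) (T : Module.End k W) (U : Submodule k W) : Prop :=
  (∀ u : E, ∀ w ∈ U, ρ u w ∈ U) ∧ ∀ w ∈ U, T w ∈ U

theorem exists_min_stable [FiniteDimensional k W] (ρ : Representation k E W) (T : Module.End k W)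
    (U : Submodule k W) (hU : Stab ρ T U) (hU0 : U ≠ ⊥) :
    ∃ U₁ : Submodule k W, U₁ ≤ U ∧ U₁ ≠ ⊥ ∧ Stab ρ T U₁ ∧
      ∀ U₂ : Submodule k W, U₂ ≤ U₁ → Stab ρ T U₂ → U₂ = ⊥ ∨ U₂ = U₁ := by
  suffices H : ∀ d : ℕ, ∀ U : Submodule k W, Stab ρ T U → U ≠ ⊥ → finrank k U ≤ d →
      ∃ U₁ : Submodule k W, U₁ ≤ U ∧ U₁ ≠ ⊥ ∧ Stab ρ T U₁ ∧
        ∀ U₂ : Submodule k W, U₂ ≤ U₁ → Stab ρ T U₂ → U₂ = ⊥ ∨ U₂ = U₁ from
    H _ U hU hU0 le_rfl
  intro d
  induction d with
  | zero =>
    intro U _ hU0 hd
    exfalso
    apply hU0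
    exact Submodule.finrank_eq_zero.mp (Nat.le_zero.mp hd)
  | succ d ih =>
    intro U hU hU0 hd
    by_cases hmin : ∀ U₂ : Submodule k W, U₂ ≤ U → Stab ρ T U₂ → U₂ = ⊥ ∨ U₂ = U
    · exact ⟨U, le_rfl, hU0, hU, hmin⟩
    · push Not at hmin
      obtain ⟨U₂, hle, hst, h0, h1⟩ := hmin
      have hlt : U₂ < U := lt_of_le_of_ne hle h1
      have hfr := Submodule.finrank_lt_finrank_of_lt hlt
      obtain ⟨U₁, h₁le, h₁0, h₁st, h₁min⟩ := ih U₂ hst h0 (by omega)
      exact ⟨U₁, h₁le.trans hle, h₁0, h₁st, h₁min⟩

end stable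

end Cfsg.Agent.Lib.H19.SGT
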