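import Mathlib
import Cfsg.Agent.Lib.H19.SGT1

/-!
# Gross `p = 2`, part 2: the extraspecial count on a minimal stable subspace (helper19)

`extra_two_min` : in the situation `XHyp ρ R Λ`, `Tw ρ φ T P` (`P` invertible in `k`), all `φ ^ i`
(`0 < i < P`) free on `E / R ≠ 1`, `T` fixed point free, and `W` minimal among the subspaces
stable under `ρ(E)` and `T`: `|E : R| = (P - 1)²` and every `P`-th root of unity `≠ 1` is an
eigenvalue of `T`.
-/

set_option autoImplicit false
set_option linter.unusedSectionVars false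
set_option linter.style.haveILetI false
set_option maxHeartbeats 1000000

namespace Cfsg.Agent.Lib.H19.SGT

open Module Cfsg.Agent.Lib.H19.Ward Cfsg.Agent.Lib.H19.ModRep Cfsg.Agent.Lib.H19.SG

variable {k : Type*} [Field k] {E : Type*} [Group E] {W : Type*} [AddCommGroup W] [Module k W]

theorem extra_two_min [IsAlgClosed k] [FiniteDimensional k W] [Finite E] [Nontrivial W]
    (hk : (Nat.card E : k) ≠ 0) {ρ : Representation k E W} {φ : MulAut E} {T : Module.End k W}
    {P : ℕ} (hPpos : 0 < P) (hPk : (P : k) ≠ 0) (h : Tw ρ φ T P)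
    {R : Subgroup E} {Λ : E → k} (hX : XHyp ρ R Λ)
    (hφR : ∀ u, φ u ∈ R ↔ u ∈ R)
    (hfree : ∀ i, 0 < i → i < P → ∀ u : E, (φ ^ i) u * u⁻¹ ∈ R → u ∈ R)
    (hne : R ≠ ⊤) (hfpf : ∀ w, T w = w → w = 0)
    (hirr : ∀ U : Submodule k W, Stab ρ T U → U = ⊥ ∨ U = ⊤) :
    Nat.card (E ⧸ R) = (P - 1) ^ 2 ∧
      ∀ ε : k, ε ^ P = 1 → ε ≠ 1 → ∃ w : W, w ≠ 0 ∧ T w = ε • w := by
  classical
  haveI := hX.normal
  haveI : Fintype (E ⧸ R) := Fintype.ofFinite _
  -- the inverse of `T`
  obtain ⟨T', hT'def⟩ : ∃ T' : Module.End k W, T' = T ^ (P - 1) := ⟨_, rfl⟩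
  have hTT' : T * T' = 1 := by rw [hT'def]; exact h.mul_pow_pred hPpos
  have hT'T : T' * T = 1 := by rw [hT'def]; exact h.pow_pred_mul hPpos
  have hconjT : ∀ u : E, T * ρ u * T' = ρ (φ u) := by
    intro u
    rw [h.htw, mul_assoc, hTT', mul_one]
  have hT'tw : ∀ u : E, ρ u * T' = T' * ρ (φ u) := by
    intro u
    calc ρ u * T' = T' * (T * ρ u) * T' := by rw [← mul_assoc, hT'T, one_mul]
      _ = T' * (ρ (φ u) * T) * T' := by rw [h.htw]
      _ = T' * ρ (φ u) := by rw [mul_assoc, mul_assoc, hTT', mul_one]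
  -- the adjoint action of `T`
  obtain ⟨AdT, hAdT⟩ : ∃ AdT : Module.End k W →ₗ[k] Module.End k W,
      ∀ f, AdT f = T * f * T' :=
    ⟨LinearMap.mulLeft k T ∘ₗ LinearMap.mulRight k T', fun f => by
      simp [mul_assoc]⟩
  have hAdpow : ∀ (j : ℕ) (f : Module.End k W), (AdT ^ j) f = T ^ j * f * T' ^ j := by
    intro j
    induction j with
    | zero => intro f; simp
    | succ j ih =>
      intro f
      rw [pow_succ', Module.End.mul_apply, ih, hAdT, pow_succ', pow_succ]
      simp only [mul_assoc]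
  have hT'P : T' ^ P = 1 := by
    rw [hT'def, ← pow_mul, mul_comm, pow_mul, h.hT, one_pow]
  have hAdP : AdT ^ P = 1 := by
    apply LinearMap.ext
    intro f
    rw [hAdpow, h.hT, hT'P, one_mul, mul_one, Module.End.one_apply]
  have hmaps : ∀ c ∈ comQ ρ, AdT c ∈ comQ ρ := by
    intro c hc u
    rw [hAdT]
    have h1 : ρ u * T = T * ρ (φ⁻¹ u) := by
      rw [h.htw, MulAut.apply_inv_self]
    have h2 : ρ (φ⁻¹ u) * T' = T' * ρ u := by
      rw [hT'tw, MulAut.apply_inv_self]
    calc ρ u * (T * c * T') = (ρ u * T) * c * T' := by simp only [mul_assoc]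
      _ = T * (ρ (φ⁻¹ u) * c) * T' := by rw [h1]; simp only [mul_assoc]
      _ = T * (c * ρ (φ⁻¹ u)) * T' := by rw [hc]
      _ = T * c * (ρ (φ⁻¹ u) * T') := by simp only [mul_assoc]
      _ = T * c * T' * ρ u := by rw [h2]; simp only [mul_assoc]
  obtain ⟨AdC, hAdCdef⟩ : ∃ AdC : Module.End k (comQ ρ), AdC = AdT.restrict hmaps := ⟨_, rfl⟩
  have hAdC : ∀ c : comQ ρ, ((AdC c : comQ ρ) : Module.End k W) = T * (c : Module.End k W) * T' := by
    intro c
    rw [hAdCdef, LinearMap.coe_restrict_apply, hAdT]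
  have hAdCpow : ∀ (j : ℕ) (c : comQ ρ),
      (((AdC ^ j) c : comQ ρ) : Module.End k W) = (AdT ^ j) (c : Module.End k W) := by
    intro j
    induction j with
    | zero => intro c; simp
    | succ j ih =>
      intro c
      rw [pow_succ', Module.End.mul_apply, hAdC, ih, pow_succ', Module.End.mul_apply, hAdT]
  have hAdCP : AdC ^ P = 1 := by
    apply LinearMap.ext
    intro c
    apply Subtype.ext
    rw [hAdCpow, hAdP]
    rfl
  have hssC : Module.End.IsSemisimple AdC := isSemisimple_of_pow_eq_one hPk hAdCP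
  obtain ⟨L, hLf, hLd, v, μ, hvμ⟩ := exists_eigenbasis AdC hssC
  have hvμ' : ∀ l : L, T * ((v l : comQ ρ) : Module.End k W) * T' =
      μ l • ((v l : comQ ρ) : Module.End k W) := by
    intro l
    rw [← hAdC, hvμ l]
    rfl
  have hvcomm : ∀ (l : L) (u : E), ρ u * ((v l : comQ ρ) : Module.End k W) =
      ((v l : comQ ρ) : Module.End k W) * ρ u := fun l u => (v l).2 u
  -- the family
  let b : (E ⧸ R) × L → Module.End k W :=
    fun x => ρ (rep R x.1) * ((v x.2 : comQ ρ) : Module.End k W)
  -- linear independence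
  have hli : LinearIndependent k b := by
    rw [Fintype.linearIndependent_iff]
    intro g hsum
    rw [Fintype.sum_prod_type] at hsum
    let cc : (E ⧸ R) → comQ ρ := fun ū => ∑ l : L, g (ū, l) • v l
    have hcc : ∀ ū : E ⧸ R, ∑ l : L, g (ū, l) • b (ū, l) =
        ρ (rep R ū) * ((cc ū : comQ ρ) : Module.End k W) := by
      intro ū
      simp only [b, cc]
      rw [Submodule.coe_sum, Finset.mul_sum]
      apply Finset.sum_congr rfl
      intro l _
      rw [Submodule.coe_smul, mul_smul_comm]
    rw [Finset.sum_congr rfl (fun ū _ => hcc ū)] at hsum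
    have hmem : ∀ ū ∈ (Finset.univ : Finset (E ⧸ R)),
        ρ (rep R ū) * ((cc ū : comQ ρ) : Module.End k W) ∈
          wtF (fun u : E => Representation.linHom ρ ρ u) (XHyp.chi R Λ ū) := by
      intro ū _
      rw [mem_wtF]
      intro w
      rw [Representation.linHom_apply]
      show ρ w * (ρ (rep R ū) * ((cc ū : comQ ρ) : Module.End k W) * ρ w⁻¹) = _
      obtain ⟨χw, hχw⟩ : ∃ c : k, c = XHyp.chi R Λ ū w := ⟨_, rfl⟩
      rw [← hχw]
      have h1 : ρ w * ρ (rep R ū) = χw • (ρ (rep R ū) * ρ w) := by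
        rw [hχw]
        exact hX.comm_rel w (rep R ū)
      have h2 : ρ w * ((cc ū : comQ ρ) : Module.End k W) =
          ((cc ū : comQ ρ) : Module.End k W) * ρ w := (cc ū).2 w
      calc ρ w * (ρ (rep R ū) * ((cc ū : comQ ρ) : Module.End k W) * ρ w⁻¹)
          = (ρ w * ρ (rep R ū)) * ((cc ū : comQ ρ) : Module.End k W) * ρ w⁻¹ := by
            simp only [mul_assoc]
        _ = χw • (ρ (rep R ū) * (ρ w * ((cc ū : comQ ρ) : Module.End k W)) *
              ρ w⁻¹) := by
            rw [h1]
            simp only [smul_mul_assoc, mul_assoc]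
        _ = χw • (ρ (rep R ū) * ((cc ū : comQ ρ) : Module.End k W)) := by
            rw [h2, mul_assoc, mul_assoc, apply_mul_inv, mul_one]
    have hy0 : ∀ ū₀ : E ⧸ R, ρ (rep R ū₀) * ((cc ū₀ : comQ ρ) : Module.End k W) = 0 := by
      intro ū₀
      by_contra hne0
      obtain ⟨ū, -, hū, hχ⟩ := exists_ne_of_sum_eq_zero (XHyp.adj_ss hk ρ) hX.adj_comm
        Finset.univ (XHyp.chi R Λ)
        (fun ū => ρ (rep R ū) * ((cc ū : comQ ρ) : Module.End k W)) hmem hsum
        (Finset.mem_univ ū₀) hne0
      exact hū (hX.chi_injective hχ)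
    rintro ⟨ū₀, l₀⟩
    have h3 : ((cc ū₀ : comQ ρ) : Module.End k W) = 0 := by
      have := congrArg (fun f => ρ (rep R ū₀)⁻¹ * f) (hy0 ū₀)
      simpa [← mul_assoc, apply_inv_mul] using this
    have h4 : cc ū₀ = 0 := Subtype.ext h3
    exact Fintype.linearIndependent_iff.mp v.linearIndependent (fun l => g (ū₀, l)) h4 l₀
  -- spanning
  have hDk : (Fintype.card (E ⧸ R) : k) ≠ 0 := by
    intro h0
    apply hk
    rw [Subgroup.card_eq_card_quotient_mul_card_subgroup R, Nat.cast_mul,
      Nat.card_eq_fintype_card, h0, zero_mul]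
  have hspan : ⊤ ≤ Submodule.span k (Set.range b) := by
    intro f _
    have hterm : ∀ (ū : E ⧸ R) (c : Module.End k W), c ∈ comQ ρ →
        ρ (rep R ū) * c ∈ Submodule.span k (Set.range b) := by
      intro ū c hc
      have h1 := v.sum_repr ⟨c, hc⟩
      have h2 : c = ∑ l : L, (v.repr ⟨c, hc⟩ l) • ((v l : comQ ρ) : Module.End k W) := by
        have := congrArg (Subtype.val : comQ ρ → Module.End k W) h1
        rw [Submodule.coe_sum] at this
        simp only [Submodule.coe_smul] at this
        exact this.symm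
      rw [h2, Finset.mul_sum]
      apply Submodule.sum_mem
      intro l _
      rw [mul_smul_comm]
      exact Submodule.smul_mem _ _ (Submodule.subset_span ⟨(ū, l), rfl⟩)
    have hinv := hX.inversion f
    have hf : f = (Fintype.card (E ⧸ R) : k)⁻¹ •
        ∑ ū : E ⧸ R, ρ (rep R ū) * XHyp.rey ρ R (ρ (rep R ū)⁻¹ * f) := by
      rw [← hinv, smul_smul, inv_mul_cancel₀ hDk, one_smul]
    rw [hf]
    apply Submodule.smul_mem
    apply Submodule.sum_mem
    intro ū _
    apply hterm
    intro u
    exact hX.rey_comm _ u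
  let bas : Basis ((E ⧸ R) × L) k (Module.End k W) := Basis.mk hli hspan
  have hbas : ∀ x, bas x = b x := fun x => by rw [Basis.mk_apply]
  -- the permutation
  have hmap : R.map φ.toMonoidHom = R := by
    ext u
    constructor
    · rintro ⟨u₀, hu₀, rfl⟩
      exact (hφR u₀).mpr hu₀
    · intro hu
      refine ⟨φ⁻¹ u, ?_, MulAut.apply_inv_self E φ u⟩
      show φ⁻¹ u ∈ R
      rw [← hφR, MulAut.apply_inv_self]
      exact hu
  let σ : Equiv.Perm (E ⧸ R) := (QuotientGroup.congr R R φ hmap).toEquiv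
  have hσmk : ∀ u : E, σ (QuotientGroup.mk u) = QuotientGroup.mk (φ u) := fun u => rfl
  have hσpow : ∀ (i : ℕ) (u : E), (σ ^ i) (QuotientGroup.mk u) = QuotientGroup.mk ((φ ^ i) u) := by
    intro i
    induction i with
    | zero => intro u; simp
    | succ i ih =>
      intro u
      rw [pow_succ', Equiv.Perm.mul_apply, ih, hσmk, pow_succ', MulAut.mul_apply]
  have hσP : σ ^ P = 1 := by
    ext ū
    induction ū using QuotientGroup.induction_on with
    | H u => rw [hσpow, h.hφ]; rfl
  have hσone : σ 1 = 1 := by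
    have : (1 : E ⧸ R) = QuotientGroup.mk (1 : E) := rfl
    rw [this, hσmk, map_one]
  have hσfree : ∀ i, 0 < i → i < P → ∀ ū : E ⧸ R, (σ ^ i) ū = ū → ū = 1 := by
    intro i hi0 hiP ū
    induction ū using QuotientGroup.induction_on with
    | H u =>
      intro hfix
      rw [hσpow, eq_comm, QuotientGroup.eq] at hfix
      have h1 : (φ ^ i) u * u⁻¹ ∈ R := by
        have := ‹R.Normal›.conj_mem _ hfix u
        have e : u * (u⁻¹ * (φ ^ i) u) * u⁻¹ = (φ ^ i) u * u⁻¹ := by group
        rwa [e] at this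
      exact (QuotientGroup.eq_one_iff u).mpr (hfree i hi0 hiP u h1)
  obtain ⟨ū₁, hū₁⟩ : ∃ ū : E ⧸ R, ū ≠ 1 := by
    by_contra hcon
    push Not at hcon
    apply hne
    rw [eq_top_iff]
    intro u _
    exact (QuotientGroup.eq_one_iff u).mp (hcon _)
  -- the product permutation
  let σ' : Equiv.Perm ((E ⧸ R) × L) := Equiv.prodCongr σ (Equiv.refl L)
  have hσ'pow : ∀ (i : ℕ) (x : (E ⧸ R) × L), (σ' ^ i) x = ((σ ^ i) x.1, x.2) := by
    intro i
    induction i with
    | zero => intro x; simp
    | succ i ih =>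
      intro x
      rw [pow_succ', Equiv.Perm.mul_apply, ih, pow_succ', Equiv.Perm.mul_apply]
      rfl
  have hσ'P : σ' ^ P = 1 := by
    ext x : 1
    rw [hσ'pow, hσP]
    rfl
  -- the monomial action
  let coef : (E ⧸ R) × L → k :=
    fun x => Λ ((rep R (σ x.1))⁻¹ * φ (rep R x.1)) * μ x.2
  have hτ : ∀ x, AdT (bas x) = coef x • bas (σ' x) := by
    rintro ⟨ū, l⟩
    rw [hbas, hbas, hAdT]
    show T * (ρ (rep R ū) * ((v l : comQ ρ) : Module.End k W)) * T' =
      (Λ ((rep R (σ ū))⁻¹ * φ (rep R ū)) * μ l) •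
        (ρ (rep R (σ ū)) * ((v l : comQ ρ) : Module.End k W))
    have hz : (rep R (σ ū))⁻¹ * φ (rep R ū) ∈ R := by
      have h1 := rep_mk R (φ (rep R ū))
      rw [← hσmk, mk_rep] at h1
      exact h1
    have h2 : ρ (φ (rep R ū)) =
        Λ ((rep R (σ ū))⁻¹ * φ (rep R ū)) • ρ (rep R (σ ū)) := by
      have e : φ (rep R ū) = rep R (σ ū) * ((rep R (σ ū))⁻¹ * φ (rep R ū)) := by group
      rw [e, map_mul, hX.hΛ _ hz, mul_smul_comm, mul_one]
      congr 2
      rw [← e]
    calc T * (ρ (rep R ū) * ((v l : comQ ρ) : Module.End k W)) * T'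
        = (T * ρ (rep R ū) * T') * (T * ((v l : comQ ρ) : Module.End k W) * T') := by
          have : T * ρ (rep R ū) * T' * (T * ((v l : comQ ρ) : Module.End k W) * T') =
              T * ρ (rep R ū) * (T' * T) * ((v l : comQ ρ) : Module.End k W) * T' := by
            simp only [mul_assoc]
          rw [this, hT'T, mul_one]
          simp only [mul_assoc]
      _ = ρ (φ (rep R ū)) * (μ l • ((v l : comQ ρ) : Module.End k W)) := by
          rw [hconjT, hvμ']
      _ = _ := by
          rw [h2, smul_mul_assoc, mul_smul_comm, smul_smul]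
  -- Claim A: elements of the commutant commuting with `T` are scalars
  have hscal : ∀ c ∈ comQ ρ, T * c = c * T → ∃ κ : k, c = κ • (1 : Module.End k W) := by
    intro c hc hcT
    obtain ⟨κ, hκ⟩ := Module.End.exists_eigenvalue c
    have hst : Stab ρ T (Module.End.eigenspace c κ) := by
      constructor
      · intro u w hw
        rw [Module.End.mem_eigenspace_iff] at hw ⊢
        have h1 := congrArg (fun f : Module.End k W => f w) (hc u)
        simp only [Module.End.mul_apply] at h1
        rw [← h1, hw, map_smul]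
      · intro w hw
        rw [Module.End.mem_eigenspace_iff] at hw ⊢
        have h1 := congrArg (fun f : Module.End k W => f w) hcT
        simp only [Module.End.mul_apply] at h1
        rw [← h1, hw, map_smul]
    rcases hirr _ hst with h0 | h1
    · exact absurd h0 hκ
    · refine ⟨κ, ?_⟩
      apply LinearMap.ext
      intro w
      have hw : w ∈ Module.End.eigenspace c κ := by rw [h1]; exact Submodule.mem_top
      rw [Module.End.mem_eigenspace_iff] at hw
      rw [hw]
      rfl
  -- Claim B: at most one eigenvalue `1` in the eigenbasis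
  have hμ1 : ∀ l l' : L, μ l = 1 → μ l' = 1 → l = l' := by
    intro l l' hl hl'
    have hcomm : ∀ l₀ : L, μ l₀ = 1 → T * ((v l₀ : comQ ρ) : Module.End k W) =
        ((v l₀ : comQ ρ) : Module.End k W) * T := by
      intro l₀ h0
      have h1 := hvμ' l₀
      rw [h0, one_smul] at h1
      calc T * ((v l₀ : comQ ρ) : Module.End k W)
          = T * ((v l₀ : comQ ρ) : Module.End k W) * (T' * T) := by rw [hT'T, mul_one]
        _ = (T * ((v l₀ : comQ ρ) : Module.End k W) * T') * T := by simp only [mul_assoc]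
        _ = ((v l₀ : comQ ρ) : Module.End k W) * T := by rw [h1]
    obtain ⟨κ, hκ⟩ := hscal _ (v l).2 (hcomm l hl)
    obtain ⟨κ', hκ'⟩ := hscal _ (v l').2 (hcomm l' hl')
    have hκ0 : κ ≠ 0 := by
      rintro rfl
      rw [zero_smul] at hκ
      exact v.ne_zero l (Subtype.ext hκ)
    have h1 : v l' = (κ' * κ⁻¹) • v l := by
      apply Subtype.ext
      rw [Submodule.coe_smul, hκ, hκ', smul_smul, mul_assoc, inv_mul_cancel₀ hκ0, mul_one]
    by_contra hll
    have h2 := congrArg (fun w => v.repr w l') h1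
    simp only [map_smul, Basis.repr_self, Finsupp.smul_apply, Finsupp.single_eq_same,
      smul_eq_mul] at h2
    rw [Finsupp.single_eq_of_ne (Ne.symm hll), mul_zero] at h2
    exact one_ne_zero h2
  -- the dead fixed points
  let Ld : Finset L := Finset.univ.filter (fun l => μ l ≠ 1)
  let Zd : Finset ((E ⧸ R) × L) := ({1} : Finset (E ⧸ R)) ×ˢ Ld
  have hΛ1 : Λ ((rep R (σ 1))⁻¹ * φ (rep R 1)) = 1 := by
    rw [hσone]
    have hr₁ : rep R (1 : E ⧸ R) ∈ R := by
      rw [← QuotientGroup.eq_one_iff, mk_rep]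
    have hz : (rep R (1 : E ⧸ R))⁻¹ * φ (rep R 1) ∈ R :=
      R.mul_mem (R.inv_mem hr₁) ((hφR _).mpr hr₁)
    have h1 : ρ ((rep R (1 : E ⧸ R))⁻¹ * φ (rep R 1)) = 1 := by
      rw [map_mul, ← hconjT, hX.hΛ _ hr₁, mul_smul_comm, smul_mul_assoc, mul_one, hTT',
        ← hX.hΛ _ hr₁, apply_inv_mul]
    have h2 := hX.hΛ _ hz
    rw [h1] at h2
    have h3 : (1 : k) • (1 : Module.End k W) = Λ ((rep R (1 : E ⧸ R))⁻¹ * φ (rep R 1)) • 1 := by
      rw [one_smul]
      exact h2
    exact (smul_left_injective k (one_ne_zero_end (k := k) (W := W)) h3).symm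
  have hZd : ∀ x ∈ Zd, σ' x = x ∧ coef x ≠ 1 := by
    rintro ⟨ū, l⟩ hx
    rw [Finset.mem_product, Finset.mem_singleton, Finset.mem_filter] at hx
    obtain ⟨hū, -, hl⟩ := hx
    have hū' : ū = 1 := hū
    subst hū'
    constructor
    · show (σ 1, l) = (1, l)
      rw [hσone]
    · show Λ ((rep R (σ 1))⁻¹ * φ (rep R 1)) * μ l ≠ 1
      rw [hΛ1, one_mul]
      exact hl
  have hLd : Fintype.card L ≤ Zd.card + 1 := by
    rw [Finset.card_product, Finset.card_singleton, one_mul]
    have h1 : (Finset.univ.filter (fun l => μ l = 1)).card ≤ 1 := by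
      rw [Finset.card_le_one]
      intro l hl l' hl'
      rw [Finset.mem_filter] at hl hl'
      exact hμ1 l l' hl.2 hl'.2
    have h2 := Finset.card_filter_add_card_filter_not (s := (Finset.univ : Finset L))
      (fun l => μ l = 1)
    rw [Finset.card_univ] at h2
    have h3 : (Finset.univ.filter (fun l => ¬ μ l = 1)).card = Ld.card := rfl
    omega
  have hfixle := finrank_fixed_le_dead bas AdT σ' coef hτ Zd hZd
  have hEq : LinearMap.eqLocus AdT LinearMap.id = commT T := by
    ext f
    rw [LinearMap.mem_eqLocus, mem_commT, LinearMap.id_apply, hAdT]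
    constructor
    · intro h1
      calc f * T = (T * f * T') * T := by rw [h1]
        _ = T * f := by rw [mul_assoc, hT'T, mul_one]
    · intro h1
      rw [← h1, mul_assoc, hTT', mul_one]
  rw [hEq] at hfixle
  -- orbit counts
  have horb' := card_orbits_mul' σ' hPpos hσ'P
    (({1} : Finset (E ⧸ R)) ×ˢ (Finset.univ : Finset L))
    (by
      rintro ⟨ū, l⟩ hx
      rw [Finset.mem_product, Finset.mem_singleton] at hx
      show (σ ū, l) = (ū, l)
      have h1 : ū = 1 := hx.1
      rw [h1, hσone])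
    (by
      rintro i hi0 hiP ⟨ū, l⟩ hx
      rw [hσ'pow] at hx
      have h1 : (σ ^ i) ū = ū := congrArg Prod.fst hx
      rw [Finset.mem_product, Finset.mem_singleton]
      exact ⟨hσfree i hi0 hiP ū h1, Finset.mem_univ _⟩)
    (by
      have hLne : Nonempty L := by
        by_contra hcon
        rw [not_nonempty_iff] at hcon
        have h1 : finrank k (Module.End k W) = 0 := by
          rw [Module.finrank_eq_card_basis bas, Fintype.card_prod, Fintype.card_eq_zero (α := L),
            mul_zero]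
        rw [Module.finrank_linearMap] at h1
        have h2 : 0 < finrank k W := Module.finrank_pos
        rcases Nat.mul_eq_zero.mp h1 with h3 | h3 <;> omega
      obtain ⟨l₀⟩ := hLne
      refine ⟨(ū₁, l₀), ?_⟩
      rw [Finset.mem_product, Finset.mem_singleton]
      exact fun hx => hū₁ hx.1)
  rw [Finset.card_product, Finset.card_singleton, one_mul, Finset.card_univ,
    Fintype.card_prod] at horb'
  -- the eigenvalues of `T`
  have hssT : Module.End.IsSemisimple T := isSemisimple_of_pow_eq_one hPk h.hT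
  obtain ⟨I, hI, hIdec, bb, t, hbt⟩ := exists_eigenbasis T hssT
  have htr : ∀ i, t i ^ P = 1 := by
    intro i
    have h1 : (T ^ P) (bb i) = t i ^ P • bb i := by
      have : ∀ j : ℕ, (T ^ j) (bb i) = t i ^ j • bb i := by
        intro j
        induction j with
        | zero => simp
        | succ j ih =>
          rw [pow_succ', Module.End.mul_apply, ih, map_smul, hbt, smul_smul, pow_succ]
      exact this P
    rw [h.hT, Module.End.one_apply] at h1
    have h2 : (1 - t i ^ P) • bb i = 0 := by rw [sub_smul, one_smul, ← h1, sub_self]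
    rcases smul_eq_zero.mp h2 with h3 | h3
    · exact (sub_eq_zero.mp h3).symm
    · exact absurd h3 (bb.ne_zero i)
  have ht1 : ∀ i, t i ≠ 1 := by
    intro i hi
    apply bb.ne_zero i
    apply hfpf
    rw [hbt, hi, one_smul]
  let S : Finset k := (Polynomial.nthRootsFinset P (1 : k)).erase 1
  have hS : ∀ i, t i ∈ S := by
    intro i
    rw [Finset.mem_erase, Polynomial.mem_nthRootsFinset hPpos]
    exact ⟨ht1 i, htr i⟩
  have hScard : S.card ≤ P - 1 := by
    have h1 : (1 : k) ∈ Polynomial.nthRootsFinset P (1 : k) := by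
      rw [Polynomial.mem_nthRootsFinset hPpos]
      exact one_pow P
    rw [Finset.card_erase_of_mem h1]
    apply Nat.sub_le_sub_right
    rw [Polynomial.nthRootsFinset_def]
    exact (Multiset.toFinset_card_le _).trans (Polynomial.card_nthRoots P (1 : k))
  have hsq := sq_finrank_le bb T t hbt S hS
  -- `dim W ≤ dim (commT T)`
  have hI2 : finrank k W ≤ finrank k (commT T) := by
    have h1 := card_pairs_le bb T t hbt
    have h2 : Fintype.card I ≤ Nat.card {p : I × I // t p.1 = t p.2} := by
      rw [Nat.card_eq_fintype_card]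
      exact Fintype.card_le_of_injective (fun i => (⟨(i, i), rfl⟩ : {p : I × I // t p.1 = t p.2}))
        (fun i i' hii => congrArg (fun p : {p : I × I // t p.1 = t p.2} => p.1.1) hii)
    rw [Module.finrank_eq_card_basis bb]
    exact h2.trans h1
  -- numerics
  obtain ⟨d, hd⟩ := hX.exists_sq hk
  rw [Nat.card_eq_fintype_card] at hd
  have hfr : finrank k W * finrank k W = Fintype.card (E ⧸ R) * Fintype.card L := by
    rw [← Module.finrank_linearMap k k W W, Module.finrank_eq_card_basis bas, Fintype.card_prod]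
  have hWpos : 0 < finrank k W := Module.finrank_pos
  have hc : 0 < Fintype.card L := by
    rcases Nat.eq_zero_or_pos (Fintype.card L) with h0 | h0
    · rw [h0, mul_zero] at hfr
      rcases Nat.mul_eq_zero.mp hfr with h3 | h3 <;> omega
    · exact h0
  have hd2 : 2 ≤ d := by
    have h1 : 1 < Fintype.card (E ⧸ R) := by
      haveI : Nontrivial (E ⧸ R) := ⟨⟨ū₁, 1, hū₁⟩⟩
      exact Fintype.one_lt_card
    by_contra hcon
    push Not at hcon
    interval_cases d <;> omega
  obtain ⟨s, rfl⟩ : ∃ s, P = s + 1 := ⟨P - 1, by omega⟩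
  simp only [Nat.add_sub_cancel] at horb' hScard ⊢
  rw [hd] at horb' hfr
  have h3 : finrank k W * finrank k W ≤ s * finrank k (commT T) := by
    rw [← sq]
    exact hsq.trans (Nat.mul_le_mul_right _ hScard)
  obtain ⟨hc1, hds, hDs⟩ := numeric_two hd2 hc hfr horb' hfixle hLd h3 hI2
  constructor
  · rw [Nat.card_eq_fintype_card, hd, hds, sq]
  · intro ε hεP hε1
    by_contra hno
    push Not at hno
    have hne : ∀ i, t i ≠ ε := by
      intro i hi
      exact hno (bb i) (bb.ne_zero i) (by rw [hbt, hi])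
    have hS' : ∀ i, t i ∈ S.erase ε := fun i => Finset.mem_erase.mpr ⟨hne i, hS i⟩
    have hεS : ε ∈ S := by
      rw [Finset.mem_erase, Polynomial.mem_nthRootsFinset (Nat.succ_pos s)]
      exact ⟨hε1, hεP⟩
    have hS'card : (S.erase ε).card ≤ s - 1 := by
      rw [Finset.card_erase_of_mem hεS]
      exact Nat.sub_le_sub_right hScard 1
    have hsq' := sq_finrank_le bb T t hbt (S.erase ε) hS'
    have hxs : finrank k W = s := by
      have h5 : finrank k W * finrank k W = s * s := by
        rw [hfr, hc1, mul_one, hds]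
      exact Nat.mul_self_inj.mp h5
    rw [hxs] at hsq'
    have h6 : s ^ 2 ≤ (s - 1) * s :=
      hsq'.trans ((Nat.mul_le_mul_right _ hS'card).trans (Nat.mul_le_mul_left _ hDs))
    have hs2 : 2 ≤ s := by omega
    obtain ⟨s', rfl⟩ : ∃ s', s = s' + 1 := ⟨s - 1, by omega⟩
    simp only [Nat.add_sub_cancel] at h6
    nlinarith

end Cfsg.Agent.Lib.H19.SGT
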