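import Mathlib
import Cfsg.Agent.Lib.H19.SGT2

/-!
# Gross `p = 2`, part 3: the extraspecial count, general form (helper19)

`extra_two` : `XHyp ρ R Λ`, `Tw ρ φ T P` (`P` invertible in `k`), all `φ ^ i` (`0 < i < P`) free
on `E / R ≠ 1`, `T` fixed point free.  Then `|E : R| = (P - 1)²` and `T` commutes with the
commutant of `ρ(E)`.
-/

set_option autoImplicit false
set_option linter.unusedSectionVars false
set_option linter.style.haveILetI false
set_option maxHeartbeats 1000000

namespace Cfsg.Agent.Lib.H19.SGT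

open Module Cfsg.Agent.Lib.H19.Ward Cfsg.Agent.Lib.H19.ModRep Cfsg.Agent.Lib.H19.SG

variable {k : Type*} [Field k] {E : Type*} [Group E] {W : Type*} [AddCommGroup W] [Module k W]

/-- the count on a minimal stable subspace -/
theorem extra_two_on [IsAlgClosed k] [FiniteDimensional k W] [Finite E]
    (hk : (Nat.card E : k) ≠ 0) {ρ : Representation k E W} {φ : MulAut E} {T : Module.End k W}
    {P : ℕ} (hPpos : 0 < P) (hPk : (P : k) ≠ 0) (h : Tw ρ φ T P)
    {R : Subgroup E} {Λ : E → k} (hX : XHyp ρ R Λ)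
    (hφR : ∀ u, φ u ∈ R ↔ u ∈ R)
    (hfree : ∀ i, 0 < i → i < P → ∀ u : E, (φ ^ i) u * u⁻¹ ∈ R → u ∈ R)
    (hne : R ≠ ⊤) (hfpf : ∀ w, T w = w → w = 0)
    (U₁ : Submodule k W) (hU₁ : Stab ρ T U₁) (hU₁0 : U₁ ≠ ⊥)
    (hmin : ∀ U₂ : Submodule k W, U₂ ≤ U₁ → Stab ρ T U₂ → U₂ = ⊥ ∨ U₂ = U₁) :
    Nat.card (E ⧸ R) = (P - 1) ^ 2 ∧
      ∀ ε : k, ε ^ P = 1 → ε ≠ 1 → ∃ w ∈ U₁, w ≠ 0 ∧ T w = ε • w := by
  have hinv : Inv ρ U₁ := hU₁.1
  obtain ⟨ρ₁, hρ₁def⟩ : ∃ ρ₁ : Representation k E U₁, ρ₁ = ModRep.sub ρ U₁ hinv := ⟨_, rfl⟩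
  have hρ₁ : ∀ (u : E) (w : U₁), ((ρ₁ u w : U₁) : W) = ρ u (w : W) := by
    intro u w
    rw [hρ₁def]
    rfl
  obtain ⟨T₁, hT₁def⟩ : ∃ T₁ : Module.End k U₁, T₁ = T.restrict hU₁.2 := ⟨_, rfl⟩
  have hT₁ : ∀ w : U₁, ((T₁ w : U₁) : W) = T (w : W) := by
    intro w
    rw [hT₁def]
    rfl
  have hT₁pow : ∀ (m : ℕ) (w : U₁), (((T₁ ^ m) w : U₁) : W) = (T ^ m) (w : W) := by
    intro m w
    rw [hT₁def]
    exact restrict_pow_coe hU₁.2 m w
  have hTw₁ : Tw ρ₁ φ T₁ P :=
    { hT := by
        apply LinearMap.ext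
        intro w
        apply Subtype.ext
        rw [hT₁pow, h.hT]
        rfl
      hφ := h.hφ
      htw := by
        intro u
        apply LinearMap.ext
        intro w
        apply Subtype.ext
        rw [Module.End.mul_apply, Module.End.mul_apply, hT₁, hρ₁, hρ₁, hT₁]
        have := congrArg (fun f : Module.End k W => f (w : W)) (h.htw u)
        simpa using this }
  have hfpf₁ : ∀ w : U₁, T₁ w = w → w = 0 := by
    intro w hw
    apply Subtype.ext
    apply hfpf
    rw [← hT₁, hw]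
  haveI : Nontrivial U₁ := Submodule.nontrivial_iff_ne_bot.mpr hU₁0
  have hX₁ : XHyp ρ₁ R Λ := by
    rw [hρ₁def]
    exact hX.sub U₁ hinv
  have hirr : ∀ U' : Submodule k U₁, Stab ρ₁ T₁ U' → U' = ⊥ ∨ U' = ⊤ := by
    intro U' hU'
    have hle : U'.map U₁.subtype ≤ U₁ := by
      rintro _ ⟨w, -, rfl⟩
      exact w.2
    have hst : Stab ρ T (U'.map U₁.subtype) := by
      constructor
      · rintro u _ ⟨w, hw, rfl⟩
        exact ⟨ρ₁ u w, hU'.1 u w hw, hρ₁ u w⟩
      · rintro _ ⟨w, hw, rfl⟩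
        exact ⟨T₁ w, hU'.2 w hw, hT₁ w⟩
    rcases hmin _ hle hst with h0 | h1
    · left
      apply Submodule.map_injective_of_injective U₁.subtype_injective
      rw [Submodule.map_bot]
      exact h0
    · right
      apply Submodule.map_injective_of_injective U₁.subtype_injective
      rw [Submodule.map_subtype_top]
      exact h1
  obtain ⟨hcard, heig⟩ := extra_two_min hk hPpos hPk hTw₁ hX₁ hφR hfree hne hfpf₁ hirr
  refine ⟨hcard, ?_⟩
  intro ε hεP hε1
  obtain ⟨w, hw0, hw⟩ := heig ε hεP hε1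
  refine ⟨(w : W), w.2, fun h0 => hw0 (Subtype.ext h0), ?_⟩
  rw [← hT₁, hw]
  rfl

theorem extra_two [IsAlgClosed k] [FiniteDimensional k W] [Finite E] [Nontrivial W]
    (hk : (Nat.card E : k) ≠ 0) {ρ : Representation k E W} {φ : MulAut E}
    {T : Module.End k W} {P : ℕ} (hP : 0 < P) (hPk : (P : k) ≠ 0) (h : Tw ρ φ T P)
    {R : Subgroup E} {Λ : E → k} (hX : XHyp ρ R Λ) (hφR : ∀ u, φ u ∈ R ↔ u ∈ R)
    (hfree : ∀ i, 0 < i → i < P → ∀ u : E, (φ ^ i) u * u⁻¹ ∈ R → u ∈ R)
    (hne : R ≠ ⊤) (hfpf : ∀ w, T w = w → w = 0) :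
    Nat.card (E ⧸ R) = (P - 1) ^ 2 ∧ ∀ c ∈ comQ ρ, T * c = c * T := by
  classical
  have htop : Stab ρ T ⊤ := ⟨fun _ _ _ => Submodule.mem_top, fun _ _ => Submodule.mem_top⟩
  obtain ⟨U₀, -, hU₀0, hU₀st, hU₀min⟩ := exists_min_stable ρ T ⊤ htop top_ne_bot
  obtain ⟨hcard, -⟩ := extra_two_on hk hP hPk h hX hφR hfree hne hfpf U₀ hU₀st hU₀0 hU₀min
  refine ⟨hcard, ?_⟩
  -- the inverse of `T`
  obtain ⟨T', hT'def⟩ : ∃ T' : Module.End k W, T' = T ^ (P - 1) := ⟨_, rfl⟩
  have hTT' : T * T' = 1 := by rw [hT'def]; exact h.mul_pow_pred hP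
  have hT'T : T' * T = 1 := by rw [hT'def]; exact h.pow_pred_mul hP
  have hT'tw : ∀ u : E, ρ u * T' = T' * ρ (φ u) := by
    intro u
    calc ρ u * T' = T' * (T * ρ u) * T' := by rw [← mul_assoc, hT'T, one_mul]
      _ = T' * (ρ (φ u) * T) * T' := by rw [h.htw]
      _ = T' * ρ (φ u) := by rw [mul_assoc, mul_assoc, hTT', mul_one]
  obtain ⟨AdT, hAdT⟩ : ∃ AdT : Module.End k W →ₗ[k] Module.End k W,
      ∀ f, AdT f = T * f * T' :=
    ⟨LinearMap.mulLeft k T ∘ₗ LinearMap.mulRight k T', fun f => by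
      simp [mul_assoc]⟩
  have hAdpow : ∀ (j : ℕ) (f : Module.End k W), (AdT ^ j) f = T ^ j * f * T' ^ j := by
    intro j
    induction j with
    | zero => intro f; simp
    | succ j ih =>
      intro f
      rw [pow_succ', Module.End.mul_apply, ih, hAdT, pow_succ', pow_succ]
      simp only [mul_assoc]
  have hT'P : T' ^ P = 1 := by
    rw [hT'def, ← pow_mul, mul_comm, pow_mul, h.hT, one_pow]
  have hAdP : AdT ^ P = 1 := by
    apply LinearMap.ext
    intro f
    rw [hAdpow, h.hT, hT'P, one_mul, mul_one, Module.End.one_apply]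
  have hmaps : ∀ c ∈ comQ ρ, AdT c ∈ comQ ρ := by
    intro c hc u
    rw [hAdT]
    have h1 : ρ u * T = T * ρ (φ⁻¹ u) := by
      rw [h.htw, MulAut.apply_inv_self]
    have h2 : ρ (φ⁻¹ u) * T' = T' * ρ u := by
      rw [hT'tw, MulAut.apply_inv_self]
    calc ρ u * (T * c * T') = (ρ u * T) * c * T' := by simp only [mul_assoc]
      _ = T * (ρ (φ⁻¹ u) * c) * T' := by rw [h1]; simp only [mul_assoc]
      _ = T * (c * ρ (φ⁻¹ u)) * T' := by rw [hc]
      _ = T * c * (ρ (φ⁻¹ u) * T') := by simp only [mul_assoc]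
      _ = T * c * T' * ρ u := by rw [h2]; simp only [mul_assoc]
  obtain ⟨AdC, hAdCdef⟩ : ∃ AdC : Module.End k (comQ ρ), AdC = AdT.restrict hmaps := ⟨_, rfl⟩
  have hAdC : ∀ c : comQ ρ, ((AdC c : comQ ρ) : Module.End k W) = T * (c : Module.End k W) * T' := by
    intro c
    rw [hAdCdef, LinearMap.coe_restrict_apply, hAdT]
  have hAdCpow : ∀ (j : ℕ) (c : comQ ρ),
      (((AdC ^ j) c : comQ ρ) : Module.End k W) = (AdT ^ j) (c : Module.End k W) := by
    intro j
    induction j with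
    | zero => intro c; simp
    | succ j ih =>
      intro c
      rw [pow_succ', Module.End.mul_apply, hAdC, ih, pow_succ', Module.End.mul_apply, hAdT]
  have hAdCP : AdC ^ P = 1 := by
    apply LinearMap.ext
    intro c
    apply Subtype.ext
    rw [hAdCpow, hAdP]
    rfl
  have hssC : Module.End.IsSemisimple AdC := isSemisimple_of_pow_eq_one hPk hAdCP
  obtain ⟨L, hLf, hLd, v, μ, hvμ⟩ := exists_eigenbasis AdC hssC
  have hvμ' : ∀ l : L, T * ((v l : comQ ρ) : Module.End k W) * T' =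
      μ l • ((v l : comQ ρ) : Module.End k W) := by
    intro l
    rw [← hAdC, hvμ l]
    rfl
  -- all eigenvalues are `1`
  have hμ : ∀ l : L, μ l = 1 := by
    intro l
    by_contra hμl
    obtain ⟨c, hcdef⟩ : ∃ c : Module.End k W, c = ((v l : comQ ρ) : Module.End k W) := ⟨_, rfl⟩
    have hcQ : c ∈ comQ ρ := by rw [hcdef]; exact (v l).2
    have hc0 : c ≠ 0 := by
      rw [hcdef]
      intro h0
      exact v.ne_zero l (Subtype.ext h0)
    have hcT : T * c = μ l • (c * T) := by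
      have h1 := hvμ' l
      rw [← hcdef] at h1
      calc T * c = (T * c * T') * T := by rw [mul_assoc (T * c), hT'T, mul_one]
        _ = μ l • (c * T) := by rw [h1, smul_mul_assoc]
    -- `μ l ^ P = 1`
    have hpowc : ∀ i : ℕ, T ^ i * c = μ l ^ i • (c * T ^ i) := by
      intro i
      induction i with
      | zero => simp
      | succ i ih =>
        rw [pow_succ', mul_assoc, ih, mul_smul_comm, ← mul_assoc, hcT, smul_mul_assoc, smul_smul,
          mul_assoc, ← pow_succ', ← pow_succ]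
    have hμP : μ l ^ P = 1 := by
      have h1 := hpowc P
      rw [h.hT, one_mul, mul_one] at h1
      have h2 : (1 : k) • c = μ l ^ P • c := by rw [one_smul]; exact h1
      exact (smul_left_injective k hc0 h2).symm
    -- the range of `c`
    have hst : Stab ρ T (LinearMap.range c) := by
      constructor
      · rintro u _ ⟨w, rfl⟩
        refine ⟨ρ u w, ?_⟩
        have h1 := congrArg (fun f : Module.End k W => f w) (hcQ u)
        simp only [Module.End.mul_apply] at h1
        exact h1.symm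
      · rintro _ ⟨w, rfl⟩
        refine ⟨μ l • T w, ?_⟩
        have h1 := congrArg (fun f : Module.End k W => f w) hcT
        simp only [Module.End.mul_apply, LinearMap.smul_apply] at h1
        rw [map_smul]
        exact h1.symm
    have hr0 : LinearMap.range c ≠ ⊥ := by
      intro h0
      apply hc0
      exact LinearMap.range_eq_bot.mp h0
    obtain ⟨U₁, hU₁le, hU₁0, hU₁st, hU₁min⟩ := exists_min_stable ρ T _ hst hr0
    obtain ⟨-, heig⟩ := extra_two_on hk hP hPk h hX hφR hfree hne hfpf U₁ hU₁st hU₁0 hU₁min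
    obtain ⟨w, hwU, hw0, hw⟩ := heig (μ l) hμP hμl
    obtain ⟨v₀, hv₀⟩ := hU₁le hwU
    -- the norm of `v₀`
    have hfix : T ((∑ i ∈ Finset.range P, T ^ i) v₀) = (∑ i ∈ Finset.range P, T ^ i) v₀ := by
      have := congrArg (fun f : Module.End k W => f v₀) (mul_nrm h.hT)
      simpa using this
    have hzero := hfpf _ hfix
    have hTw : ∀ i : ℕ, (T ^ i) w = μ l ^ i • w := by
      intro i
      induction i with
      | zero => simp
      | succ i ih =>
        rw [pow_succ', Module.End.mul_apply, ih, map_smul, hw, smul_smul, pow_succ]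
    have hμ0 : μ l ≠ 0 := by
      intro h0
      rw [h0, zero_pow hP.ne'] at hμP
      exact zero_ne_one hμP
    have hterm : ∀ i : ℕ, c ((T ^ i) v₀) = w := by
      intro i
      have h1 := congrArg (fun f : Module.End k W => f v₀) (hpowc i)
      simp only [Module.End.mul_apply, LinearMap.smul_apply] at h1
      rw [hv₀, hTw] at h1
      exact (smul_right_injective W (pow_ne_zero i hμ0) h1).symm
    have h5 : c ((∑ i ∈ Finset.range P, T ^ i) v₀) = (P : k) • w := by
      rw [LinearMap.sum_apply, map_sum, Finset.sum_congr rfl (fun i _ => hterm i), Finset.sum_const,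
        Finset.card_range, Nat.cast_smul_eq_nsmul]
    rw [hzero, map_zero] at h5
    rcases smul_eq_zero.mp h5.symm with h6 | h6
    · exact hPk h6
    · exact hw0 h6
  -- conclusion
  intro c hc
  have h1 := v.sum_repr ⟨c, hc⟩
  have h2 : c = ∑ l : L, (v.repr ⟨c, hc⟩ l) • ((v l : comQ ρ) : Module.End k W) := by
    have := congrArg (Subtype.val : comQ ρ → Module.End k W) h1
    rw [Submodule.coe_sum] at this
    simp only [Submodule.coe_smul] at this
    exact this.symm
  have hcomm : ∀ l : L, T * ((v l : comQ ρ) : Module.End k W) =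
      ((v l : comQ ρ) : Module.End k W) * T := by
    intro l
    have h3 := hvμ' l
    rw [hμ l, one_smul] at h3
    calc T * ((v l : comQ ρ) : Module.End k W)
        = T * ((v l : comQ ρ) : Module.End k W) * (T' * T) := by rw [hT'T, mul_one]
      _ = (T * ((v l : comQ ρ) : Module.End k W) * T') * T := by simp only [mul_assoc]
      _ = ((v l : comQ ρ) : Module.End k W) * T := by rw [h3]
  rw [h2, Finset.mul_sum, Finset.sum_mul]
  apply Finset.sum_congr rfl
  intro l _
  rw [mul_smul_comm, smul_mul_assoc, hcomm l]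

end Cfsg.Agent.Lib.H19.SGT
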