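import Mathlib
import Cfsg.Agent.Lib.H19.SGTDefs
import Cfsg.Agent.Lib.H19.FittingCrit
import Cfsg.Agent.Lib.H19.Fpf4Main
import Cfsg.Agent.Lib.H15.SGTABEL1
import Cfsg.Agent.Lib.H15.SGTABEL2
import Cfsg.Agent.Lib.H27.SGTMIN
import Cfsg.Agent.Lib.H9.SGTWT
import Cfsg.Agent.Lib.H20.SGTPM
import Cfsg.Agent.Lib.H21.SGTMLR
import Cfsg.Agent.Lib.H21.SGTDLIN
import Cfsg.Agent.Lib.H5.SGTCHAIN
import Cfsg.Agent.Lib.H6.SGTSPEC

/-!
# S3795 (Gross, `p = 2`): final assembly (helper19 architect).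

`cfg_centralizes` (the main lemma over an algebraically closed field), then `comm_cent_of_module`
(MLR), `sg2_vabs` (DLIN), and the chain `sg2_chain` of length `2 n - 2`.
-/

set_option autoImplicit false
set_option linter.unusedSectionVars false
set_option linter.unusedVariables false

namespace Cfsg.Agent.Lib.H19.SGT

open Module Cfsg Cfsg.Agent.Lib.H19.SG Cfsg.Agent.Lib.H19.SGT Cfsg.Agent.Lib.H19.ModRep
  Cfsg.Agent.Lib.H1 Cfsg.Agent.Lib.H1.QuadMul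

universe u uΓ

section ambient

variable {k : Type*} [Field k] {Γ : Type uΓ} [Group Γ] {W : Type*} [AddCommGroup W] [Module k W]

variable {ρ : Representation k Γ W} {s : Γ} {n : ℕ} {Q R : Subgroup Γ} {t u : ℕ}

/-- **ML'**: the main lemma. -/
theorem cfg_centralizes [IsAlgClosed k] [FiniteDimensional k W] [Finite Γ] [Fact t.Prime]
    [Fact u.Prime] (htu : t ≠ u) (ht2 : t ≠ 2) (hu2 : u ≠ 2) (htk : (t : k) ≠ 0)
    (h2k : (2 : k) ≠ 0) (hn : 0 < n) (h : Cfg ρ s n Q R t u) : Cent R Q := by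
  have key : ∀ (c : ℕ) (Q : Subgroup Γ), Nat.card Q = c → Cfg ρ s n Q R t u → Cent R Q := by
    intro c
    induction c using Nat.strong_induction_on with
    | _ c ih =>
      intro Q hc h
      by_contra hnc
      by_cases hex : ∃ Q₀ : Subgroup Γ, Q₀ ≤ Q ∧ Q₀ ≠ Q ∧ (∀ q ∈ Q₀, s * q * s⁻¹ ∈ Q₀) ∧
          (∀ x ∈ R, ∀ q ∈ Q₀, x * q * x⁻¹ ∈ Q₀) ∧ ¬ Cent R Q₀
      · obtain ⟨Q₀, hle, hne, hs₀, hR₀, hnc₀⟩ := hex
        have hlt : Nat.card Q₀ < c := by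
          rw [← hc]
          apply lt_of_le_of_ne (Subgroup.card_le_of_le hle)
          intro heq
          exact hne (Subgroup.eq_of_le_of_card_ge hle heq.ge)
        exact hnc₀ (ih _ hlt Q₀ rfl (h.mono hle hs₀ hR₀))
      · push Not at hex
        have hm : IsMin s Q R := ⟨hnc, fun Q₀ hle hne hs₀ hR₀ => hex Q₀ hle hne hs₀ hR₀⟩
        by_cases hab : ∀ a ∈ Q, ∀ b ∈ Q, a * b = b * a
        · -- abelian case
          have hQk : (Nat.card Q : k) ≠ 0 := by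
            obtain ⟨b, hb⟩ := IsPGroup.iff_card.mp h.hQ
            rw [hb, Nat.cast_pow]
            exact pow_ne_zero b htk
          have hτ := Cfsg.Agent.Lib.H15.SGT.tau_comm_of_abelian hn h.hs h.hfpf Q h.hsQ hab hQk
            h.hfaith
          exact hnc (Cfsg.Agent.Lib.H15.SGT.cent_of_tau_comm h.hRQ h.hgen hτ)
        · -- nonabelian case
          obtain ⟨N, j, W', μ, hd⟩ := Cfsg.Agent.Lib.H9.SGT.exists_wdata htu htk hn h hm hab
          have hcc := Cfsg.Agent.Lib.H27.SGT.min_comm_central htu h hm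
          have hpc := Cfsg.Agent.Lib.H27.SGT.min_pow_central htu h hm
          obtain ⟨ha, hcard, hspec⟩ := Cfsg.Agent.Lib.H20.SGT.pm_main htu ht2 htk h2k hn h hm hd
          have hcommN : ∀ a ∈ Q, ∀ b ∈ Q, a * b * a⁻¹ * b⁻¹ ∈ N := by
            intro a ha b hb
            apply hd.hZN _ (Q.mul_mem (Q.mul_mem (Q.mul_mem ha hb) (Q.inv_mem ha)) (Q.inv_mem hb))
            intro q hq
            exact hcc a ha b hb q hq
          have hQN : ∀ q ∈ Q, ∀ z ∈ N, q * z * q⁻¹ ∈ N := by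
            intro q hq z hz
            have e : q * z * q⁻¹ = (q * z * q⁻¹ * z⁻¹) * z := by group
            rw [e]
            exact N.mul_mem (hcommN q hq z (hd.hNQ hz)) hz
          have hpowN : ∀ a ∈ Q, a ^ t ∈ N := by
            intro a ha
            apply hd.hZN _ (Q.pow_mem ha t)
            intro q hq
            exact hpc a ha q hq
          exact Cfsg.Agent.Lib.H6.SGT.spec_false htu ht2 hu2 hn h.hs h.hQ h.hR h.hsQ h.hsR h.hRQ
            h.hgen (Cfsg.Agent.Lib.H27.SGT.min_closure_eq htu h hm) hd.hj hd.hNQ hd.hNne hQN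
            hcommN hpowN hd.hgN hd.hRN ha hcard hspec
  exact key _ Q rfl h

end ambient

section groups

variable {Γ : Type uΓ} [Group Γ] {r : ℕ} [Fact r.Prime] {M : Type*} [AddCommGroup M]
  [Module (ZMod r) M]

/-- **MLR**: the main lemma over `𝔽_r`. -/
theorem comm_cent_of_module [Finite Γ] [Module.Finite (ZMod r) M] (hr2 : r ≠ 2)
    (ρ : Representation (ZMod r) Γ M) {s : Γ} {n : ℕ} (hn : 0 < n) (hs : s ^ (2 ^ n) = 1)
    (hfixM : ∀ m : M, ρ s m = m → m = 0)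
    {t v : ℕ} [Fact t.Prime] [Fact v.Prime] (htv : t ≠ v) (ht2 : t ≠ 2) (hv2 : v ≠ 2)
    (htr : t ≠ r) (Q U : Subgroup Γ) (hQ : IsPGroup t Q) (hU : IsPGroup v U)
    (hsQ : ∀ q ∈ Q, s * q * s⁻¹ ∈ Q) (hsU : ∀ x ∈ U, s * x * s⁻¹ ∈ U)
    (hUQ : ∀ x ∈ U, ∀ q ∈ Q, x * q * x⁻¹ ∈ Q) (hfaith : ∀ q ∈ Q, ρ q = 1 → q = 1) :
    ∀ x ∈ U, ∀ q ∈ Q, (x⁻¹ * tau s n * x * (tau s n)⁻¹) * q =
      q * (x⁻¹ * tau s n * x * (tau s n)⁻¹) :=
  Cfsg.Agent.Lib.H21.SGT.comm_cent_of_module_of hr2 ρ hn hs hfixM htv ht2 hv2 htr Q U hQ hU hsQ hsU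
    hUQ hfaith (fun R htk h2k h => cfg_centralizes htv ht2 hv2 htk h2k hn h)

/-- **DLIN**: `[H, τ] ≤ F(H)`. -/
theorem sg2_vabs [Finite Γ] [Module.Finite (ZMod r) M] (hr2 : r ≠ 2)
    (ρ : Representation (ZMod r) Γ M) (H : Subgroup Γ) [H.Normal] (hHs : Group.IsSolvable ↥H)
    (hHodd : (Nat.card H).Coprime 2) (hfaith : ∀ h ∈ H, ρ h = 1 → h = 1) {s : Γ} {n : ℕ}
    (hn : 0 < n) (hs : s ^ (2 ^ n) = 1)
    (hfixM : ∀ m : M, ρ s m = m → m = 0)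
    (hOr : ∀ P : Subgroup Γ, P.Normal → P ≤ H → IsPGroup r P → P = ⊥) :
    ∃ D : Subgroup Γ, D.Normal ∧ D ≤ H ∧ Group.IsNilpotent ↥D ∧
      ∀ h ∈ H, tau s n * h * (tau s n)⁻¹ * h⁻¹ ∈ D :=
  Cfsg.Agent.Lib.H21.SGT.sg2_vabs_of hr2 ρ H hHs hHodd hfaith hn hs hfixM hOr
    (fun t v _ _ htv ht2 hv2 htr Q U hQ hU hsQ hsU hUQ hfa =>
      comm_cent_of_module hr2 ρ hn hs hfixM htv ht2 hv2 htr Q U hQ hU hsQ hsU hUQ hfa)

theorem vabsStmt : Cfsg.Agent.Lib.H5.SGT.VabsStmt.{u} := by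
  intro Γ _ _ r _ M _ _ _ hr2 ρ H _ hHs hHodd hfaith s n hn hs hfixM hOr
  exact sg2_vabs hr2 ρ H hHs hHodd hfaith hn hs hfixM hOr

/-- **CHAIN**: the Fitting chain of length `2 n - 2`. -/
theorem sg2_chain : ∀ (n : ℕ), 2 ≤ n → ∀ (G : Type u) [Group G] [Finite G], Group.IsSolvable G →
    ∀ σ : MulAut G, σ ^ (2 ^ n) = 1 → (∀ g : G, σ g = g → g = 1) →
      ∃ F : Fin ((2 * n - 2) + 1) → Subgroup G, F 0 = ⊥ ∧ F (Fin.last (2 * n - 2)) = ⊤ ∧
        Monotone F ∧ (∀ i, (F i).Normal) ∧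
        ∀ i : Fin (2 * n - 2), ∃ k : ℕ, (F i.succ).lowerCentralSeries k ≤ F i.castSucc :=
  Cfsg.Agent.Lib.H5.SGT.sg2_chain_of vabsStmt

end groups

end Cfsg.Agent.Lib.H19.SGT
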