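import Cfsg.Agent.Lib.H24.GlaubCls
import Cfsg.Agent.Lib.H24.GlaubClasses

/-!
# S3016 (I), piece P1 (helper19): the group-theoretic key step

Inside a finite group `Γ`: `Y` a `p'`-subgroup, `H` an abelian `p`-subgroup normalising `Y`, `p` odd,
`a ∈ H`, `y ∈ Y`, and the extreme-closure hypothesis at `y` in the weak form
`⟨H, y H y⁻¹⟩ ⊓ Y ⊓ C(H) = ⊥`.  Then `a * (y a y⁻¹)` is `Y`-conjugate to `w * a ^ 2` with
`w ∈ C_Y(a)`, `w ∈ ⁅C_Y(a), H⁆`.

* `le_commutator_of_fixedPointFree` : a `p`-group `H` normalising a `p'`-group `X` with `C_X(H) = 1`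
  has `X ≤ ⁅X, H⁆`;
* `key_conj` : the statement above.
-/

set_option autoImplicit false

namespace Cfsg.Agent.Lib.H19.SHODD

open Cfsg.Agent.Lib.H24.Glaub
open scoped commutatorElement

variable {Γ : Type*} [Group Γ]

/-- `H` normalises `X` ⟹ `⁅X, H⁆ ≤ X`. -/
theorem commutator_le_of_normalizes (X H : Subgroup Γ)
    (hnorm : ∀ h ∈ H, ∀ x ∈ X, h * x * h⁻¹ ∈ X) : ⁅X, H⁆ ≤ X := by
  rw [Subgroup.commutator_le]
  intro x hx h hh
  have h1 : ⁅x, h⁆ = x * (h * x⁻¹ * h⁻¹) := by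
    rw [commutatorElement_def]; group
  rw [h1]
  exact X.mul_mem hx (hnorm h hh _ (X.inv_mem hx))

/-- A `p`-group `H` normalising a finite `p'`-group `X` without nontrivial fixed points:
`X ≤ ⁅X, H⁆`. -/
theorem le_commutator_of_fixedPointFree [Finite Γ] {p : ℕ} [Fact p.Prime] (X H : Subgroup Γ)
    (hH : IsPGroup p H) (hnorm : ∀ h ∈ H, ∀ x ∈ X, h * x * h⁻¹ ∈ X)
    (hpX : ¬ p ∣ Nat.card X)
    (hfix : ∀ x ∈ X, (∀ h ∈ H, h * x * h⁻¹ = x) → x = 1) : X ≤ ⁅X, H⁆ := by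
  intro x hx
  have hNX : ⁅X, H⁆ ≤ X := commutator_le_of_normalizes X H hnorm
  -- the coset `x N`
  set S : Set Γ := (fun n : Γ => x * n) '' ((⁅X, H⁆ : Subgroup Γ) : Set Γ) with hS
  have hcard : Nat.card S = Nat.card (⁅X, H⁆ : Subgroup Γ) := by
    rw [hS]
    exact Nat.card_image_of_injective (mul_right_injective x) _
  have hpS : ¬ p ∣ Nat.card S := by
    rw [hcard]
    intro h
    exact hpX (h.trans (Subgroup.card_dvd_of_le hNX))
  have hstab : ∀ h ∈ H, ∀ z ∈ S, h * z * h⁻¹ ∈ S := by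
    rintro h hh z ⟨n, hn, rfl⟩
    have hn' : n ∈ (⁅X, H⁆ : Subgroup Γ) := hn
    refine ⟨(x⁻¹ * h * x * h⁻¹) * (n * (n⁻¹ * h * n * h⁻¹)), ?_, ?_⟩
    · show (x⁻¹ * h * x * h⁻¹) * (n * (n⁻¹ * h * n * h⁻¹)) ∈ (⁅X, H⁆ : Subgroup Γ)
      have h1 : x⁻¹ * h * x * h⁻¹ ∈ (⁅X, H⁆ : Subgroup Γ) := by
        have := Subgroup.commutator_mem_commutator (X.inv_mem hx) hh
        rw [commutatorElement_def] at this
        simpa using this
      have h2 : n⁻¹ * h * n * h⁻¹ ∈ (⁅X, H⁆ : Subgroup Γ) := by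
        have := Subgroup.commutator_mem_commutator (X.inv_mem (hNX hn')) hh
        rw [commutatorElement_def] at this
        simpa using this
      exact Subgroup.mul_mem _ h1 (Subgroup.mul_mem _ hn' h2)
    · show x * ((x⁻¹ * h * x * h⁻¹) * (n * (n⁻¹ * h * n * h⁻¹))) = h * (x * n) * h⁻¹
      group
  obtain ⟨z, ⟨n, hn, rfl⟩, hz⟩ := pfix hH S hstab hpS
  have hn' : n ∈ (⁅X, H⁆ : Subgroup Γ) := hn
  have hzX : x * n ∈ X := X.mul_mem hx (hNX hn')
  have h1 : x * n = 1 := hfix _ hzX hz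
  have h2 : x = n⁻¹ := eq_inv_of_mul_eq_one_left h1
  rw [h2]
  exact Subgroup.inv_mem _ hn'

/-- an element commuting with `a ^ 2` commutes with `a` when `a` has odd order. -/
theorem commute_of_commute_sq {c a : Γ} (hodd : Odd (orderOf a)) (h : c * a ^ 2 = a ^ 2 * c) :
    c * a = a * c := by
  obtain ⟨k, hk⟩ := hodd
  have h1 : (a ^ 2) ^ (k + 1) = a := by
    rw [← pow_mul]
    have : 2 * (k + 1) = orderOf a + 1 := by omega
    rw [this, pow_succ, pow_orderOf_eq_one, one_mul]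
  have h2 : Commute c (a ^ 2) := h
  have h3 : Commute c ((a ^ 2) ^ (k + 1)) := h2.pow_right _
  rw [h1] at h3
  exact h3

/-- **P1**: the key conjugacy step. -/
theorem key_conj [Finite Γ] {p : ℕ} [Fact p.Prime] (hp2 : p ≠ 2) (Y H : Subgroup Γ)
    (hH : IsPGroup p H) (hcomm : ∀ a ∈ H, ∀ b ∈ H, a * b = b * a)
    (hnorm : ∀ h ∈ H, ∀ y ∈ Y, h * y * h⁻¹ ∈ Y) (hpY : ¬ p ∣ Nat.card Y)
    (a : Γ) (ha : a ∈ H) (y : Γ) (hy : y ∈ Y)
    (hEC : (H ⊔ H.map (MulAut.conj y).toMonoidHom) ⊓ Y ⊓ Subgroup.centralizer (H : Set Γ) = ⊥) :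
    ∃ x ∈ Y, ∃ w ∈ fixedSub Y a, w ∈ ⁅fixedSub Y a, H⁆ ∧
      x * (a * (y * a * y⁻¹)) * x⁻¹ = w * a ^ 2 := by
  classical
  set T : Subgroup Γ := H ⊔ H.map (MulAut.conj y).toMonoidHom with hT
  set K : Subgroup Γ := T ⊓ Y with hK
  have hHT : H ≤ T := le_sup_left
  have hyaT : y * a * y⁻¹ ∈ T := by
    apply (le_sup_right : H.map (MulAut.conj y).toMonoidHom ≤ T)
    exact ⟨a, ha, by simp [MulAut.conj_apply]⟩
  -- `H` normalises `K`
  have hnormK : ∀ h ∈ H, ∀ k ∈ K, h * k * h⁻¹ ∈ K := by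
    intro h hh k hk
    rw [hK, Subgroup.mem_inf] at hk ⊢
    exact ⟨T.mul_mem (T.mul_mem (hHT hh) hk.1) (T.inv_mem (hHT hh)), hnorm h hh k hk.2⟩
  have hs : a ^ 2 ∈ H := H.pow_mem ha 2
  have hsN : a ^ 2 ∈ Subgroup.normalizer (K : Set Γ) := by
    rw [Subgroup.mem_normalizer_iff]
    intro k
    constructor
    · intro hk; exact hnormK _ hs k hk
    · intro hk
      have := hnormK _ (H.inv_mem hs) _ hk
      have e : (a ^ 2)⁻¹ * (a ^ 2 * k * (a ^ 2)⁻¹) * (a ^ 2)⁻¹⁻¹ = k := by group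
      rwa [e] at this
  -- the element `n`
  have hn : a * (y * a * y⁻¹) * (a ^ 2)⁻¹ ∈ K := by
    rw [hK, Subgroup.mem_inf]
    constructor
    · exact T.mul_mem (T.mul_mem (hHT ha) hyaT) (T.inv_mem (hHT hs))
    · have e : a * (y * a * y⁻¹) * (a ^ 2)⁻¹ = a * (y * (a * y⁻¹ * a⁻¹)) * a⁻¹ := by
        rw [pow_two]; group
      rw [e]
      exact hnorm a ha _ (Y.mul_mem hy (hnorm a ha _ (Y.inv_mem hy)))
  -- coprimality
  have hKY : K ≤ Y := inf_le_right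
  have hpK : ¬ p ∣ Nat.card K := fun h => hpY (h.trans (Subgroup.card_dvd_of_le hKY))
  obtain ⟨j, hj⟩ : ∃ j : ℕ, orderOf (a ^ 2) = p ^ j := by
    obtain ⟨j, hj⟩ := (IsPGroup.iff_orderOf.mp hH) ⟨a ^ 2, hs⟩
    refine ⟨j, ?_⟩
    rw [← hj]
    exact (Subgroup.orderOf_mk (a ^ 2) hs).symm
  have hcop : (Nat.card K).Coprime (orderOf (a ^ 2)) := by
    rw [hj]
    apply Nat.Coprime.pow_right
    exact ((Nat.Prime.coprime_iff_not_dvd (Fact.out : p.Prime)).mpr hpK).symm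
  obtain ⟨x, hx, c, hc, hxc⟩ := exists_conj_coset (N := K) (s := a ^ 2) hsN hcop hn
  have hc' := mem_fixedSub.mp hc
  -- `a` has odd order
  have hoddp : Odd p := (Fact.out : p.Prime).odd_of_ne_two hp2
  have hodda : Odd (orderOf a) := by
    obtain ⟨i, hi⟩ := (IsPGroup.iff_orderOf.mp hH) ⟨a, ha⟩
    have : orderOf a = p ^ i := by
      rw [← hi]; exact (Subgroup.orderOf_mk a ha).symm
    rw [this]
    exact hoddp.pow
  have hca : c * a = a * c := commute_of_commute_sq hodda hc'.2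
  -- the subgroup `X = C_K(a)`
  set X : Subgroup Γ := K ⊓ Subgroup.centralizer {a} with hX
  have hcX : c ∈ X := by
    rw [hX, Subgroup.mem_inf, Subgroup.mem_centralizer_singleton_iff]
    exact ⟨hc'.1, hca⟩
  have hnormX : ∀ h ∈ H, ∀ z ∈ X, h * z * h⁻¹ ∈ X := by
    intro h hh z hz
    rw [hX, Subgroup.mem_inf, Subgroup.mem_centralizer_singleton_iff] at hz ⊢
    refine ⟨hnormK h hh z hz.1, ?_⟩
    have hah : a * h = h * a := hcomm a ha h hh
    have hah' : h⁻¹ * a = a * h⁻¹ := by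
      have : a = h * a * h⁻¹ := by rw [← hah]; group
      calc h⁻¹ * a = h⁻¹ * (h * a * h⁻¹) := by rw [← this]
        _ = a * h⁻¹ := by group
    calc h * z * h⁻¹ * a = h * z * (h⁻¹ * a) := by group
      _ = h * z * (a * h⁻¹) := by rw [hah']
      _ = h * (z * a) * h⁻¹ := by group
      _ = h * (a * z) * h⁻¹ := by rw [hz.2]
      _ = (h * a) * z * h⁻¹ := by group
      _ = (a * h) * z * h⁻¹ := by rw [hah]
      _ = a * (h * z * h⁻¹) := by group
  have hXY : X ≤ Y := inf_le_left.trans hKY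
  have hpX : ¬ p ∣ Nat.card X := fun h => hpY (h.trans (Subgroup.card_dvd_of_le hXY))
  have hfixX : ∀ z ∈ X, (∀ h ∈ H, h * z * h⁻¹ = z) → z = 1 := by
    intro z hz hfix
    have hzK : z ∈ K := (inf_le_left : X ≤ K) hz
    have hzmem : z ∈ T ⊓ Y ⊓ Subgroup.centralizer (H : Set Γ) := by
      rw [Subgroup.mem_inf]
      refine ⟨hzK, ?_⟩
      rw [Subgroup.mem_centralizer_iff]
      intro h hh
      have := hfix h hh
      calc h * z = h * z * h⁻¹ * h := by group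
        _ = z * h := by rw [this]
    rw [hEC] at hzmem
    exact Subgroup.mem_bot.mp hzmem
  have hXcomm : X ≤ ⁅X, H⁆ := le_commutator_of_fixedPointFree X H hH hnormX hpX hfixX
  have hXfix : X ≤ fixedSub Y a := by
    intro z hz
    rw [hX, Subgroup.mem_inf, Subgroup.mem_centralizer_singleton_iff] at hz
    exact mem_fixedSub.mpr ⟨hKY hz.1, hz.2⟩
  refine ⟨x, hKY hx, c, hXfix hcX, ?_, ?_⟩
  · exact (Subgroup.commutator_mono hXfix le_rfl) (hXcomm hcX)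
  · have e : a * (y * a * y⁻¹) = a * (y * a * y⁻¹) * (a ^ 2)⁻¹ * a ^ 2 := by group
    rw [e]
    exact hxc

end Cfsg.Agent.Lib.H19.SHODD
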