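import Cfsg.Agent.Lib.H24.GlaubSolv5
import Cfsg.Agent.Lib.H24.GlaubOver5
import Cfsg.Agent.Lib.H19.SHODDP1

/-!
# S3016 (I), the FINISH step (helper19)

Inside a finite group `Γ`: `H` solvable normalising `Y`, `(|Y|, |H|) = 1`.  If every `H`-invariant
irreducible character of `Y` is trivial on `⁅Y, H⁆`, then `⁅Y, H⁆ ⊓ C(H) = ⊥`
(helper24's `solv_count_cent` for `⁅Y, H⁆` + `exists_inv_over`).

* `commutator_conj_mem_left` : `Y` normalises `⁅Y, H⁆`;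
* `commutator_conj_mem_right` : `H` normalises `⁅Y, H⁆` when it normalises `Y`;
* `finish`.
-/

set_option autoImplicit false
set_option linter.style.haveILetI false

universe u

namespace Cfsg.Agent.Lib.H19.SHODD

open Cfsg Cfsg.Agent.Lib.H24.Glaub
open scoped commutatorElement

variable {Γ : Type u} [Group Γ]

/-- `Y` normalises `⁅Y, H⁆`. -/
theorem commutator_conj_mem_left (Y H : Subgroup Γ) {a : Γ} (ha : a ∈ Y) {m : Γ}
    (hm : m ∈ ⁅Y, H⁆) : a * m * a⁻¹ ∈ ⁅Y, H⁆ := by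
  have hle : ⁅Y, H⁆ ≤ (⁅Y, H⁆ : Subgroup Γ).comap (MulAut.conj a).toMonoidHom := by
    rw [Subgroup.commutator_le]
    intro y hy h hh
    rw [Subgroup.mem_comap]
    show a * ⁅y, h⁆ * a⁻¹ ∈ ⁅Y, H⁆
    have e : a * ⁅y, h⁆ * a⁻¹ = ⁅a * y, h⁆ * ⁅a, h⁆⁻¹ := by
      simp only [commutatorElement_def]; group
    rw [e]
    exact Subgroup.mul_mem _ (Subgroup.commutator_mem_commutator (Y.mul_mem ha hy) hh)
      (Subgroup.inv_mem _ (Subgroup.commutator_mem_commutator ha hh))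
  exact hle hm

/-- `H` normalises `⁅Y, H⁆` when it normalises `Y`. -/
theorem commutator_conj_mem_right (Y H : Subgroup Γ)
    (hnorm : ∀ h ∈ H, ∀ y ∈ Y, h * y * h⁻¹ ∈ Y) {s : Γ} (hs : s ∈ H) {m : Γ}
    (hm : m ∈ ⁅Y, H⁆) : s * m * s⁻¹ ∈ ⁅Y, H⁆ := by
  have hle : ⁅Y, H⁆ ≤ (⁅Y, H⁆ : Subgroup Γ).comap (MulAut.conj s).toMonoidHom := by
    rw [Subgroup.commutator_le]
    intro y hy h hh
    rw [Subgroup.mem_comap]
    show s * ⁅y, h⁆ * s⁻¹ ∈ ⁅Y, H⁆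
    have e : s * ⁅y, h⁆ * s⁻¹ = ⁅s * y * s⁻¹, s * h * s⁻¹⁆ := by
      simp only [commutatorElement_def]; group
    rw [e]
    exact Subgroup.commutator_mem_commutator (hnorm s hs y hy)
      (H.mul_mem (H.mul_mem hs hh) (H.inv_mem hs))
  exact hle hm

variable [Fintype Γ]

/-- **FINISH**: if every `H`-invariant irreducible character of `Y` is trivial on `⁅Y, H⁆`
then `H` has no nontrivial fixed point in `⁅Y, H⁆`. -/
theorem finish (Y H : Subgroup Γ) (hnorm : ∀ h ∈ H, ∀ y ∈ Y, h * y * h⁻¹ ∈ Y)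
    (hcop : (Nat.card Y).Coprime (Nat.card H)) (hsolv : Group.IsSolvable H)
    (hP : ∀ θ : IrrCharacter Y, (∀ s ∈ H, InvUnder Y s (θ : Y → ℂ)) →
      ∀ y : Y, (y : Γ) ∈ ⁅Y, H⁆ → (θ : Y → ℂ) y = (θ : Y → ℂ) 1) :
    ⁅Y, H⁆ ⊓ Subgroup.centralizer (H : Set Γ) = ⊥ := by
  classical
  set Y₁ : Subgroup Γ := ⁅Y, H⁆ with hY₁
  have hY1Y : Y₁ ≤ Y := commutator_le_of_normalizes Y H hnorm
  have hnorm1 : ∀ s ∈ H, ∀ m ∈ Y₁, s * m * s⁻¹ ∈ Y₁ :=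
    fun s hs m hm => commutator_conj_mem_right Y H hnorm hs hm
  have hNn : ∀ g ∈ Y, ∀ m ∈ Y₁, g * m * g⁻¹ ∈ Y₁ :=
    fun g hg m hm => commutator_conj_mem_left Y H hg hm
  have hcop1 : (Nat.card Y₁).Coprime (Nat.card H) :=
    Nat.Coprime.coprime_dvd_left (Subgroup.card_dvd_of_le hY1Y) hcop
  rw [eq_bot_iff]
  intro c hc
  rw [Subgroup.mem_bot]
  by_contra hc1
  -- at least two classes in `C_{Y₁}(H)`
  have hcount := solv_count_cent Y₁ H hnorm1 hcop1 hsolv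
  have hnt : Nontrivial (ConjClasses ↥(Y₁ ⊓ Subgroup.centralizer (H : Set Γ))) := by
    refine ⟨ConjClasses.mk 1, ConjClasses.mk ⟨c, hc⟩, ?_⟩
    intro h
    rw [ConjClasses.mk_eq_mk_iff_isConj, isConj_one_right] at h
    exact hc1 (congrArg Subtype.val h)
  have h2 : 1 < Nat.card (ConjClasses ↥(Y₁ ⊓ Subgroup.centralizer (H : Set Γ))) :=
    Finite.one_lt_card_iff_nontrivial.mpr hnt
  rw [← hcount] at h2
  have hnt' : Nontrivial {χ : IrrCharacter Y₁ // ∀ s ∈ H, InvUnder Y₁ s (χ : Y₁ → ℂ)} :=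
    Finite.one_lt_card_iff_nontrivial.mp h2
  -- the trivial character
  let θ0 : {χ : IrrCharacter Y₁ // ∀ s ∈ H, InvUnder Y₁ s (χ : Y₁ → ℂ)} :=
    ⟨⟨fun _ => 1, Cfsg.Agent.Lib.H24.isIrrCharacter_one⟩, fun _ _ _ _ _ => rfl⟩
  obtain ⟨θ1, hθ1⟩ := exists_ne θ0
  letI : Fintype Y₁ := Fintype.ofFinite _
  obtain ⟨χ, hχres, hχinv⟩ := exists_inv_over Y Y₁ H hY1Y hnorm hNn hnorm1 hcop hsolv θ1.1 θ1.2
  apply hχres
  have hconst := hP χ hχinv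
  have hspec := resMult_spec hY1Y (Cfsg.Agent.Lib.L0.isCharacter_of_irr χ.2) θ1.1.2
  have hres : res hY1Y (χ : Y → ℂ) = ((χ : Y → ℂ) 1) • (fun _ : Y₁ => (1 : ℂ)) := by
    funext m
    rw [res_apply, Pi.smul_apply, smul_eq_mul, mul_one]
    exact hconst ⟨m, hY1Y m.2⟩ m.2
  have hne : (fun _ : Y₁ => (1 : ℂ)) ≠ ((θ1.1 : IrrCharacter Y₁) : Y₁ → ℂ) := by
    intro h
    apply hθ1
    apply Subtype.ext
    apply Subtype.ext
    exact h.symm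
  have hzero : classInner (res hY1Y (χ : Y → ℂ)) ((θ1.1 : IrrCharacter Y₁) : Y₁ → ℂ) = 0 := by
    rw [hres, Cfsg.Agent.Lib.L0.classInner_smul_left,
      Cfsg.Agent.Lib.L0.irr_classInner_ne Cfsg.Agent.Lib.H24.isIrrCharacter_one θ1.1.2 hne, mul_zero]
  rw [hzero] at hspec
  exact_mod_cast hspec

end Cfsg.Agent.Lib.H19.SHODD
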