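import Cfsg.Agent.Lib.H19.SHODDLEM
import Cfsg.Agent.Lib.H1.ShIWrap

/-!
# S3016: conclusion (I) from conclusion (II), fully plugged (helper19)

`concl_I` : `p` odd, `H` an extremely closed abelian `p`-subgroup, `N_G(H) ⊔ O_{p'}(G) = ⊤` ⟹
`normalClosure H ⊓ N_G(H) = H`.  (helper1's `concl_I_of_II` with `hlem := lemma_I_plugged`:
helper24's `inv_ker` + `H19.SHODD.finish` + `H19.ShI.key_conj`.)
-/

set_option autoImplicit false

universe u

namespace Cfsg.Agent.Lib.H19.ShI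

open Cfsg

variable {G : Type u} [Group G]

theorem concl_I [Finite G] {p : ℕ} [Fact p.Prime] (hp2 : p ≠ 2) (H : Subgroup G)
    (hHp : IsPGroup p H) (hHab : IsMulCommutative H) (hcl : Cfsg.IsExtremelyClosed H)
    (hII : Subgroup.normalizer (H : Set G) ⊔ Cfsg.pPrimeCore p G = ⊤) :
    Subgroup.normalClosure (H : Set G) ⊓ Subgroup.normalizer (H : Set G) = H := by
  have hHab' : ∀ a ∈ H, ∀ b ∈ H, a * b = b * a := by
    intro a ha b hb
    have h := hHab.is_comm.comm (⟨a, ha⟩ : H) ⟨b, hb⟩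
    exact congrArg Subtype.val h
  exact Cfsg.Agent.Lib.H1.ShIWrap.concl_I_of_II hp2 H hHp hHab hcl
    (fun Y hYp hnorm hEC => lemma_I_plugged hp2 H hHp hHab' Y hYp hnorm hEC) hII

end Cfsg.Agent.Lib.H19.ShI
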