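import Cfsg.Agent.Lib.H24.ShICore
import Cfsg.Agent.Lib.H19.SHODDFIN
import Cfsg.Agent.Lib.H19.SHODDKEY

/-!
# S3016 (I): `lemma_I` in the exact shape of helper24's cut, and the plugged version (helper19)

* `lemma_I` : helper24's `inv_ker` (= `P(Y)`) + `H19.SHODD.finish`;
* `lemma_I_plugged` : `lemma_I` with `hkey := H19.ShI.key_conj` (no hypothesis left).
-/

set_option autoImplicit false
set_option linter.style.haveILetI false

universe u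

namespace Cfsg.Agent.Lib.H19.ShI

open Cfsg Cfsg.Agent.Lib.H24.ShI Cfsg.Agent.Lib.H24.Glaub

variable {G : Type u} [Group G]

theorem lemma_I [Finite G] {p : ℕ} [Fact p.Prime] (hp2 : p ≠ 2) (H : Subgroup G)
    (hHp : IsPGroup p H) (hHab : ∀ a ∈ H, ∀ b ∈ H, a * b = b * a)
    (hkey : ∀ Y : Subgroup G, ¬ p ∣ Nat.card Y → (∀ h ∈ H, ∀ y ∈ Y, h * y * h⁻¹ ∈ Y) →
      EC H Y → KeyStmt H Y)
    (Y : Subgroup G) (hYp : ¬ p ∣ Nat.card Y) (hnorm : ∀ h ∈ H, ∀ y ∈ Y, h * y * h⁻¹ ∈ Y)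
    (hEC : EC H Y) : ⁅Y, H⁆ ⊓ Subgroup.centralizer (H : Set G) = ⊥ := by
  classical
  letI : Fintype G := Fintype.ofFinite G
  have hpP : p.Prime := Fact.out
  have hcop : (Nat.card Y).Coprime (Nat.card H) := by
    obtain ⟨k, hk⟩ := (IsPGroup.iff_card).mp hHp
    rw [hk]
    apply Nat.Coprime.pow_right
    exact ((Nat.Prime.coprime_iff_not_dvd hpP).mpr hYp).symm
  have hsolv : Group.IsSolvable H :=
    Group.isSolvable_of_comm (fun a b => Subtype.ext (hHab a a.2 b b.2))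
  apply Cfsg.Agent.Lib.H19.SHODD.finish Y H hnorm hcop hsolv
  intro θ hθ y hy
  exact inv_ker hpP hp2 H hHp hHab hkey (Nat.card Y) Y rfl hYp hnorm hEC θ hθ (y : G) hy y.2

theorem lemma_I_plugged [Finite G] {p : ℕ} [Fact p.Prime] (hp2 : p ≠ 2) (H : Subgroup G)
    (hHp : IsPGroup p H) (hHab : ∀ a ∈ H, ∀ b ∈ H, a * b = b * a)
    (Y : Subgroup G) (hYp : ¬ p ∣ Nat.card Y) (hnorm : ∀ h ∈ H, ∀ y ∈ Y, h * y * h⁻¹ ∈ Y)
    (hEC : EC H Y) : ⁅Y, H⁆ ⊓ Subgroup.centralizer (H : Set G) = ⊥ :=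
  lemma_I hp2 H hHp hHab
    (fun Y hYp hnorm hEC => key_conj hp2 H Y hHp hHab hYp hnorm hEC) Y hYp hnorm hEC

end Cfsg.Agent.Lib.H19.ShI
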