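/-
S4613 (architect helper19), family piece **OPLUS**: `SylRigid p (POmega F (quadFormPlus m F))`, `m ≥ 4`.

`X = Ω = ⁅GO, GO⁆` in helper25's flag form group (`n = 2m ≥ 8`), `R = Uo`, `𝒬 = {QA, QB}` (`Lib/H19/SROPLUSa`).  Both radicals
contain the root elements `xS 0 b 1`, `2 ≤ b ≤ n - 2`, whose common centraliser consists of the upper triangular matrices
with constant diagonal; `N(QA) ≥ Bo, sD j (j ≥ 1)`, `N(QB) ≥ Bo, sD 0`, and `Hd = Bo ⊔ Nd ≤ Ω·Ts`.
-/
import Cfsg.Agent.Lib.H19.SROPLUSa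

set_option autoImplicit false
set_option linter.unusedSectionVars false
set_option linter.unusedVariables false
set_option linter.unusedSimpArgs false

namespace Cfsg.Agent.Lib.H19.SRO

open Matrix Cfsg.Agent.Lib.H12.DCos Cfsg.Agent.Lib.H8.FBN Cfsg.Agent.Lib.H25.DBN
open Cfsg.Agent.Lib.H19.SR

variable {F : Type*} [Field F] {n : ℕ}

/-! ### consequences of commuting with a root element -/

theorem comm_entry (a b : Fin n) (g : Matrix (Fin n) (Fin n) F)
    (h : g * xSm (RingHom.id F) a b 1 = xSm (RingHom.id F) a b 1 * g) (t u : Fin n) :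
    (if u = b then g t a else 0) - (if u = a.rev then g t b.rev else 0) =
      (if t = a then g b u else 0) - (if t = b.rev then g a.rev u else 0) := by
  have h1 := congrFun (congrFun h t) u
  rw [mul_xSm_apply, Cfsg.Agent.Lib.H25.FBN.xSm_mul_apply] at h1
  simp only [RingHom.id_apply, mul_one, one_mul] at h1
  linear_combination h1

theorem comm_col (a b : Fin n) (g : Matrix (Fin n) (Fin n) F)
    (h : g * xSm (RingHom.id F) a b 1 = xSm (RingHom.id F) a b 1 * g) (t : Fin n)
    (hb : b ≠ a.rev) (ht : t ≠ a) (ht' : t ≠ b.rev) : g t a = 0 := by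
  have h1 := comm_entry a b g h t b
  rw [if_pos rfl, if_neg hb, if_neg ht, if_neg ht', sub_zero, sub_zero] at h1
  exact h1

theorem comm_row (a b : Fin n) (g : Matrix (Fin n) (Fin n) F)
    (h : g * xSm (RingHom.id F) a b 1 = xSm (RingHom.id F) a b 1 * g) (u : Fin n)
    (hab' : a ≠ b.rev) (hu : u ≠ a.rev) : g b u = if u = b then g a a else 0 := by
  have h1 := comm_entry a b g h a u
  rw [if_neg hu, if_pos rfl, if_neg hab', sub_zero, sub_zero] at h1
  exact h1.symm

theorem comm_last (a b : Fin n) (g : Matrix (Fin n) (Fin n) F)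
    (h : g * xSm (RingHom.id F) a b 1 = xSm (RingHom.id F) a b 1 * g) (u : Fin n)
    (hab' : a ≠ b.rev) (hb0 : g b.rev a = 0) :
    g a.rev u = if u = a.rev then g b.rev b.rev else 0 := by
  have h1 := comm_entry a b g h b.rev u
  rw [if_neg (Ne.symm hab'), if_pos rfl, hb0] at h1
  simp only [ite_self, zero_sub, neg_inj] at h1
  exact h1.symm

/-- a matrix commuting with `xS 0 b 1`, `2 ≤ b ≤ n - 2`, is upper triangular with constant diagonal -/
theorem isUp_of_comm (h5 : 5 ≤ n) (a : Fin n) (ha : (a : ℕ) = 0) (g : Matrix (Fin n) (Fin n) F)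
    (h : ∀ b : Fin n, 2 ≤ (b : ℕ) → (b : ℕ) + 2 ≤ n →
      g * xSm (RingHom.id F) a b 1 = xSm (RingHom.id F) a b 1 * g) :
    IsUp g ∧ ∀ k, g k k = g a a := by
  have harev : ((a.rev : Fin n) : ℕ) = n - 1 := by rw [Fin.val_rev]; omega
  -- column `0`
  have col0 : ∀ t : Fin n, t ≠ a → g t a = 0 := by
    intro t ht
    by_cases h1 : (t : ℕ) = 1
    · have hb : n - 3 < n := by omega
      refine comm_col a ⟨n - 3, hb⟩ g (h _ (by simp only []; omega) (by simp only []; omega)) t ?_ ht ?_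
      · intro h'; have := congrArg Fin.val h'; rw [harev] at this; simp only [] at this; omega
      · intro h'; have := congrArg Fin.val h'; rw [Fin.val_rev] at this; simp only [] at this; omega
    · have hb : n - 2 < n := by omega
      refine comm_col a ⟨n - 2, hb⟩ g (h _ (by simp only []; omega) (by simp only []; omega)) t ?_ ht ?_
      · intro h'; have := congrArg Fin.val h'; rw [harev] at this; simp only [] at this; omega
      · intro h'; have := congrArg Fin.val h'; rw [Fin.val_rev] at this; simp only [] at this; omega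
  -- rows `2 ≤ b ≤ n - 2`
  have rowb : ∀ b : Fin n, 2 ≤ (b : ℕ) → (b : ℕ) + 2 ≤ n → ∀ u : Fin n, u ≠ a.rev →
      g b u = if u = b then g a a else 0 := by
    intro b hb2 hb u hu
    refine comm_row a b g (h b hb2 hb) u ?_ hu
    intro h'; have := congrArg Fin.val h'; rw [Fin.val_rev] at this; omega
  -- the last row
  have last : ∀ b : Fin n, 2 ≤ (b : ℕ) → (b : ℕ) + 2 ≤ n → ∀ u : Fin n,
      g a.rev u = if u = a.rev then g b.rev b.rev else 0 := by
    intro b hb2 hb u
    refine comm_last a b g (h b hb2 hb) u ?_ (col0 _ ?_)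
    · intro h'; have := congrArg Fin.val h'; rw [Fin.val_rev] at this; omega
    · intro h'; have := congrArg Fin.val h'; rw [Fin.val_rev] at this; omega
  have h2n : 2 < n := by omega
  refine ⟨?_, ?_⟩
  · intro k l hkl
    rw [Fin.lt_def] at hkl
    have hk2 := k.2
    by_cases hk1 : (k : ℕ) + 1 = n
    · have hka : k = a.rev := Fin.ext (by rw [harev]; omega)
      rw [hka, last ⟨2, h2n⟩ (by simp only []; omega) (by simp only []; omega) l, if_neg]
      intro h'; have := congrArg Fin.val h'; rw [harev] at this; omega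
    · by_cases hk3 : 2 ≤ (k : ℕ)
      · rw [rowb k hk3 (by omega) l, if_neg]
        · intro h'; have := congrArg Fin.val h'; omega
        · intro h'; have := congrArg Fin.val h'; rw [harev] at this; omega
      · have hla : l = a := Fin.ext (by omega)
        rw [hla]
        apply col0
        intro h'; have := congrArg Fin.val h'; omega
  · intro k
    have hk2 := k.2
    have hb3 : n - 3 < n := by omega
    have hb2 : n - 2 < n := by omega
    have hlast : g a.rev a.rev = g a a := by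
      rw [last ⟨n - 3, hb3⟩ (by simp only []; omega) (by simp only []; omega) a.rev, if_pos rfl]
      rw [rowb (Fin.rev ⟨n - 3, hb3⟩) (by rw [Fin.val_rev]; simp only []; omega)
        (by rw [Fin.val_rev]; simp only []; omega) (Fin.rev ⟨n - 3, hb3⟩), if_pos rfl]
      intro h'; have := congrArg Fin.val h'; rw [harev, Fin.val_rev] at this; simp only [] at this; omega
    by_cases hk0 : (k : ℕ) = 0
    · have : k = a := Fin.ext (by omega)
      rw [this]
    · by_cases hk1 : (k : ℕ) + 1 = n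
      · have hka : k = a.rev := Fin.ext (by rw [harev]; omega)
        rw [hka, hlast]
      · by_cases hk3 : 2 ≤ (k : ℕ)
        · rw [rowb k hk3 (by omega) k, if_pos rfl]
          intro h'; have := congrArg Fin.val h'; rw [harev] at this; omega
        · have hk' : k = Fin.rev ⟨n - 2, hb2⟩ := Fin.ext (by rw [Fin.val_rev]; simp only []; omega)
          have h3 := last ⟨n - 2, hb2⟩ (by simp only []; omega) (by simp only []; omega) a.rev
          rw [if_pos rfl, ← hk', hlast] at h3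
          exact h3.symm

/-- an upper triangular element of `Ω` with constant diagonal is (central) · (unipotent) -/
theorem decomp_of_isUp (hn : n % 2 = 0) (h6 : 6 ≤ n) (g : GA F n) (hg : g ∈ (OmA : Subgroup (GA F n)))
    (hup : IsUp (g.1 : Matrix (Fin n) (Fin n) F)) (a : Fin n)
    (hd : ∀ k, (g.1 : Matrix (Fin n) (Fin n) F) k k = (g.1 : Matrix (Fin n) (Fin n) F) a a) :
    ∃ t u : GA F n, t ∈ (OmA : Subgroup (GA F n)) ∧ (∀ x : GA F n, x * t = t * x) ∧
      u ∈ (Uo : Subgroup (GA F n)) ∧ g = t * u := by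
  have hgB : g ∈ (Bo : Subgroup (GA F n)) := ⟨hup, OmA_le_GO hg⟩
  obtain ⟨t, ht, u, hu, hgtu⟩ := Bo_eq_Ts_mul_Uo hn g hgB
  have htD : IsDg (t.1 : Matrix (Fin n) (Fin n) F) := ht
  have htd : ∀ k, (t.1 : Matrix (Fin n) (Fin n) F) k k = (g.1 : Matrix (Fin n) (Fin n) F) a a := by
    intro k
    have h1 : (g.1 : Matrix (Fin n) (Fin n) F) k k =
        (t.1 : Matrix (Fin n) (Fin n) F) k k * (u.1 : Matrix (Fin n) (Fin n) F) k k := by
      rw [hgtu, val_mul]
      exact IsUp.mul_diag (IsDg.isUp htD) hu.1.1 k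
    rw [hu.1.2 k, mul_one] at h1
    rw [← h1]
    exact hd k
  refine ⟨t, u, ?_, ?_, hu, hgtu⟩
  · have e : t = g * u⁻¹ := by rw [hgtu]; group
    rw [e]
    exact OmA.mul_mem hg (OmA.inv_mem (Uo_le_OmA hn h6 hu))
  · intro x
    apply ext_val
    rw [val_mul, val_mul]
    ext k l
    rw [Matrix.mul_apply, Matrix.mul_apply, Finset.sum_eq_single l, Finset.sum_eq_single k]
    · rw [htd, htd]; ring
    · intro s _ hs
      rw [htD k s (Ne.symm hs), zero_mul]
    · intro h'; exact absurd (Finset.mem_univ _) h'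
    · intro s _ hs
      rw [htD s l hs, mul_zero]
    · intro h'; exact absurd (Finset.mem_univ _) h'

/-- the centraliser in `Ω` of a subgroup containing the root elements `xS 0 b 1`, `2 ≤ b ≤ n - 2` -/
theorem centralizer_le_of_xS (hn : n % 2 = 0) (h6 : 6 ≤ n) (Q : Subgroup (GA F n)) (a : Fin n) (ha : (a : ℕ) = 0)
    (hQ : ∀ b : Fin n, 2 ≤ (b : ℕ) → (b : ℕ) + 2 ≤ n → ∀ hab : a ≠ b, xS hn a b hab 1 ∈ Q) :
    Subgroup.centralizer ((Q.subgroupOf (OmA : Subgroup (GA F n)) : Subgroup ↥(OmA : Subgroup (GA F n))) :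
        Set ↥(OmA : Subgroup (GA F n))) ≤
      Subgroup.center ↥(OmA : Subgroup (GA F n)) ⊔ (Uo : Subgroup (GA F n)).subgroupOf OmA := by
  intro g hg
  rw [Subgroup.mem_centralizer_iff] at hg
  have hcomm : ∀ b : Fin n, 2 ≤ (b : ℕ) → (b : ℕ) + 2 ≤ n →
      ((g : GA F n).1 : Matrix (Fin n) (Fin n) F) * xSm (RingHom.id F) a b 1 =
        xSm (RingHom.id F) a b 1 * ((g : GA F n).1 : Matrix (Fin n) (Fin n) F) := by
    intro b hb2 hb
    have hab : a ≠ b := by intro h'; have := congrArg Fin.val h'; omega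
    have hab' : a ≠ b.rev := by intro h'; have := congrArg Fin.val h'; rw [Fin.val_rev] at this; omega
    have h1 := hg ⟨xS hn a b hab 1, xS_mem_OmA hn h6 a b hab hab' 1⟩
      (Subgroup.mem_subgroupOf.mpr (hQ b hb2 hb hab))
    have h2 := congrArg (fun w : ↥(OmA : Subgroup (GA F n)) => (((w : GA F n)).1 : Matrix (Fin n) (Fin n) F)) h1
    simp only [Subgroup.coe_mul, val_mul, xS_val] at h2
    exact h2.symm
  obtain ⟨hup, hd⟩ := isUp_of_comm (by omega) a ha _ hcomm
  obtain ⟨t, u, ht, htc, hu, hgtu⟩ := decomp_of_isUp hn h6 (g : GA F n) g.2 hup a hd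
  have e : g = (⟨t, ht⟩ : ↥(OmA : Subgroup (GA F n))) * ⟨u, Uo_le_OmA hn h6 hu⟩ := Subtype.ext hgtu
  rw [e]
  apply Subgroup.mul_mem_sup
  · rw [Subgroup.mem_center_iff]
    intro x
    exact Subtype.ext (htc x)
  · exact Subgroup.mem_subgroupOf.mpr hu

/-- the centre of `Ω` has no element of order `p` -/
theorem center_OmA_no_p (hn : n % 2 = 0) (h6 : 6 ≤ n) (p : ℕ) [Fact p.Prime] [CharP F p] :
    ∀ z ∈ Subgroup.center ↥(OmA : Subgroup (GA F n)), z ^ p = 1 → z = 1 := by
  intro z hz hzp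
  rw [Subgroup.mem_center_iff] at hz
  set g : Matrix (Fin n) (Fin n) F := ((z : GA F n).1 : Matrix (Fin n) (Fin n) F) with hg
  have hcomm : ∀ a b : Fin n, a ≠ b → a ≠ b.rev →
      g * xSm (RingHom.id F) a b 1 = xSm (RingHom.id F) a b 1 * g := by
    intro a b hab hab'
    have h1 := hz ⟨xS hn a b hab 1, xS_mem_OmA hn h6 a b hab hab' 1⟩
    have h2 := congrArg (fun w : ↥(OmA : Subgroup (GA F n)) => (((w : GA F n)).1 : Matrix (Fin n) (Fin n) F)) h1
    simp only [Subgroup.coe_mul, val_mul, xS_val] at h2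
    exact h2.symm
  have hoff : ∀ t a : Fin n, t ≠ a → g t a = 0 := by
    intro t a hta
    obtain ⟨b, hb1, hb2, hb3, hb4⟩ := exists_fresh h6 a t.rev
    exact comm_col a b g (hcomm a b hb1.symm (fun h => hb2 (by rw [h, Fin.rev_rev]))) t hb2 hta
      (fun h => hb3 (by rw [h, Fin.rev_rev]))
  have hdiag : ∀ k l : Fin n, g k k = g l l := by
    intro k l
    obtain ⟨a, ha1, ha2, ha3, ha4⟩ := exists_fresh h6 k l
    have h1 := comm_row a k g (hcomm a k ha1 ha2) k ha2 (fun h => ha2 (by rw [h, Fin.rev_rev]))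
    have h2 := comm_row a l g (hcomm a l ha3 ha4) l ha4 (fun h => ha4 (by rw [h, Fin.rev_rev]))
    rw [if_pos rfl] at h1 h2
    rw [h1, h2]
  have h0 : 0 < n := by omega
  set c : F := g ⟨0, h0⟩ ⟨0, h0⟩ with hc
  have hgc : g = c • (1 : Matrix (Fin n) (Fin n) F) := by
    ext k l
    rw [Matrix.smul_apply, Matrix.one_apply, smul_eq_mul]
    by_cases hkl : k = l
    · rw [if_pos hkl, mul_one, hkl]
      exact hdiag _ _
    · rw [if_neg hkl, mul_zero]
      exact hoff k l hkl
  have h3 := congrArg (fun w : ↥(OmA : Subgroup (GA F n)) => (((w : GA F n)).1 : Matrix (Fin n) (Fin n) F)) hzp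
  simp only [Subgroup.coe_pow, Subgroup.coe_one, Units.val_pow_eq_pow_val, Units.val_one] at h3
  rw [← hg, hgc, smul_pow, one_pow] at h3
  have h4 : c ^ p = 1 := by
    have := congrFun (congrFun h3 ⟨0, h0⟩) ⟨0, h0⟩
    rw [Matrix.smul_apply, Matrix.one_apply_eq, smul_eq_mul, mul_one] at this
    exact this
  have h5 : (c - 1) ^ p = 0 := by
    rw [sub_pow_char, h4, one_pow, sub_self]
  have h6' : c = 1 := sub_eq_zero.1 (pow_eq_zero_iff (Fact.out : p.Prime).ne_zero |>.1 h5)
  apply Subtype.ext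
  apply ext_val
  rw [Subgroup.coe_one, val_one, ← hg, hgc, h6', one_smul]

/-! ### generic transfer lemmas to a subgroup -/

section Transfer

variable {G : Type*} [Group G]

theorem mem_closure_subtype (N : Subgroup G) (S : Set G) (hS : S ⊆ (N : Set G)) (x : ↥N)
    (hx : (x : G) ∈ Subgroup.closure S) : x ∈ Subgroup.closure (N.subtype ⁻¹' S) := by
  have h1 : (Subgroup.closure (N.subtype ⁻¹' S)).map N.subtype = Subgroup.closure S := by
    rw [MonoidHom.map_closure, Set.image_preimage_eq_of_subset]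
    rw [Subgroup.coe_subtype, Subtype.range_coe]
    exact hS
  rw [← h1] at hx
  obtain ⟨y, hy, hyx⟩ := hx
  have : y = x := Subtype.ext hyx
  rwa [this] at hy

theorem mem_normalizer_subgroupOf (N Q : Subgroup G) (y : ↥N)
    (hy : (y : G) ∈ Subgroup.normalizer (Q : Set G)) :
    y ∈ Subgroup.normalizer ((Q.subgroupOf N : Subgroup ↥N) : Set ↥N) := by
  rw [Subgroup.mem_normalizer_iff] at hy ⊢
  intro h
  exact hy (h : G)

end Transfer

/-! ### the main theorem for `Ω / Z(Ω)` -/

theorem sylRigid_OmA [Fintype F] (hn : n % 2 = 0) (h8 : 8 ≤ n) (p : ℕ) [Fact p.Prime] [CharP F p] :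
    SylRigid p (↥(OmA : Subgroup (GA F n)) ⧸ Subgroup.center ↥(OmA : Subgroup (GA F n))) := by
  classical
  have h6 : 6 ≤ n := by omega
  have h4 : 4 ≤ n := by omega
  have h2 : 2 ≤ n := by omega
  have h0 : 0 < n := by omega
  have hR : IsPGroup p ↥((Uo : Subgroup (GA F n)).subgroupOf OmA) := by
    have h1 : IsPGroup p ↥(Uo : Subgroup (GA F n)) :=
      (Cfsg.Agent.Lib.H6.FBN.Us_isPGroup (n := n) (RingHom.id F) p).to_le Uo_le_Us
    exact h1.comap_of_injective (OmA : Subgroup (GA F n)).subtype (Subgroup.subtype_injective _)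
  apply sylRigid_center_quot_of_gen p (center_OmA_no_p hn h6 p) ((Uo : Subgroup (GA F n)).subgroupOf OmA) hR
    {(QA (F := F) h2).subgroupOf OmA, (QB : Subgroup (GA F n)).subgroupOf OmA}
  · intro Q hQ
    rcases hQ with rfl | rfl
    · refine ⟨fun x hx => Subgroup.mem_subgroupOf.mpr (QA_le_Uo h2 (Subgroup.mem_subgroupOf.mp hx)), ?_⟩
      apply centralizer_le_of_xS hn h6 (QA (F := F) h2) ⟨0, h0⟩ rfl
      intro b hb2 hb hab
      apply xS_mem_QA hn h2 _ b rfl hab
      intro h'; have := congrArg Fin.val h'; rw [Fin.val_rev] at this; simp only [] at this; omega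
    · refine ⟨fun x hx => Subgroup.mem_subgroupOf.mpr (QB_le_Uo (Subgroup.mem_subgroupOf.mp hx)), ?_⟩
      apply centralizer_le_of_xS hn h6 (QB : Subgroup (GA F n)) ⟨0, h0⟩ rfl
      intro b hb2 hb hab
      apply xS_mem_QB hn _ b rfl hb2 hb hab
      intro h'; have := congrArg Fin.val h'; rw [Fin.val_rev] at this; simp only [] at this; omega
  · -- generation
    set P₁ : Subgroup (GA F n) :=
      Subgroup.normalizer ((QA (F := F) h2 : Subgroup (GA F n)) : Set (GA F n)) ⊓ Hd with hP₁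
    set P₂ : Subgroup (GA F n) :=
      Subgroup.normalizer ((QB : Subgroup (GA F n)) : Set (GA F n)) ⊓ Hd with hP₂
    have hBo1 : (Bo : Subgroup (GA F n)) ≤ P₁ :=
      le_inf ((le_inf Bo_le_PAs Bo_le_GO).trans (PAs_inf_GO_le_normalizer h2)) Bo_le_Hd
    have hBo2 : (Bo : Subgroup (GA F n)) ≤ P₂ := le_inf Bo_le_normalizer_QB Bo_le_Hd
    have hsD : ∀ j : Fin (n / 2), sD (F := F) j ∈ P₁ ⊔ P₂ := by
      intro j
      by_cases hj : (j : ℕ) = 0
      · apply (le_sup_right : P₂ ≤ P₁ ⊔ P₂)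
        refine ⟨?_, Nd_le_Hd (sD_mem_Nd j)⟩
        rw [sD_short (by omega)]
        exact sRef0_mem_normalizer_QB hn h4 j hj
      · apply (le_sup_left : P₁ ≤ P₁ ⊔ P₂)
        refine ⟨?_, Nd_le_Hd (sD_mem_Nd j)⟩
        exact PAs_inf_GO_le_normalizer h2 ⟨sD_mem_PAs h6 j (by omega), sD_mem_GO hn j⟩
    have hM : (Hd : Subgroup (GA F n)) ≤ P₁ ⊔ P₂ := by
      unfold Hd Nd
      apply sup_le (hBo1.trans le_sup_left)
      apply sup_le ((Ts_le_Bo hn).trans (hBo1.trans le_sup_left))
      rw [Subgroup.closure_le]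
      rintro _ ⟨j, rfl⟩
      exact hsD j
    have hcl : (OmA : Subgroup (GA F n)) ≤ (P₁ ⊓ OmA) ⊔ (P₂ ⊓ OmA) :=
      le_sup_inf_of_cover OmA Hd (Ts (RingHom.id F)) P₁ P₂ (fun h hh => covers_D hn h6 h hh)
        (fun t ht w hw => OmA_conj_mem t w (Ts_le_GO hn ht) hw) (OmA_le_Hd hn h4)
        ((Ts_le_Bo hn).trans hBo1) ((Ts_le_Bo hn).trans hBo2) inf_le_right inf_le_right hM
    rw [eq_top_iff]
    intro x _
    have hx : (x : GA F n) ∈ Subgroup.closure
        (((P₁ ⊓ OmA : Subgroup (GA F n)) : Set (GA F n)) ∪ ((P₂ ⊓ OmA : Subgroup (GA F n)) : Set (GA F n))) := by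
      rw [← Subgroup.sup_eq_closure]
      exact hcl x.2
    have hx' := mem_closure_subtype (OmA : Subgroup (GA F n)) _ (by
      rintro y (hy | hy)
      · exact hy.2
      · exact hy.2) x hx
    refine Subgroup.closure_mono ?_ hx'
    rintro y (hy | hy)
    · rw [Set.mem_iUnion₂]
      exact ⟨(QA (F := F) h2).subgroupOf OmA, Or.inl rfl, mem_normalizer_subgroupOf _ _ y hy.1.1⟩
    · rw [Set.mem_iUnion₂]
      exact ⟨(QB : Subgroup (GA F n)).subgroupOf OmA, Or.inr rfl, mem_normalizer_subgroupOf _ _ y hy.1.1⟩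

end Cfsg.Agent.Lib.H19.SRO

namespace Cfsg.Agent.Lib.H19.SR

open Cfsg Cfsg.Agent.Lib.H25.DBN

/-- OPLUS -/
theorem sylRigid_POmegaPlus (F : Type*) [Field F] [Fintype F] (p : ℕ) [Fact p.Prime] [CharP F p] (m : ℕ) (hm : 4 ≤ m)
    (hs : IsSimpleGroup (POmega F (quadFormPlus m F))) : SylRigid p (POmega F (quadFormPlus m F)) := by
  obtain ⟨ψ⟩ := Cfsg.Agent.Lib.H25.DBNP.nonempty_iso_plus (F := F) m
  have h1 := Cfsg.Agent.Lib.H19.SRO.sylRigid_OmA (F := F) (n := 2 * m) (by omega) (by omega) p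
  exact SylRigid.of_equiv
    (Cfsg.Agent.Lib.H8.BNSteinberg.centerQuotientCongr
      (OmAEquiv.trans (Cfsg.Agent.Lib.H11.OmegaSimple.commutatorCongr ψ))).symm h1

end Cfsg.Agent.Lib.H19.SR
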