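/-
S4613 (architect helper19): MAIN assembly from the twelve family pieces (blueprint `tools/blueprints/S4613.md`):
PSL (helper13), PSP (helper22), PSU + OODD + SZ (helper11; twins by helper8, helper13), OPLUS (helper19; twin by helper18),
OMINUS (helper1), EXC (helper6 / helper29), TE6 + TD4 + REE (helper28), TF4 (helper29).
-/
import Mathlib
import Cfsg.Prelude.Def_LieTypeChar
import Cfsg.Agent.Lib.H19.SRDefs
import Cfsg.Agent.Lib.H13.SRPSL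
import Cfsg.Agent.Lib.H22.SRPSP
import Cfsg.Agent.Lib.H11.SRPSU
import Cfsg.Agent.Lib.H11.SROODD
import Cfsg.Agent.Lib.H11.SRSZ
import Cfsg.Agent.Lib.H19.SROPLUS
import Cfsg.Agent.Lib.H1.SROMINUS
import Cfsg.Agent.Lib.H6.SREXC
import Cfsg.Agent.Lib.H28.SRTE6
import Cfsg.Agent.Lib.H28.SRREE
import Cfsg.Agent.Lib.H29.SRTF4

set_option autoImplicit false

namespace Cfsg.Agent.Lib.H19.SR

open Cfsg

theorem sylRigid_of_isLieTypeChar {G : Type*} [Group G] [Finite G] [IsSimpleGroup G] (p : ℕ) [hp : Fact p.Prime]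
    (hG : IsLieTypeChar p G) : SylRigid p G := by
  rcases hG with h | h | h | h | h | h | h | h | h | h | h
  · obtain ⟨F, _, _, _, n, hn, h2, ⟨e⟩⟩ := h
    exact SylRigid.of_equiv e (Cfsg.Agent.Lib.H13.SR.sylRigid_PSL F p n hn h2 e.symm.isSimpleGroup)
  · obtain ⟨F, _, _, _, m, hm, h2, ⟨e⟩⟩ := h
    exact SylRigid.of_equiv e (Cfsg.Agent.Lib.H22.SR.sylRigid_PSp F p m hm h2 e.symm.isSimpleGroup)
  · obtain ⟨F, _, _, _, n, q, hF, hn, h32, ⟨e⟩⟩ := h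
    exact SylRigid.of_equiv e (Cfsg.Agent.Lib.H11.SR.sylRigid_PSU F p n q hF hn h32 e.symm.isSimpleGroup)
  · obtain ⟨F, _, _, _, m, hm, hodd, ⟨e⟩⟩ := h
    exact SylRigid.of_equiv e (Cfsg.Agent.Lib.H11.SR.sylRigid_POmegaOdd F p m hm hodd e.symm.isSimpleGroup)
  · obtain ⟨F, _, _, _, m, hm, ⟨e⟩⟩ := h
    exact SylRigid.of_equiv e (sylRigid_POmegaPlus F p m hm e.symm.isSimpleGroup)
  · obtain ⟨F, _, _, _, m, a, b, hm, hab, ⟨e⟩⟩ := h
    exact SylRigid.of_equiv e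
      (Cfsg.Agent.Lib.H1.SR.sylRigid_POmegaMinus F p (m - 1) (by omega) a b hab e.symm.isSimpleGroup)
  · obtain ⟨F, _, _, _, h⟩ := h
    rcases h with ⟨h3, ⟨e⟩⟩ | ⟨⟨e⟩⟩ | ⟨⟨e⟩⟩ | ⟨⟨e⟩⟩ | ⟨⟨e⟩⟩
    · exact SylRigid.of_equiv e
        (Cfsg.Agent.Lib.H6.SR.sylRigid_chev F p Lie.chevG2 (by simp) (fun _ => h3) e.symm.isSimpleGroup)
    · exact SylRigid.of_equiv e
        (Cfsg.Agent.Lib.H6.SR.sylRigid_chev F p Lie.chevF4 (by simp) (fun h => by cases h) e.symm.isSimpleGroup)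
    · exact SylRigid.of_equiv e
        (Cfsg.Agent.Lib.H6.SR.sylRigid_chev F p Lie.chevE6 (by simp) (fun h => by cases h) e.symm.isSimpleGroup)
    · exact SylRigid.of_equiv e
        (Cfsg.Agent.Lib.H6.SR.sylRigid_chev F p Lie.chevE7 (by simp) (fun h => by cases h) e.symm.isSimpleGroup)
    · exact SylRigid.of_equiv e
        (Cfsg.Agent.Lib.H6.SR.sylRigid_chev F p Lie.chevE8 (by simp) (fun h => by cases h) e.symm.isSimpleGroup)
  · obtain ⟨K, _, _, _, q, hq, h⟩ := h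
    rcases h with ⟨hK, ⟨e⟩⟩ | ⟨hK, ⟨e⟩⟩
    · exact SylRigid.of_equiv e (Cfsg.Agent.Lib.H28.SR.sylRigid_2E6 K p q hq hK e.symm.isSimpleGroup)
    · exact SylRigid.of_equiv e (Cfsg.Agent.Lib.H28.SR.sylRigid_3D4 K p q hq hK e.symm.isSimpleGroup)
  · obtain ⟨rfl, F, _, _, m, hm, hF, ⟨e⟩⟩ := h
    exact SylRigid.of_equiv e (Cfsg.Agent.Lib.H11.SR.sylRigid_Sz F m hm hF e.symm.isSimpleGroup)
  · obtain ⟨rfl, K, _, _, m, hm, hK, ⟨e⟩⟩ := h
    exact SylRigid.of_equiv e (Cfsg.Agent.Lib.H29.SR.sylRigid_2F4 K m hm hK e.symm.isSimpleGroup)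
  · obtain ⟨rfl, K, _, _, m, hm, hK, ⟨e⟩⟩ := h
    exact SylRigid.of_equiv e (Cfsg.Agent.Lib.H28.SR.sylRigid_Ree K m hm hK e.symm.isSimpleGroup)

end Cfsg.Agent.Lib.H19.SR
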