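/-
S4613 (architect helper19), family piece **OPLUS**, part (a): generic group lemmas and the two radicals `QA`, `QB` of
`Uo` in helper25's flag form group `GA F n` (`Lib/H25/DBN*`).

* `QA`: the unipotent radical of the stabiliser of the isotropic point `⟨e_0⟩`: `u - 1` is supported on
  (row `0`) ∪ (column `n - 1`), without the two diagonal positions;
* `QB`: the unipotent radical of the minimal parabolic of the first simple reflection: `u - 1` strictly upper
  triangular with zero entries at `(0, 1)` and `(n - 2, n - 1)`.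
-/
import Cfsg.Agent.Lib.H25.DBNFinal
import Cfsg.Agent.Lib.H19.SRDefs

set_option autoImplicit false
set_option linter.unusedSectionVars false
set_option linter.unusedVariables false
set_option linter.unusedSimpArgs false

namespace Cfsg.Agent.Lib.H19.SRO

open Matrix Cfsg.Agent.Lib.H12.DCos Cfsg.Agent.Lib.H8.FBN Cfsg.Agent.Lib.H25.DBN

/-! ### generic group lemmas -/

section Generic

variable {G : Type*} [Group G]

theorem le_normalizer_of_conj (H Q : Subgroup G) (h : ∀ t ∈ H, ∀ q ∈ Q, t * q * t⁻¹ ∈ Q) :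
    H ≤ Subgroup.normalizer (Q : Set G) := by
  intro t ht
  rw [Subgroup.mem_normalizer_iff]
  intro q
  constructor
  · exact h t ht q
  · intro hq
    have h1 := h t⁻¹ (H.inv_mem ht) _ hq
    have e : t⁻¹ * (t * q * t⁻¹) * t⁻¹⁻¹ = q := by group
    rw [e] at h1
    exact h1

theorem mem_normalizer_of_invol (Q : Subgroup G) (s : G) (hs : s * s = 1)
    (h : ∀ q ∈ Q, s * q * s⁻¹ ∈ Q) : s ∈ Subgroup.normalizer (Q : Set G) := by
  have hsi : s⁻¹ = s := inv_eq_of_mul_eq_one_left hs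
  rw [Subgroup.mem_normalizer_iff]
  intro q
  constructor
  · exact h q
  · intro hq
    have h1 := h _ hq
    have e : s * (s * q * s⁻¹) * s⁻¹ = q := by
      rw [hsi]
      calc s * (s * q * s) * s = (s * s) * q * (s * s) := by group
        _ = q := by rw [hs, one_mul, mul_one]
    rw [e] at h1
    exact h1

/-- **Dedekind type generation lemma**: `N ≤ M ≤ N·T`, `T` normalises `N`, `T ≤ P₁, P₂ ≤ M`, `M ≤ P₁ ⊔ P₂`;
then `N` is generated by `P₁ ∩ N` and `P₂ ∩ N`. -/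
theorem le_sup_inf_of_cover (N M T P₁ P₂ : Subgroup G)
    (hcov : ∀ h ∈ M, ∃ t ∈ T, h * t ∈ N)
    (hTN : ∀ t ∈ T, ∀ w ∈ N, t * w * t⁻¹ ∈ N)
    (hNM : N ≤ M)
    (hT1 : T ≤ P₁) (hT2 : T ≤ P₂) (hP1 : P₁ ≤ M) (hP2 : P₂ ≤ M) (hM : M ≤ P₁ ⊔ P₂) :
    N ≤ (P₁ ⊓ N) ⊔ (P₂ ⊓ N) := by
  set K : Subgroup G := (P₁ ⊓ N) ⊔ (P₂ ⊓ N) with hK
  have hKN : K ≤ N := sup_le inf_le_right inf_le_right
  -- `T` normalises `K`
  have hTK : ∀ t ∈ T, ∀ k ∈ K, t * k * t⁻¹ ∈ K := by
    intro t ht k hk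
    rw [hK, Subgroup.sup_eq_closure] at hk
    induction hk using Subgroup.closure_induction with
    | mem x hx =>
      rcases hx with hx | hx
      · exact (le_sup_left : P₁ ⊓ N ≤ K)
          ⟨P₁.mul_mem (P₁.mul_mem (hT1 ht) hx.1) (P₁.inv_mem (hT1 ht)), hTN t ht x hx.2⟩
      · exact (le_sup_right : P₂ ⊓ N ≤ K)
          ⟨P₂.mul_mem (P₂.mul_mem (hT2 ht) hx.1) (P₂.inv_mem (hT2 ht)), hTN t ht x hx.2⟩
    | one => simp
    | mul x y _ _ hx hy =>
      have e : t * (x * y) * t⁻¹ = (t * x * t⁻¹) * (t * y * t⁻¹) := by group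
      rw [e]
      exact K.mul_mem hx hy
    | inv x _ hx =>
      have e : t * x⁻¹ * t⁻¹ = (t * x * t⁻¹)⁻¹ := by group
      rw [e]
      exact K.inv_mem hx
  -- every element of `M` is in `K·T`
  have hMKT : ∀ g ∈ M, ∃ k ∈ K, ∃ t ∈ T, g = k * t := by
    intro g hg
    have hg' := hM hg
    rw [Subgroup.sup_eq_closure] at hg'
    induction hg' using Subgroup.closure_induction with
    | mem x hx =>
      rcases hx with hx | hx
      · obtain ⟨t, ht, hxt⟩ := hcov x (hP1 hx)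
        refine ⟨x * t, (le_sup_left : P₁ ⊓ N ≤ K) ⟨P₁.mul_mem hx (hT1 ht), hxt⟩, t⁻¹, T.inv_mem ht, by group⟩
      · obtain ⟨t, ht, hxt⟩ := hcov x (hP2 hx)
        refine ⟨x * t, (le_sup_right : P₂ ⊓ N ≤ K) ⟨P₂.mul_mem hx (hT2 ht), hxt⟩, t⁻¹, T.inv_mem ht, by group⟩
    | one => exact ⟨1, K.one_mem, 1, T.one_mem, by simp⟩
    | mul x y hx hy ihx ihy =>
      have hxM : x ∈ M := by
        have := (sup_le hP1 hP2 : P₁ ⊔ P₂ ≤ M)
        rw [Subgroup.sup_eq_closure] at this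
        exact this hx
      have hyM : y ∈ M := by
        have := (sup_le hP1 hP2 : P₁ ⊔ P₂ ≤ M)
        rw [Subgroup.sup_eq_closure] at this
        exact this hy
      obtain ⟨k₁, hk₁, t₁, ht₁, rfl⟩ := ihx hxM
      obtain ⟨k₂, hk₂, t₂, ht₂, rfl⟩ := ihy hyM
      refine ⟨k₁ * (t₁ * k₂ * t₁⁻¹), K.mul_mem hk₁ (hTK t₁ ht₁ k₂ hk₂), t₁ * t₂, T.mul_mem ht₁ ht₂, by group⟩
    | inv x hx ihx =>
      have hxM : x ∈ M := by
        have := (sup_le hP1 hP2 : P₁ ⊔ P₂ ≤ M)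
        rw [Subgroup.sup_eq_closure] at this
        exact this hx
      obtain ⟨k, hk, t, ht, rfl⟩ := ihx hxM
      refine ⟨t⁻¹ * k⁻¹ * t⁻¹⁻¹, hTK t⁻¹ (T.inv_mem ht) k⁻¹ (K.inv_mem hk), t⁻¹, T.inv_mem ht, by group⟩
  intro g hg
  obtain ⟨k, hk, t, ht, rfl⟩ := hMKT g (hNM hg)
  have htN : t ∈ N := by
    have e : t = k⁻¹ * (k * t) := by group
    rw [e]
    exact N.mul_mem (N.inv_mem (hKN hk)) hg
  exact K.mul_mem hk ((le_sup_left : P₁ ⊓ N ≤ K) ⟨hT1 ht, htN⟩)

end Generic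

/-! ### the patterns -/

variable {F : Type*} [Field F] {n : ℕ}

/-- the pattern of the stabiliser of `⟨e_0⟩`: column `0` and row `n - 1` vanish off the diagonal -/
def PAm (g : Matrix (Fin n) (Fin n) F) : Prop :=
  (∀ k l : Fin n, (k : ℕ) ≠ 0 → (l : ℕ) = 0 → g k l = 0) ∧
    (∀ k l : Fin n, (k : ℕ) + 1 = n → (l : ℕ) + 1 ≠ n → g k l = 0)

/-- the pattern of `u - 1`, `u` in the radical of the stabiliser of `⟨e_0⟩` -/
def PatA (N : Matrix (Fin n) (Fin n) F) : Prop :=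
  ∀ k l : Fin n, (((k : ℕ) ≠ 0 ∧ (l : ℕ) + 1 ≠ n) ∨ ((k : ℕ) = 0 ∧ (l : ℕ) = 0) ∨
    ((k : ℕ) + 1 = n ∧ (l : ℕ) + 1 = n)) → N k l = 0

theorem pam_one : PAm (1 : Matrix (Fin n) (Fin n) F) := by
  refine ⟨fun k l hk hl => ?_, fun k l hk hl => ?_⟩
  · exact Matrix.one_apply_ne (fun h => hk (by rw [h]; exact hl))
  · exact Matrix.one_apply_ne (fun h => hl (by rw [← h]; exact hk))

theorem pam_of_isUp {g : Matrix (Fin n) (Fin n) F} (hg : IsUp g) : PAm g := by
  refine ⟨fun k l hk hl => hg k l ?_, fun k l hk hl => hg k l ?_⟩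
  · rw [Fin.lt_def]; omega
  · rw [Fin.lt_def]; have := l.2; omega

theorem pam_mul {g h : Matrix (Fin n) (Fin n) F} (hg : PAm g) (hh : PAm h) : PAm (g * h) := by
  refine ⟨fun k l hk hl => ?_, fun k l hk hl => ?_⟩
  · rw [Matrix.mul_apply]
    apply Finset.sum_eq_zero
    intro t _
    by_cases ht : (t : ℕ) = 0
    · rw [hg.1 k t hk ht, zero_mul]
    · rw [hh.1 t l ht hl, mul_zero]
  · rw [Matrix.mul_apply]
    apply Finset.sum_eq_zero
    intro t _
    by_cases ht : (t : ℕ) + 1 = n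
    · rw [hh.2 t l ht hl, mul_zero]
    · rw [hg.2 k t hk ht, zero_mul]

theorem pam_of_patA (h2 : 2 ≤ n) {u : Matrix (Fin n) (Fin n) F} (hu : PatA (u - 1)) : PAm u := by
  refine ⟨fun k l hk hl => ?_, fun k l hk hl => ?_⟩
  · have h1 := hu k l (Or.inl ⟨hk, by omega⟩)
    rw [Matrix.sub_apply, Matrix.one_apply_ne (fun h => hk (by rw [h]; exact hl)), sub_zero] at h1
    exact h1
  · have h1 := hu k l (Or.inl ⟨by omega, hl⟩)
    rw [Matrix.sub_apply, Matrix.one_apply_ne (fun h => hl (by rw [← h]; exact hk)), sub_zero] at h1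
    exact h1

theorem patA_add {M N : Matrix (Fin n) (Fin n) F} (hM : PatA M) (hN : PatA N) : PatA (M + N) := by
  intro k l h
  rw [Matrix.add_apply, hM k l h, hN k l h, add_zero]

theorem patA_zero : PatA (0 : Matrix (Fin n) (Fin n) F) := fun _ _ _ => rfl

/-- the pattern `PatA` is stable under `N ↦ g N h` for `g`, `h` stabilising `⟨e_0⟩` -/
theorem patA_mul3 (h2 : 2 ≤ n) {g N h : Matrix (Fin n) (Fin n) F} (hg : PAm g) (hN : PatA N) (hh : PAm h) :
    PatA (g * N * h) := by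
  intro x y hxy
  rw [Matrix.mul_apply]
  apply Finset.sum_eq_zero
  intro l _
  rw [Matrix.mul_apply, Finset.sum_mul]
  apply Finset.sum_eq_zero
  intro k _
  rcases hxy with ⟨hx, hy⟩ | ⟨hx, hy⟩ | ⟨hx, hy⟩
  · by_cases hk : (k : ℕ) = 0
    · rw [hg.1 x k hx hk, zero_mul, zero_mul]
    · by_cases hl : (l : ℕ) + 1 = n
      · rw [hh.2 l y hl hy, mul_zero]
      · rw [hN k l (Or.inl ⟨hk, hl⟩), mul_zero, zero_mul]
  · by_cases hl : (l : ℕ) = 0
    · by_cases hk : (k : ℕ) = 0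
      · rw [hN k l (Or.inr (Or.inl ⟨hk, hl⟩)), mul_zero, zero_mul]
      · rw [hN k l (Or.inl ⟨hk, by omega⟩), mul_zero, zero_mul]
    · rw [hh.1 l y hl hy, mul_zero]
  · by_cases hk : (k : ℕ) + 1 = n
    · by_cases hl : (l : ℕ) + 1 = n
      · rw [hN k l (Or.inr (Or.inr ⟨hk, hl⟩)), mul_zero, zero_mul]
      · rw [hN k l (Or.inl ⟨by omega, hl⟩), mul_zero, zero_mul]
    · rw [hg.2 x k hx hk, zero_mul, zero_mul]

/-- the pattern of `u - 1`, `u` in the radical of the first minimal parabolic -/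
def PatB (N : Matrix (Fin n) (Fin n) F) : Prop :=
  (∀ k l : Fin n, l ≤ k → N k l = 0) ∧ (∀ k l : Fin n, (k : ℕ) = 0 → (l : ℕ) = 1 → N k l = 0) ∧
    (∀ k l : Fin n, (k : ℕ) + 2 = n → (l : ℕ) + 1 = n → N k l = 0)

theorem patB_add {M N : Matrix (Fin n) (Fin n) F} (hM : PatB M) (hN : PatB N) : PatB (M + N) := by
  refine ⟨fun k l h => ?_, fun k l h h' => ?_, fun k l h h' => ?_⟩
  · rw [Matrix.add_apply, hM.1 k l h, hN.1 k l h, add_zero]
  · rw [Matrix.add_apply, hM.2.1 k l h h', hN.2.1 k l h h', add_zero]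
  · rw [Matrix.add_apply, hM.2.2 k l h h', hN.2.2 k l h h', add_zero]

theorem patB_zero : PatB (0 : Matrix (Fin n) (Fin n) F) :=
  ⟨fun _ _ _ => rfl, fun _ _ _ _ => rfl, fun _ _ _ _ => rfl⟩

theorem isUp_of_patB {u : Matrix (Fin n) (Fin n) F} (hu : PatB (u - 1)) : IsUp u := by
  intro k l hkl
  have h1 := hu.1 k l hkl.le
  rw [Matrix.sub_apply, Matrix.one_apply_ne (ne_of_gt hkl), sub_zero] at h1
  exact h1

theorem isUni_of_patB {u : Matrix (Fin n) (Fin n) F} (hu : PatB (u - 1)) : IsUni u := by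
  intro k
  have h1 := hu.1 k k le_rfl
  rw [Matrix.sub_apply, Matrix.one_apply_eq, sub_eq_zero] at h1
  exact h1

/-- the pattern `PatB` is stable under `N ↦ g N h` for `g`, `h` upper triangular -/
theorem patB_mul3 {g N h : Matrix (Fin n) (Fin n) F} (hg : IsUp g) (hN : PatB N) (hh : IsUp h) :
    PatB (g * N * h) := by
  have key : ∀ x y : Fin n, (∀ k l : Fin n, x ≤ k → l ≤ y → N k l = 0) → (g * N * h) x y = 0 := by
    intro x y hxy
    rw [Matrix.mul_apply]
    apply Finset.sum_eq_zero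
    intro l _
    rw [Matrix.mul_apply, Finset.sum_mul]
    apply Finset.sum_eq_zero
    intro k _
    by_cases hk : k < x
    · rw [hg x k hk, zero_mul, zero_mul]
    · by_cases hl : y < l
      · rw [hh l y hl, mul_zero]
      · rw [hxy k l (not_lt.mp hk) (not_lt.mp hl), mul_zero, zero_mul]
  refine ⟨fun x y h => ?_, fun x y hx hy => ?_, fun x y hx hy => ?_⟩
  · apply key
    intro k l hk hl
    exact hN.1 k l (hl.trans (h.trans hk))
  · apply key
    intro k l hk hl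
    by_cases h1 : l ≤ k
    · exact hN.1 k l h1
    · apply hN.2.1 k l
      · rw [Fin.le_def] at hl h1 hk; omega
      · rw [Fin.le_def] at hl h1 hk; omega
  · apply key
    intro k l hk hl
    by_cases h1 : l ≤ k
    · exact hN.1 k l h1
    · apply hN.2.2 k l
      · rw [Fin.le_def] at hl hk h1; have := l.2; omega
      · rw [Fin.le_def] at hl hk h1; have := l.2; omega

/-! ### the stabiliser of `⟨e_0⟩` and its radical `QA` -/

/-- the stabiliser of `⟨e_0⟩` in the ambient group -/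
def PAs : Subgroup (GA F n) where
  carrier := {g | PAm (g.1 : Matrix (Fin n) (Fin n) F)}
  one_mem' := pam_one
  mul_mem' := fun ha hb => pam_mul ha hb
  inv_mem' := by
    intro a ha
    show PAm ((a⁻¹ : GA F n).1 : Matrix (Fin n) (Fin n) F)
    refine ⟨fun k l hk hl => ?_, fun k l hk hl => ?_⟩
    · rw [inv_apply, RingHom.id_apply]
      apply ha.2
      · rw [Fin.val_rev]; omega
      · rw [Fin.val_rev]; have := k.2; omega
    · rw [inv_apply, RingHom.id_apply]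
      apply ha.1
      · rw [Fin.val_rev]; have := l.2; omega
      · rw [Fin.val_rev]; omega

theorem one_rev_apply (k l : Fin n) :
    (1 : Matrix (Fin n) (Fin n) F) l.rev k.rev = (1 : Matrix (Fin n) (Fin n) F) k l := by
  rw [Matrix.one_apply, Matrix.one_apply]
  by_cases h : k = l
  · subst h; rw [if_pos rfl, if_pos rfl]
  · rw [if_neg h, if_neg (fun h' => h (Fin.rev_injective h').symm)]

/-- the radical of the stabiliser of `⟨e_0⟩` -/
def QA (h2 : 2 ≤ n) : Subgroup (GA F n) where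
  carrier := {u | u ∈ GO ∧ PatA ((u.1 : Matrix (Fin n) (Fin n) F) - 1)}
  one_mem' := ⟨GO.one_mem, by rw [val_one, sub_self]; exact patA_zero⟩
  mul_mem' := by
    intro a b ha hb
    refine ⟨GO.mul_mem ha.1 hb.1, ?_⟩
    have e : ((a * b : GA F n).1 : Matrix (Fin n) (Fin n) F) - 1 =
        (a.1 : Matrix (Fin n) (Fin n) F) * ((b.1 : Matrix (Fin n) (Fin n) F) - 1) * 1 +
          ((a.1 : Matrix (Fin n) (Fin n) F) - 1) := by
      rw [val_mul, Matrix.mul_one, Matrix.mul_sub, Matrix.mul_one]; abel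
    rw [e]
    exact patA_add (patA_mul3 h2 (pam_of_patA h2 ha.2) hb.2 pam_one) ha.2
  inv_mem' := by
    intro a ha
    refine ⟨GO.inv_mem ha.1, ?_⟩
    intro k l hkl
    have h1 := ha.2 l.rev k.rev (by
      have := k.2
      have := l.2
      simp only [Fin.val_rev]
      omega)
    rw [Matrix.sub_apply] at h1
    rw [Matrix.sub_apply, inv_apply, RingHom.id_apply, ← one_rev_apply]
    exact h1

theorem mem_QA (h2 : 2 ≤ n) {u : GA F n} :
    u ∈ QA (F := F) h2 ↔ u ∈ GO ∧ PatA ((u.1 : Matrix (Fin n) (Fin n) F) - 1) := Iff.rfl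

theorem QA_le_Uo (h2 : 2 ≤ n) : QA (F := F) h2 ≤ Uo := by
  intro u hu
  refine ⟨⟨?_, ?_⟩, hu.1⟩
  · intro k l hkl
    have h1 := hu.2 k l (Or.inl ⟨by rw [Fin.lt_def] at hkl; omega, by rw [Fin.lt_def] at hkl; have := k.2; omega⟩)
    rw [Matrix.sub_apply, Matrix.one_apply_ne (ne_of_gt hkl), sub_zero] at h1
    exact h1
  · intro k
    have h1 := hu.2 k k (by have := k.2; omega)
    rw [Matrix.sub_apply, Matrix.one_apply_eq, sub_eq_zero] at h1
    exact h1

theorem conj_sub_one (t q : GA F n) :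
    ((t * q * t⁻¹ : GA F n).1 : Matrix (Fin n) (Fin n) F) - 1 =
      (t.1 : Matrix (Fin n) (Fin n) F) * ((q.1 : Matrix (Fin n) (Fin n) F) - 1) *
        ((t⁻¹ : GA F n).1 : Matrix (Fin n) (Fin n) F) := by
  have h1 : (t.1 : Matrix (Fin n) (Fin n) F) * ((t⁻¹ : GA F n).1 : Matrix (Fin n) (Fin n) F) = 1 := by
    rw [← val_mul, mul_inv_cancel, val_one]
  rw [val_mul, val_mul, Matrix.mul_sub, Matrix.mul_one, Matrix.sub_mul, h1]

theorem PAs_inf_GO_le_normalizer (h2 : 2 ≤ n) :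
    (PAs ⊓ GO : Subgroup (GA F n)) ≤
      Subgroup.normalizer ((QA (F := F) h2 : Subgroup (GA F n)) : Set (GA F n)) := by
  apply le_normalizer_of_conj
  intro t ht q hq
  refine ⟨GO.mul_mem (GO.mul_mem ht.2 hq.1) (GO.inv_mem ht.2), ?_⟩
  rw [conj_sub_one]
  exact patA_mul3 h2 ht.1 hq.2 (PAs.inv_mem ht.1)

theorem Bo_le_PAs : (Bo : Subgroup (GA F n)) ≤ PAs := fun b hb => pam_of_isUp hb.1

theorem sRef_mem_PAs (j : Fin (n / 2)) (hj : 1 ≤ (j : ℕ)) :
    sRef (RingHom.id F) j ∈ (PAs : Subgroup (GA F n)) := by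
  have hj2 := j.2
  refine ⟨fun k l hk hl => ?_, fun k l hk hl => ?_⟩
  · rw [sRef_apply, if_neg]
    intro h
    have h1 := τ_val j l
    rw [← h] at h1
    split_ifs at h1 <;> omega
  · rw [sRef_apply, if_neg]
    intro h
    have h1 := τ_val j l
    rw [← h] at h1
    have := l.2
    split_ifs at h1 <;> omega

theorem sD_mem_PAs (h6 : 6 ≤ n) (j : Fin (n / 2)) (hj : 1 ≤ (j : ℕ)) :
    sD (F := F) j ∈ (PAs : Subgroup (GA F n)) := by
  by_cases h : (j : ℕ) + 1 < n / 2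
  · rw [sD_short h]; exact sRef_mem_PAs j hj
  · rw [sD_last h]
    have h1 : 1 ≤ ((pj j : Fin (n / 2)) : ℕ) := by rw [pj_val]; have := j.2; omega
    exact PAs.mul_mem (PAs.mul_mem (sRef_mem_PAs j hj) (sRef_mem_PAs (pj j) h1))
      (PAs.inv_mem (sRef_mem_PAs j hj))

theorem xS_mem_QA (hn : n % 2 = 0) (h2 : 2 ≤ n) (a b : Fin n) (ha : (a : ℕ) = 0) (hab : a ≠ b)
    (hab' : a ≠ b.rev) (c : F) : xS hn a b hab c ∈ QA (F := F) h2 := by
  refine ⟨Cfsg.Agent.Lib.H25.DBNP.xS_mem_GO hn a b hab hab' c, ?_⟩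
  have hab1 : (a : ℕ) ≠ (b : ℕ) := fun h => hab (Fin.ext h)
  intro k l hkl
  rw [xS_val]
  unfold xSm
  rw [Matrix.sub_apply, Matrix.sub_apply, Matrix.add_apply, Matrix.single_apply, Matrix.single_apply]
  have h1 : ¬ (a = k ∧ b = l) := by
    rintro ⟨rfl, rfl⟩
    omega
  have h3 : ¬ (b.rev = k ∧ a.rev = l) := by
    rintro ⟨rfl, rfl⟩
    have := b.2
    simp only [Fin.val_rev] at hkl
    omega
  rw [if_neg h1, if_neg h3]
  ring

/-! ### the radical `QB` of the first minimal parabolic -/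

/-- the radical of the minimal parabolic of the first simple reflection -/
def QB : Subgroup (GA F n) where
  carrier := {u | u ∈ GO ∧ PatB ((u.1 : Matrix (Fin n) (Fin n) F) - 1)}
  one_mem' := ⟨GO.one_mem, by rw [val_one, sub_self]; exact patB_zero⟩
  mul_mem' := by
    intro a b ha hb
    refine ⟨GO.mul_mem ha.1 hb.1, ?_⟩
    have e : ((a * b : GA F n).1 : Matrix (Fin n) (Fin n) F) - 1 =
        (a.1 : Matrix (Fin n) (Fin n) F) * ((b.1 : Matrix (Fin n) (Fin n) F) - 1) * 1 +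
          ((a.1 : Matrix (Fin n) (Fin n) F) - 1) := by
      rw [val_mul, Matrix.mul_one, Matrix.mul_sub, Matrix.mul_one]; abel
    rw [e]
    exact patB_add (patB_mul3 (isUp_of_patB ha.2) hb.2 isUp_one) ha.2
  inv_mem' := by
    intro a ha
    refine ⟨GO.inv_mem ha.1, ?_⟩
    have key : ∀ k l : Fin n, (((a⁻¹ : GA F n).1 : Matrix (Fin n) (Fin n) F) - 1) k l =
        ((a.1 : Matrix (Fin n) (Fin n) F) - 1) l.rev k.rev := by
      intro k l
      rw [Matrix.sub_apply, Matrix.sub_apply, inv_apply, RingHom.id_apply, one_rev_apply]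
    refine ⟨fun k l h => ?_, fun k l h h' => ?_, fun k l h h' => ?_⟩
    · rw [key]
      exact ha.2.1 _ _ (Fin.rev_le_rev.mpr h)
    · rw [key]
      apply ha.2.2.2
      · have := l.2; rw [Fin.val_rev]; omega
      · have := k.2; rw [Fin.val_rev]; omega
    · rw [key]
      apply ha.2.2.1
      · have := l.2; rw [Fin.val_rev]; omega
      · have := k.2; rw [Fin.val_rev]; omega

theorem mem_QB {u : GA F n} :
    u ∈ (QB : Subgroup (GA F n)) ↔ u ∈ GO ∧ PatB ((u.1 : Matrix (Fin n) (Fin n) F) - 1) := Iff.rfl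

theorem QB_le_Uo : (QB : Subgroup (GA F n)) ≤ Uo := fun u hu =>
  ⟨⟨isUp_of_patB hu.2, isUni_of_patB hu.2⟩, hu.1⟩

theorem Bo_le_normalizer_QB :
    (Bo : Subgroup (GA F n)) ≤ Subgroup.normalizer ((QB : Subgroup (GA F n)) : Set (GA F n)) := by
  apply le_normalizer_of_conj
  intro t ht q hq
  refine ⟨GO.mul_mem (GO.mul_mem ht.2 hq.1) (GO.inv_mem ht.2), ?_⟩
  rw [conj_sub_one]
  exact patB_mul3 ht.1 hq.2 ((Bs (RingHom.id F)).inv_mem ht.1)

theorem sRef0_mem_normalizer_QB (hn : n % 2 = 0) (h4 : 4 ≤ n) (j : Fin (n / 2)) (hj : (j : ℕ) = 0) :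
    sRef (RingHom.id F) j ∈ Subgroup.normalizer ((QB : Subgroup (GA F n)) : Set (GA F n)) := by
  have hs : sRef (RingHom.id F) j ∈ (GO : Subgroup (GA F n)) :=
    Cfsg.Agent.Lib.H25.DBNP.Ms_le_GO hn (sRef_mem_Ms _ j)
  apply mem_normalizer_of_invol _ _ (sRef_mul_self _ j)
  intro q hq
  refine ⟨GO.mul_mem (GO.mul_mem hs hq.1) (GO.inv_mem hs), ?_⟩
  have key : ∀ k l : Fin n,
      (((sRef (RingHom.id F) j * q * (sRef (RingHom.id F) j)⁻¹ : GA F n).1 : Matrix (Fin n) (Fin n) F) - 1) k l =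
        ((q.1 : Matrix (Fin n) (Fin n) F) - 1) (τ j k) (τ j l) := by
    intro k l
    rw [Matrix.sub_apply, Matrix.sub_apply, sRef_conj_apply]
    congr 1
    rw [Matrix.one_apply, Matrix.one_apply]
    by_cases h : k = l
    · subst h; rw [if_pos rfl, if_pos rfl]
    · rw [if_neg h, if_neg (fun h' => h ((τ j).injective h'))]
  have hcond : (j : ℕ) + 1 < n / 2 := by omega
  refine ⟨fun k l hkl => ?_, fun k l hk hl => ?_, fun k l hk hl => ?_⟩
  · rw [key]
    have hk1 := τ_val j k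
    have hl1 := τ_val j l
    rw [if_pos hcond] at hk1 hl1
    have hk2 := k.2
    have hl2 := l.2
    rw [Fin.le_def] at hkl
    by_cases h1 : τ j l ≤ τ j k
    · exact hq.2.1 _ _ h1
    · rw [Fin.le_def] at h1
      by_cases h2 : ((τ j k : Fin n) : ℕ) = 0
      · apply hq.2.2.1 _ _ h2
        split_ifs at hk1 hl1 <;> omega
      · apply hq.2.2.2
        · split_ifs at hk1 hl1 <;> omega
        · split_ifs at hk1 hl1 <;> omega
  · rw [key]
    apply hq.2.1
    have hk1 := τ_val j k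
    have hl1 := τ_val j l
    rw [if_pos hcond] at hk1 hl1
    rw [Fin.le_def]
    split_ifs at hk1 hl1 <;> omega
  · rw [key]
    apply hq.2.1
    have hk1 := τ_val j k
    have hl1 := τ_val j l
    rw [if_pos hcond] at hk1 hl1
    rw [Fin.le_def]
    split_ifs at hk1 hl1 <;> omega

theorem xS_mem_QB (hn : n % 2 = 0) (a b : Fin n) (ha : (a : ℕ) = 0) (hb2 : 2 ≤ (b : ℕ)) (hb : (b : ℕ) + 2 ≤ n)
    (hab : a ≠ b) (hab' : a ≠ b.rev) (c : F) : xS hn a b hab c ∈ (QB : Subgroup (GA F n)) := by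
  refine ⟨Cfsg.Agent.Lib.H25.DBNP.xS_mem_GO hn a b hab hab' c, ?_⟩
  have key : ∀ k l : Fin n, ¬ (a = k ∧ b = l) → ¬ (b.rev = k ∧ a.rev = l) →
      (((xS hn a b hab c).1 : Matrix (Fin n) (Fin n) F) - 1) k l = 0 := by
    intro k l h1 h3
    rw [xS_val]
    unfold xSm
    rw [Matrix.sub_apply, Matrix.sub_apply, Matrix.add_apply, Matrix.single_apply, Matrix.single_apply,
      if_neg h1, if_neg h3]
    ring
  refine ⟨fun k l h => ?_, fun k l h h' => ?_, fun k l h h' => ?_⟩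
  · apply key
    · rintro ⟨rfl, rfl⟩
      rw [Fin.le_def] at h
      omega
    · rintro ⟨rfl, rfl⟩
      rw [Fin.le_def] at h
      simp only [Fin.val_rev] at h
      omega
  · apply key
    · rintro ⟨rfl, rfl⟩
      omega
    · rintro ⟨rfl, rfl⟩
      simp only [Fin.val_rev] at h h'
      omega
  · apply key
    · rintro ⟨rfl, rfl⟩
      omega
    · rintro ⟨rfl, rfl⟩
      simp only [Fin.val_rev] at h h'
      omega

end Cfsg.Agent.Lib.H19.SRO
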