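import Mathlib

/-!
S3685 / S3385 piece (L1A) (blueprint `tools/blueprints/S3685.md`, Lemma 1a):
in a finite group `K` with a subgroup `T` of index 3, every `K`-conjugate of an odd-order
element of `T` lies in `T`.
-/

namespace Cfsg.Agent.Lib.H19.Sims

/-- A permutation of a 3-element type with a fixed point squares to the identity. -/
theorem perm_sq_apply_of_card_three {α : Type*} [Fintype α] [DecidableEq α]
    (h3 : Fintype.card α = 3) (σ : Equiv.Perm α) (p : α) (hp : σ p = p) (y : α) :
    σ (σ y) = y := by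
  by_contra hne
  have h1 : y ≠ p := by
    rintro rfl
    exact hne (by rw [hp, hp])
  have h2 : σ y ≠ y := by
    intro h
    exact hne (by rw [h, h])
  have h3' : σ y ≠ p := by
    intro h
    apply h1
    apply σ.injective
    rw [h, hp]
  have h4 : σ (σ y) ≠ p := by
    intro h
    apply h3'
    apply σ.injective
    rw [h, hp]
  have h5 : σ (σ y) ≠ σ y := by
    intro h
    exact h2 (σ.injective h)
  have hcard : ({p, y, σ y, σ (σ y)} : Finset α).card = 4 := by
    rw [Finset.card_insert_of_notMem, Finset.card_insert_of_notMem, Finset.card_insert_of_notMem,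
      Finset.card_singleton]
    · simp only [Finset.mem_singleton]
      exact fun h => h5 h.symm
    · simp only [Finset.mem_insert, Finset.mem_singleton, not_or]
      exact ⟨fun h => h2 h.symm, fun h => hne h.symm⟩
    · simp only [Finset.mem_insert, Finset.mem_singleton, not_or]
      exact ⟨fun h => h1 h.symm, fun h => h3' h.symm, fun h => h4 h.symm⟩
  have hle := Finset.card_le_univ ({p, y, σ y, σ (σ y)} : Finset α)
  rw [hcard, h3] at hle
  omega

/-- (L1A) `K` finite, `T ≤ K` of index 3, `s ∈ T` of odd order, `g ∈ K`: then `g s g⁻¹ ∈ T`. -/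
theorem conj_mem_of_index_three {K : Type*} [Group K] [Finite K] (T : Subgroup K) (hT : T.index = 3)
    (s : K) (hs : s ∈ T) (hodd : Odd (orderOf s)) (g : K) : g * s * g⁻¹ ∈ T := by
  classical
  have : Fintype (K ⧸ T) := Fintype.ofFinite _
  have h3 : Fintype.card (K ⧸ T) = 3 := by
    rw [← Nat.card_eq_fintype_card]
    exact hT
  set x : K := g * s * g⁻¹ with hx
  let σ : Equiv.Perm (K ⧸ T) := MulAction.toPerm x
  have hfix : σ (g : K ⧸ T) = (g : K ⧸ T) := by
    show x • (g : K ⧸ T) = (g : K ⧸ T)
    rw [MulAction.Quotient.smul_coe, QuotientGroup.eq]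
    have h2 : (x • g)⁻¹ * g = s⁻¹ := by
      rw [hx, smul_eq_mul]; group
    rw [h2]
    exact T.inv_mem hs
  have hsq : ∀ y, σ (σ y) = y := perm_sq_apply_of_card_three h3 σ _ hfix
  -- orderOf x is odd
  have hox : orderOf x = orderOf s := by
    rw [hx]
    have := orderOf_injective (MulAut.conj g).toMonoidHom (MulAut.conj g).injective s
    simpa [MulAut.conj_apply] using this
  obtain ⟨k, hk⟩ := hodd
  have hpow : x ^ (2 * k + 1) = 1 := by
    rw [← hk, ← hox]; exact pow_orderOf_eq_one x
  -- x^2 acts trivially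
  have hx2 : ∀ y : K ⧸ T, (x ^ 2) • y = y := by
    intro y
    rw [pow_two, mul_smul]
    exact hsq y
  have hx2k : ∀ (n : ℕ) (y : K ⧸ T), ((x ^ 2) ^ n) • y = y := by
    intro n
    induction n with
    | zero => intro y; simp
    | succ n ih => intro y; rw [pow_succ, mul_smul, hx2, ih]
  have hxy : ∀ y : K ⧸ T, x • y = y := by
    intro y
    have h1 : (x ^ (2 * k + 1)) • y = y := by rw [hpow, one_smul]
    rw [pow_succ, pow_mul, mul_smul] at h1
    rw [hx2k] at h1
    exact h1
  have h1 := hxy ((1 : K) : K ⧸ T)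
  rw [MulAction.Quotient.smul_coe, QuotientGroup.eq] at h1
  have h2 : (x • (1 : K))⁻¹ * 1 = x⁻¹ := by
    rw [smul_eq_mul]; group
  rw [h2] at h1
  exact (T.inv_mem_iff).mp h1

end Cfsg.Agent.Lib.H19.Sims
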