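import Cfsg.Agent.Lib.H5.Sims.Defs
import Cfsg.Agent.Lib.H19.SimsBENT

/-!
S3685 / S3385, piece (L3B), preparation: the fields of helper8's `Chain3 S.Pj y` proved from the
interface structures `S.Bent`, `S.Loc`, `S.Con`, `S.Y3 y` of `Lib/H5/Sims/Defs.lean`.
-/

set_option autoImplicit false
open scoped Pointwise
open Cfsg.Agent.Lib.H5.Sims

namespace Cfsg.Agent.Lib.H19.SimsAd

variable {G : Type*} [Group G]

theorem mem_normalizer_of_conj_smul_eq (H : Subgroup G) (n : G)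
    (h1 : MulAut.conj n • H = H) : n ∈ Subgroup.normalizer (H : Set G) := by
  rw [Subgroup.mem_normalizer_iff]
  intro x
  constructor
  · intro hx
    rw [← h1, mem_conj_smul]
    have e : n⁻¹ * (n * x * n⁻¹) * n = x := by group
    rwa [e]
  · intro hx
    rw [← h1, mem_conj_smul] at hx
    have e : n⁻¹ * (n * x * n⁻¹) * n = x := by group
    rwa [e] at hx

theorem mem_zpowers_of_sq {a z : G} (hz : z ∈ Subgroup.zpowers a) (ha : a ^ 2 = 1) :
    z = 1 ∨ z = a := by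
  obtain ⟨k, rfl⟩ := Subgroup.mem_zpowers_iff.mp hz
  have hk : a ^ k = a ^ (k % 2) := by
    conv_lhs => rw [← Int.emod_add_mul_ediv k 2]
    rw [zpow_add, zpow_mul]
    have : a ^ (2 : ℤ) = 1 := by exact_mod_cast ha
    rw [this, one_zpow, mul_one]
  rcases Int.emod_two_eq_zero_or_one k with h | h
  · left; rw [hk, h, zpow_zero]
  · right; rw [hk, h, zpow_one]

theorem relIndex_eq_three [Finite G] (H K : Subgroup G) (hHK : H ≤ K)
    (hc : Nat.card K = 3 * Nat.card H) : H.relIndex K = 3 := by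
  rw [Subgroup.relIndex]
  have h1 := Subgroup.card_mul_index (H.subgroupOf K)
  have h2 : Nat.card ↥(H.subgroupOf K) = Nat.card H :=
    Nat.card_congr (Subgroup.subgroupOfEquivOfLe hHK).toEquiv
  rw [h2, hc] at h1
  have hpos : 0 < Nat.card H := Nat.card_pos
  have : Nat.card ↥H * (H.subgroupOf K).index = Nat.card ↥H * 3 := by rw [h1]; ring
  exact Nat.eq_of_mul_eq_mul_left hpos this

variable (S : Setup G)

theorem P_ne_bot : S.P ≠ ⊥ := by
  intro h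
  have := S.idx
  rw [h, bot_inf_eq, Subgroup.card_bot] at this
  omega

/-- `selfnorm` -/
theorem selfnorm_Pj [Finite G] (j : ℤ) (x : G) (hx : MulAut.conj x • S.Pj j = S.Pj j) : x ∈ S.Pj j := by
  rw [Setup.Pj] at hx ⊢
  set g : G := S.h ^ j
  have h1 : MulAut.conj (g⁻¹ * x * g) • S.P = S.P := by
    rw [map_mul, map_mul, mul_smul, mul_smul, hx, ← mul_smul, ← map_mul, inv_mul_cancel, map_one,
      one_smul]
  have h2 := mem_normalizer_of_conj_smul_eq S.P _ h1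
  have h3 := Cfsg.Agent.Lib.H19.Sims.normalizer_le_of_prim S.P S.prim (P_ne_bot S) h2
  rw [mem_conj_smul]; exact h3

theorem y_mem_Yj {y : ℤ → G} (h : S.Y3 y) (j : ℤ) : y j ∈ S.Yj j := by
  rw [h.Y_eq j]; exact Subgroup.mem_zpowers _

/-- `canon` -/
theorem canon_y [Finite G] {y : ℤ → G} (h : S.Y3 y) (i j : ℤ) (x : G)
    (hx : MulAut.conj x • S.Pj i = S.Pj j) : x * y i * x⁻¹ = y j := by
  have h1 : MulAut.conj x • S.Yj i = S.Yj j := by
    rw [Setup.Yj, Setup.Yj, ← zOf_conj_smul, hx]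
  have h2 : x * y i * x⁻¹ ∈ S.Yj j := by
    rw [← h1]; exact conj_mem_conj_smul (y_mem_Yj S h i)
  rw [h.Y_eq j] at h2
  rcases mem_zpowers_of_sq h2 (h.sq j) with h3 | h3
  · exfalso
    apply h.ne_one i
    have : y i = x⁻¹ * (x * y i * x⁻¹) * x := by group
    rw [this, h3]; group
  · exact h3

/-- `ysq` -/
theorem ysq_y {y : ℤ → G} (h : S.Y3 y) (j : ℤ) : y j * y j = 1 := by
  rw [← pow_two]; exact h.sq j

/-- `ycen` -/
theorem ycen_y [Finite G] {y : ℤ → G} (h : S.Y3 y) (j : ℤ) (x : G) (hx : x ∈ S.Pj j) :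
    x * y j = y j * x :=
  (mem_zOf.mp (y_mem_Yj S h j)).2.2 x hx

/-- `yrel` -/
theorem yrel_y [Finite G] {y : ℤ → G} (h : S.Y3 y) (j : ℤ) :
    y j * y (j + 4) * (y j)⁻¹ * (y (j + 4))⁻¹ = y (j + 2) := by
  have e1 : (y j)⁻¹ = y j := inv_eq_of_mul_eq_one_right (ysq_y S h j)
  have e2 : (y (j + 4))⁻¹ = y (j + 4) := inv_eq_of_mul_eq_one_right (ysq_y S h (j + 4))
  rw [e1, e2]; exact h.rel j

/-- `yne` -/
theorem yne_y [Finite G] (hL : S.Loc) (hC : S.Con) {y : ℤ → G} (h : S.Y3 y) (j : ℤ) : y j ≠ y (j + 1) := by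
  intro he
  have h1 : y j ∈ S.Yj j ⊓ S.Yj (j + 1) := by
    refine Subgroup.mem_inf.mpr ⟨y_mem_Yj S h j, ?_⟩
    rw [he]; exact y_mem_Yj S h (j + 1)
  rw [hC.Y_inf j (j + 1) (hL.P_ne j), Subgroup.mem_bot] at h1
  exact h.ne_one j h1

/-- `idxR` -/
theorem idxR_Pj [Finite G] (j : ℤ) : (S.Pj j ⊓ S.Pj (j + 1)).relIndex (S.Pj j) = 3 := by
  apply relIndex_eq_three _ _ inf_le_left
  have := S.card_Tj j
  rw [Setup.Tj] at this
  rw [this, S.card_Pj_eq]

/-- `idxL` -/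
theorem idxL_Pj [Finite G] (j : ℤ) : (S.Pj j ⊓ S.Pj (j - 1)).relIndex (S.Pj j) = 3 := by
  apply relIndex_eq_three _ _ inf_le_left
  have := S.card_Tj (j - 1)
  rw [Setup.Tj, sub_add_cancel, inf_comm] at this
  rw [this, S.card_Pj_eq]

theorem Qj_eq (j : ℤ) : S.Pj (j - 1) ⊓ S.Pj j ⊓ S.Pj (j + 1) = S.Qj j := by
  rw [Setup.Qj, Setup.Tj, Setup.Tj, sub_add_cancel]
  apply le_antisymm
  · refine le_inf (le_inf ?_ ?_) (le_inf ?_ ?_)
    · exact inf_le_left.trans inf_le_left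
    · exact inf_le_left.trans inf_le_right
    · exact inf_le_left.trans inf_le_right
    · exact inf_le_right
  · refine le_inf (le_inf ?_ ?_) ?_
    · exact inf_le_left.trans inf_le_left
    · exact inf_le_left.trans inf_le_right
    · exact inf_le_right.trans inf_le_right

/-- `qnorm` -/
theorem qnorm_Pj [Finite G] (hL : S.Loc) (j : ℤ) (x : G) (hx : x ∈ S.Pj j) :
    MulAut.conj x • (S.Pj (j - 1) ⊓ S.Pj j ⊓ S.Pj (j + 1)) =
      S.Pj (j - 1) ⊓ S.Pj j ⊓ S.Pj (j + 1) := by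
  rw [Qj_eq]
  exact Cfsg.Agent.Lib.H19.Sims.conj_smul_eq_of_mem_normalizer _ x (hL.Q_norm j hx)

/-- `no3` -/
theorem no3_Tj (hb : S.Bent) (j : ℤ) (t : G) (ht : t ∈ S.Pj j ⊓ S.Pj (j + 1)) : orderOf t ≠ 3 := by
  intro h3
  have hT : t ∈ S.Tj j := ht
  have h0 := S.conj_Tj j 0
  rw [add_zero] at h0
  rw [← h0, mem_conj_smul] at hT
  obtain ⟨k, hk⟩ := hb.two ⟨_, hT⟩
  have hk' : ((S.h ^ j)⁻¹ * t * S.h ^ j) ^ (2 ^ k) = 1 := by
    have := congrArg Subtype.val hk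
    simpa using this
  have ho : orderOf ((S.h ^ j)⁻¹ * t * S.h ^ j) = 3 := by
    have := Cfsg.Agent.Lib.H19.Sims.orderOf_conj_eq ((S.h ^ j)⁻¹) t
    rw [inv_inv] at this
    rw [this, h3]
  have hdvd : 3 ∣ 2 ^ k := by
    rw [← ho]; exact orderOf_dvd_of_pow_eq_one hk'
  have := (Nat.Prime.dvd_of_dvd_pow (by norm_num : Nat.Prime 3) hdvd)
  omega

end Cfsg.Agent.Lib.H19.SimsAd
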