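import Cfsg.Agent.Lib.H5.Sims.Defs
import Cfsg.Agent.Lib.H8.SimsL3C
import Cfsg.Agent.Lib.H19.SimsL3Bpre

/-!
S3685 / S3385, piece (L3B) with the exact signature of `tools/blueprints/S3685_sigs2.lean`:
assemble helper8's `Chain3 S.Pj y` from the interface structures and apply `Chain3.false`.
-/

set_option autoImplicit false
open scoped Pointwise
open Cfsg.Agent.Lib.H5.Sims

namespace Cfsg.Agent.Lib.H19.SimsAd

variable {G : Type*} [Group G] [Finite G]

theorem chain3_of_Y3 (S : Setup G) (hb : S.Bent) (hL : S.Loc) (hC : S.Con) (y : ℤ → G)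
    (h : S.Y3 y) : Cfsg.Agent.Lib.H8.Sims.Chain3 S.Pj y where
  selfnorm := selfnorm_Pj S
  canon := canon_y S h
  ysq := ysq_y S h
  ycen := ycen_y S h
  ymem := h.mem
  ynot := fun j => ⟨h.not_mem_right j, h.not_mem_left j⟩
  yrel := yrel_y S h
  yne := yne_y S hL hC h
  idxR := idxR_Pj S
  idxL := idxL_Pj S
  selfp := h.sp
  pne := hL.P_ne2
  qnorm := qnorm_Pj S hL
  t3 := hL.exists_three
  no3 := no3_Tj S hb

/-- (L3B) (9d) -/
theorem l3b (S : Setup G) (hb : S.Bent) (hL : S.Loc) (hC : S.Con) (y : ℤ → G) (h : S.Y3 y) : False :=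
  (chain3_of_Y3 S hb hL hC y h).false

end Cfsg.Agent.Lib.H19.SimsAd
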