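import Cfsg.Agent.Lib.H19.SimsL1A

/-!
S3685 / S3385 piece (ODD) (blueprint `tools/blueprints/S3685.md`, sections 0 and 1), in hypothesis
form: from the two outputs `prim`, `idx` of the reduction (RED) we get (A1a), (A1b) and
"`T = P ⊓ P^h` is a 2-group".
-/

set_option autoImplicit false
open scoped Pointwise

namespace Cfsg.Agent.Lib.H19.Sims

variable {G : Type*} [Group G]

/-- conjugation invariance of a generating set gives normalisation of the closure -/
theorem le_normalizer_closure_of_conj_mem (S : Set G) (N : Subgroup G)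
    (h : ∀ n ∈ N, ∀ s ∈ S, n * s * n⁻¹ ∈ S) :
    N ≤ Subgroup.normalizer ((Subgroup.closure S : Subgroup G) : Set G) := by
  have key : ∀ n ∈ N, ∀ x ∈ Subgroup.closure S, n * x * n⁻¹ ∈ Subgroup.closure S := by
    intro n hn x hx
    induction hx using Subgroup.closure_induction with
    | mem s hs => exact Subgroup.subset_closure (h n hn s hs)
    | one => simp
    | mul a b _ _ iha ihb =>
      have : n * (a * b) * n⁻¹ = (n * a * n⁻¹) * (n * b * n⁻¹) := by group
      rw [this]; exact Subgroup.mul_mem _ iha ihb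
    | inv a _ iha =>
      have : n * a⁻¹ * n⁻¹ = (n * a * n⁻¹)⁻¹ := by group
      rw [this]; exact Subgroup.inv_mem _ iha
  intro n hn
  rw [Subgroup.mem_normalizer_iff]
  intro x
  constructor
  · exact key n hn x
  · intro hx
    have := key n⁻¹ (N.inv_mem hn) _ hx
    have e : n⁻¹ * (n * x * n⁻¹) * n⁻¹⁻¹ = x := by group
    rwa [e] at this

theorem card_conj_smul [Finite G] (g : G) (P : Subgroup G) :
    Nat.card ↥(MulAut.conj g • P) = Nat.card ↥P :=
  (Nat.card_congr (Subgroup.equivSMul (MulAut.conj g) P).toEquiv).symm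

theorem mem_conj_smul_iff (g x : G) (P : Subgroup G) :
    x ∈ MulAut.conj g • P ↔ g⁻¹ * x * g ∈ P := by
  rw [Subgroup.mem_pointwise_smul_iff_inv_smul_mem]
  simp [MulAut.smul_def]

/-- (A1a) `P` is self-normalising. -/
theorem normalizer_le_of_prim (P : Subgroup G)
    (prim : ∀ X : Subgroup G, X ≤ P → X ≠ ⊥ → P ≤ Subgroup.normalizer (X : Set G) →
      Subgroup.normalizer (X : Set G) ≤ P) (hP : P ≠ ⊥) :
    Subgroup.normalizer (P : Set G) ≤ P :=
  prim P le_rfl hP Subgroup.le_normalizer

/-- (A1b) no nontrivial subgroup of `P` is normalised by `P` and by a conjugate `P^g` with `g ∉ P`. -/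
theorem mem_of_prim_of_normalizes [Finite G] (P : Subgroup G)
    (prim : ∀ X : Subgroup G, X ≤ P → X ≠ ⊥ → P ≤ Subgroup.normalizer (X : Set G) →
      Subgroup.normalizer (X : Set G) ≤ P)
    (X : Subgroup G) (hXP : X ≤ P) (hX : X ≠ ⊥) (h1 : P ≤ Subgroup.normalizer (X : Set G))
    (g : G) (h2 : MulAut.conj g • P ≤ Subgroup.normalizer (X : Set G)) : g ∈ P := by
  have hP : P ≠ ⊥ := by
    rintro rfl
    exact hX (le_bot_iff.mp hXP)
  have hN : Subgroup.normalizer (X : Set G) ≤ P := prim X hXP hX h1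
  have hle : MulAut.conj g • P ≤ P := h2.trans hN
  have heq : MulAut.conj g • P = P :=
    Subgroup.eq_of_le_of_card_ge hle (card_conj_smul g P).ge
  apply normalizer_le_of_prim P prim hP
  rw [Subgroup.mem_normalizer_iff]
  intro x
  constructor
  · intro hx
    rw [← heq, mem_conj_smul_iff]
    have : g⁻¹ * (g * x * g⁻¹) * g = x := by group
    rwa [this]
  · intro hx
    rw [← heq, mem_conj_smul_iff] at hx
    have : g⁻¹ * (g * x * g⁻¹) * g = x := by group
    rwa [this] at hx

theorem orderOf_conj_eq (g s : G) : orderOf (g * s * g⁻¹) = orderOf s := by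
  have := orderOf_injective (MulAut.conj g).toMonoidHom (MulAut.conj g).injective s
  simpa [MulAut.conj_apply] using this

/-- relative version of (L1A): `T ≤ K`, `|K| = 3 |T|`, `s ∈ T` of odd order, `g ∈ K` ⟹ `g s g⁻¹ ∈ T`. -/
theorem conj_mem_of_card_eq_three_mul [Finite G] (K T : Subgroup G) (hTK : T ≤ K)
    (hc : Nat.card K = 3 * Nat.card T) (s : G) (hs : s ∈ T) (hodd : Odd (orderOf s)) (g : G)
    (hg : g ∈ K) : g * s * g⁻¹ ∈ T := by
  have hidx : (T.subgroupOf K).index = 3 := by
    have h1 := Subgroup.card_mul_index (T.subgroupOf K)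
    have h2 : Nat.card ↥(T.subgroupOf K) = Nat.card T :=
      Nat.card_congr (Subgroup.subgroupOfEquivOfLe hTK).toEquiv
    rw [h2, hc] at h1
    have hpos : 0 < Nat.card T := Nat.card_pos
    have : Nat.card ↥T * (T.subgroupOf K).index = Nat.card ↥T * 3 := by rw [h1]; ring
    exact Nat.eq_of_mul_eq_mul_left hpos this
  have hs' : (⟨s, hTK hs⟩ : K) ∈ T.subgroupOf K := by
    rw [Subgroup.mem_subgroupOf]; exact hs
  have hodd' : Odd (orderOf (⟨s, hTK hs⟩ : K)) := by
    have : orderOf (⟨s, hTK hs⟩ : K) = orderOf s := by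
      rw [← Subgroup.orderOf_coe]
    rw [this]; exact hodd
  have := conj_mem_of_index_three (T.subgroupOf K) hidx ⟨s, hTK hs⟩ hs' hodd' ⟨g, hg⟩
  rw [Subgroup.mem_subgroupOf] at this
  simpa using this

/-- (ODD) section 1: `T = P ⊓ P^h` is a 2-group. -/
theorem isPGroup_two_of_prim [Finite G] (P : Subgroup G) (h : G)
    (prim : ∀ X : Subgroup G, X ≤ P → X ≠ ⊥ → P ≤ Subgroup.normalizer (X : Set G) →
      Subgroup.normalizer (X : Set G) ≤ P)
    (idx : Nat.card P = 3 * Nat.card ↥(P ⊓ MulAut.conj h • P)) :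
    IsPGroup 2 ↥(P ⊓ MulAut.conj h • P) := by
  set T : Subgroup G := P ⊓ MulAut.conj h • P with hT
  set S : Set G := {s | s ∈ T ∧ Odd (orderOf s)} with hS
  set R : Subgroup G := Subgroup.closure S with hR
  have hRT : R ≤ T := by
    rw [hR, Subgroup.closure_le]
    intro s hs
    exact hs.1
  have hTP : T ≤ P := inf_le_left
  have hTP' : T ≤ MulAut.conj h • P := inf_le_right
  have idx' : Nat.card ↥(MulAut.conj h • P) = 3 * Nat.card T := by
    rw [card_conj_smul]; exact idx
  have hN1 : P ≤ Subgroup.normalizer (R : Set G) := by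
    apply le_normalizer_closure_of_conj_mem
    intro n hn s hs
    refine ⟨conj_mem_of_card_eq_three_mul P T hTP idx s hs.1 hs.2 n hn, ?_⟩
    rw [orderOf_conj_eq]; exact hs.2
  have hN2 : MulAut.conj h • P ≤ Subgroup.normalizer (R : Set G) := by
    apply le_normalizer_closure_of_conj_mem
    intro n hn s hs
    refine ⟨conj_mem_of_card_eq_three_mul _ T hTP' idx' s hs.1 hs.2 n hn, ?_⟩
    rw [orderOf_conj_eq]; exact hs.2
  have hRbot : R = ⊥ := by
    by_contra hne
    have hh : h ∈ P := mem_of_prim_of_normalizes P prim R (hRT.trans hTP) hne hN1 h hN2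
    have heq : MulAut.conj h • P = P := by
      ext x
      rw [mem_conj_smul_iff]
      constructor
      · intro hx
        have := P.mul_mem (P.mul_mem hh hx) (P.inv_mem hh)
        have e : h * (h⁻¹ * x * h) * h⁻¹ = x := by group
        rwa [e] at this
      · intro hx
        exact P.mul_mem (P.mul_mem (P.inv_mem hh) hx) hh
    have hTeq : T = P := by rw [hT, heq, inf_idem]
    rw [hTeq] at idx
    have hpos : 0 < Nat.card P := Nat.card_pos
    omega
  intro t
  have hn : orderOf (t : G) ≠ 0 := (orderOf_pos (t : G)).ne'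
  obtain ⟨k, m, hm, hkm⟩ := Nat.exists_eq_two_pow_mul_odd hn
  refine ⟨k, ?_⟩
  have hsT : (t : G) ^ (2 ^ k) ∈ T := T.pow_mem t.2 _
  have hsodd : Odd (orderOf ((t : G) ^ (2 ^ k))) := by
    have hdvd : orderOf ((t : G) ^ (2 ^ k)) ∣ m := by
      apply orderOf_dvd_of_pow_eq_one
      rw [← pow_mul, ← hkm, pow_orderOf_eq_one]
    exact Odd.of_dvd_nat hm hdvd
  have hmem : (t : G) ^ (2 ^ k) ∈ R := Subgroup.subset_closure ⟨hsT, hsodd⟩
  rw [hRbot, Subgroup.mem_bot] at hmem
  apply Subtype.ext
  simpa using hmem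

end Cfsg.Agent.Lib.H19.Sims
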