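import Cfsg.Agent.Lib.H19.SimsL1A

/-!
S3685 / S3385 piece (R4) `odd_conj_mem` with the exact signature of
`tools/blueprints/S3685_sigs1.lean` (same statement as (L1A) `conj_mem_of_index_three`).
-/

set_option autoImplicit false
open scoped Pointwise

namespace Cfsg.Agent.Lib.H19.Sims

/-- (R4) Lemma 1a -/
theorem odd_conj_mem {K : Type*} [Group K] [Finite K] (T : Subgroup K) (hT : T.index = 3) (s : K)
    (hs : s ∈ T) (hodd : Odd (orderOf s)) (g : K) : g * s * g⁻¹ ∈ T :=
  conj_mem_of_index_three T hT s hs hodd g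

end Cfsg.Agent.Lib.H19.Sims
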