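import Cfsg.Agent.Lib.H19.SoftChain

/-!
# Soft subgroups: `[A, N(A)]` is central in every proper overgroup of `A`
-/

set_option autoImplicit false
open scoped commutatorElement

universe u

namespace Cfsg.Agent.Lib.H19.Soft
open Cfsg.Agent.Lib.H19

/-- a proper subgroup of a finite `p`-group lies in a proper normal subgroup `M`
which is maximal among proper subgroups containing it -/
theorem exists_maximal_proper {P : Type*} [Group P] [Finite P] {p : ℕ} [Fact p.Prime]
    (hP : IsPGroup p P) {K : Subgroup P} (hK : K ≠ ⊤) :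
    ∃ M : Subgroup P, K ≤ M ∧ M ≠ ⊤ ∧ Subgroup.normalizer (M : Set P) = ⊤ := by
  obtain ⟨M, hKM, hM⟩ := Finite.exists_le_maximal (p := fun H : Subgroup P => H ≠ ⊤) hK
  refine ⟨M, hKM, hM.1, ?_⟩
  by_contra hne
  have h1 := hM.2 hne Subgroup.le_normalizer
  obtain ⟨x, -, hxN, hxM⟩ := exists_mem_normalizer_not_mem (p := p) (hP.to_subgroup ⊤)
    (lt_top_iff_ne_top.mpr hM.1)
  exact hxM (h1 hxN)

theorem central_aux (p : ℕ) [hp : Fact p.Prime] : ∀ n : ℕ, ∀ (P : Type u) [Group P] [Finite P],
    Nat.card P = n → IsPGroup p P → ∀ A : Subgroup P, IsSoft p A →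
      ∀ K : Subgroup P, A ≤ K → K ≠ ⊤ → ∀ a ∈ A, ∀ x ∈ Subgroup.normalizer (A : Set P),
        ∀ k ∈ K, ⁅a, x⁆ * k = k * ⁅a, x⁆ := by
  intro n
  induction n using Nat.strong_induction_on with
  | _ n ih =>
    intro P _ _ hn hP A hA K hAK hKtop a ha x hx k hk
    by_contra hne
    set N := Subgroup.normalizer (A : Set P) with hNdef
    have hAN : A ≤ N := Subgroup.le_normalizer
    set u := ⁅a, x⁆ with hudef
    have huA : u ∈ A := by
      have h1 : u = a * (x * a⁻¹ * x⁻¹) := by
        rw [hudef, commutatorElement_def]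
        group
      rw [h1]
      exact A.mul_mem ha ((Subgroup.mem_normalizer_iff.mp hx a⁻¹).mp (A.inv_mem ha))
    have hAtop : A ≠ ⊤ := hA.ne_top hp.out
    have : Nontrivial P := by
      by_contra h
      rw [not_nontrivial_iff_subsingleton] at h
      exact hAtop (Subsingleton.elim _ _)
    set Z := Subgroup.center P with hZdef
    have hZA : Z ≤ A := hA.center_le
    have hZbot : Z ≠ ⊥ := by
      have := hP.center_nontrivial
      exact (Subgroup.nontrivial_iff_ne_bot _).mp this
    have hcard : Nat.card (P ⧸ Z) < n := hn ▸ card_quotient_lt Z hZbot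
    have hPq : IsPGroup p (P ⧸ Z) := hP.to_quotient Z
    have hcs1 : A ≤ cstar Z A := le_cstar hA.comm
    have hcs2 : cstar Z A ≤ N := cstar_le_normalizer hZA
    rcases eq_or_eq_of_relIndex_prime hp.out hcs1 hcs2 hA.idx with hI | hII
    · -- Case I: `A/Z` is soft
      have hsoft := isSoft_map_of_cstar_eq hA hZA hI
      have IH := ih _ hcard (P ⧸ Z) rfl hPq _ hsoft
      obtain ⟨M, hKM, hMtop, hMnorm⟩ := exists_maximal_proper hP hKtop
      have hAM : A ≤ M := hAK.trans hKM
      have hZM : Z ≤ M := hZA.trans hAM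
      have hMconj : ∀ t : P, ∀ m ∈ M, t * m * t⁻¹ ∈ M := by
        intro t m hm
        have ht : t ∈ Subgroup.normalizer (M : Set P) := hMnorm ▸ Subgroup.mem_top t
        exact (Subgroup.mem_normalizer_iff.mp ht m).mp hm
      -- step 1
      have hstep1 : ∀ m ∈ M, ⁅u, m⁆ ∈ Z := by
        intro m hm
        rw [← mk_comm_iff Z]
        have h1 := IH (M.map (QuotientGroup.mk' Z)) (Subgroup.map_mono hAM)
          (by rw [Ne, map_mk_eq_top_iff Z hZM]; exact hMtop)
          (QuotientGroup.mk' Z a) (Subgroup.mem_map_of_mem _ ha)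
          (QuotientGroup.mk' Z x)
          (by rw [normalizer_map_mk Z hZA]; exact Subgroup.mem_map_of_mem _ hx)
          (QuotientGroup.mk' Z m) (Subgroup.mem_map_of_mem _ hm)
        rw [← map_commutatorElement] at h1
        exact h1
      -- the centralizer of `u` in `M`
      set D := M ⊓ Subgroup.centralizer ({u} : Set P) with hDdef
      have hAD : A ≤ D := by
        intro a' ha'
        refine Subgroup.mem_inf.mpr ⟨hAM ha', ?_⟩
        rw [Subgroup.mem_centralizer_iff]
        intro y hy
        rw [Set.mem_singleton_iff] at hy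
        rw [hy]
        exact hA.comm u huA a' ha'
      have hkD : k ∉ D := by
        intro h
        have h2 := Subgroup.mem_centralizer_iff.mp (Subgroup.mem_inf.mp h).2 u rfl
        exact hne h2
      have hDM : D ≤ M := inf_le_left
      have hDneM : D ≠ M := fun h => hkD (h ▸ hKM hk)
      have hDtop : D ≠ ⊤ := fun h => hDneM (le_antisymm hDM (h ▸ le_top))
      have hMD : M ≤ Subgroup.normalizer (D : Set P) := by
        apply le_normalizer_of_conj_mem
        intro m hm d hd
        rw [Subgroup.mem_inf] at hd ⊢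
        refine ⟨M.mul_mem (M.mul_mem hm hd.1) (M.inv_mem hm), ?_⟩
        rw [Subgroup.mem_centralizer_iff]
        intro y hy
        rw [Set.mem_singleton_iff] at hy
        rw [hy]
        -- `m⁻¹ u m = z' u` with `z'` central
        have hz' : ⁅m⁻¹, u⁆ ∈ Z := by
          rw [← commutatorElement_inv]
          exact Z.inv_mem (hstep1 m⁻¹ (M.inv_mem hm))
        have hdz : d * ⁅m⁻¹, u⁆ = ⁅m⁻¹, u⁆ * d := Subgroup.mem_center_iff.mp hz' d
        have hdu : u * d = d * u := Subgroup.mem_centralizer_iff.mp hd.2 u rfl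
        have hv : m⁻¹ * u * m = ⁅m⁻¹, u⁆ * u := by
          rw [commutatorElement_def]
          group
        have hdv : d * (m⁻¹ * u * m) = (m⁻¹ * u * m) * d := by
          rw [hv]
          calc d * (⁅m⁻¹, u⁆ * u) = (d * ⁅m⁻¹, u⁆) * u := by group
            _ = (⁅m⁻¹, u⁆ * d) * u := by rw [hdz]
            _ = ⁅m⁻¹, u⁆ * (d * u) := by group
            _ = ⁅m⁻¹, u⁆ * (u * d) := by rw [hdu]
            _ = ⁅m⁻¹, u⁆ * u * d := by group
        calc u * (m * d * m⁻¹) = m * ((m⁻¹ * u * m) * d) * m⁻¹ := by group
          _ = m * (d * (m⁻¹ * u * m)) * m⁻¹ := by rw [hdv]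
          _ = m * d * m⁻¹ * u := by group
      have hDidx := hA.relIndex_normalizer hP hAD hDtop
      have hMeq : M = Subgroup.normalizer (D : Set P) := by
        rcases eq_or_eq_of_relIndex_prime hp.out hDM hMD hDidx with h | h
        · exact absurd h.symm hDneM
        · exact h
      obtain ⟨t, -, htM⟩ := SetLike.exists_of_lt (lt_top_iff_ne_top.mpr hMtop)
      have htD : t ∉ Subgroup.normalizer (D : Set P) := hMeq ▸ htM
      -- some conjugate of an element of `A` avoids `D`
      have hex : ∃ a' ∈ A, t⁻¹ * a' * t ∉ D := by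
        by_contra hcon
        push Not at hcon
        have hAD' : A ≤ D.map (MulAut.conj t).toMonoidHom := by
          intro a' ha'
          rw [mem_map_conj]
          exact hcon a' ha'
        have hcardD : Nat.card ↥(D.map (MulAut.conj t).toMonoidHom) = Nat.card D :=
          Subgroup.card_map_of_injective (MulAut.conj t).injective
        have : D.map (MulAut.conj t).toMonoidHom = D := by
          rcases hA.le_or_le hP hAD' hAD with h | h
          · exact Subgroup.eq_of_le_of_card_ge h hcardD.symm.le
          · exact (Subgroup.eq_of_le_of_card_ge h hcardD.le).symm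
        exact htD (mem_normalizer_iff_map_conj.mpr this)
      obtain ⟨a', ha', hb⟩ := hex
      set b := t⁻¹ * a' * t with hbdef
      have hbM : b ∈ M := by
        have := hMconj t⁻¹ a' (hAM ha')
        simpa [hbdef] using this
      have hub : u * b ≠ b * u := by
        intro h
        apply hb
        refine Subgroup.mem_inf.mpr ⟨hbM, ?_⟩
        rw [Subgroup.mem_centralizer_iff]
        intro y hy
        rw [Set.mem_singleton_iff] at hy
        rw [hy]
        exact h
      -- `w = t u t⁻¹` lies in `C* = A`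
      set w := t * u * t⁻¹ with hwdef
      have hconjcomm : ∀ a'' : P, ⁅w, a''⁆ = t * ⁅u, t⁻¹ * a'' * t⁆ * t⁻¹ := by
        intro a''
        rw [hwdef, commutatorElement_def, commutatorElement_def]
        group
      have hwcs : w ∈ cstar Z A := by
        rw [mem_cstar]
        intro a'' ha''
        rw [hconjcomm]
        have h1 : t⁻¹ * a'' * t ∈ M := by
          have := hMconj t⁻¹ a'' (hAM ha'')
          simpa using this
        exact (inferInstance : Z.Normal).conj_mem _ (hstep1 _ h1) t
      rw [hI] at hwcs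
      have h3 : ⁅w, a'⁆ = 1 := by
        rw [commutatorElement_def, hA.comm w hwcs a' ha']
        group
      rw [hconjcomm] at h3
      have h4 : ⁅u, b⁆ = 1 := by
        rwa [conj_eq_one_iff] at h3
      rw [commutatorElement_eq_one_iff_mul_comm] at h4
      exact hub h4
    · -- Case II: `u` is central
      have hx' : x ∈ cstar Z A := hII ▸ hx
      rw [mem_cstar] at hx'
      have h1 : ⁅x, a⁆ ∈ Z := hx' a ha
      have h2 : u ∈ Z := by
        rw [hudef, ← commutatorElement_inv]
        exact Z.inv_mem h1
      exact hne ((Subgroup.mem_center_iff.mp h2 k).symm)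

/-- `[A, N(A)]` centralizes every proper subgroup containing the soft subgroup `A` -/
theorem IsSoft.commutator_central {P : Type u} [Group P] [Finite P] {p : ℕ} [Fact p.Prime]
    (hP : IsPGroup p P) {A : Subgroup P} (hA : IsSoft p A) {K : Subgroup P} (hAK : A ≤ K)
    (hK : K ≠ ⊤) {a x k : P} (ha : a ∈ A) (hx : x ∈ Subgroup.normalizer (A : Set P))
    (hk : k ∈ K) : ⁅a, x⁆ * k = k * ⁅a, x⁆ :=
  central_aux p _ P rfl hP A hA K hAK hK a ha x hx k hk

end Cfsg.Agent.Lib.H19.Soft
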