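import Cfsg.Agent.Lib.H19.SoftCount

/-!
# Soft subgroups: the overgroups form a chain with normalizer steps of index `p`
-/

set_option autoImplicit false
open scoped commutatorElement

universe u

namespace Cfsg.Agent.Lib.H19.Soft
open Cfsg.Agent.Lib.H19

section Tools

variable {P : Type*} [Group P]

theorem le_normalizer_of_conj_mem {X H : Subgroup P}
    (h : ∀ g ∈ X, ∀ a ∈ H, g * a * g⁻¹ ∈ H) : X ≤ Subgroup.normalizer (H : Set P) := by
  intro g hg
  rw [Subgroup.mem_normalizer_iff]
  intro a
  constructor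
  · exact h g hg a
  · intro ha
    have := h g⁻¹ (X.inv_mem hg) _ ha
    simpa [mul_assoc] using this

/-- images of elements of a closure commute as soon as the images of generators do -/
theorem comm_map_closure {Q : Type*} [Group Q] (f : P →* Q) (S : Set P)
    (hS : ∀ s ∈ S, ∀ t ∈ S, f s * f t = f t * f s) :
    ∀ g ∈ Subgroup.closure S, ∀ h ∈ Subgroup.closure S, f g * f h = f h * f g := by
  have step1 : ∀ s ∈ S, ∀ g ∈ Subgroup.closure S, f s * f g = f g * f s := by
    intro s hs g hg
    have hle : Subgroup.closure S ≤ (Subgroup.centralizer {f s}).comap f := by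
      rw [Subgroup.closure_le]
      intro t ht
      rw [SetLike.mem_coe, Subgroup.mem_comap, Subgroup.mem_centralizer_iff]
      intro y hy
      rw [Set.mem_singleton_iff] at hy
      rw [hy]
      exact hS s hs t ht
    have := hle hg
    rw [Subgroup.mem_comap, Subgroup.mem_centralizer_iff] at this
    exact this (f s) rfl
  intro g hg h hh
  have hle : Subgroup.closure S ≤ (Subgroup.centralizer {f g}).comap f := by
    rw [Subgroup.closure_le]
    intro t ht
    rw [SetLike.mem_coe, Subgroup.mem_comap, Subgroup.mem_centralizer_iff]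
    intro y hy
    rw [Set.mem_singleton_iff] at hy
    rw [hy]
    exact (step1 t ht g hg).symm
  have := hle hh
  rw [Subgroup.mem_comap, Subgroup.mem_centralizer_iff] at this
  exact this (f g) rfl

theorem comm_map_sup_zpowers {Q : Type*} [Group Q] (f : P →* Q) (A : Subgroup P) (x : P)
    (hA : ∀ a ∈ A, ∀ b ∈ A, f a * f b = f b * f a) (hx : ∀ a ∈ A, f a * f x = f x * f a) :
    ∀ g ∈ A ⊔ Subgroup.zpowers x, ∀ h ∈ A ⊔ Subgroup.zpowers x, f g * f h = f h * f g := by
  have h1 : A ⊔ Subgroup.zpowers x = Subgroup.closure ((A : Set P) ∪ {x}) := by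
    rw [Subgroup.closure_union, Subgroup.closure_eq, Subgroup.zpowers_eq_closure]
  rw [h1]
  apply comm_map_closure
  intro s hs t ht
  rcases hs with hs | hs <;> rcases ht with ht | ht
  · exact hA s hs t ht
  · rw [Set.mem_singleton_iff] at ht
    rw [ht]
    exact hx s hs
  · rw [Set.mem_singleton_iff] at hs
    rw [hs]
    exact (hx t ht).symm
  · rw [Set.mem_singleton_iff] at hs ht
    rw [hs, ht]

/-- `N = A ⊔ ⟨x⟩` if `|N : A|` is prime and `x ∈ N ∖ A` -/
theorem eq_sup_zpowers {p : ℕ} (hp : p.Prime) {A N : Subgroup P} (hAN : A ≤ N)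
    (h : A.relIndex N = p) {x : P} (hxN : x ∈ N) (hxA : x ∉ A) :
    N = A ⊔ Subgroup.zpowers x := by
  rcases eq_or_eq_of_relIndex_prime hp (le_sup_left : A ≤ A ⊔ Subgroup.zpowers x)
    (sup_le hAN ((Subgroup.zpowers_le).mpr hxN)) h with h1 | h1
  · exfalso
    apply hxA
    rw [← h1]
    exact (le_sup_right : Subgroup.zpowers x ≤ _) (Subgroup.mem_zpowers x)
  · exact h1.symm

end Tools

/-- The preimage `C*` of `C_{P/C}(A/C)`. -/
noncomputable def cstar {P : Type*} [Group P] (C : Subgroup P) [C.Normal] (A : Subgroup P) :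
    Subgroup P :=
  (Subgroup.centralizer ((A.map (QuotientGroup.mk' C) : Subgroup (P ⧸ C)) : Set (P ⧸ C))).comap
    (QuotientGroup.mk' C)

theorem mem_cstar {P : Type*} [Group P] {C : Subgroup P} [C.Normal] {A : Subgroup P} {g : P} :
    g ∈ cstar C A ↔ ∀ h ∈ A, ⁅g, h⁆ ∈ C :=
  mem_comap_centralizer_map C

theorem le_cstar {P : Type*} [Group P] {C : Subgroup P} [C.Normal] {A : Subgroup P}
    (hA : ∀ a ∈ A, ∀ b ∈ A, a * b = b * a) : A ≤ cstar C A := by
  intro a ha
  rw [mem_cstar]
  intro h hh
  have : ⁅a, h⁆ = 1 := by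
    rw [commutatorElement_def, hA a ha h hh]
    group
  rw [this]
  exact C.one_mem

theorem cstar_le_normalizer {P : Type*} [Group P] {C : Subgroup P} [C.Normal] {A : Subgroup P}
    (hCA : C ≤ A) : cstar C A ≤ Subgroup.normalizer (A : Set P) := by
  apply le_normalizer_of_conj_mem
  intro g hg a ha
  rw [mem_cstar] at hg
  have h1 : g * a * g⁻¹ = ⁅g, a⁆ * a := by
    rw [commutatorElement_def]
    group
  rw [h1]
  exact A.mul_mem (hCA (hg a ha)) ha

/-- the image of a soft subgroup in `P ⧸ C` is soft if `C* = A` -/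
theorem isSoft_map_of_cstar_eq {P : Type*} [Group P] {p : ℕ} {C : Subgroup P} [C.Normal]
    {A : Subgroup P} (hA : IsSoft p A) (hCA : C ≤ A) (hcs : cstar C A = A) :
    IsSoft p (A.map (QuotientGroup.mk' C)) := by
  refine ⟨?_, ?_, ?_⟩
  · rintro _ ⟨a, ha, rfl⟩ _ ⟨b, hb, rfl⟩
    rw [← map_mul, ← map_mul, hA.comm a ha b hb]
  · intro x hx
    obtain ⟨g, rfl⟩ := QuotientGroup.mk'_surjective C x
    have hg : g ∈ cstar C A := hx
    rw [hcs] at hg
    exact Subgroup.mem_map_of_mem _ hg
  · rw [normalizer_map_mk C hCA, relIndex_map_mk C hCA (hCA.trans Subgroup.le_normalizer)]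
    exact hA.idx

theorem chain_aux (p : ℕ) [hp : Fact p.Prime] : ∀ n : ℕ, ∀ (P : Type u) [Group P] [Finite P],
    Nat.card P = n → IsPGroup p P → ∀ A : Subgroup P, IsSoft p A →
      (∀ K : Subgroup P, A ≤ K → K ≠ ⊤ →
        K.relIndex (Subgroup.normalizer (K : Set P)) = p) ∧
      (∀ K L : Subgroup P, A ≤ K → A ≤ L → K ≤ L ∨ L ≤ K) := by
  intro n
  induction n using Nat.strong_induction_on with
  | _ n ih =>
    intro P _ _ hn hP A hA
    set N := Subgroup.normalizer (A : Set P) with hNdef
    have hAN : A ≤ N := Subgroup.le_normalizer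
    by_cases hNtop : N = ⊤
    · -- only `A` and `⊤` contain `A`
      have hK : ∀ K : Subgroup P, A ≤ K → K = A ∨ K = ⊤ := by
        intro K hK
        have := eq_or_eq_of_relIndex_prime hp.out hK (hNtop ▸ le_top : K ≤ N) hA.idx
        rwa [hNtop] at this
      constructor
      · intro K hAK hKtop
        rcases hK K hAK with rfl | h
        · exact hA.idx
        · exact absurd h hKtop
      · intro K L hAK hAL
        rcases hK K hAK with rfl | h
        · exact Or.inl hAL
        · right
          rw [h]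
          exact le_top
    -- the quotient by the center
    have hAtop : A ≠ ⊤ := hA.ne_top hp.out
    have : Nontrivial P := by
      by_contra h
      rw [not_nontrivial_iff_subsingleton] at h
      exact hAtop (Subsingleton.elim _ _)
    set Z := Subgroup.center P with hZdef
    have hZA : Z ≤ A := hA.center_le
    have hZbot : Z ≠ ⊥ := by
      have := hP.center_nontrivial
      exact (Subgroup.nontrivial_iff_ne_bot _).mp this
    have hcard : Nat.card (P ⧸ Z) < n := hn ▸ card_quotient_lt Z hZbot
    have hPq : IsPGroup p (P ⧸ Z) := hP.to_quotient Z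
    have hcs1 : A ≤ cstar Z A := le_cstar hA.comm
    have hcs2 : cstar Z A ≤ N := cstar_le_normalizer hZA
    -- transfer from a soft subgroup `B/Z` with `A ≤ B`, where every overgroup of `A` is `A` or
    -- contains `B`
    have transfer : ∀ B : Subgroup P, A ≤ B → IsSoft p (B.map (QuotientGroup.mk' Z)) →
        (∀ K : Subgroup P, A ≤ K → K = A ∨ B ≤ K) →
        (∀ K : Subgroup P, A ≤ K → K ≠ ⊤ →
          K.relIndex (Subgroup.normalizer (K : Set P)) = p) ∧
        (∀ K L : Subgroup P, A ≤ K → A ≤ L → K ≤ L ∨ L ≤ K) := by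
      intro B hAB hB hdich
      obtain ⟨iha, ihb⟩ := ih _ hcard (P ⧸ Z) rfl hPq _ hB
      constructor
      · intro K hAK hKtop
        rcases hdich K hAK with rfl | hBK
        · exact hA.idx
        · have hZK : Z ≤ K := hZA.trans hAK
          have := iha (K.map (QuotientGroup.mk' Z)) (Subgroup.map_mono hBK)
            (by rw [Ne, map_mk_eq_top_iff Z hZK]; exact hKtop)
          rwa [normalizer_map_mk Z hZK,
            relIndex_map_mk Z hZK (hZK.trans Subgroup.le_normalizer)] at this
      · intro K L hAK hAL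
        rcases hdich K hAK with rfl | hBK
        · exact Or.inl hAL
        rcases hdich L hAL with rfl | hBL
        · exact Or.inr hAK
        have hZK : Z ≤ K := hZA.trans hAK
        have hZL : Z ≤ L := hZA.trans hAL
        have := ihb (K.map (QuotientGroup.mk' Z)) (L.map (QuotientGroup.mk' Z))
          (Subgroup.map_mono hBK) (Subgroup.map_mono hBL)
        rwa [map_mk_le_iff Z hZL, map_mk_le_iff Z hZK] at this
    rcases eq_or_eq_of_relIndex_prime hp.out hcs1 hcs2 hA.idx with hI | hII
    · -- Case I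
      exact transfer A le_rfl (isSoft_map_of_cstar_eq hA hZA hI) (fun K _ => Or.inr ‹A ≤ K›)
    · -- Case II
      have hT := relIndex_normalizer_normalizer hP hA hNtop
      obtain ⟨x, hxN, hxA⟩ := SetLike.exists_of_lt (lt_of_le_of_ne hAN (hA.ne_normalizer hp.out))
      have hNsup : N = A ⊔ Subgroup.zpowers x := eq_sup_zpowers hp.out hAN hA.idx hxN hxA
      have hZN : Z ≤ N := hZA.trans hAN
      have hsoft : IsSoft p (N.map (QuotientGroup.mk' Z)) := by
        refine ⟨?_, ?_, ?_⟩
        · rintro _ ⟨a, ha, rfl⟩ _ ⟨b, hb, rfl⟩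
          rw [hNsup] at ha hb
          refine comm_map_sup_zpowers (QuotientGroup.mk' Z) A x ?_ ?_ a ha b hb
          · intro a ha b hb
            rw [← map_mul, ← map_mul, hA.comm a ha b hb]
          · intro a ha
            have hx : x ∈ cstar Z A := hII ▸ hxN
            rw [mem_cstar] at hx
            exact ((mk_comm_iff Z).mpr (hx a ha)).symm
        · intro y hy
          obtain ⟨g, rfl⟩ := QuotientGroup.mk'_surjective Z y
          have hg : ∀ h ∈ N, ⁅g, h⁆ ∈ Z := (mem_comap_centralizer_map Z).mp hy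
          have hg' : g ∈ cstar Z A := mem_cstar.mpr (fun h hh => hg h (hAN hh))
          rw [hII] at hg'
          exact Subgroup.mem_map_of_mem _ hg'
        · rw [normalizer_map_mk Z hZN, relIndex_map_mk Z hZN (hZN.trans Subgroup.le_normalizer)]
          exact hT
      exact transfer N hAN hsoft (fun K hK => hA.eq_or_normalizer_le hP hK)

/-- **Chain theorem** for soft subgroups. -/
theorem IsSoft.relIndex_normalizer {P : Type u} [Group P] [Finite P] {p : ℕ} [Fact p.Prime]
    (hP : IsPGroup p P) {A : Subgroup P} (hA : IsSoft p A) {K : Subgroup P} (hAK : A ≤ K)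
    (hK : K ≠ ⊤) : K.relIndex (Subgroup.normalizer (K : Set P)) = p :=
  (chain_aux p _ P rfl hP A hA).1 K hAK hK

theorem IsSoft.le_or_le {P : Type u} [Group P] [Finite P] {p : ℕ} [Fact p.Prime]
    (hP : IsPGroup p P) {A : Subgroup P} (hA : IsSoft p A) {K L : Subgroup P} (hAK : A ≤ K)
    (hAL : A ≤ L) : K ≤ L ∨ L ≤ K :=
  (chain_aux p _ P rfl hP A hA).2 K L hAK hAL

end Cfsg.Agent.Lib.H19.Soft
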