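import Cfsg.Agent.Lib.H19.SoftCentral
import Mathlib.GroupTheory.Nilpotent

/-!
# Soft subgroups: nilpotency class of the members of the normalizer tower
-/

set_option autoImplicit false
open scoped commutatorElement

universe u

namespace Cfsg.Agent.Lib.H19.Soft
open Cfsg.Agent.Lib.H19

theorem commutator_mem_of_mem_normalizer {P : Type*} [Group P] {A : Subgroup P} {a x : P}
    (ha : a ∈ A) (hx : x ∈ Subgroup.normalizer (A : Set P)) : ⁅a, x⁆ ∈ A := by
  have h1 : ⁅a, x⁆ = a * (x * a⁻¹ * x⁻¹) := by
    rw [commutatorElement_def]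
    group
  rw [h1]
  exact A.mul_mem ha ((Subgroup.mem_normalizer_iff.mp hx a⁻¹).mp (A.inv_mem ha))

/-- generalized `le_cstar`: `B ≤ C*(B)` if `B/C` is abelian -/
theorem le_cstar' {P : Type*} [Group P] {C : Subgroup P} [C.Normal] {B : Subgroup P}
    (hB : ∀ g ∈ B, ∀ h ∈ B, ⁅g, h⁆ ∈ C) : B ≤ cstar C B := by
  intro b hb
  rw [mem_cstar]
  exact hB b hb

/-- **Lower bound**: if `γ_{m+1}(K) = 1` then `|K : A| ≤ p^m`. -/
theorem IsSoft.relIndex_le_of_lowerCentralSeries_eq_bot {P : Type u} [Group P] [Finite P]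
    {p : ℕ} [hp : Fact p.Prime] (hP : IsPGroup p P) {A : Subgroup P} (hA : IsSoft p A)
    {K : Subgroup P} (hAK : A ≤ K) {m : ℕ} (hm : K.lowerCentralSeries (m + 1) = ⊥) :
    A.relIndex K ≤ p ^ m := by
  have hLK : ∀ i, K.lowerCentralSeries i ≤ K := fun i =>
    (Subgroup.lowerCentralSeries_antitone K (Nat.zero_le i))
  have key : ∀ j, j ≤ m → A.relIndex (A ⊔ K.lowerCentralSeries (m - j)) ≤ p ^ j := by
    intro j
    induction j with
    | zero =>
      intro _
      rw [Nat.sub_zero, pow_zero]
      have h1 : K.lowerCentralSeries m ≤ A := by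
        rw [Subgroup.lowerCentralSeries_succ, Subgroup.commutator_eq_bot_iff_le_centralizer] at hm
        exact (hm.trans (Subgroup.centralizer_le (show (A : Set P) ⊆ K from hAK))).trans hA.cent
      rw [sup_eq_left.mpr h1, Subgroup.relIndex_self]
    | succ j ih =>
      intro hj
      have ih' := ih (by omega)
      set H := A ⊔ K.lowerCentralSeries (m - j) with hH
      set H' := A ⊔ K.lowerCentralSeries (m - (j + 1)) with hH'
      have hHK : H ≤ K := sup_le hAK (hLK _)
      have hAH : A ≤ H := le_sup_left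
      have hsucc : m - j = (m - (j + 1)) + 1 := by omega
      have hH'N : H' ≤ Subgroup.normalizer (H : Set P) := by
        rw [hH', sup_le_iff]
        refine ⟨hAH.trans Subgroup.le_normalizer, ?_⟩
        apply le_normalizer_of_conj_mem
        intro g hg h hh
        have h1 : g * h * g⁻¹ = ⁅g, h⁆ * h := by
          rw [commutatorElement_def]
          group
        rw [h1]
        refine H.mul_mem ?_ hh
        have h2 : ⁅g, h⁆ ∈ K.lowerCentralSeries (m - j) := by
          rw [hsucc, Subgroup.lowerCentralSeries_succ]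
          exact Subgroup.commutator_mem_commutator hg (hHK hh)
        exact (le_sup_right : K.lowerCentralSeries (m - j) ≤ H) h2
      by_cases hHtop : H = ⊤
      · have hHH' : H ≤ H' := by
          rw [hH, hH']
          exact sup_le_sup_left (Subgroup.lowerCentralSeries_antitone K (by omega)) A
        have hH'top : H' = ⊤ := top_le_iff.mp (hHtop ▸ hHH')
        rw [hH'top, ← hHtop]
        exact ih'.trans (Nat.pow_le_pow_right hp.out.pos (Nat.le_succ j))
      · have h1 := hA.relIndex_normalizer hP hAH hHtop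
        have h2 := Subgroup.relIndex_mul_relIndex A H (Subgroup.normalizer (H : Set P)) hAH
          Subgroup.le_normalizer
        rw [h1] at h2
        have h3 : A.relIndex H' ≤ A.relIndex (Subgroup.normalizer (H : Set P)) :=
          Subgroup.relIndex_le_of_le_right hH'N
            (Subgroup.index_ne_zero_of_finite (H := A.subgroupOf _))
        rw [← h2] at h3
        rw [pow_succ]
        exact h3.trans (Nat.mul_le_mul_right p ih')
  have := key m le_rfl
  rwa [Nat.sub_self, Subgroup.lowerCentralSeries_zero, sup_eq_right.mpr hAK] at this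


/-- if `γ_j(M) ≤ C ≤ C_P(M)` then `γ_{j+1}(M) = 1` -/
theorem lcs_succ_eq_bot_of_le {P : Type*} [Group P] {M C : Subgroup P} {j : ℕ}
    (h1 : M.lowerCentralSeries j ≤ C) (h2 : C ≤ Subgroup.centralizer (M : Set P)) :
    M.lowerCentralSeries (j + 1) = ⊥ := by
  rw [Subgroup.lowerCentralSeries_succ, Subgroup.commutator_eq_bot_iff_le_centralizer]
  exact h1.trans h2

theorem upper_aux (p : ℕ) [hp : Fact p.Prime] : ∀ n : ℕ, ∀ (P : Type u) [Group P] [Finite P],
    Nat.card P = n → IsPGroup p P → ∀ A : Subgroup P, IsSoft p A →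
      ∀ M : Subgroup P, A ≤ M → M ≠ ⊤ → Subgroup.normalizer (M : Set P) = ⊤ →
        ∀ i : ℕ, A.relIndex M = p ^ i → M.lowerCentralSeries (i + 1) = ⊥ := by
  intro n
  induction n using Nat.strong_induction_on with
  | _ n ih =>
    intro P _ _ hn hP A hA M hAM hMtop hMnorm i hi
    set N := Subgroup.normalizer (A : Set P) with hNdef
    have hAN : A ≤ N := Subgroup.le_normalizer
    by_cases hi0 : i = 0
    · -- `M = A` is abelian
      subst hi0
      rw [pow_zero, Subgroup.relIndex_eq_one] at hi
      have hMA : M = A := le_antisymm hi hAM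
      rw [zero_add, Subgroup.lowerCentralSeries_succ, Subgroup.lowerCentralSeries_zero,
        Subgroup.commutator_eq_bot_iff_le_centralizer, hMA]
      intro a ha
      rw [Subgroup.mem_centralizer_iff]
      intro b hb
      exact hA.comm b hb a ha
    have hAneM : A ≠ M := by
      intro h
      rw [← h, Subgroup.relIndex_self] at hi
      have : 1 < p ^ i := Nat.one_lt_pow hi0 hp.out.one_lt
      omega
    have hNM : N ≤ M := hA.normalizer_le hP (lt_of_le_of_ne hAM hAneM)
    -- the center `C` of `M`
    set C := M ⊓ Subgroup.centralizer (M : Set P) with hCdef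
    have hCnorm : C.Normal := by
      rw [← Subgroup.normalizer_eq_top_iff, eq_top_iff, ← hMnorm]
      exact normalizer_le_normalizer_center M
    have hCM : C ≤ M := inf_le_left
    have hCcent : C ≤ Subgroup.centralizer (M : Set P) := inf_le_right
    have hCA : C ≤ A :=
      (hCcent.trans (Subgroup.centralizer_le (show (A : Set P) ⊆ M from hAM))).trans hA.cent
    have hAtop : A ≠ ⊤ := hA.ne_top hp.out
    have : Nontrivial P := by
      by_contra h
      rw [not_nontrivial_iff_subsingleton] at h
      exact hAtop (Subsingleton.elim _ _)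
    have hZC : Subgroup.center P ≤ C :=
      le_inf (hA.center_le.trans hAM) (Subgroup.center_le_centralizer _)
    have hCbot : C ≠ ⊥ := by
      intro h
      have := hP.center_nontrivial
      have h2 := (Subgroup.nontrivial_iff_ne_bot _).mp this
      exact h2 (le_bot_iff.mp (h ▸ hZC))
    have hcard : Nat.card (P ⧸ C) < n := hn ▸ card_quotient_lt C hCbot
    have hPq : IsPGroup p (P ⧸ C) := hP.to_quotient C
    -- `[A, N] ≤ C`
    have hUC : ∀ a ∈ A, ∀ x ∈ N, ⁅a, x⁆ ∈ C := by
      intro a ha x hx
      refine Subgroup.mem_inf.mpr ⟨hAM (commutator_mem_of_mem_normalizer ha hx), ?_⟩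
      rw [Subgroup.mem_centralizer_iff]
      intro m hm
      exact (hA.commutator_central hP hAM hMtop ha hx hm).symm
    -- the predicate: `H/C` abelian, `A ≤ H ≤ M`
    let q : Subgroup P → Prop := fun H => A ≤ H ∧ H ≤ M ∧ ∀ g ∈ H, ∀ h ∈ H, ⁅g, h⁆ ∈ C
    have comm_of_sup : ∀ (B : Subgroup P) (y : P), (∀ g ∈ B, ∀ h ∈ B, ⁅g, h⁆ ∈ C) →
        (∀ b ∈ B, ⁅b, y⁆ ∈ C) →
        ∀ g ∈ B ⊔ Subgroup.zpowers y, ∀ h ∈ B ⊔ Subgroup.zpowers y, ⁅g, h⁆ ∈ C := by
      intro B y hB hy g hg h hh
      rw [← mk_comm_iff C]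
      refine comm_map_sup_zpowers (QuotientGroup.mk' C) B y ?_ ?_ g hg h hh
      · intro a ha b hb
        exact (mk_comm_iff C).mpr (hB a ha b hb)
      · intro a ha
        exact (mk_comm_iff C).mpr (hy a ha)
    have hqN : q N := by
      refine ⟨hAN, hNM, ?_⟩
      obtain ⟨x, hxN, hxA⟩ := SetLike.exists_of_lt (lt_of_le_of_ne hAN (hA.ne_normalizer hp.out))
      have hNsup : N = A ⊔ Subgroup.zpowers x := eq_sup_zpowers hp.out hAN hA.idx hxN hxA
      rw [hNsup]
      apply comm_of_sup
      · intro g hg h hh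
        have : ⁅g, h⁆ = 1 := by
          rw [commutatorElement_def, hA.comm g hg h hh]
          group
        rw [this]
        exact C.one_mem
      · intro b hb
        exact hUC b hb x hxN
    obtain ⟨B, hNB, hBmax⟩ := Finite.exists_le_maximal (p := q) hqN
    obtain ⟨hAB, hBM, hBcomm⟩ := hBmax.1
    have hCB : C ≤ B := hCA.trans hAB
    by_cases hBeqM : B = M
    · -- `M/C` abelian: class at most 2
      have h1 : M.lowerCentralSeries 1 ≤ C := by
        rw [Subgroup.lowerCentralSeries_succ, Subgroup.lowerCentralSeries_zero,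
          Subgroup.commutator_le]
        intro g hg h hh
        exact hBcomm g (hBeqM ▸ hg) h (hBeqM ▸ hh)
      have h2 := lcs_succ_eq_bot_of_le h1 hCcent
      rw [eq_bot_iff, ← h2]
      exact Subgroup.lowerCentralSeries_antitone M (by omega)
    -- `B < M`
    have hBtop : B ≠ ⊤ := fun h => hBeqM (le_antisymm hBM (h ▸ le_top))
    set TB := Subgroup.normalizer (B : Set P) with hTBdef
    have hBTB : B ≤ TB := Subgroup.le_normalizer
    have hTBidx : B.relIndex TB = p := hA.relIndex_normalizer hP hAB hBtop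
    have hBneTB : B ≠ TB := by
      intro h
      rw [← h, Subgroup.relIndex_self] at hTBidx
      exact hp.out.one_lt.ne hTBidx
    have hTBM : TB ≤ M := by
      rcases hA.le_or_le hP (hAB.trans hBTB) hAM with h | h
      · exact h
      · rcases eq_or_eq_of_relIndex_prime hp.out hBM h hTBidx with h1 | h1
        · exact absurd h1.symm hBeqM
        · exact h1.symm.le
    have hnotq : ¬ (∀ g ∈ TB, ∀ h ∈ TB, ⁅g, h⁆ ∈ C) := by
      intro h
      have h1 : q TB := ⟨hAB.trans hBTB, hTBM, h⟩
      exact hBneTB (le_antisymm hBTB (hBmax.2 h1 hBTB))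
    -- `B/C` is soft
    have hcsB : cstar C B = B := by
      rcases eq_or_eq_of_relIndex_prime hp.out (le_cstar' hBcomm) (cstar_le_normalizer hCB)
        hTBidx with h | h
      · exact h
      · exfalso
        apply hnotq
        obtain ⟨y, hyT, hyB⟩ := SetLike.exists_of_lt (lt_of_le_of_ne hBTB hBneTB)
        have hsup : TB = B ⊔ Subgroup.zpowers y := eq_sup_zpowers hp.out hBTB hTBidx hyT hyB
        rw [hsup]
        apply comm_of_sup B y hBcomm
        intro b hb
        have hy : y ∈ cstar C B := h ▸ hyT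
        rw [mem_cstar] at hy
        rw [← commutatorElement_inv]
        exact C.inv_mem (hy b hb)
    have hsoft : IsSoft p (B.map (QuotientGroup.mk' C)) := by
      refine ⟨?_, ?_, ?_⟩
      · rintro _ ⟨a, ha, rfl⟩ _ ⟨b, hb, rfl⟩
        exact (mk_comm_iff C).mpr (hBcomm a ha b hb)
      · intro y hy
        obtain ⟨g, rfl⟩ := QuotientGroup.mk'_surjective C y
        have hg : g ∈ cstar C B := hy
        rw [hcsB] at hg
        exact Subgroup.mem_map_of_mem _ hg
      · rw [normalizer_map_mk C hCB, relIndex_map_mk C hCB (hCB.trans Subgroup.le_normalizer)]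
        exact hTBidx
    -- the index of `B` in `M`
    obtain ⟨i', hi'⟩ := (hP.to_subgroup M).index (B.subgroupOf M)
    change B.relIndex M = p ^ i' at hi'
    have hlt : i' < i := by
      have h1 := Subgroup.relIndex_mul_relIndex A B M hAB hBM
      rw [hi, hi'] at h1
      have h2 : A.relIndex B ≠ 1 := by
        intro h
        rw [Subgroup.relIndex_eq_one] at h
        exact hA.ne_normalizer hp.out (le_antisymm hAN (hNB.trans h))
      have h3 : A.relIndex B ∣ p ^ i := Dvd.intro _ h1
      obtain ⟨j, -, hj⟩ := (Nat.dvd_prime_pow hp.out).mp h3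
      rw [hj] at h1 h2
      have hj0 : j ≠ 0 := by
        intro h
        rw [h, pow_zero] at h2
        exact h2 rfl
      rw [← pow_add] at h1
      have := Nat.pow_right_injective hp.out.two_le h1
      omega
    have hCMle : C ≤ M := hCM
    have IH := ih _ hcard (P ⧸ C) rfl hPq _ hsoft (M.map (QuotientGroup.mk' C))
      (Subgroup.map_mono hBM) (by rw [Ne, map_mk_eq_top_iff C hCMle]; exact hMtop)
      (by
        rw [normalizer_map_mk C hCMle, hMnorm, ← MonoidHom.range_eq_map, MonoidHom.range_eq_top]
        exact QuotientGroup.mk'_surjective C)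
      i' (by rw [relIndex_map_mk C hCB hCMle]; exact hi')
    rw [← Subgroup.map_lowerCentralSeries, Subgroup.map_eq_bot_iff, QuotientGroup.ker_mk'] at IH
    have h2 := lcs_succ_eq_bot_of_le IH hCcent
    rw [eq_bot_iff, ← h2]
    exact Subgroup.lowerCentralSeries_antitone M (by omega)

/-- **Upper bound**: a normal proper subgroup `M ⊇ A` with `|M : A| = p^i` has class `≤ i + 1`. -/
theorem IsSoft.lowerCentralSeries_eq_bot {P : Type u} [Group P] [Finite P] {p : ℕ} [Fact p.Prime]
    (hP : IsPGroup p P) {A : Subgroup P} (hA : IsSoft p A) {M : Subgroup P} (hAM : A ≤ M)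
    (hM : M ≠ ⊤) (hMn : Subgroup.normalizer (M : Set P) = ⊤) {i : ℕ}
    (hi : A.relIndex M = p ^ i) : M.lowerCentralSeries (i + 1) = ⊥ :=
  upper_aux p _ P rfl hP A hA M hAM hM hMn i hi

end Cfsg.Agent.Lib.H19.Soft
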