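import Cfsg.Agent.Lib.H19.SoftBasic
import Mathlib.Algebra.Order.BigOperators.Group.Finset
import Mathlib.GroupTheory.Index

/-!
# Soft subgroups: `|N(N(A)) : N(A)| = p`

Counting argument: the `N(N(A))`-conjugates of `A` are abelian maximal subgroups of `N(A)`
pairwise meeting in `Z(N(A))`.
-/

set_option autoImplicit false
open scoped commutatorElement

namespace Cfsg.Agent.Lib.H19.Soft
open Cfsg.Agent.Lib.H19

variable {P : Type*} [Group P]

/-- the finset of elements of a subgroup -/
noncomputable def elems [Fintype P] (H : Subgroup P) : Finset P :=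
  open Classical in Finset.univ.filter (· ∈ H)

theorem mem_elems [Fintype P] {H : Subgroup P} {x : P} : x ∈ elems H ↔ x ∈ H := by
  classical
  simp [elems]

theorem card_elems [Fintype P] (H : Subgroup P) : (elems H).card = Nat.card H := by
  classical
  rw [elems, Nat.card_eq_fintype_card, Fintype.card_subtype]

/-- disjoint union bound: subgroups `B` of a common order `c` with `Z ≤ B ≤ N`, pairwise meeting
inside `Z`. -/
theorem card_union_bound [Finite P] (Z N : Subgroup P) (hZN : Z ≤ N) (c : ℕ)
    (S : Finset (Subgroup P)) (hS : ∀ B ∈ S, Z ≤ B ∧ B ≤ N ∧ Nat.card B = c)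
    (hpair : ∀ B ∈ S, ∀ B' ∈ S, B ≠ B' → B ⊓ B' ≤ Z) :
    S.card * (c - Nat.card Z) + Nat.card Z ≤ Nat.card N := by
  classical
  have : Fintype P := Fintype.ofFinite P
  have hdisj : (S : Set (Subgroup P)).PairwiseDisjoint (fun B => elems B \ elems Z) := by
    intro B hB B' hB' hne
    rw [Function.onFun, Finset.disjoint_left]
    intro x hx hx'
    rw [Finset.mem_sdiff, mem_elems, mem_elems] at hx hx'
    exact hx.2 (hpair B hB B' hB' hne (Subgroup.mem_inf.mpr ⟨hx.1, hx'.1⟩))
  have h1 := Finset.card_biUnion hdisj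
  have h2 : ∀ B ∈ S, (elems B \ elems Z).card = c - Nat.card Z := by
    intro B hB
    obtain ⟨hZB, -, hc⟩ := hS B hB
    rw [Finset.card_sdiff_of_subset, card_elems, card_elems, hc]
    intro x hx
    rw [mem_elems] at hx ⊢
    exact hZB hx
  rw [Finset.sum_congr rfl h2, Finset.sum_const, smul_eq_mul] at h1
  have h3 : (S.biUnion fun B => elems B \ elems Z) ⊆ elems N \ elems Z := by
    intro x hx
    rw [Finset.mem_biUnion] at hx
    obtain ⟨B, hB, hx⟩ := hx
    rw [Finset.mem_sdiff, mem_elems, mem_elems] at hx ⊢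
    exact ⟨(hS B hB).2.1 hx.1, hx.2⟩
  have h4 := Finset.card_le_card h3
  rw [h1, Finset.card_sdiff_of_subset, card_elems, card_elems] at h4
  · have h5 : Nat.card Z ≤ Nat.card N := Subgroup.card_le_of_le hZN
    omega
  · intro x hx
    rw [mem_elems] at hx ⊢
    exact hZN hx

/-- the finset of `T`-conjugates of `A` -/
noncomputable def conjs [Fintype P] (T A : Subgroup P) : Finset (Subgroup P) :=
  open Classical in
  (Finset.univ : Finset ↥T).image (fun t : ↥T => A.map (MulAut.conj (t : P)).toMonoidHom)

theorem mem_conjs [Fintype P] {T A B : Subgroup P} :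
    B ∈ conjs T A ↔ ∃ t ∈ T, B = A.map (MulAut.conj t).toMonoidHom := by
  classical
  rw [conjs, Finset.mem_image]
  constructor
  · rintro ⟨⟨t, ht⟩, -, rfl⟩
    exact ⟨t, ht, rfl⟩
  · rintro ⟨t, ht, rfl⟩
    exact ⟨⟨t, ht⟩, Finset.mem_univ _, rfl⟩

/-- orbit-stabilizer inequality for the conjugates of `A` under `T` -/
theorem card_le_card_mul_conjs [Fintype P] (T A : Subgroup P) :
    Nat.card T ≤ Nat.card ↥(T ⊓ Subgroup.normalizer (A : Set P)) * (conjs T A).card := by
  classical
  have h1 := Finset.card_le_mul_card_image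
    (f := fun t : ↥T => A.map (MulAut.conj (t : P)).toMonoidHom) Finset.univ
    (Nat.card ↥(T ⊓ Subgroup.normalizer (A : Set P))) ?_
  · rw [Finset.card_univ, ← Nat.card_eq_fintype_card] at h1
    unfold conjs
    convert h1
  · intro b hb
    obtain ⟨t₀, -, rfl⟩ := Finset.mem_image.mp hb
    rw [← card_elems]
    apply Finset.card_le_card_of_injOn (fun t : ↥T => (t₀ : P)⁻¹ * (t : P))
    · intro t ht
      rw [Finset.mem_coe, Finset.mem_filter] at ht
      rw [Finset.mem_coe, mem_elems, Subgroup.mem_inf]
      refine ⟨T.mul_mem (T.inv_mem t₀.2) t.2, ?_⟩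
      rw [mem_normalizer_iff_map_conj, map_conj_mul, ht.2, ← map_conj_mul, inv_mul_cancel,
        map_conj_one]
    · intro t _ t' _ h
      have h2 : (t : P) = (t' : P) := mul_left_cancel h
      exact Subtype.ext h2

/-- conjugates of an abelian subgroup are abelian -/
theorem comm_map_conj {A : Subgroup P} (hA : ∀ a ∈ A, ∀ b ∈ A, a * b = b * a) (t : P) :
    ∀ a ∈ A.map (MulAut.conj t).toMonoidHom, ∀ b ∈ A.map (MulAut.conj t).toMonoidHom,
      a * b = b * a := by
  rintro _ ⟨a, ha, rfl⟩ _ ⟨b, hb, rfl⟩
  rw [← map_mul, ← map_mul, hA a ha b hb]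

/-- the "center" of a subgroup is normalized by its normalizer -/
theorem normalizer_le_normalizer_center (N : Subgroup P) :
    Subgroup.normalizer (N : Set P) ≤
      Subgroup.normalizer ((N ⊓ Subgroup.centralizer (N : Set P) : Subgroup P) : Set P) := by
  have key : ∀ t ∈ Subgroup.normalizer (N : Set P), ∀ z ∈ N ⊓ Subgroup.centralizer (N : Set P),
      t * z * t⁻¹ ∈ N ⊓ Subgroup.centralizer (N : Set P) := by
    intro t ht z hz
    rw [Subgroup.mem_inf] at hz ⊢
    refine ⟨(Subgroup.mem_normalizer_iff.mp ht z).mp hz.1, ?_⟩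
    rw [Subgroup.mem_centralizer_iff]
    intro n hn
    have hn' : t⁻¹ * n * t ∈ N := by
      have := (Subgroup.mem_normalizer_iff.mp (Subgroup.inv_mem _ ht) n).mp hn
      simpa using this
    have h1 := (Subgroup.mem_centralizer_iff.mp hz.2) _ hn'
    calc n * (t * z * t⁻¹) = t * ((t⁻¹ * n * t) * z) * t⁻¹ := by group
      _ = t * (z * (t⁻¹ * n * t)) * t⁻¹ := by rw [h1]
      _ = t * z * t⁻¹ * n := by group
  intro t ht
  rw [Subgroup.mem_normalizer_iff]
  intro z
  constructor
  · exact key t ht z
  · intro hz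
    have := key t⁻¹ (Subgroup.inv_mem _ ht) _ hz
    simpa [mul_assoc] using this

/-- `|N(N(A)) : N(A)| = p` for a soft subgroup `A` with `N(A) ≠ P` -/
theorem relIndex_normalizer_normalizer [Finite P] {p : ℕ} [hp : Fact p.Prime] (hP : IsPGroup p P)
    {A : Subgroup P} (hA : IsSoft p A) (hN : Subgroup.normalizer (A : Set P) ≠ ⊤) :
    (Subgroup.normalizer (A : Set P)).relIndex
      (Subgroup.normalizer ((Subgroup.normalizer (A : Set P) : Subgroup P) : Set P)) = p := by
  classical
  have : Fintype P := Fintype.ofFinite P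
  set N := Subgroup.normalizer (A : Set P) with hNdef
  set T := Subgroup.normalizer (N : Set P) with hTdef
  have hAN : A ≤ N := Subgroup.le_normalizer
  have hNT : N ≤ T := Subgroup.le_normalizer
  have hp2 : 2 ≤ p := hp.out.two_le
  -- `N < T`
  obtain ⟨g, -, hgT, hgN⟩ := exists_mem_normalizer_not_mem (p := p) (hP.to_subgroup ⊤)
    (lt_top_iff_ne_top.mpr hN)
  -- the index is a power of `p`
  obtain ⟨e, he⟩ := (hP.to_subgroup T).index (N.subgroupOf T)
  change N.relIndex T = p ^ e at he
  have he0 : e ≠ 0 := by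
    intro h0
    rw [h0, pow_zero, Subgroup.relIndex_eq_one] at he
    exact hgN (he hgT)
  -- the center of `N`
  set Z := N ⊓ Subgroup.centralizer (N : Set P) with hZdef
  have hZA : Z ≤ A :=
    (inf_le_right.trans (Subgroup.centralizer_le (show (A : Set P) ⊆ N from hAN))).trans hA.cent
  have hZne : Z ≠ A := by
    intro h
    have h1 : A ≤ Subgroup.centralizer (N : Set P) := h ▸ inf_le_right
    have h2 : N ≤ A := (Subgroup.le_centralizer_iff.mp h1).trans hA.cent
    exact hA.ne_normalizer hp.out (le_antisymm hAN h2)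
  have hTZ : T ≤ Subgroup.normalizer (Z : Set P) := normalizer_le_normalizer_center N
  -- facts on conjugates
  have hconj : ∀ t ∈ T, Z ≤ A.map (MulAut.conj t).toMonoidHom ∧
      A.map (MulAut.conj t).toMonoidHom ≤ N ∧
      Nat.card ↥(A.map (MulAut.conj t).toMonoidHom) = Nat.card A ∧
      (A.map (MulAut.conj t).toMonoidHom).relIndex N = p := by
    intro t ht
    have hNt : N.map (MulAut.conj t).toMonoidHom = N := mem_normalizer_iff_map_conj.mp ht
    have hZt : Z.map (MulAut.conj t).toMonoidHom = Z := mem_normalizer_iff_map_conj.mp (hTZ ht)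
    refine ⟨?_, ?_, ?_, ?_⟩
    · rw [← hZt]
      exact Subgroup.map_mono hZA
    · rw [← hNt]
      exact Subgroup.map_mono hAN
    · exact Subgroup.card_map_of_injective (MulAut.conj t).injective
    · have := Subgroup.relIndex_map_map_of_injective A N
        (f := (MulAut.conj t).toMonoidHom) (MulAut.conj t).injective
      rw [hNt] at this
      rw [this]
      exact hA.idx
  -- the union bound
  have hDU := card_union_bound Z N (hZA.trans hAN) (Nat.card A) (conjs T A)
    (by
      intro B hB
      obtain ⟨t, ht, rfl⟩ := mem_conjs.mp hB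
      exact ⟨(hconj t ht).1, (hconj t ht).2.1, (hconj t ht).2.2.1⟩)
    (by
      intro B hB B' hB' hne
      obtain ⟨t, ht, rfl⟩ := mem_conjs.mp hB
      obtain ⟨t', ht', rfl⟩ := mem_conjs.mp hB'
      set B := A.map (MulAut.conj t).toMonoidHom
      set B' := A.map (MulAut.conj t').toMonoidHom
      have hsup : B ⊔ B' = N := by
        rcases eq_or_eq_of_relIndex_prime hp.out (le_sup_left : B ≤ B ⊔ B')
          (sup_le (hconj t ht).2.1 (hconj t' ht').2.1) (hconj t ht).2.2.2 with h | h
        · exfalso
          have h1 : B' ≤ B := h ▸ le_sup_right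
          have h2 : Nat.card B ≤ Nat.card B' := by
            rw [(hconj t ht).2.2.1, (hconj t' ht').2.2.1]
          exact hne (Subgroup.eq_of_le_of_card_ge h1 h2).symm
        · exact h
      intro x hx
      rw [Subgroup.mem_inf] at hx
      refine Subgroup.mem_inf.mpr ⟨(hconj t ht).2.1 hx.1, ?_⟩
      have h3 : B ⊔ B' ≤ Subgroup.centralizer ({x} : Set P) := by
        rw [sup_le_iff]
        constructor
        · intro b hb
          rw [Subgroup.mem_centralizer_iff]
          intro y hy
          rw [Set.mem_singleton_iff] at hy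
          rw [hy]
          exact comm_map_conj hA.comm t x hx.1 b hb
        · intro b hb
          rw [Subgroup.mem_centralizer_iff]
          intro y hy
          rw [Set.mem_singleton_iff] at hy
          rw [hy]
          exact comm_map_conj hA.comm t' x hx.2 b hb
      rw [hsup] at h3
      rw [Subgroup.mem_centralizer_iff]
      intro n hn
      have := Subgroup.mem_centralizer_iff.mp (h3 hn) x (Set.mem_singleton x)
      exact this.symm)
  -- the orbit bound
  have hORB := card_le_card_mul_conjs T A
  have hTN : T ⊓ Subgroup.normalizer (A : Set P) = N := inf_eq_right.mpr hNT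
  rw [hTN] at hORB
  have hcT : Nat.card N * p ^ e = Nat.card T := by
    rw [← he]
    exact card_mul_relIndex hNT
  have hcN : Nat.card A * p = Nat.card N := by
    have := card_mul_relIndex hAN
    rwa [hA.idx] at this
  have hNpos : 0 < Nat.card N := Nat.card_pos
  have hZpos : 0 < Nat.card Z := Nat.card_pos
  have hle : p ^ e ≤ (conjs T A).card := by
    rw [← hcT] at hORB
    exact Nat.le_of_mul_le_mul_left hORB hNpos
  -- `2 |Z| ≤ |A|`
  have h2Z : 2 * Nat.card Z ≤ Nat.card A := by
    obtain ⟨k, hk⟩ := Subgroup.card_dvd_of_le hZA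
    have hlt : Nat.card Z < Nat.card A := card_lt_of_lt (lt_of_le_of_ne hZA hZne)
    have hk2 : 2 ≤ k := by
      by_contra hk2
      have : k = 0 ∨ k = 1 := by omega
      rcases this with h | h
      · rw [h, mul_zero] at hk
        omega
      · rw [h, mul_one] at hk
        omega
    rw [hk]
    nlinarith
  -- conclude
  by_contra hne
  have he2 : 2 ≤ e := by
    by_contra h
    have : e = 1 := by omega
    rw [this, pow_one] at he
    exact hne he
  have hp2e : p ^ 2 ≤ p ^ e := Nat.pow_le_pow_right hp.out.pos he2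
  have hS : p ^ 2 ≤ (conjs T A).card := hp2e.trans hle
  obtain ⟨d, hd⟩ : ∃ d, Nat.card A = d + Nat.card Z := ⟨Nat.card A - Nat.card Z, by omega⟩
  rw [hd, Nat.add_sub_cancel] at hDU
  have h5 : p ^ 2 * d ≤ (conjs T A).card * d := Nat.mul_le_mul_right d hS
  have hdz : Nat.card Z ≤ d := by omega
  rw [← hcN, hd] at hDU
  nlinarith
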