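import Mathlib
import Cfsg.Agent.Lib.H19.NilCoverCrit

set_option autoImplicit false

/-!
# Symmetric and alternating groups have no nilpotent minimal cover
-/

namespace Cfsg.Agent.Lib.H19.SymCover

open Equiv Cfsg.Agent.Lib.H19.NilCoverCrit

theorem factorization_factorial_prime {q n : ℕ} (hq : q.Prime) (h1 : q ≤ n) (h2 : n < 2 * q) :
    (n.factorial).factorization q = 1 := by
  have hlog : Nat.log q n < 2 := by
    apply Nat.log_lt_of_lt_pow (by omega)
    have : 2 * q ≤ q ^ 2 := by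
      have := hq.two_le
      nlinarith
    omega
  rw [Nat.factorization_factorial hq hlog]
  have : Finset.Ico 1 2 = {1} := by decide
  rw [this, Finset.sum_singleton, pow_one]
  apply Nat.div_eq_of_lt_le <;> omega

theorem center_perm_eq_bot (n : ℕ) (hn : 3 ≤ n) : Subgroup.center (Perm (Fin n)) = ⊥ := by
  rw [eq_bot_iff]
  intro g hg
  rw [Subgroup.mem_bot]
  ext x
  by_contra hne
  -- g x ≠ x; pick z ∉ {x, g x}
  have hne' : g x ≠ x := fun h => hne (by simp [h])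
  obtain ⟨z, hzx, hzy⟩ : ∃ z : Fin n, z ≠ x ∧ z ≠ g x := by
    by_contra hno
    push Not at hno
    have hsub : (Finset.univ : Finset (Fin n)) ⊆ {x, g x} := by
      intro z _
      by_cases hz : z = x
      · simp [hz]
      · simp [hno z hz]
    have := Finset.card_le_card hsub
    have h2 : ({x, g x} : Finset (Fin n)).card ≤ 2 := Finset.card_le_two
    simp at this
    omega
  have hc := (Subgroup.mem_center_iff.mp hg) (swap (g x) z)
  have := congrArg (fun f : Perm (Fin n) => f x) hc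
  simp only [Perm.mul_apply] at this
  rw [swap_apply_left, swap_apply_of_ne_of_ne hne'.symm hzx.symm] at this
  exact hzy this

variable {n : ℕ}

theorem cr_val (i x : Fin n) : ((Fin.cycleRange i x : Fin n) : ℕ) =
    if (x : ℕ) < i then (x : ℕ) + 1 else if (x : ℕ) = i then 0 else x := by
  rcases lt_trichotomy x i with h | h | h
  · rw [Fin.coe_cycleRange_of_lt h, if_pos (Fin.lt_def.mp h)]
  · subst h
    rw [Fin.coe_cycleRange_of_le le_rfl]
    simp
  · rw [Fin.cycleRange_of_gt h]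
    have := Fin.lt_def.mp h
    rw [if_neg (by omega), if_neg (by omega)]

/-- the `q`-cycle `(0 1 … q-1)` -/
def sg (n q : ℕ) (hq : 0 < q ∧ q ≤ n) : Perm (Fin n) := Fin.cycleRange ⟨q - 1, by omega⟩

theorem sg_val {q : ℕ} (hq : 0 < q ∧ q ≤ n) (x : Fin n) : ((sg n q hq x : Fin n) : ℕ) =
    if (x : ℕ) < q - 1 then (x : ℕ) + 1 else if (x : ℕ) = q - 1 then 0 else x := by
  rw [sg, cr_val]

theorem sg_fixed_iff {q : ℕ} (hq : 2 ≤ q ∧ q ≤ n) (x : Fin n) :
    sg n q ⟨by omega, hq.2⟩ x = x ↔ q ≤ (x : ℕ) := by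
  rw [Fin.ext_iff, sg_val]
  split_ifs <;> omega

/-- the 3-cycle `(0 1 2)` -/
def ta (n : ℕ) (hn : 3 ≤ n) : Perm (Fin n) := Fin.cycleRange ⟨2, by omega⟩

theorem ta_val (hn : 3 ≤ n) (x : Fin n) : ((ta n hn x : Fin n) : ℕ) =
    if (x : ℕ) < 2 then (x : ℕ) + 1 else if (x : ℕ) = 2 then 0 else x := by
  rw [ta, cr_val]

theorem sg_pow_zero {q : ℕ} (hq : 0 < q ∧ q ≤ n) (k : ℕ) (hk : k < q) :
    (((sg n q hq) ^ k) ⟨0, by omega⟩ : ℕ) = k := by
  induction k with
  | zero => simp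
  | succ k ih =>
    rw [pow_succ', Perm.mul_apply, sg_val, ih (by omega)]
    rw [if_pos (by omega)]

theorem orderOf_sg {q : ℕ} (hq : 2 ≤ q ∧ q ≤ n) : orderOf (sg n q ⟨by omega, hq.2⟩) = q := by
  have : NeZero n := ⟨by omega⟩
  rw [← Perm.lcm_cycleType, sg, Fin.cycleType_cycleRange]
  · simp
    omega
  · intro h0
    have := congrArg Fin.val h0
    simp at this
    omega

theorem conj_not_mem {q : ℕ} (hq : 5 ≤ q ∧ q ≤ n) :
    ta n (by omega) * sg n q ⟨by omega, hq.2⟩ * (ta n (by omega))⁻¹ ∉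
      Subgroup.zpowers (sg n q ⟨by omega, hq.2⟩) := by
  intro hmem
  classical
  rw [(isOfFinOrder_of_finite _).mem_zpowers_iff_mem_range_orderOf, orderOf_sg ⟨by omega, hq.2⟩]
    at hmem
  obtain ⟨k, hk, hkeq⟩ := Finset.mem_image.mp hmem
  rw [Finset.mem_range] at hk
  have hq' : 0 < q ∧ q ≤ n := ⟨by omega, hq.2⟩
  have hn3 : 3 ≤ n := by omega
  -- inverse images
  have hinv0 : (ta n hn3)⁻¹ ⟨0, by omega⟩ = ⟨2, by omega⟩ := by
    rw [Perm.inv_eq_iff_eq, Fin.ext_iff, ta_val]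
    simp
  have hinv1 : (ta n hn3)⁻¹ ⟨1, by omega⟩ = ⟨0, by omega⟩ := by
    rw [Perm.inv_eq_iff_eq, Fin.ext_iff, ta_val]
    simp
  -- evaluate at 0
  have e0 := congrArg (fun f : Perm (Fin n) => ((f ⟨0, by omega⟩ : Fin n) : ℕ)) hkeq
  simp only [Perm.mul_apply] at e0
  rw [sg_pow_zero hq' k hk, hinv0, ta_val, sg_val] at e0
  simp only [] at e0
  rw [if_pos (by omega : 2 < q - 1)] at e0
  simp at e0
  -- k = 3
  subst e0
  have e1 := congrArg (fun f : Perm (Fin n) => ((f ⟨1, by omega⟩ : Fin n) : ℕ)) hkeq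
  simp only [Perm.mul_apply] at e1
  rw [hinv1, ta_val, sg_val] at e1
  simp only [] at e1
  rw [if_pos (by omega : 0 < q - 1)] at e1
  simp at e1
  have h3 : (((sg n q hq') ^ 3) ⟨1, by omega⟩ : ℕ) = 4 := by
    rw [pow_succ', pow_succ', pow_one, Perm.mul_apply, Perm.mul_apply, sg_val, sg_val, sg_val]
    simp only []
    rw [if_pos (by omega : 1 < q - 1), if_pos (by omega : 1 + 1 < q - 1),
      if_pos (by omega : 1 + 1 + 1 < q - 1)]
  rw [h3] at e1
  omega


theorem sign_sg {q : ℕ} (hq : 0 < q ∧ q ≤ n) (hodd : Odd q) : Perm.sign (sg n q hq) = 1 := by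
  rw [sg, Fin.sign_cycleRange]
  simp only
  obtain ⟨m, hm⟩ := hodd
  have : q - 1 = 2 * m := by omega
  rw [this, pow_mul]
  simp

theorem sign_ta (hn : 3 ≤ n) : Perm.sign (ta n hn) = 1 := by
  rw [ta, Fin.sign_cycleRange]
  simp

/-- permutations preserving the fixed-point set of `s` -/
def fixStab (s : Perm (Fin n)) : Subgroup (Perm (Fin n)) where
  carrier := {g | ∀ x, s x = x ↔ s (g x) = g x}
  one_mem' := by intro x; simp
  mul_mem' := by
    intro a b ha hb x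
    rw [Perm.mul_apply]
    exact (hb x).trans (ha (b x))
  inv_mem' := by
    intro a ha x
    have := ha (a⁻¹ x)
    simp at this
    exact this.symm

theorem mem_fixStab {s g : Perm (Fin n)} : g ∈ fixStab s ↔ ∀ x, s x = x ↔ s (g x) = g x :=
  Iff.rfl

theorem centralizer_le_fixStab (s : Perm (Fin n)) : Subgroup.centralizer {s} ≤ fixStab s := by
  intro g hg
  rw [Subgroup.mem_centralizer_singleton_iff] at hg
  rw [mem_fixStab]
  intro x
  have h1 : g (s x) = s (g x) := by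
    have := congrArg (fun f : Perm (Fin n) => f x) hg
    simpa [Perm.mul_apply] using this
  constructor
  · intro hx
    rw [← h1, hx]
  · intro hx
    rw [← h1] at hx
    exact g.injective hx

theorem ta_mem_fixStab {q : ℕ} (hq : 3 ≤ q ∧ q ≤ n) :
    ta n (by omega) ∈ fixStab (sg n q ⟨by omega, hq.2⟩) := by
  rw [mem_fixStab]
  intro x
  rw [sg_fixed_iff ⟨by omega, hq.2⟩, sg_fixed_iff ⟨by omega, hq.2⟩, ta_val]
  split_ifs <;> omega

/-- an even permutation outside `fixStab` -/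
def mv (n q : ℕ) (hq : 3 ≤ q ∧ q < n) : Perm (Fin n) :=
  swap ⟨0, by omega⟩ ⟨q, hq.2⟩ * swap ⟨1, by omega⟩ ⟨2, by omega⟩

theorem mv_not_mem {q : ℕ} (hq : 3 ≤ q ∧ q < n) :
    mv n q hq ∉ fixStab (sg n q ⟨by omega, hq.2.le⟩) := by
  intro hmem
  rw [mem_fixStab] at hmem
  have h1 := (hmem ⟨q, hq.2⟩).mp ((sg_fixed_iff ⟨by omega, hq.2.le⟩ _).mpr le_rfl)
  rw [sg_fixed_iff ⟨by omega, hq.2.le⟩] at h1
  have h2 : mv n q hq ⟨q, hq.2⟩ = ⟨0, by omega⟩ := by
    have hin : swap (⟨1, by omega⟩ : Fin n) ⟨2, by omega⟩ ⟨q, hq.2⟩ = ⟨q, hq.2⟩ := by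
      apply swap_apply_of_ne_of_ne
      · intro h; have := congrArg Fin.val h; simp at this; omega
      · intro h; have := congrArg Fin.val h; simp at this; omega
    rw [mv, Perm.mul_apply, hin, swap_apply_right]
  rw [h2] at h1
  simp at h1
  omega

theorem sign_mv {q : ℕ} (hq : 3 ≤ q ∧ q < n) : Perm.sign (mv n q hq) = 1 := by
  rw [mv, map_mul, Perm.sign_swap, Perm.sign_swap]
  · simp
  · intro h; have := congrArg Fin.val h; simp at this
  · intro h; have := congrArg Fin.val h; simp at this; omega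


/-! ### cardinalities -/

theorem card_perm_factorization {q : ℕ} (hq : q.Prime) (h1 : q ≤ n) (h2 : n < 2 * q) :
    (Nat.card (Perm (Fin n))).factorization q = 1 := by
  rw [Nat.card_perm, Nat.card_eq_fintype_card, Fintype.card_fin]
  exact factorization_factorial_prime hq h1 h2

theorem card_alt_factorization {q : ℕ} (hq : q.Prime) (h3 : 3 ≤ q) (h1 : q ≤ n)
    (h2 : n < 2 * q) : (Nat.card ↥(alternatingGroup (Fin n))).factorization q = 1 := by
  have : Nontrivial (Fin n) := Fin.nontrivial_iff_two_le.mpr (by omega)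
  have hc := two_mul_nat_card_alternatingGroup (α := Fin n)
  have hf := card_perm_factorization (n := n) hq h1 h2
  rw [← hc, Nat.factorization_mul (by norm_num) Nat.card_pos.ne'] at hf
  have h2q : (2 : ℕ).factorization q = 0 := by
    apply Nat.factorization_eq_zero_of_not_dvd
    intro hd
    have := Nat.le_of_dvd (by norm_num) hd
    omega
  simpa [h2q] using hf

/-! ### the general case -/

/-- `S_n` has no nilpotent minimal cover when there is a prime `5 ≤ q < n < 2q` -/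
theorem no_cover_perm {q : ℕ} (hqp : q.Prime) (h5 : 5 ≤ q) (hqn : q < n) (hn2 : n < 2 * q) :
    ¬ ∃ 𝓐 : Finset (Subgroup (Perm (Fin n))), ((∀ A ∈ 𝓐, A ≠ ⊤) ∧
      (∀ g : Perm (Fin n), ∃ A ∈ 𝓐, g ∈ A)) ∧
      (∀ 𝓑 : Finset (Subgroup (Perm (Fin n))), (∀ A ∈ 𝓑, A ≠ ⊤) ∧
        (∀ g : Perm (Fin n), ∃ A ∈ 𝓑, g ∈ A) → 𝓐.card ≤ 𝓑.card) ∧
      (∀ A ∈ 𝓐, Group.IsNilpotent ↥A) := by
  have : Fact q.Prime := ⟨hqp⟩
  apply no_cover_of_prime_sylow (center_perm_eq_bot n (by omega))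
    (card_perm_factorization hqp hqn.le hn2)
    (sg n q ⟨by omega, hqn.le⟩) (ta n (by omega)) (orderOf_sg ⟨by omega, hqn.le⟩)
    (fixStab (sg n q ⟨by omega, hqn.le⟩))
  · intro htop
    have := mv_not_mem (n := n) (q := q) ⟨by omega, hqn⟩
    rw [htop] at this
    exact this (Subgroup.mem_top _)
  · exact centralizer_le_fixStab _
  · exact ta_mem_fixStab ⟨by omega, hqn.le⟩
  · exact conj_not_mem ⟨h5, hqn.le⟩

/-- `A_n` has no nilpotent minimal cover when there is a prime `5 ≤ q < n < 2q` -/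
theorem no_cover_alt {q : ℕ} (hqp : q.Prime) (h5 : 5 ≤ q) (hqn : q < n) (hn2 : n < 2 * q) :
    ¬ ∃ 𝓐 : Finset (Subgroup ↥(alternatingGroup (Fin n))), ((∀ A ∈ 𝓐, A ≠ ⊤) ∧
      (∀ g : ↥(alternatingGroup (Fin n)), ∃ A ∈ 𝓐, g ∈ A)) ∧
      (∀ 𝓑 : Finset (Subgroup ↥(alternatingGroup (Fin n))), (∀ A ∈ 𝓑, A ≠ ⊤) ∧
        (∀ g : ↥(alternatingGroup (Fin n)), ∃ A ∈ 𝓑, g ∈ A) → 𝓐.card ≤ 𝓑.card) ∧
      (∀ A ∈ 𝓐, Group.IsNilpotent ↥A) := by
  have : Fact q.Prime := ⟨hqp⟩
  have hodd : Odd q := hqp.odd_of_ne_two (by omega)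
  have hσA : sg n q ⟨by omega, hqn.le⟩ ∈ alternatingGroup (Fin n) :=
    Equiv.Perm.mem_alternatingGroup.mpr (sign_sg _ hodd)
  have hτA : ta n (by omega) ∈ alternatingGroup (Fin n) := Equiv.Perm.mem_alternatingGroup.mpr (sign_ta _)
  have hmvA : mv n q ⟨by omega, hqn⟩ ∈ alternatingGroup (Fin n) :=
    Equiv.Perm.mem_alternatingGroup.mpr (sign_mv _)
  apply no_cover_of_prime_sylow
    (alternatingGroup.center_eq_bot (by rw [Nat.card_eq_fintype_card, Fintype.card_fin]; omega))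
    (card_alt_factorization hqp (by omega) hqn.le hn2)
    ⟨_, hσA⟩ ⟨_, hτA⟩ (by rw [Subgroup.orderOf_mk]; exact orderOf_sg ⟨by omega, hqn.le⟩)
    ((fixStab (sg n q ⟨by omega, hqn.le⟩)).subgroupOf (alternatingGroup (Fin n)))
  · intro htop
    have h1 : (⟨_, hmvA⟩ : ↥(alternatingGroup (Fin n))) ∈
        (fixStab (sg n q ⟨by omega, hqn.le⟩)).subgroupOf (alternatingGroup (Fin n)) := by
      rw [htop]; exact Subgroup.mem_top _
    rw [Subgroup.mem_subgroupOf] at h1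
    exact mv_not_mem (n := n) (q := q) ⟨by omega, hqn⟩ h1
  · intro g hg
    rw [Subgroup.mem_subgroupOf]
    apply centralizer_le_fixStab
    rw [Subgroup.mem_centralizer_singleton_iff] at hg ⊢
    exact congrArg Subtype.val hg
  · rw [Subgroup.mem_subgroupOf]
    exact ta_mem_fixStab ⟨by omega, hqn.le⟩
  · intro hmem
    apply conj_not_mem (n := n) (q := q) ⟨h5, hqn.le⟩
    obtain ⟨k, hk⟩ := Subgroup.mem_zpowers_iff.mp hmem
    rw [Subgroup.mem_zpowers_iff]
    refine ⟨k, ?_⟩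
    have := congrArg Subtype.val hk
    simpa using this

/-! ### the small cases `S_4`, `S_5`, `A_5` -/

set_option maxRecDepth 100000 in
theorem s4_cent : ∀ g : Perm (Fin 4), g * c[0,1,2] = c[0,1,2] * g → Perm.sign g = 1 := by decide

set_option maxRecDepth 100000 in
theorem s5_cent : ∀ g : Perm (Fin 5), g * c[0,1,2,3,4] = c[0,1,2,3,4] * g → Perm.sign g = 1 := by
  decide

set_option maxRecDepth 100000 in
theorem a5_cent : ∀ g : Perm (Fin 5), g * c[0,1,2] = c[0,1,2] * g → Perm.sign g = 1 → g 3 = 3 := by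
  decide

/-- generic helper: non-membership in `zpowers` of an element of known prime order 3 or 5 -/
theorem not_mem_zpowers_of {G : Type*} [Group G] [DecidableEq G] [Finite G] (s x : G) (m : ℕ)
    (hm : orderOf s = m) (h : x ∉ (Finset.range m).image (s ^ ·)) : x ∉ Subgroup.zpowers s := by
  intro hx
  rw [(isOfFinOrder_of_finite _).mem_zpowers_iff_mem_range_orderOf, hm] at hx
  exact h hx

set_option maxRecDepth 100000 in
theorem no_cover_S4 :
    ¬ ∃ 𝓐 : Finset (Subgroup (Perm (Fin 4))), ((∀ A ∈ 𝓐, A ≠ ⊤) ∧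
      (∀ g : Perm (Fin 4), ∃ A ∈ 𝓐, g ∈ A)) ∧
      (∀ 𝓑 : Finset (Subgroup (Perm (Fin 4))), (∀ A ∈ 𝓑, A ≠ ⊤) ∧
        (∀ g : Perm (Fin 4), ∃ A ∈ 𝓑, g ∈ A) → 𝓐.card ≤ 𝓑.card) ∧
      (∀ A ∈ 𝓐, Group.IsNilpotent ↥A) := by
  have : Fact (Nat.Prime 3) := ⟨by norm_num⟩
  have hord : orderOf (c[0,1,2] : Perm (Fin 4)) = 3 :=
    orderOf_eq_prime (by decide) (by decide)
  apply no_cover_of_prime_sylow (center_perm_eq_bot 4 (by norm_num))
    (card_perm_factorization (n := 4) (q := 3) (by norm_num) (by norm_num) (by norm_num))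
    (c[0,1,2] : Perm (Fin 4)) (c[0,1] * c[2,3] : Perm (Fin 4)) hord (alternatingGroup (Fin 4))
  · intro htop
    have : (c[0,1] : Perm (Fin 4)) ∈ alternatingGroup (Fin 4) := by rw [htop]; exact Subgroup.mem_top _
    rw [Equiv.Perm.mem_alternatingGroup] at this
    revert this
    decide
  · intro g hg
    rw [Subgroup.mem_centralizer_singleton_iff] at hg
    exact Equiv.Perm.mem_alternatingGroup.mpr (s4_cent g hg)
  · rw [Equiv.Perm.mem_alternatingGroup]; decide
  · apply not_mem_zpowers_of _ _ 3 hord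
    decide

set_option maxRecDepth 100000 in
theorem no_cover_S5 :
    ¬ ∃ 𝓐 : Finset (Subgroup (Perm (Fin 5))), ((∀ A ∈ 𝓐, A ≠ ⊤) ∧
      (∀ g : Perm (Fin 5), ∃ A ∈ 𝓐, g ∈ A)) ∧
      (∀ 𝓑 : Finset (Subgroup (Perm (Fin 5))), (∀ A ∈ 𝓑, A ≠ ⊤) ∧
        (∀ g : Perm (Fin 5), ∃ A ∈ 𝓑, g ∈ A) → 𝓐.card ≤ 𝓑.card) ∧
      (∀ A ∈ 𝓐, Group.IsNilpotent ↥A) := by
  have : Fact (Nat.Prime 5) := ⟨by norm_num⟩
  have hord : orderOf (c[0,1,2,3,4] : Perm (Fin 5)) = 5 :=
    orderOf_eq_prime (by decide) (by decide)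
  apply no_cover_of_prime_sylow (center_perm_eq_bot 5 (by norm_num))
    (card_perm_factorization (n := 5) (q := 5) (by norm_num) (by norm_num) (by norm_num))
    (c[0,1,2,3,4] : Perm (Fin 5)) (c[0,1,2] : Perm (Fin 5)) hord (alternatingGroup (Fin 5))
  · intro htop
    have : (c[0,1] : Perm (Fin 5)) ∈ alternatingGroup (Fin 5) := by rw [htop]; exact Subgroup.mem_top _
    rw [Equiv.Perm.mem_alternatingGroup] at this
    revert this
    decide
  · intro g hg
    rw [Subgroup.mem_centralizer_singleton_iff] at hg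
    exact Equiv.Perm.mem_alternatingGroup.mpr (s5_cent g hg)
  · rw [Equiv.Perm.mem_alternatingGroup]; decide
  · apply not_mem_zpowers_of _ _ 5 hord
    decide

set_option maxRecDepth 100000 in
theorem no_cover_A5 :
    ¬ ∃ 𝓐 : Finset (Subgroup ↥(alternatingGroup (Fin 5))), ((∀ A ∈ 𝓐, A ≠ ⊤) ∧
      (∀ g : ↥(alternatingGroup (Fin 5)), ∃ A ∈ 𝓐, g ∈ A)) ∧
      (∀ 𝓑 : Finset (Subgroup ↥(alternatingGroup (Fin 5))), (∀ A ∈ 𝓑, A ≠ ⊤) ∧
        (∀ g : ↥(alternatingGroup (Fin 5)), ∃ A ∈ 𝓑, g ∈ A) → 𝓐.card ≤ 𝓑.card) ∧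
      (∀ A ∈ 𝓐, Group.IsNilpotent ↥A) := by
  have : Fact (Nat.Prime 3) := ⟨by norm_num⟩
  have hord : orderOf (c[0,1,2] : Perm (Fin 5)) = 3 :=
    orderOf_eq_prime (by decide) (by decide)
  have hσA : (c[0,1,2] : Perm (Fin 5)) ∈ alternatingGroup (Fin 5) := by
    rw [Equiv.Perm.mem_alternatingGroup]; decide
  have hτA : (c[0,1] * c[2,4] : Perm (Fin 5)) ∈ alternatingGroup (Fin 5) := by
    rw [Equiv.Perm.mem_alternatingGroup]; decide
  have hmA : (c[0,1,3] : Perm (Fin 5)) ∈ alternatingGroup (Fin 5) := by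
    rw [Equiv.Perm.mem_alternatingGroup]; decide
  apply no_cover_of_prime_sylow
    (alternatingGroup.center_eq_bot (by rw [Nat.card_eq_fintype_card, Fintype.card_fin]; norm_num))
    (card_alt_factorization (n := 5) (q := 3) (by norm_num) (by norm_num) (by norm_num) (by norm_num))
    ⟨_, hσA⟩ ⟨_, hτA⟩ (by rw [Subgroup.orderOf_mk]; exact hord)
    ((MulAction.stabilizer (Perm (Fin 5)) (3 : Fin 5)).subgroupOf (alternatingGroup (Fin 5)))
  · intro htop
    have h1 : (⟨_, hmA⟩ : ↥(alternatingGroup (Fin 5))) ∈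
        (MulAction.stabilizer (Perm (Fin 5)) (3 : Fin 5)).subgroupOf (alternatingGroup (Fin 5)) := by
      rw [htop]; exact Subgroup.mem_top _
    rw [Subgroup.mem_subgroupOf, MulAction.mem_stabilizer_iff, Perm.smul_def] at h1
    have h1' : (c[0,1,3] : Perm (Fin 5)) 3 = 3 := h1
    revert h1'
    decide
  · intro g hg
    rw [Subgroup.mem_subgroupOf, MulAction.mem_stabilizer_iff, Perm.smul_def]
    rw [Subgroup.mem_centralizer_singleton_iff] at hg
    exact a5_cent g.1 (congrArg Subtype.val hg) (Equiv.Perm.mem_alternatingGroup.mp g.2)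
  · rw [Subgroup.mem_subgroupOf, MulAction.mem_stabilizer_iff, Perm.smul_def]
    show (c[0,1] * c[2,4] : Perm (Fin 5)) 3 = 3
    decide
  · intro hmem
    have h2 : (c[0,1] * c[2,4] : Perm (Fin 5)) * c[0,1,2] * (c[0,1] * c[2,4] : Perm (Fin 5))⁻¹ ∈
        Subgroup.zpowers (c[0,1,2] : Perm (Fin 5)) := by
      obtain ⟨k, hk⟩ := Subgroup.mem_zpowers_iff.mp hmem
      rw [Subgroup.mem_zpowers_iff]
      refine ⟨k, ?_⟩
      have := congrArg Subtype.val hk
      simpa using this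
    revert h2
    apply not_mem_zpowers_of _ _ 3 hord
    decide


/-- Bertrand: for `n ≥ 6` there is a prime `q` with `5 ≤ q < n < 2q` -/
theorem exists_prime_of_six_le (hn : 6 ≤ n) : ∃ q : ℕ, q.Prime ∧ 5 ≤ q ∧ q < n ∧ n < 2 * q := by
  obtain ⟨q, hqp, h1, h2⟩ := Nat.exists_prime_lt_and_le_two_mul (n / 2) (by omega)
  refine ⟨q, hqp, ?_, ?_, by omega⟩
  · have h4 : 4 ≤ q := by omega
    rcases Nat.lt_or_ge 4 q with h | h
    · exact h
    · have : q = 4 := by omega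
      rw [this] at hqp
      exact absurd hqp (by norm_num)
  · rcases Nat.lt_or_ge q n with h | h
    · exact h
    · exfalso
      have hqn : q = n := by omega
      have heven : 2 ∣ q := by
        rw [hqn]
        exact ⟨n / 2, by omega⟩
      have := (Nat.prime_dvd_prime_iff_eq Nat.prime_two hqp).mp heven
      omega

end Cfsg.Agent.Lib.H19.SymCover
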