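/-
S2524 (Tiep-Zalesskii gap for `Sp_2n(q)`, `q` odd), classification step "Theorem U" (architect helper19,
blueprint tools/blueprints/S2524_U.md).  Common definitions.  `n = m + 1`, the distinguished index is the LAST one `st m`.

* `eig ρ χ Y` : the eigenspace of the Siegel radical `{tEl X}` for the character `X ↦ χ (trace (X * Y))`.
* `eigU ρ χ a` : the eigenspace of the long root group `{uu c = tEl (c E_**)}` for the character `c ↦ χ (c * a)`.
* `Rk1 Y` : all `2 × 2` minors of `Y` vanish; `R1 ρ χ` : every `Y` with `eig ρ χ Y ≠ ⊥` has `Rk1 Y`.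
* `tact g Y = gᵀ Y g`;  `lHom _ g` maps `eig ρ χ (tact g Y)` onto `eig ρ χ Y`.
* `Ed j c = c E_jj`, `Arow x = e_* xᵀ + x e_*ᵀ`, `Xpp X''` (old block), `IsA`, `IsQ2`.
* `gT s = diag (1,..,1,s)`, `gR1 u = 1 + e_* uᵀ`, `gRm u = 1 + u e_*ᵀ`, `gEmb g''`, `gSwap i` in `GL (Fin (m+1)) F`.
* `tmEl X = fromBlocks 1 0 X 1`, `uu c`, `um c`, `w1`, `Hs` (Heisenberg radical), `SS = range psi`, `K1 = closure (uu, um)`.
-/
import Cfsg.Agent.Lib.H5.LS2S2
import Cfsg.Agent.Lib.H2.SpExt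
import Cfsg.Agent.Lib.H20.WeilDefs
import Cfsg.Agent.Lib.H23.WeilL1
import Cfsg.Agent.Lib.H4.RepChar

set_option autoImplicit false

namespace Cfsg.Agent.Lib.H19.TZ

open Matrix Cfsg.Agent.Lib.H12.LS2 Cfsg.Agent.Lib.H5.LS2 Cfsg.Agent.Lib.H20.Weil

variable {F : Type*} [Field F]

/-! ## eigenspaces of the Siegel radical -/

section eigen

variable {n : ℕ} {V : Type*} [AddCommGroup V] [Module ℂ V]

/-- the `Y`-eigenspace of the Siegel radical -/
def eig (ρ : Matrix.symplecticGroup (Fin n) F →* Module.End ℂ V) (χ : AddChar F ℂ) (Y : Symm n F) :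
    Submodule ℂ V where
  carrier := {v | ∀ X : Symm n F, ρ (tEl X) v =
    χ (Matrix.trace ((X : Matrix (Fin n) (Fin n) F) * (Y : Matrix (Fin n) (Fin n) F))) • v}
  add_mem' := by
    intro v w hv hw X
    rw [map_add, hv X, hw X, smul_add]
  zero_mem' := by
    intro X
    rw [map_zero, smul_zero]
  smul_mem' := by
    intro c v hv X
    rw [map_smul, hv X, smul_comm]

theorem mem_eig (ρ : Matrix.symplecticGroup (Fin n) F →* Module.End ℂ V) (χ : AddChar F ℂ) (Y : Symm n F)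
    (v : V) : v ∈ eig ρ χ Y ↔ ∀ X : Symm n F, ρ (tEl X) v =
      χ (Matrix.trace ((X : Matrix (Fin n) (Fin n) F) * (Y : Matrix (Fin n) (Fin n) F))) • v := Iff.rfl

/-- all `2 × 2` minors vanish -/
def Rk1 (Y : Symm n F) : Prop :=
  ∀ i j k l : Fin n, (Y : Matrix (Fin n) (Fin n) F) i j * (Y : Matrix (Fin n) (Fin n) F) k l =
    (Y : Matrix (Fin n) (Fin n) F) i l * (Y : Matrix (Fin n) (Fin n) F) k j

/-- the rank-one property of a representation -/
def R1 (ρ : Matrix.symplecticGroup (Fin n) F →* Module.End ℂ V) (χ : AddChar F ℂ) : Prop :=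
  ∀ Y : Symm n F, eig ρ χ Y ≠ ⊥ → Rk1 Y

/-- `gᵀ Y g` -/
def tact (g : GL (Fin n) F) (Y : Symm n F) : Symm n F :=
  ⟨g.1ᵀ * (Y : Matrix (Fin n) (Fin n) F) * g.1, by
    have h := mul_mul_transpose_mem (g.1ᵀ) Y.2
    rwa [Matrix.transpose_transpose] at h⟩

theorem tact_val (g : GL (Fin n) F) (Y : Symm n F) :
    ((tact g Y : Symm n F) : Matrix (Fin n) (Fin n) F) = g.1ᵀ * (Y : Matrix (Fin n) (Fin n) F) * g.1 := rfl

/-- `c E_jj` -/
def Ed (j : Fin n) (c : F) : Symm n F :=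
  ⟨Matrix.single j j c, by
    show (Matrix.single j j c)ᵀ = _
    rw [Matrix.transpose_single]⟩

theorem Ed_val (j : Fin n) (c : F) :
    ((Ed j c : Symm n F) : Matrix (Fin n) (Fin n) F) = Matrix.single j j c := rfl

/-- the lower Siegel element `[[1,0],[X,1]]` -/
theorem tmMat_mem (X : Matrix (Fin n) (Fin n) F) (hX : Xᵀ = X) :
    fromBlocks (1 : Matrix (Fin n) (Fin n) F) 0 X 1 ∈ Matrix.symplecticGroup (Fin n) F := by
  rw [SymplecticGroup.fromBlocks_mem_iff]
  refine ⟨?_, ?_, ?_⟩ <;> simp [hX]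

noncomputable def tmEl (X : Symm n F) : Matrix.symplecticGroup (Fin n) F :=
  ⟨fromBlocks 1 0 (X : Matrix (Fin n) (Fin n) F) 1, tmMat_mem _ ((mem_Symm n _).1 X.2)⟩

theorem tmEl_val (X : Symm n F) :
    ((tmEl X : Matrix.symplecticGroup (Fin n) F) : Matrix (Fin n ⊕ Fin n) (Fin n ⊕ Fin n) F) =
      fromBlocks 1 0 (X : Matrix (Fin n) (Fin n) F) 1 := rfl

end eigen

/-! ## the distinguished index and the subgroups -/

variable {m : ℕ}

/-- the distinguished index -/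
abbrev st (m : ℕ) : Fin (m + 1) := Fin.last m

/-- extension of a vector by `0` at `st m` -/
def ex0 (x : Fin m → F) : Fin (m + 1) → F := Fin.snoc x 0

/-- `e_*` -/
def es (m : ℕ) (F : Type*) [Field F] : Fin (m + 1) → F := Pi.single (st m) 1

/-- `e_* xᵀ + x e_*ᵀ` -/
def Arow (x : Fin m → F) : Symm (m + 1) F :=
  ⟨Matrix.vecMulVec (es m F) (ex0 x) + Matrix.vecMulVec (ex0 x) (es m F), by
    show (Matrix.vecMulVec (es m F) (ex0 x) + Matrix.vecMulVec (ex0 x) (es m F))ᵀ = _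
    rw [Matrix.transpose_add, Matrix.transpose_vecMulVec, Matrix.transpose_vecMulVec]
    exact add_comm _ _⟩

/-- the old block -/
def Xpp (X : Symm m F) : Symm (m + 1) F :=
  ⟨Matrix.of fun i j => if h : (i : ℕ) < m ∧ (j : ℕ) < m then
      (X : Matrix (Fin m) (Fin m) F) ⟨i, h.1⟩ ⟨j, h.2⟩ else 0, by
    show (Matrix.of _)ᵀ = Matrix.of _
    have hX : ∀ a b, (X : Matrix (Fin m) (Fin m) F) a b = (X : Matrix (Fin m) (Fin m) F) b a := fun a b => by
      have h : (X : Matrix (Fin m) (Fin m) F)ᵀ = X := X.2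
      exact (congrFun (congrFun h a) b).symm
    ext i j
    simp only [Matrix.transpose_apply, Matrix.of_apply]
    by_cases h : (i : ℕ) < m ∧ (j : ℕ) < m
    · rw [dif_pos h, dif_pos ⟨h.2, h.1⟩, hX]
    · rw [dif_neg h, dif_neg (fun h' => h ⟨h'.2, h'.1⟩)]⟩

theorem Xpp_apply (X : Symm m F) (i j : Fin (m + 1)) :
    ((Xpp X : Symm (m + 1) F) : Matrix (Fin (m + 1)) (Fin (m + 1)) F) i j =
      if h : (i : ℕ) < m ∧ (j : ℕ) < m then (X : Matrix (Fin m) (Fin m) F) ⟨i, h.1⟩ ⟨j, h.2⟩ else 0 := rfl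

/-- the old block of a symmetric matrix -/
def Xold (X : Symm (m + 1) F) : Symm m F :=
  ⟨Matrix.of fun i j : Fin m => (X : Matrix (Fin (m + 1)) (Fin (m + 1)) F) i.castSucc j.castSucc, by
    have h : (X : Matrix (Fin (m + 1)) (Fin (m + 1)) F)ᵀ = X := X.2
    show (Matrix.of fun i j : Fin m => (X : Matrix (Fin (m + 1)) (Fin (m + 1)) F) i.castSucc j.castSucc)ᵀ = _
    ext i j
    exact congrFun (congrFun h i.castSucc) j.castSucc⟩

theorem Xold_apply (X : Symm (m + 1) F) (i j : Fin m) :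
    ((Xold X : Symm m F) : Matrix (Fin m) (Fin m) F) i j =
      (X : Matrix (Fin (m + 1)) (Fin (m + 1)) F) i.castSucc j.castSucc := rfl

/-- the last column (without the corner) of a symmetric matrix -/
def Xcol (X : Symm (m + 1) F) : Fin m → F :=
  fun i => (X : Matrix (Fin (m + 1)) (Fin (m + 1)) F) i.castSucc (st m)

/-- zero outside the last row and column -/
def IsA (X : Symm (m + 1) F) : Prop :=
  ∀ i j : Fin m, (X : Matrix (Fin (m + 1)) (Fin (m + 1)) F) i.castSucc j.castSucc = 0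

/-- zero last row and column -/
def IsQ2 (X : Symm (m + 1) F) : Prop :=
  ∀ i : Fin (m + 1), (X : Matrix (Fin (m + 1)) (Fin (m + 1)) F) i (st m) = 0

/-- a unit of the matrix ring from a two-sided inverse -/
def glOf {n : ℕ} (A B : Matrix (Fin n) (Fin n) F) (h1 : A * B = 1) (h2 : B * A = 1) : GL (Fin n) F :=
  ⟨A, B, h1, h2⟩

/-- `diag (1,..,1,s)` -/
def gT (s : Fˣ) : GL (Fin (m + 1)) F :=
  glOf (Matrix.diagonal (Function.update (fun _ => (1 : F)) (st m) (s : F)))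
    (Matrix.diagonal (Function.update (fun _ => (1 : F)) (st m) ((s⁻¹ : Fˣ) : F)))
    (by
      rw [Matrix.diagonal_mul_diagonal, ← Matrix.diagonal_one]
      congr 1
      funext i
      by_cases hi : i = st m
      · subst hi; simp
      · simp [Function.update_of_ne hi])
    (by
      rw [Matrix.diagonal_mul_diagonal, ← Matrix.diagonal_one]
      congr 1
      funext i
      by_cases hi : i = st m
      · subst hi; simp
      · simp [Function.update_of_ne hi])

theorem ex0_dot_es (x : Fin m → F) : ex0 x ⬝ᵥ es m F = 0 := by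
  simp [ex0, es, st]

theorem es_dot_ex0 (x : Fin m → F) : es m F ⬝ᵥ ex0 x = 0 := by
  simp [ex0, es, st]

/-- `1 + e_* uᵀ` (row `*` becomes `(u, 1)`) -/
def gR1 (u : Fin m → F) : GL (Fin (m + 1)) F :=
  glOf (1 + Matrix.vecMulVec (es m F) (ex0 u)) (1 - Matrix.vecMulVec (es m F) (ex0 u))
    (by
      have h : Matrix.vecMulVec (es m F) (ex0 u) * Matrix.vecMulVec (es m F) (ex0 u) = 0 := by
        rw [Matrix.vecMulVec_mul_vecMulVec, ex0_dot_es, zero_smul]; ext i j; simp [Matrix.vecMulVec_apply]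
      rw [Matrix.add_mul, Matrix.mul_sub, Matrix.mul_sub, h]; simp)
    (by
      have h : Matrix.vecMulVec (es m F) (ex0 u) * Matrix.vecMulVec (es m F) (ex0 u) = 0 := by
        rw [Matrix.vecMulVec_mul_vecMulVec, ex0_dot_es, zero_smul]; ext i j; simp [Matrix.vecMulVec_apply]
      rw [Matrix.sub_mul, Matrix.mul_add, Matrix.mul_add, h]; simp)

/-- `1 + u e_*ᵀ` (column `*` becomes `(u, 1)`) -/
def gRm (u : Fin m → F) : GL (Fin (m + 1)) F :=
  glOf (1 + Matrix.vecMulVec (ex0 u) (es m F)) (1 - Matrix.vecMulVec (ex0 u) (es m F))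
    (by
      have h : Matrix.vecMulVec (ex0 u) (es m F) * Matrix.vecMulVec (ex0 u) (es m F) = 0 := by
        rw [Matrix.vecMulVec_mul_vecMulVec, es_dot_ex0, zero_smul]; ext i j; simp [Matrix.vecMulVec_apply]
      rw [Matrix.add_mul, Matrix.mul_sub, Matrix.mul_sub, h]; simp)
    (by
      have h : Matrix.vecMulVec (ex0 u) (es m F) * Matrix.vecMulVec (ex0 u) (es m F) = 0 := by
        rw [Matrix.vecMulVec_mul_vecMulVec, es_dot_ex0, zero_smul]; ext i j; simp [Matrix.vecMulVec_apply]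
      rw [Matrix.sub_mul, Matrix.mul_add, Matrix.mul_add, h]; simp)


/-! ### entries -/

theorem ex0_castSucc (x : Fin m → F) (i : Fin m) : ex0 x i.castSucc = x i := by
  simp [ex0]

theorem ex0_last (x : Fin m → F) : ex0 x (st m) = 0 := by
  simp [ex0, st]

theorem es_castSucc (i : Fin m) : es m F i.castSucc = 0 := by
  have h : i.castSucc ≠ st m := Fin.castSucc_ne_last i
  simp [es, h]

theorem es_last : es m F (st m) = 1 := by
  simp [es]

theorem Xpp_castSucc (X : Symm m F) (i j : Fin m) :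
    ((Xpp X : Symm (m + 1) F) : Matrix (Fin (m + 1)) (Fin (m + 1)) F) i.castSucc j.castSucc =
      (X : Matrix (Fin m) (Fin m) F) i j := by
  rw [Xpp_apply, dif_pos ⟨by simp, by simp⟩]
  rfl

theorem Xpp_last_right (X : Symm m F) (i : Fin (m + 1)) :
    ((Xpp X : Symm (m + 1) F) : Matrix (Fin (m + 1)) (Fin (m + 1)) F) i (st m) = 0 := by
  rw [Xpp_apply, dif_neg (by simp [st])]

theorem Xpp_last_left (X : Symm m F) (j : Fin (m + 1)) :
    ((Xpp X : Symm (m + 1) F) : Matrix (Fin (m + 1)) (Fin (m + 1)) F) (st m) j = 0 := by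
  rw [Xpp_apply, dif_neg (by simp [st])]

/-- `diag (A, 1)` -/
def embM (A : Matrix (Fin m) (Fin m) F) : Matrix (Fin (m + 1)) (Fin (m + 1)) F :=
  Matrix.of fun i j => if h : (i : ℕ) < m ∧ (j : ℕ) < m then A ⟨i, h.1⟩ ⟨j, h.2⟩ else if i = j then 1 else 0

theorem embM_castSucc (A : Matrix (Fin m) (Fin m) F) (i j : Fin m) :
    embM A i.castSucc j.castSucc = A i j := by
  show (if h : ((i.castSucc : Fin (m + 1)) : ℕ) < m ∧ ((j.castSucc : Fin (m + 1)) : ℕ) < m then _ else _) = _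
  rw [dif_pos ⟨by simp, by simp⟩]
  rfl

theorem embM_castSucc_last (A : Matrix (Fin m) (Fin m) F) (i : Fin m) :
    embM A i.castSucc (st m) = 0 := by
  show (if h : ((i.castSucc : Fin (m + 1)) : ℕ) < m ∧ ((st m : Fin (m + 1)) : ℕ) < m then _ else _) = _
  rw [dif_neg (by simp [st]), if_neg (Fin.castSucc_ne_last i)]

theorem embM_last_castSucc (A : Matrix (Fin m) (Fin m) F) (j : Fin m) :
    embM A (st m) j.castSucc = 0 := by
  show (if h : ((st m : Fin (m + 1)) : ℕ) < m ∧ ((j.castSucc : Fin (m + 1)) : ℕ) < m then _ else _) = _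
  rw [dif_neg (by simp [st]), if_neg (Fin.castSucc_ne_last j).symm]

theorem embM_last_last (A : Matrix (Fin m) (Fin m) F) : embM A (st m) (st m) = 1 := by
  show (if h : ((st m : Fin (m + 1)) : ℕ) < m ∧ ((st m : Fin (m + 1)) : ℕ) < m then _ else _) = _
  rw [dif_neg (by simp [st]), if_pos rfl]

theorem embM_mul (A B : Matrix (Fin m) (Fin m) F) : embM (A * B) = embM A * embM B := by
  ext i j
  rw [Matrix.mul_apply, Fin.sum_univ_castSucc]
  refine Fin.lastCases ?_ (fun i' => ?_) i <;> refine Fin.lastCases ?_ (fun j' => ?_) j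
  · simp [embM_last_last, embM_last_castSucc]
  · simp [embM_last_last, embM_last_castSucc]
  · simp [embM_last_last, embM_castSucc_last]
  · simp [embM_castSucc, embM_last_castSucc, embM_castSucc_last, Matrix.mul_apply]

theorem embM_one : embM (1 : Matrix (Fin m) (Fin m) F) = 1 := by
  ext i j
  refine Fin.lastCases ?_ (fun i' => ?_) i <;> refine Fin.lastCases ?_ (fun j' => ?_) j
  · simp [embM_last_last]
  · rw [embM_last_castSucc, Matrix.one_apply_ne (Fin.castSucc_ne_last j').symm]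
  · rw [embM_castSucc_last, Matrix.one_apply_ne (Fin.castSucc_ne_last i')]
  · rw [embM_castSucc, Matrix.one_apply, Matrix.one_apply]
    simp

/-- `diag (g'', 1)` -/
def gEmb (g : GL (Fin m) F) : GL (Fin (m + 1)) F :=
  glOf (embM g.1) (embM (g⁻¹ : GL (Fin m) F).1)
    (by rw [← embM_mul, ← Units.val_mul, mul_inv_cancel, Units.val_one, embM_one])
    (by rw [← embM_mul, ← Units.val_mul, inv_mul_cancel, Units.val_one, embM_one])

theorem gEmb_val (g : GL (Fin m) F) : (gEmb g).1 = embM g.1 := rfl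

/-- the permutation matrix of the transposition `(i *)` -/
def gSwap (i : Fin m) : GL (Fin (m + 1)) F :=
  glOf ((Equiv.swap i.castSucc (st m)).permMatrix F) ((Equiv.swap i.castSucc (st m)).permMatrix F)
    (by rw [← Matrix.permMatrix_mul, Equiv.swap_mul_self, Matrix.permMatrix_one])
    (by rw [← Matrix.permMatrix_mul, Equiv.swap_mul_self, Matrix.permMatrix_one])

theorem gSwap_val (i : Fin m) : (gSwap (F := F) i).1 = (Equiv.swap i.castSucc (st m)).permMatrix F := rfl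

theorem gT_val (s : Fˣ) :
    (gT (m := m) s).1 = Matrix.diagonal (Function.update (fun _ => (1 : F)) (st m) (s : F)) := rfl

theorem gR1_val (u : Fin m → F) : (gR1 u).1 = 1 + Matrix.vecMulVec (es m F) (ex0 u) := rfl

theorem gRm_val (u : Fin m → F) : (gRm u).1 = 1 + Matrix.vecMulVec (ex0 u) (es m F) := rfl

/-! ### elements and subgroups of `Sp_{2(m+1)}` -/

/-- the long root element `t (c E_**)` -/
noncomputable def uu (c : F) : Matrix.symplecticGroup (Fin (m + 1)) F := tEl (Ed (st m) c)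

/-- the opposite long root element -/
noncomputable def um (c : F) : Matrix.symplecticGroup (Fin (m + 1)) F := tmEl (Ed (st m) c)

/-- the Weyl element of `<uu, um>` -/
noncomputable def w1 : Matrix.symplecticGroup (Fin (m + 1)) F := uu 1 * um (-1) * uu 1

/-- the vector `e_*` of `F^(2(m+1))` -/
def eia (m : ℕ) (F : Type*) [Field F] : Fin (m + 1) ⊕ Fin (m + 1) → F := Pi.single (Sum.inl (st m)) 1

/-- the Heisenberg radical of the stabiliser of `<e_*>` -/
def Hs : Subgroup (Matrix.symplecticGroup (Fin (m + 1)) F) where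
  carrier := {g | (g : Matrix (Fin (m + 1) ⊕ Fin (m + 1)) (Fin (m + 1) ⊕ Fin (m + 1)) F) *ᵥ eia m F = eia m F ∧
    ∀ x : Fin (m + 1) ⊕ Fin (m + 1) → F, x (Sum.inr (st m)) = 0 →
      ∃ c : F, (g : Matrix (Fin (m + 1) ⊕ Fin (m + 1)) (Fin (m + 1) ⊕ Fin (m + 1)) F) *ᵥ x = x + c • eia m F}
  mul_mem' := by
    rintro g h ⟨hg1, hg2⟩ ⟨hh1, hh2⟩
    refine ⟨?_, fun x hx => ?_⟩
    · rw [Submonoid.coe_mul, ← Matrix.mulVec_mulVec, hh1, hg1]
    · obtain ⟨c, hc⟩ := hh2 x hx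
      obtain ⟨c', hc'⟩ := hg2 x hx
      refine ⟨c' + c, ?_⟩
      rw [Submonoid.coe_mul, ← Matrix.mulVec_mulVec, hc, Matrix.mulVec_add, Matrix.mulVec_smul, hg1, hc',
        add_smul, add_assoc]
  one_mem' := by
    refine ⟨by rw [OneMemClass.coe_one, Matrix.one_mulVec], fun x _ => ⟨0, ?_⟩⟩
    rw [OneMemClass.coe_one, Matrix.one_mulVec, zero_smul, add_zero]
  inv_mem' := by
    rintro g ⟨hg1, hg2⟩
    have hinv : ∀ y : Fin (m + 1) ⊕ Fin (m + 1) → F,
        ((g⁻¹ : Matrix.symplecticGroup (Fin (m + 1)) F) : Matrix (Fin (m + 1) ⊕ Fin (m + 1)) (Fin (m + 1) ⊕ Fin (m + 1)) F) *ᵥ ((g : Matrix (Fin (m + 1) ⊕ Fin (m + 1)) (Fin (m + 1) ⊕ Fin (m + 1)) F) *ᵥ y) = y := by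
      intro y
      rw [Matrix.mulVec_mulVec, ← Submonoid.coe_mul, inv_mul_cancel, OneMemClass.coe_one, Matrix.one_mulVec]
    have h1 : ((g⁻¹ : Matrix.symplecticGroup (Fin (m + 1)) F) : Matrix (Fin (m + 1) ⊕ Fin (m + 1)) (Fin (m + 1) ⊕ Fin (m + 1)) F) *ᵥ eia m F = eia m F := by
      have := hinv (eia m F)
      rwa [hg1] at this
    refine ⟨h1, fun x hx => ?_⟩
    obtain ⟨c, hc⟩ := hg2 x hx
    refine ⟨-c, ?_⟩
    have h2 := hinv x
    rw [hc, Matrix.mulVec_add, Matrix.mulVec_smul, h1] at h2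
    rw [neg_smul, ← sub_eq_add_neg, eq_sub_iff_add_eq]
    exact h2

/-- `Sp_{2m}` inside `Sp_{2(m+1)}` -/
def SS (m : ℕ) (F : Type*) [Field F] : Subgroup (Matrix.symplecticGroup (Fin (m + 1)) F) :=
  (Cfsg.Agent.Lib.H2.Sp.psi (F := F) (m := m)).range

/-- the long root `SL_2` -/
def K1 (m : ℕ) (F : Type*) [Field F] : Subgroup (Matrix.symplecticGroup (Fin (m + 1)) F) :=
  Subgroup.closure (Set.range (uu (F := F) (m := m)) ∪ Set.range (um (F := F) (m := m)))

/-- the eigenspaces of the long root group -/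
def eigU {V : Type*} [AddCommGroup V] [Module ℂ V]
    (ρ : Matrix.symplecticGroup (Fin (m + 1)) F →* Module.End ℂ V) (χ : AddChar F ℂ) (a : F) :
    Submodule ℂ V where
  carrier := {v | ∀ c : F, ρ (uu c) v = χ (c * a) • v}
  add_mem' := by
    intro v w hv hw c
    rw [map_add, hv c, hw c, smul_add]
  zero_mem' := by
    intro c
    rw [map_zero, smul_zero]
  smul_mem' := by
    intro c v hv c'
    rw [map_smul, hv c', smul_comm]

theorem mem_eigU {V : Type*} [AddCommGroup V] [Module ℂ V]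
    (ρ : Matrix.symplecticGroup (Fin (m + 1)) F →* Module.End ℂ V) (χ : AddChar F ℂ) (a : F) (v : V) :
    v ∈ eigU ρ χ a ↔ ∀ c : F, ρ (uu c) v = χ (c * a) • v := Iff.rfl


/-- `Sp_{2m} → Sp_{2(m+1)}` (helper2's `psi`) -/
abbrev pS : Matrix.symplecticGroup (Fin m) F →* Matrix.symplecticGroup (Fin (m + 1)) F :=
  Cfsg.Agent.Lib.H2.Sp.psi

/-- the sum of the non-trivial eigenspaces of the long root group: `[W, U1]` -/
def Dsp {V : Type*} [AddCommGroup V] [Module ℂ V]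
    (ρ : Matrix.symplecticGroup (Fin (m + 1)) F →* Module.End ℂ V) (χ : AddChar F ℂ) : Submodule ℂ V :=
  ⨆ a : {a : F // a ≠ 0}, eigU ρ χ (a : F)

/-- the sum of the eigenspaces `eig ρ χ Y` with `Y ≠ 0`, `Y_** = 0` -/
def C0sp {V : Type*} [AddCommGroup V] [Module ℂ V]
    (ρ : Matrix.symplecticGroup (Fin (m + 1)) F →* Module.End ℂ V) (χ : AddChar F ℂ) : Submodule ℂ V :=
  ⨆ Y : {Y : Symm (m + 1) F // Y ≠ 0 ∧ (Y : Matrix (Fin (m + 1)) (Fin (m + 1)) F) (st m) (st m) = 0},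
    eig ρ χ (Y : Symm (m + 1) F)

/-- the standard symplectic form matrix as an element of `Sp_{2m}` -/
def Jpp (m : ℕ) (F : Type*) [Field F] : Matrix.symplecticGroup (Fin m) F :=
  SymplecticGroup.symJ (Fin m) F

theorem Jpp_val (m : ℕ) (F : Type*) [Field F] :
    ((Jpp m F : Matrix.symplecticGroup (Fin m) F) : Matrix (Fin m ⊕ Fin m) (Fin m ⊕ Fin m) F) =
      Matrix.J (Fin m) F := rfl

/-- the character `X ↦ χ (trace (X * Y))` of the additive group of symmetric matrices -/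
noncomputable def psiY {n : ℕ} (χ : AddChar F ℂ) (Y : Symm n F) : AddChar (Symm n F) ℂ :=
  χ.compAddMonoidHom (Cfsg.Agent.Lib.H23.Weil.wl1Tr n (Y : Matrix (Fin n) (Fin n) F))

theorem psiY_apply {n : ℕ} (χ : AddChar F ℂ) (Y X : Symm n F) :
    psiY χ Y X = χ (Matrix.trace ((X : Matrix (Fin n) (Fin n) F) * (Y : Matrix (Fin n) (Fin n) F))) := rfl

/-- the projection onto `eig ρ χ Y` (the `Fintype` instance on `Symm n F` is `Fintype.ofFinite`;
see `prY_eq` in the piece TZ-R0a for the formula with an arbitrary instance) -/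
noncomputable def prY {n : ℕ} [Finite F] {V : Type*} [AddCommGroup V] [Module ℂ V]
    (ρ : Matrix.symplecticGroup (Fin n) F →* Module.End ℂ V) (χ : AddChar F ℂ) (Y : Symm n F) :
    Module.End ℂ V :=
  letI : Fintype (Symm n F) := Fintype.ofFinite _
  Cfsg.Agent.Lib.H4.RepChar.proj ρ tEl (psiY χ Y)

/-- the projection onto `eigU ρ χ a` -/
noncomputable def prU [Fintype F] {V : Type*} [AddCommGroup V] [Module ℂ V]
    (ρ : Matrix.symplecticGroup (Fin (m + 1)) F →* Module.End ℂ V) (χ : AddChar F ℂ) (a : F) :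
    Module.End ℂ V :=
  (Fintype.card F : ℂ)⁻¹ • ∑ c : F, χ (-(c * a)) • ρ (uu c)

/-- the hypotheses on the module `W` of Theorem U: irreducible, rank-one property, multiplicity one,
support in the orbit of `a E_**`, `0 ≠ w0 ∈ W_{a E_**}` -/
structure WHyp {W : Type*} [AddCommGroup W] [Module ℂ W]
    (ρW : Matrix.symplecticGroup (Fin (m + 1)) F →* Module.End ℂ W)
    (χ : AddChar F ℂ) (a : F) (w0 : W) : Prop where
  h2 : (2 : F) ≠ 0
  hm : 1 ≤ m
  hχ : χ ≠ 1
  irrW : ∀ U : Submodule ℂ W, (∀ g, ∀ x ∈ U, ρW g x ∈ U) → U = ⊥ ∨ U = ⊤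
  r1W : R1 ρW χ
  dimW : ∀ Y : Symm (m + 1) F, Module.finrank ℂ (eig ρW χ Y) ≤ 1
  ha : a ≠ 0
  suppW : ∀ Y : Symm (m + 1) F, Y ≠ 0 → eig ρW χ Y ≠ ⊥ →
    ∃ g : GL (Fin (m + 1)) F, Y = tact g (Ed (st m) a)
  hw0 : w0 ∈ eig ρW χ (Ed (st m) a)
  hw00 : w0 ≠ 0

/-- the hypotheses of Theorem U -/
structure UHyp {W V : Type*} [AddCommGroup W] [Module ℂ W] [AddCommGroup V] [Module ℂ V]
    (ρW : Matrix.symplecticGroup (Fin (m + 1)) F →* Module.End ℂ W)
    (ρV : Matrix.symplecticGroup (Fin (m + 1)) F →* Module.End ℂ V)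
    (χ : AddChar F ℂ) (a : F) (w0 : W) (m0 : V) (η : ℂ) : Prop extends WHyp ρW χ a w0 where
  r1V : R1 ρV χ
  fixV : ∀ v : V, (∀ g, ρV g v = v) → v = 0
  hm0 : m0 ∈ eig ρV χ (Ed (st m) a)
  hm00 : m0 ≠ 0
  hwη : ρW (lHom (m + 1) (gT (-1))) w0 = η • w0
  hmη : ρV (lHom (m + 1) (gT (-1))) m0 = η • m0

/-- the properties of the `P`-map `T` of Step 2 -/
structure PMap {W V : Type*} [AddCommGroup W] [Module ℂ W] [AddCommGroup V] [Module ℂ V]
    (ρW : Matrix.symplecticGroup (Fin (m + 1)) F →* Module.End ℂ W)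
    (ρV : Matrix.symplecticGroup (Fin (m + 1)) F →* Module.End ℂ V)
    (χ : AddChar F ℂ) (w0 : W) (m0 : V) (T : W →ₗ[ℂ] V) : Prop where
  map_w0 : T w0 = m0
  commQ : ∀ (X : Symm (m + 1) F) (f : W), T (ρW (tEl X) f) = ρV (tEl X) (T f)
  commL : ∀ (g : GL (Fin (m + 1)) F) (f : W), T (ρW (lHom (m + 1) g) f) = ρV (lHom (m + 1) g) (T f)
  kill0 : ∀ f ∈ eig ρW χ 0, T f = 0
  commS : ∀ (b : Matrix.symplecticGroup (Fin m) F), ∀ f ∈ Dsp ρW χ, T (ρW (pS b) f) = ρV (pS b) (T f)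

end Cfsg.Agent.Lib.H19.TZ
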