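import Cfsg.Agent.Lib.H19.TpT6b1b

/-!
# S5637 piece T6b1 (helper19): from one (pure, pure) transvection with `φ(z) = 0` to all doubly incident ones

`all_incident_tv` has the exact statement of `tools/blueprints/S5637_sigs.lean`.
Method: `vecMulVec (pt u z) (pt ψ φ) = (u ψᵀ) ⊗ (z φᵀ)`.  For a fixed `Q` with `Q² = 0` the set
`{P | 1 + P ⊗ Q ∈ X}` is an additive group closed under conjugation by transvection matrices
(`krGL (1 + uψᵀ) 1 ∈ H0`); likewise in the other slot.  The key lemmas of parts (a), (b) then give all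
nilpotent rank one matrices in each slot.
-/

set_option autoImplicit false

namespace Cfsg.Agent.Lib.H19.Tp

open Matrix Kronecker Module
open Cfsg.Geo
open Cfsg.Agent.Lib.H29.Tensor (pt kron_pt)
open Cfsg.Agent.Lib.H28 (tvGL tvGL_mulVec)
open Cfsg.Agent.Lib.H25.Tp

variable {F : Type*} [Field F] {a b : ℕ}

theorem vecMulVec_mul_self_of_dot {n : ℕ} (u ψ : Fin n → F) (h : ψ ⬝ᵥ u = 0) :
    vecMulVec u ψ * vecMulVec u ψ = 0 := by
  rw [vecMulVec_mul_vecMulVec, h, zero_smul, vecMulVec_zero]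

/-- the transvection matrix `1 + u ψᵀ` as an element of `GL` -/
def tvM {n : ℕ} (u ψ : Fin n → F) (h : ψ ⬝ᵥ u = 0) : GL (Fin n) F where
  val := 1 + vecMulVec u ψ
  inv := 1 - vecMulVec u ψ
  val_inv := by
    calc (1 + vecMulVec u ψ) * (1 - vecMulVec u ψ) = 1 - vecMulVec u ψ * vecMulVec u ψ := by
          noncomm_ring
      _ = 1 := by rw [vecMulVec_mul_self_of_dot u ψ h, sub_zero]
  inv_val := by
    calc (1 - vecMulVec u ψ) * (1 + vecMulVec u ψ) = 1 - vecMulVec u ψ * vecMulVec u ψ := by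
          noncomm_ring
      _ = 1 := by rw [vecMulVec_mul_self_of_dot u ψ h, sub_zero]

theorem tvM_val {n : ℕ} (u ψ : Fin n → F) (h : ψ ⬝ᵥ u = 0) :
    ((tvM u ψ h : GL (Fin n) F) : Matrix (Fin n) (Fin n) F) = 1 + vecMulVec u ψ := rfl

theorem tvM_inv_val {n : ℕ} (u ψ : Fin n → F) (h : ψ ⬝ᵥ u = 0) :
    (((tvM u ψ h)⁻¹ : GL (Fin n) F) : Matrix (Fin n) (Fin n) F) = 1 - vecMulVec u ψ := rfl

theorem tvM_det {n : ℕ} (u ψ : Fin n → F) (h : ψ ⬝ᵥ u = 0) :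
    ((tvM u ψ h : GL (Fin n) F) : Matrix (Fin n) (Fin n) F).det = 1 := by
  rw [tvM_val, Matrix.vecMulVec_eq Unit, Matrix.det_one_add_replicateCol_mul_replicateRow, h, add_zero]

theorem vecMulVec_pt (u ψ : Fin a → F) (z φ : Fin b → F) :
    vecMulVec (pt u z) (pt ψ φ) = vecMulVec u ψ ⊗ₖ vecMulVec z φ := by
  ext ⟨i, j⟩ ⟨k, l⟩
  simp only [vecMulVec_apply, pt, kroneckerMap_apply]
  ring

theorem neg_kron (P : Matrix (Fin a) (Fin a) F) (Q : Matrix (Fin b) (Fin b) F) :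
    (-P) ⊗ₖ Q = -(P ⊗ₖ Q) := by
  ext ⟨i, j⟩ ⟨k, l⟩
  simp [kroneckerMap_apply]

theorem kron_neg (P : Matrix (Fin a) (Fin a) F) (Q : Matrix (Fin b) (Fin b) F) :
    P ⊗ₖ (-Q) = -(P ⊗ₖ Q) := by
  ext ⟨i, j⟩ ⟨k, l⟩
  simp [kroneckerMap_apply]

/-- conjugation by a Kronecker product inside `H0` -/
theorem inX_conj_kr (X : Subgroup (GL (Fin a × Fin b) F)) (hX : H0 a b F ≤ X)
    (g₁ : GL (Fin a) F) (g₂ : GL (Fin b) F)
    (hdet : (g₁ : Matrix (Fin a) (Fin a) F).det ^ b * (g₂ : Matrix (Fin b) (Fin b) F).det ^ a = 1)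
    {P : Matrix (Fin a) (Fin a) F} {Q : Matrix (Fin b) (Fin b) F} (h : InX X (P ⊗ₖ Q)) :
    InX X ((g₁.val * P * g₁⁻¹.val) ⊗ₖ (g₂.val * Q * g₂⁻¹.val)) := by
  have := inX_conj X h (krGL g₁ g₂) (hX (krGL_mem_H0 g₁ g₂ hdet))
  have e : (krGL g₁ g₂).val * (P ⊗ₖ Q) * (krGL g₁ g₂)⁻¹.val
      = (g₁.val * P * g₁⁻¹.val) ⊗ₖ (g₂.val * Q * g₂⁻¹.val) := by
    show (g₁.val ⊗ₖ g₂.val) * (P ⊗ₖ Q) * (g₁⁻¹.val ⊗ₖ g₂⁻¹.val) = _
    rw [← Matrix.mul_kronecker_mul, ← Matrix.mul_kronecker_mul]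
  rwa [e] at this

/-- slot `A`: for `Q² = 0` the matrices `P` with `1 + P ⊗ Q ∈ X` -/
def slotA (X : Subgroup (GL (Fin a × Fin b) F)) (Q : Matrix (Fin b) (Fin b) F) (hQ : Q * Q = 0) :
    AddSubgroup (Matrix (Fin a) (Fin a) F) where
  carrier := {P | InX X (P ⊗ₖ Q)}
  zero_mem' := by
    show InX X ((0 : Matrix (Fin a) (Fin a) F) ⊗ₖ Q)
    rw [Matrix.zero_kronecker]; exact inX_zero X
  add_mem' := by
    intro P P' hP hP'
    show InX X ((P + P') ⊗ₖ Q)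
    rw [Matrix.add_kronecker]
    refine inX_add X hP hP' ?_
    rw [← Matrix.mul_kronecker_mul, hQ, Matrix.kronecker_zero]
  neg_mem' := by
    intro P hP
    show InX X ((-P) ⊗ₖ Q)
    rw [neg_kron]
    refine inX_neg X hP ?_
    rw [← Matrix.mul_kronecker_mul, hQ, Matrix.kronecker_zero]

/-- slot `B`: for `P² = 0` the matrices `Q` with `1 + P ⊗ Q ∈ X` -/
def slotB (X : Subgroup (GL (Fin a × Fin b) F)) (P : Matrix (Fin a) (Fin a) F) (hP : P * P = 0) :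
    AddSubgroup (Matrix (Fin b) (Fin b) F) where
  carrier := {Q | InX X (P ⊗ₖ Q)}
  zero_mem' := by
    show InX X (P ⊗ₖ (0 : Matrix (Fin b) (Fin b) F))
    rw [Matrix.kronecker_zero]; exact inX_zero X
  add_mem' := by
    intro Q Q' hQ hQ'
    show InX X (P ⊗ₖ (Q + Q'))
    rw [Matrix.kronecker_add]
    refine inX_add X hQ hQ' ?_
    rw [← Matrix.mul_kronecker_mul, hP, Matrix.zero_kronecker]
  neg_mem' := by
    intro Q hQ
    show InX X (P ⊗ₖ (-Q))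
    rw [kron_neg]
    refine inX_neg X hQ ?_
    rw [← Matrix.mul_kronecker_mul, hP, Matrix.zero_kronecker]

theorem mem_slotA {X : Subgroup (GL (Fin a × Fin b) F)} {Q : Matrix (Fin b) (Fin b) F} {hQ : Q * Q = 0}
    {P : Matrix (Fin a) (Fin a) F} : P ∈ slotA X Q hQ ↔ InX X (P ⊗ₖ Q) := Iff.rfl

theorem mem_slotB {X : Subgroup (GL (Fin a × Fin b) F)} {P : Matrix (Fin a) (Fin a) F} {hP : P * P = 0}
    {Q : Matrix (Fin b) (Fin b) F} : Q ∈ slotB X P hP ↔ InX X (P ⊗ₖ Q) := Iff.rfl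

theorem conjClosed_slotA (X : Subgroup (GL (Fin a × Fin b) F)) (hX : H0 a b F ≤ X)
    (Q : Matrix (Fin b) (Fin b) F) (hQ : Q * Q = 0) : ConjClosed (slotA X Q hQ) := by
  intro u ψ h P hP
  rw [mem_slotA] at hP ⊢
  have := inX_conj_kr X hX (tvM u ψ h) 1 (by rw [tvM_det]; simp) hP
  rwa [tvM_val, tvM_inv_val, inv_one, Units.val_one, Matrix.one_mul, Matrix.mul_one] at this

theorem conjClosed_slotB (X : Subgroup (GL (Fin a × Fin b) F)) (hX : H0 a b F ≤ X)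
    (P : Matrix (Fin a) (Fin a) F) (hP : P * P = 0) : ConjClosed (slotB X P hP) := by
  intro z φ h Q hQ
  rw [mem_slotB] at hQ ⊢
  have := inX_conj_kr X hX 1 (tvM z φ h) (by rw [tvM_det]; simp) hQ
  rwa [tvM_val, tvM_inv_val, inv_one, Units.val_one, Matrix.one_mul, Matrix.mul_one] at this

/-- **T6b1 (first half of T6b).**  From the seed get all DOUBLY incident (pure, pure) transvections. -/
theorem all_incident_tv [Fintype F] (ha : 2 ≤ a) (hb : 3 ≤ b) (hq : ¬ (a = 2 ∧ Fintype.card F = 2))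
    (X : Subgroup (GL (Fin a × Fin b) F)) (hX : H0 a b F ≤ X)
    (u₁ ψ₁ : Fin a → F) (z₁ φ₁ : Fin b → F) (k₁ : GL (Fin a × Fin b) F)
    (hu : u₁ ≠ 0) (hψ : ψ₁ ≠ 0) (hz : z₁ ≠ 0) (hφ : φ₁ ≠ 0) (hφz : φ₁ ⬝ᵥ z₁ = 0) (hk : k₁ ∈ X)
    (hkv : k₁.val = 1 + vecMulVec (pt u₁ z₁) (pt ψ₁ φ₁))
    (u ψ : Fin a → F) (z φ : Fin b → F) (h1 : ψ ⬝ᵥ u = 0) (h2 : φ ⬝ᵥ z = 0) :
    ∃ k : GL (Fin a × Fin b) F, k ∈ X ∧ k.val = 1 + vecMulVec (pt u z) (pt ψ φ) := by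
  have hQ₁ := vecMulVec_mul_self_of_dot z₁ φ₁ hφz
  -- slot A
  have hseedA : vecMulVec u₁ ψ₁ ∈ slotA X (vecMulVec z₁ φ₁) hQ₁ := by
    rw [mem_slotA, ← vecMulVec_pt]; exact ⟨k₁, hk, hkv⟩
  have hCA := conjClosed_slotA X hX (vecMulVec z₁ φ₁) hQ₁
  obtain ⟨ψ', hψ', hψ'u, hseedA'⟩ := hCA.incident_seed ha u₁ ψ₁ hψ hseedA
  have hA : vecMulVec u ψ ∈ slotA X (vecMulVec z₁ φ₁) hQ₁ := by
    rcases Nat.lt_or_ge a 3 with h3 | h3
    · obtain rfl : a = 2 := by omega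
      exact hCA.key_two u₁ ψ' hu hψ' hψ'u hseedA' u ψ h1
    · exact hCA.key_ge_three h3 u₁ ψ' hu hψ' hψ'u hseedA' u ψ h1
  -- slot B
  have hP := vecMulVec_mul_self_of_dot u ψ h1
  have hseedB : vecMulVec z₁ φ₁ ∈ slotB X (vecMulVec u ψ) hP := by
    rw [mem_slotB]; exact mem_slotA.mp hA
  have hCB := conjClosed_slotB X hX (vecMulVec u ψ) hP
  have hB := hCB.key_ge_three hb z₁ φ₁ hz hφ hφz hseedB z φ h2
  rw [mem_slotB, ← vecMulVec_pt] at hB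
  exact hB

end Cfsg.Agent.Lib.H19.Tp
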