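import Cfsg.Agent.Lib.H25.TpDefs

/-!
# S5637 piece T6b1, part (a): generic tools (helper19)

* `InX X E` : `1 + E` is the value of an element of `X`; additivity / conjugation API;
* small linear algebra over `Fin n → F` with the dot product;
* `ConjClosed S` : an additive group of matrices closed under conjugation by transvection matrices;
* `key_ge_three` : such a group (`3 ≤ n`) containing one nilpotent rank one matrix contains all of them.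
-/

set_option autoImplicit false

namespace Cfsg.Agent.Lib.H19.Tp

open Matrix Kronecker Module

variable {F : Type*} [Field F]

/-! ## `InX` -/

/-- `1 + E` is (the value of) an element of `X`. -/
def InX {ι : Type} [Fintype ι] [DecidableEq ι] (X : Subgroup (GL ι F)) (E : Matrix ι ι F) : Prop :=
  ∃ k : GL ι F, k ∈ X ∧ k.val = 1 + E

section InXapi

variable {ι : Type} [Fintype ι] [DecidableEq ι] (X : Subgroup (GL ι F))

theorem inX_zero : InX X (0 : Matrix ι ι F) := ⟨1, X.one_mem, by simp⟩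

theorem inX_add {E E' : Matrix ι ι F} (h : InX X E) (h' : InX X E') (hEE : E * E' = 0) :
    InX X (E + E') := by
  obtain ⟨k, hk, hkv⟩ := h
  obtain ⟨k', hk', hkv'⟩ := h'
  refine ⟨k * k', X.mul_mem hk hk', ?_⟩
  rw [Units.val_mul, hkv, hkv']
  calc (1 + E) * (1 + E') = 1 + (E + E') + E * E' := by noncomm_ring
    _ = 1 + (E + E') := by rw [hEE, add_zero]

theorem inX_neg {E : Matrix ι ι F} (h : InX X E) (hEE : E * E = 0) : InX X (-E) := by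
  obtain ⟨k, hk, hkv⟩ := h
  refine ⟨k⁻¹, X.inv_mem hk, ?_⟩
  apply Units.inv_eq_of_mul_eq_one_right
  rw [hkv]
  calc (1 + E) * (1 + -E) = 1 - E * E := by noncomm_ring
    _ = 1 := by rw [hEE, sub_zero]

theorem inX_conj {E : Matrix ι ι F} (h : InX X E) (g : GL ι F) (hg : g ∈ X) :
    InX X (g.val * E * g⁻¹.val) := by
  obtain ⟨k, hk, hkv⟩ := h
  refine ⟨g * k * g⁻¹, X.mul_mem (X.mul_mem hg hk) (X.inv_mem hg), ?_⟩
  rw [Units.val_mul, Units.val_mul, hkv, mul_add, add_mul, mul_one, Units.mul_inv]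

end InXapi

/-! ## linear algebra with the dot product -/

section LinAlg

variable {n : ℕ}

theorem exists_dot_eq_one' {v : Fin n → F} (hv : v ≠ 0) : ∃ χ : Fin n → F, χ ⬝ᵥ v = 1 := by
  obtain ⟨i, hi⟩ : ∃ i, v i ≠ 0 := by
    by_contra hcon; push Not at hcon; exact hv (funext hcon)
  refine ⟨Pi.single i (v i)⁻¹, ?_⟩
  rw [single_dotProduct, inv_mul_cancel₀ hi]

/-- every linear functional on `F^n` is a dot product -/
theorem exists_vec_of_dual (f : Dual F (Fin n → F)) : ∃ ψ : Fin n → F, ∀ v, ψ ⬝ᵥ v = f v := by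
  refine ⟨fun i => f (fun j => if i = j then 1 else 0), fun v => ?_⟩
  rw [LinearMap.pi_apply_eq_sum_univ f v]
  simp only [dotProduct, smul_eq_mul]
  exact Finset.sum_congr rfl fun i _ => mul_comm _ _

/-- `x ∉ ⟨y⟩` gives a functional killing `y` and taking the value `1` at `x` -/
theorem exists_dot_zero_one {x y : Fin n → F} (h : ∀ s : F, x ≠ s • y) :
    ∃ ψ : Fin n → F, ψ ⬝ᵥ y = 0 ∧ ψ ⬝ᵥ x = 1 := by
  have hx : x ∉ Submodule.span F {y} := by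
    intro hmem
    obtain ⟨s, hs⟩ := Submodule.mem_span_singleton.mp hmem
    exact h s hs.symm
  obtain ⟨f, hfx, hker⟩ := Submodule.exists_le_ker_of_notMem hx
  obtain ⟨ψ, hψ⟩ := exists_vec_of_dual f
  refine ⟨(f x)⁻¹ • ψ, ?_, ?_⟩
  · rw [smul_dotProduct, hψ]
    have : f y = 0 := hker (Submodule.mem_span_singleton_self y)
    rw [this, smul_zero]
  · rw [smul_dotProduct, hψ, smul_eq_mul, inv_mul_cancel₀ hfx]

/-- fewer equations than unknowns -/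
theorem exists_ne_zero_mulVec_eq_zero {k : ℕ} (hk : k < n) (M : Matrix (Fin k) (Fin n) F) :
    ∃ v : Fin n → F, v ≠ 0 ∧ M *ᵥ v = 0 := by
  have hlt : finrank F (Fin k → F) < finrank F (Fin n → F) := by
    simpa using hk
  have hker : LinearMap.ker M.mulVecLin ≠ ⊥ := LinearMap.ker_ne_bot_of_finrank_lt hlt
  obtain ⟨v, hv, hv0⟩ := (Submodule.ne_bot_iff _).mp hker
  exact ⟨v, hv0, by simpa using hv⟩

theorem exists_ne_zero_dot_eq_zero (hn : 2 ≤ n) (u : Fin n → F) :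
    ∃ ψ : Fin n → F, ψ ≠ 0 ∧ ψ ⬝ᵥ u = 0 := by
  obtain ⟨v, hv, h0⟩ := exists_ne_zero_mulVec_eq_zero (F := F) (k := 1) (by omega) (Matrix.of ![u])
  refine ⟨v, hv, ?_⟩
  have := congrFun h0 0
  simp only [Matrix.mulVec, Pi.zero_apply] at this
  rw [dotProduct_comm]
  simpa using this

theorem exists_ne_zero_dot_eq_zero₂ (hn : 3 ≤ n) (ψ₁ ψ₂ : Fin n → F) :
    ∃ v : Fin n → F, v ≠ 0 ∧ ψ₁ ⬝ᵥ v = 0 ∧ ψ₂ ⬝ᵥ v = 0 := by
  obtain ⟨v, hv, h0⟩ := exists_ne_zero_mulVec_eq_zero (F := F) (k := 2) (by omega) (Matrix.of ![ψ₁, ψ₂])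
  refine ⟨v, hv, ?_, ?_⟩
  · have := congrFun h0 0
    simpa [Matrix.mulVec] using this
  · have := congrFun h0 1
    simpa [Matrix.mulVec] using this

/-- a vector of `ker ψ` outside `⟨u⟩` (`u ≠ 0`, `3 ≤ n`) -/
theorem exists_ker_not_smul (hn : 3 ≤ n) (ψ u : Fin n → F) (hu : u ≠ 0) :
    ∃ v : Fin n → F, ψ ⬝ᵥ v = 0 ∧ ∀ t : F, v ≠ t • u := by
  obtain ⟨χ, hχ⟩ := exists_dot_eq_one' hu
  obtain ⟨v, hv, h1, h2⟩ := exists_ne_zero_dot_eq_zero₂ hn ψ χ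
  refine ⟨v, h1, fun t ht => ?_⟩
  rw [ht, dotProduct_smul, hχ, smul_eq_mul, mul_one] at h2
  rw [h2, zero_smul] at ht
  exact hv ht

end LinAlg

/-! ## conjugation-closed additive groups of matrices -/

section Key

variable {n : ℕ}

/-- `S` is closed under conjugation by the transvection matrices `1 + u ψᵀ`, `ψ(u) = 0`. -/
def ConjClosed (S : AddSubgroup (Matrix (Fin n) (Fin n) F)) : Prop :=
  ∀ (u ψ : Fin n → F), ψ ⬝ᵥ u = 0 → ∀ P ∈ S, (1 + vecMulVec u ψ) * P * (1 - vecMulVec u ψ) ∈ S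

theorem conj_vecMulVec (u' ψ' u ψ : Fin n → F) :
    (1 + vecMulVec u' ψ') * vecMulVec u ψ * (1 - vecMulVec u' ψ')
      = vecMulVec (u + (ψ' ⬝ᵥ u) • u') (ψ - (ψ ⬝ᵥ u') • ψ') := by
  rw [mul_vecMulVec, vecMulVec_mul, add_mulVec, one_mulVec, vecMulVec_mulVec, vecMul_sub, vecMul_one,
    vecMul_vecMulVec, op_smul_eq_smul]

theorem ConjClosed.move {S : AddSubgroup (Matrix (Fin n) (Fin n) F)} (hS : ConjClosed S)
    {u ψ : Fin n → F} (hmem : vecMulVec u ψ ∈ S) (u' ψ' : Fin n → F) (h : ψ' ⬝ᵥ u' = 0) :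
    vecMulVec (u + (ψ' ⬝ᵥ u) • u') (ψ - (ψ ⬝ᵥ u') • ψ') ∈ S := by
  rw [← conj_vecMulVec]
  exact hS u' ψ' h _ hmem

/-- Step 0: a rank one seed gives a nilpotent rank one seed. -/
theorem ConjClosed.incident_seed (hn : 2 ≤ n) {S : AddSubgroup (Matrix (Fin n) (Fin n) F)}
    (hS : ConjClosed S) (u₁ ψ₁ : Fin n → F) (hψ₁ : ψ₁ ≠ 0) (hseed : vecMulVec u₁ ψ₁ ∈ S) :
    ∃ ψ' : Fin n → F, ψ' ≠ 0 ∧ ψ' ⬝ᵥ u₁ = 0 ∧ vecMulVec u₁ ψ' ∈ S := by
  by_cases h : ψ₁ ⬝ᵥ u₁ = 0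
  · exact ⟨ψ₁, hψ₁, h, hseed⟩
  · obtain ⟨ψ', hψ', h0⟩ := exists_ne_zero_dot_eq_zero hn u₁
    refine ⟨ψ', hψ', h0, ?_⟩
    have h1 : ψ' ⬝ᵥ (-(ψ₁ ⬝ᵥ u₁)⁻¹ • u₁) = 0 := by rw [dotProduct_smul, h0, smul_zero]
    have h2 := hS.move hseed (-(ψ₁ ⬝ᵥ u₁)⁻¹ • u₁) ψ' h1
    have h3 : ψ₁ ⬝ᵥ (-(ψ₁ ⬝ᵥ u₁)⁻¹ • u₁) = -1 := by
      rw [dotProduct_smul, smul_eq_mul, neg_mul, inv_mul_cancel₀ h]
    rw [h0, zero_smul, add_zero, h3, neg_one_smul, sub_neg_eq_add, vecMulVec_add] at h2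
    have h4 := S.sub_mem h2 hseed
    rwa [add_sub_cancel_left] at h4

/-- Claim B: the first slot can be moved inside `ker ψ` (`3 ≤ n`). -/
theorem ConjClosed.claimB (hn : 3 ≤ n) {S : AddSubgroup (Matrix (Fin n) (Fin n) F)}
    (hS : ConjClosed S) {u ψ : Fin n → F} (hu : u ≠ 0) (_h0 : ψ ⬝ᵥ u = 0) (hmem : vecMulVec u ψ ∈ S)
    (u' : Fin n → F) (h' : ψ ⬝ᵥ u' = 0) : vecMulVec u' ψ ∈ S := by
  -- the independent case
  have B0 : ∀ w : Fin n → F, ψ ⬝ᵥ w = 0 → (∀ s : F, u ≠ s • w) → vecMulVec w ψ ∈ S := by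
    intro w hw hind
    obtain ⟨χ, hχw, hχu⟩ := exists_dot_zero_one hind
    have h2 := hS.move hmem w χ hχw
    rw [hχu, one_smul, hw, zero_smul, sub_zero, add_vecMulVec] at h2
    have h4 := S.sub_mem h2 hmem
    rwa [add_sub_cancel_left] at h4
  by_cases hpar : ∃ s : F, u = s • u'
  · obtain ⟨s, hs⟩ := hpar
    have hs0 : s ≠ 0 := by
      rintro rfl; rw [zero_smul] at hs; exact hu hs
    have hu' : u' = s⁻¹ • u := by rw [hs, smul_smul, inv_mul_cancel₀ hs0, one_smul]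
    obtain ⟨v₂, hv₂, hv₂u⟩ := exists_ker_not_smul hn ψ u hu
    have m1 : vecMulVec v₂ ψ ∈ S := by
      refine B0 v₂ hv₂ fun t ht => ?_
      have ht0 : t ≠ 0 := by
        rintro rfl; rw [zero_smul] at ht; exact hu ht
      exact hv₂u t⁻¹ (by rw [ht, smul_smul, inv_mul_cancel₀ ht0, one_smul])
    have m2 : vecMulVec (u' + v₂) ψ ∈ S := by
      refine B0 (u' + v₂) (by rw [dotProduct_add, h', hv₂, add_zero]) fun t ht => ?_
      have ht0 : t ≠ 0 := by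
        rintro rfl; rw [zero_smul] at ht; exact hu ht
      refine hv₂u (t⁻¹ - s⁻¹) ?_
      have : u' + v₂ = t⁻¹ • u := by
        rw [ht, smul_smul, inv_mul_cancel₀ ht0, one_smul]
      rw [sub_smul, ← this, ← hu', add_sub_cancel_left]
    have h4 := S.sub_mem m2 m1
    rwa [add_vecMulVec, add_sub_cancel_right] at h4
  · push Not at hpar
    exact B0 u' h' hpar

/-- the transposed group -/
def tS (S : AddSubgroup (Matrix (Fin n) (Fin n) F)) : AddSubgroup (Matrix (Fin n) (Fin n) F) :=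
  S.comap (Matrix.transposeAddEquiv (Fin n) (Fin n) F).toAddMonoidHom

theorem mem_tS {S : AddSubgroup (Matrix (Fin n) (Fin n) F)} {P : Matrix (Fin n) (Fin n) F} :
    P ∈ tS S ↔ Pᵀ ∈ S := Iff.rfl

theorem ConjClosed.transp {S : AddSubgroup (Matrix (Fin n) (Fin n) F)} (hS : ConjClosed S) :
    ConjClosed (tS S) := by
  intro u ψ h P hP
  rw [mem_tS] at hP ⊢
  have h1 : (-u) ⬝ᵥ ψ = 0 := by rw [neg_dotProduct, dotProduct_comm, h, neg_zero]
  have := hS ψ (-u) h1 _ hP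
  rw [vecMulVec_neg, ← sub_eq_add_neg, sub_neg_eq_add] at this
  rw [transpose_mul, transpose_mul, transpose_sub, transpose_add, transpose_one, transpose_vecMulVec,
    ← Matrix.mul_assoc]
  exact this

/-- Claim A: the second slot can be moved inside `u^⊥` (`3 ≤ n`). -/
theorem ConjClosed.claimA (hn : 3 ≤ n) {S : AddSubgroup (Matrix (Fin n) (Fin n) F)}
    (hS : ConjClosed S) {u ψ : Fin n → F} (hψ : ψ ≠ 0) (h0 : ψ ⬝ᵥ u = 0) (hmem : vecMulVec u ψ ∈ S)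
    (ψ' : Fin n → F) (h' : ψ' ⬝ᵥ u = 0) : vecMulVec u ψ' ∈ S := by
  have h1 : vecMulVec ψ u ∈ tS S := by rw [mem_tS, transpose_vecMulVec]; exact hmem
  have h2 := hS.transp.claimB hn hψ (by rw [dotProduct_comm]; exact h0) h1 ψ'
    (by rw [dotProduct_comm]; exact h')
  rw [mem_tS, transpose_vecMulVec] at h2
  exact h2

/-- **Key lemma, `3 ≤ n`.** -/
theorem ConjClosed.key_ge_three (hn : 3 ≤ n) {S : AddSubgroup (Matrix (Fin n) (Fin n) F)}
    (hS : ConjClosed S) (u₁ ψ₁ : Fin n → F) (hu₁ : u₁ ≠ 0) (hψ₁ : ψ₁ ≠ 0) (h₁ : ψ₁ ⬝ᵥ u₁ = 0)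
    (hseed : vecMulVec u₁ ψ₁ ∈ S) (u ψ : Fin n → F) (h : ψ ⬝ᵥ u = 0) : vecMulVec u ψ ∈ S := by
  obtain ⟨v, hv, hv1, hv2⟩ := exists_ne_zero_dot_eq_zero₂ hn ψ₁ ψ
  have m1 : vecMulVec v ψ₁ ∈ S := hS.claimB hn hu₁ h₁ hseed v hv1
  by_cases hψ : ψ = 0
  · rw [hψ, vecMulVec_zero]; exact S.zero_mem
  have m2 : vecMulVec v ψ ∈ S := hS.claimA hn hψ₁ hv1 m1 ψ hv2
  exact hS.claimB hn hv hv2 m2 u h

end Key

end Cfsg.Agent.Lib.H19.Tp
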