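import Cfsg.Agent.Lib.H19.TpT6b1a

/-!
# S5637 piece T6b1, part (b): the key lemma in dimension two (helper19)
-/

set_option autoImplicit false

namespace Cfsg.Agent.Lib.H19.Tp

open Matrix Kronecker Module

variable {F : Type*} [Field F]

/-- the functional `ω(w, ·)` of the standard symplectic form on `F²` -/
def om (w : Fin 2 → F) : Fin 2 → F := ![-w 1, w 0]

theorem om_dot (w v : Fin 2 → F) : om w ⬝ᵥ v = -w 1 * v 0 + w 0 * v 1 := by
  simp [om, dotProduct, Fin.sum_univ_two]

theorem om_dot_self (w : Fin 2 → F) : om w ⬝ᵥ w = 0 := by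
  rw [om_dot]; ring

theorem om_add (w v : Fin 2 → F) : om (w + v) = om w + om v := by
  funext i; fin_cases i <;> simp [om] <;> ring

theorem om_smul (c : F) (w : Fin 2 → F) : om (c • w) = c • om w := by
  funext i; fin_cases i <;> simp [om]

theorem om_ne_zero {w : Fin 2 → F} (hw : w ≠ 0) : om w ≠ 0 := by
  intro h
  apply hw
  have h0 := congrFun h 0
  have h1 := congrFun h 1
  simp [om] at h0 h1
  funext i; fin_cases i
  · simpa using h1
  · simpa using h0

/-- in dimension two the functionals killing `u ≠ 0` are the multiples of `ω(u, ·)` -/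
theorem exists_smul_om {u ψ : Fin 2 → F} (hu : u ≠ 0) (h : ψ ⬝ᵥ u = 0) : ∃ c : F, ψ = c • om u := by
  have h' : ψ 0 * u 0 + ψ 1 * u 1 = 0 := by
    simpa [dotProduct, Fin.sum_univ_two] using h
  by_cases h0 : u 0 = 0
  · have h1 : u 1 ≠ 0 := by
      intro h1; apply hu; funext i; fin_cases i
      · simpa using h0
      · simpa using h1
    refine ⟨-ψ 0 / u 1, ?_⟩
    funext i; fin_cases i
    · simp [om]; field_simp
    · simp [om, h0]
      rw [h0, mul_zero, zero_add] at h'
      rcases mul_eq_zero.mp h' with h2 | h2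
      · exact h2
      · exact absurd h2 h1
  · refine ⟨ψ 1 / u 0, ?_⟩
    funext i; fin_cases i
    · simp [om]; field_simp; linear_combination h'
    · simp [om]; field_simp

/-- `N(w) = w ω(w, ·)ᵀ` -/
def NN2 (w : Fin 2 → F) : Matrix (Fin 2) (Fin 2) F := vecMulVec w (om w)

theorem NN2_smul (s : F) (w : Fin 2 → F) : NN2 (s • w) = (s * s) • NN2 w := by
  unfold NN2
  rw [om_smul, smul_vecMulVec, vecMulVec_smul, smul_smul]

theorem NN2_zero : NN2 (0 : Fin 2 → F) = 0 := by
  unfold NN2; rw [zero_vecMulVec]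

theorem conj_NN2 (u' w : Fin 2 → F) (d : F) :
    (1 + vecMulVec u' (d • om u')) * NN2 w * (1 - vecMulVec u' (d • om u'))
      = NN2 (w + (d * (om u' ⬝ᵥ w)) • u') := by
  unfold NN2
  rw [conj_vecMulVec, om_add, om_smul, smul_dotProduct, smul_eq_mul]
  congr 1
  rw [sub_eq_add_neg, ← neg_smul, smul_smul]
  congr 2
  rw [om_dot, om_dot]; ring

/-- sums/differences of squares in a finite field -/
theorem exists_sq_sub_sq [Fintype F] (x : F) : ∃ α β : F, x = α * α - β * β := by
  by_cases h2 : (2 : F) = 0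
  · have : CharP F 2 := CharTwo.of_one_ne_zero_of_two_eq_zero one_ne_zero h2
    have hchar : ringChar F = 2 := ringChar.eq F 2
    obtain ⟨α, hα⟩ := FiniteField.isSquare_of_char_two hchar x
    exact ⟨α, 0, by rw [hα]; ring⟩
  · exact ⟨(x + 1) / 2, (x - 1) / 2, by field_simp; ring⟩

/-- **Key lemma, `n = 2`.** -/
theorem ConjClosed.key_two [Fintype F] {S : AddSubgroup (Matrix (Fin 2) (Fin 2) F)}
    (hS : ConjClosed S) (u₁ ψ₁ : Fin 2 → F) (hu₁ : u₁ ≠ 0) (hψ₁ : ψ₁ ≠ 0) (h₁ : ψ₁ ⬝ᵥ u₁ = 0)
    (hseed : vecMulVec u₁ ψ₁ ∈ S) (u ψ : Fin 2 → F) (h : ψ ⬝ᵥ u = 0) : vecMulVec u ψ ∈ S := by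
  obtain ⟨c₀, hc₀⟩ := exists_smul_om hu₁ h₁
  have hc₀0 : c₀ ≠ 0 := by
    rintro rfl; rw [zero_smul] at hc₀; exact hψ₁ hc₀
  -- the orbit set
  have hseed' : c₀ • NN2 u₁ ∈ S := by
    unfold NN2; rw [← vecMulVec_smul, ← hc₀]; exact hseed
  -- moves
  have move : ∀ w : Fin 2 → F, c₀ • NN2 w ∈ S → ∀ (u' : Fin 2 → F) (d : F),
      c₀ • NN2 (w + (d * (om u' ⬝ᵥ w)) • u') ∈ S := by
    intro w hw u' d
    have h0 : (d • om u') ⬝ᵥ u' = 0 := by rw [smul_dotProduct, om_dot_self, smul_zero]
    have := hS u' (d • om u') h0 _ hw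
    rwa [Matrix.mul_smul, Matrix.smul_mul, conj_NN2] at this
  -- one step: independent vectors
  have step : ∀ w w' : Fin 2 → F, c₀ • NN2 w ∈ S → om w' ⬝ᵥ w ≠ 0 → c₀ • NN2 w' ∈ S := by
    intro w w' hw hne
    have h1 : om (w' - w) ⬝ᵥ w = om w' ⬝ᵥ w := by
      rw [om_dot, om_dot]; simp only [Pi.sub_apply]; ring
    have := move w hw (w' - w) (om w' ⬝ᵥ w)⁻¹
    rwa [h1, inv_mul_cancel₀ hne, one_smul, add_sub_cancel] at this
  -- all nonzero vectors
  have all : ∀ w : Fin 2 → F, c₀ • NN2 w ∈ S := by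
    intro w
    by_cases hw : w = 0
    · rw [hw, NN2_zero, smul_zero]; exact S.zero_mem
    by_cases hne : om w ⬝ᵥ u₁ ≠ 0
    · exact step u₁ w hseed' hne
    · push Not at hne
      rw [om_dot] at hne
      by_cases h0 : u₁ 0 = 0
      · have h1 : u₁ 1 ≠ 0 := by
          intro h1; apply hu₁; funext i; fin_cases i
          · simpa using h0
          · simpa using h1
        -- intermediate vector e₁ = ![1, 0]
        have hw1 : w 1 ≠ 0 := by
          intro hw1
          rw [h0, hw1] at hne
          have : w 0 = 0 := by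
            have : w 0 * u₁ 1 = 0 := by linear_combination hne
            rcases mul_eq_zero.mp this with h2 | h2
            · exact h2
            · exact absurd h2 h1
          apply hw; funext i; fin_cases i
          · simpa using this
          · simpa using hw1
        have m1 : c₀ • NN2 (![1, 0] : Fin 2 → F) ∈ S := by
          refine step u₁ _ hseed' ?_
          rw [om_dot]; simpa using h1
        refine step _ w m1 ?_
        rw [om_dot]; simpa using hw1
      · -- intermediate vector e₂ = ![0, 1]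
        have hw0 : w 0 ≠ 0 := by
          intro hw0
          rw [hw0] at hne
          have : w 1 = 0 := by
            have : w 1 * u₁ 0 = 0 := by linear_combination -hne
            rcases mul_eq_zero.mp this with h2 | h2
            · exact h2
            · exact absurd h2 h0
          apply hw; funext i; fin_cases i
          · simpa using hw0
          · simpa using this
        have m1 : c₀ • NN2 (![0, 1] : Fin 2 → F) ∈ S := by
          refine step u₁ _ hseed' ?_
          rw [om_dot]; simpa using h0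
        refine step _ w m1 ?_
        rw [om_dot]; simpa using hw0
  -- the target
  by_cases hu : u = 0
  · rw [hu, zero_vecMulVec]; exact S.zero_mem
  obtain ⟨c, hc⟩ := exists_smul_om hu h
  obtain ⟨α, β, hαβ⟩ := exists_sq_sub_sq (c / c₀)
  have e1 : vecMulVec u ψ = c₀ • NN2 (α • u) - c₀ • NN2 (β • u) := by
    rw [NN2_smul, NN2_smul, smul_smul, smul_smul, ← sub_smul, ← mul_sub, ← hαβ,
      mul_div_cancel₀ c hc₀0, hc]
    unfold NN2
    rw [vecMulVec_smul]
  rw [e1]
  exact S.sub_mem (all _) (all _)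

end Cfsg.Agent.Lib.H19.Tp
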