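import Mathlib
import Cfsg.Agent.Lib.H19.WardF4

/-!
# Ward's theorem, part H: the abstract form (helper19)

`ward_abstract` : a finite solvable group `G` with two commuting automorphisms of prime order `p`
without common nontrivial fixed points has a nilpotent normal subgroup with nilpotent quotient.
-/

set_option autoImplicit false
set_option linter.style.haveILetI false
set_option linter.unusedSectionVars false

namespace Cfsg.Agent.Lib.H19.Ward

universe u

open SemidirectProduct in
theorem ward_abstract {G : Type u} [Group G] [Finite G] (hG : Group.IsSolvable G) {p : ℕ}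
    [Fact p.Prime] (x₀ y₀ : MulAut G) (hxy : x₀ * y₀ = y₀ * x₀) (hx : x₀ ^ p = 1)
    (hy : y₀ ^ p = 1) (hfix : ∀ g : G, x₀ g = g → y₀ g = g → g = 1) :
    ∃ N₀ : Subgroup G, N₀.Normal ∧ Group.IsNilpotent ↥N₀ ∧
      ∃ m : ℕ, (⊤ : Subgroup G).lowerCentralSeries m ≤ N₀ := by
  haveI : Finite (MulAut G) := inferInstance
  let φ : MulAut G →* MulAut G := MonoidHom.id _
  haveI : Finite (G ⋊[φ] MulAut G) := Finite.of_equiv _ (SemidirectProduct.equivProd (φ := φ)).symm
  obtain ⟨Gt, hGt⟩ : ∃ Gt : Subgroup (G ⋊[φ] MulAut G), Gt = (inl : G →* G ⋊[φ] MulAut G).range :=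
    ⟨_, rfl⟩
  haveI hGtn : Gt.Normal := by
    rw [hGt, range_inl_eq_ker_rightHom]; infer_instance
  have hGts : Group.IsSolvable ↥Gt := by
    haveI := hG
    rw [hGt]
    exact Group.isSolvable_of_surjective (f := (inl : G →* G ⋊[φ] MulAut G).rangeRestrict)
      (MonoidHom.rangeRestrict_surjective _)
  have hconj : ∀ (a : MulAut G) (g : G),
      (inr a : G ⋊[φ] MulAut G) * inl g = inl g * inr a → a g = g := by
    intro a g h
    have h1 : (inl (φ a g) : G ⋊[φ] MulAut G) = inr a * inl g * (inr a)⁻¹ := by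
      rw [inl_aut, map_inv]
    rw [h, mul_assoc, mul_inv_cancel, mul_one] at h1
    exact inl_injective h1
  obtain ⟨N, hNG, hNn, hNnil, m, hm⟩ := ward_ambient (p := p) (Nat.card Gt) (G ⋊[φ] MulAut G) Gt rfl
    hGts (inr x₀) (inr y₀) (by rw [← map_mul, ← map_mul, hxy]) (by rw [← map_pow, hx, map_one])
    (by rw [← map_pow, hy, map_one]) (by
      intro g' hg' h1 h2
      rw [hGt] at hg'
      obtain ⟨g, rfl⟩ := hg'
      rw [hfix g (hconj x₀ g h1) (hconj y₀ g h2), map_one])
  refine ⟨N.comap inl, Subgroup.Normal.comap hNn _, ?_, m, ?_⟩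
  · let f : ↥(N.comap (inl : G →* G ⋊[φ] MulAut G)) →* ↥N :=
      ((inl : G →* G ⋊[φ] MulAut G).comp (N.comap inl).subtype).codRestrict N (fun t => t.2)
    haveI := hNnil
    apply Subgroup.isNilpotent_of_ker_le_center f
    intro t ht
    rw [MonoidHom.mem_ker] at ht
    have h1 : (inl (t : G) : G ⋊[φ] MulAut G) = 1 := congrArg Subtype.val ht
    have h2 : (t : G) = 1 := inl_injective (by rw [h1, map_one])
    have h3 : t = 1 := Subtype.ext h2
    rw [h3]
    exact Subgroup.one_mem _
  · rw [← Subgroup.map_le_iff_le_comap, Subgroup.map_lowerCentralSeries, ← MonoidHom.range_eq_map,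
      ← hGt]
    exact hm

end Cfsg.Agent.Lib.H19.Ward
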