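/-
helper19: generic lemma for S4415 (B5): in a linear representation of a group `X` in which a central
involution `z` acts as `-1` and `X/⟨z⟩` is "symplectic nondegenerate" (every `g ∉ {1, z}` is conjugate to `g * z`),
operators of elements that are distinct modulo `⟨z⟩` are linearly independent; hence `|X| ≤ 2 (dim W)^2`.
Sig-independent core (Mathlib only).
-/
import Mathlib

set_option autoImplicit false
set_option linter.style.haveILetI false

namespace Cfsg.Agent.Lib.H19.XSPLI

variable {k W X : Type*} [Field k] [AddCommGroup W] [Module k W] [Group X]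

/-- Hypotheses packaged: `z` central of order dividing 2 acting as `-1`, conjugation moves every element by at most
`z`, and every element outside `{1, z}` is moved by some conjugation. -/
structure Setup (ρ : X →* Module.End k W) (z : X) : Prop where
  two_ne : (2 : k) ≠ 0
  rho_z : ρ z = -1
  z_central : ∀ g : X, g * z = z * g
  z_sq : z * z = 1
  z_ne : z ≠ 1
  conj_cases : ∀ h g : X, h * g * h⁻¹ = g ∨ h * g * h⁻¹ = g * z
  moved : ∀ g : X, g ≠ 1 → g ≠ z → ∃ h : X, h * g * h⁻¹ = g * z

variable {ρ : X →* Module.End k W} {z : X}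

/-- the sign `χ(h, g) ∈ {1, -1} ⊆ k` with `ρ (h g h⁻¹) = χ(h,g) • ρ g`. -/
noncomputable def sgn (h g : X) : k := by
  classical exact if h * g * h⁻¹ = g then 1 else -1

theorem rho_conj (hS : Setup ρ z) (h g : X) :
    ρ h * ρ g * ρ h⁻¹ = sgn (k := k) h g • ρ g := by
  classical
  rw [← map_mul, ← map_mul]
  unfold sgn
  by_cases hc : h * g * h⁻¹ = g
  · rw [if_pos hc, hc, one_smul]
  · rw [if_neg hc]
    rcases hS.conj_cases h g with h1 | h1
    · exact absurd h1 hc
    · rw [h1, map_mul, hS.rho_z]
      simp

theorem sgn_sq (h g : X) : sgn (k := k) h g * sgn (k := k) h g = 1 := by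
  classical
  unfold sgn
  split_ifs <;> simp

/-- non-congruence modulo `⟨z⟩`. -/
def NC (z : X) (g g' : X) : Prop := g ≠ g' ∧ g ≠ g' * z

theorem exists_sgn_ne (hS : Setup ρ z) {g g' : X} (hne : NC z g g') :
    ∃ h : X, sgn (k := k) h g ≠ sgn (k := k) h g' := by
  classical
  have hu1 : g * g'⁻¹ ≠ 1 := by
    intro h
    exact hne.1 (mul_inv_eq_one.mp h)
  have hu2 : g * g'⁻¹ ≠ z := by
    intro h
    apply hne.2
    rw [hS.z_central, ← h]
    group
  obtain ⟨h, hh⟩ := hS.moved _ hu1 hu2
  refine ⟨h, ?_⟩
  have key : h * g * h⁻¹ = (h * (g * g'⁻¹) * h⁻¹) * (h * g' * h⁻¹) := by group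
  rw [hh] at key
  have hm1 : (1 : k) ≠ -1 := by
    intro h1
    apply hS.two_ne
    have : (2 : k) = 1 + 1 := by norm_num
    rw [this]
    nth_rewrite 1 [h1]
    exact neg_add_cancel 1
  have hzc : ∀ a : X, z * a = a * z := fun a => (hS.z_central a).symm
  unfold sgn
  by_cases hc' : h * g' * h⁻¹ = g'
  · rw [if_pos hc']
    rw [hc'] at key
    have h3 : g * g'⁻¹ * z * g' = g * z := by
      rw [mul_assoc (g * g'⁻¹), hzc g', ← mul_assoc]
      group
    rw [h3] at key
    have : h * g * h⁻¹ ≠ g := by
      rw [key]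
      intro h2
      exact hS.z_ne (mul_left_cancel (a := g) (b := z) (c := 1) (by rw [h2, mul_one]))
    rw [if_neg this]
    exact hm1.symm
  · rw [if_neg hc']
    have h4 : h * g' * h⁻¹ = g' * z := by
      rcases hS.conj_cases h g' with h5 | h5
      · exact absurd h5 hc'
      · exact h5
    rw [h4] at key
    have h3 : g * g'⁻¹ * z * (g' * z) = g := by
      rw [mul_assoc (g * g'⁻¹), ← mul_assoc z, hzc g', mul_assoc g', hS.z_sq, mul_one]
      group
    rw [h3] at key
    rw [if_pos key]
    exact hm1

/-- The core: operators of pairwise non-congruent elements are linearly independent. -/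
theorem coeff_eq_zero [Nontrivial W] (hS : Setup ρ z) (s : Finset X)
    (hs : ∀ g ∈ s, ∀ g' ∈ s, g ≠ g' → NC z g g') (a : X → k)
    (hrel : ∑ g ∈ s, a g • ρ g = 0) : ∀ g ∈ s, a g = 0 := by
  classical
  induction s using Finset.induction_on generalizing a with
  | empty => intro g hg; simp at hg
  | insert j s' hj ih =>
    have hs' : ∀ g ∈ s', ∀ g' ∈ s', g ≠ g' → NC z g g' := fun g hg g' hg' hne =>
      hs g (Finset.mem_insert_of_mem hg) g' (Finset.mem_insert_of_mem hg') hne
    rw [Finset.sum_insert hj] at hrel
    -- all coefficients on s' vanish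
    have hall : ∀ i ∈ s', a i = 0 := by
      intro i hi
      have hij : i ≠ j := fun h => hj (h ▸ hi)
      obtain ⟨h, hh⟩ := exists_sgn_ne (k := k) hS
        (hs i (Finset.mem_insert_of_mem hi) j (Finset.mem_insert_self _ _) hij)
      -- conjugate the relation by h
      have hconj : ρ h * (a j • ρ j + ∑ g ∈ s', a g • ρ g) * ρ h⁻¹ = 0 := by
        rw [hrel]; simp
      have hconj' : a j • (sgn (k := k) h j • ρ j) + ∑ g ∈ s', a g • (sgn (k := k) h g • ρ g) = 0 := by
        rw [← hconj, mul_add, add_mul, Finset.mul_sum, Finset.sum_mul]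
        congr 1
        · rw [mul_smul_comm, smul_mul_assoc, rho_conj hS]
        · apply Finset.sum_congr rfl
          intro g _
          rw [mul_smul_comm, smul_mul_assoc, rho_conj hS]
      -- subtract sgn h j times the relation
      have hsub : ∑ g ∈ s', (a g * (sgn (k := k) h g - sgn (k := k) h j)) • ρ g = 0 := by
        have h1 : sgn (k := k) h j • (a j • ρ j + ∑ g ∈ s', a g • ρ g) = 0 := by rw [hrel, smul_zero]
        rw [smul_add, Finset.smul_sum] at h1
        have h2 := congrArg₂ (· - ·) hconj' h1
        simp only [sub_zero] at h2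
        rw [← h2]
        have e1 : a j • sgn (k := k) h j • ρ j = sgn (k := k) h j • a j • ρ j := smul_comm _ _ _
        rw [e1, add_sub_add_left_eq_sub, ← Finset.sum_sub_distrib]
        apply Finset.sum_congr rfl
        intro g _
        rw [smul_smul, smul_smul, ← sub_smul]
        congr 1
        ring
      have h3 := ih hs' (fun g => a g * (sgn (k := k) h g - sgn (k := k) h j)) hsub i hi
      rcases mul_eq_zero.mp h3 with h4 | h4
      · exact h4
      · exact absurd (sub_eq_zero.mp h4) hh
    -- then the coefficient of j vanishes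
    have hsum0 : ∑ g ∈ s', a g • ρ g = 0 := by
      apply Finset.sum_eq_zero
      intro g hg
      rw [hall g hg, zero_smul]
    rw [hsum0, add_zero] at hrel
    have haj : a j = 0 := by
      by_contra hne
      have h5 : ρ j = 0 := by
        rcases smul_eq_zero.mp hrel with h6 | h6
        · exact absurd h6 hne
        · exact h6
      have h7 : ρ j * ρ j⁻¹ = 1 := by rw [← map_mul, mul_inv_cancel, map_one]
      rw [h5, zero_mul] at h7
      obtain ⟨w, hw⟩ := exists_ne (0 : W)
      have h8 : (0 : Module.End k W) w = (1 : Module.End k W) w := by rw [h7]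
      simp at h8
      exact hw h8.symm
    intro g hg
    rcases Finset.mem_insert.mp hg with h9 | h9
    · rw [h9]; exact haj
    · exact hall g h9

/-- Linear independence in `Module.End k W` of the operators of a pairwise non-congruent family. -/
theorem linearIndependent_of_NC [Nontrivial W] (hS : Setup ρ z) (T : Finset X)
    (hT : ∀ g ∈ T, ∀ g' ∈ T, g ≠ g' → NC z g g') :
    LinearIndependent k (fun g : T => ρ (g : X)) := by
  classical
  rw [linearIndependent_iff']
  intro s a hrel i hi
  -- transport to a finset of X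
  let s' : Finset X := s.image (fun g : T => (g : X))
  let a' : X → k := fun g => if hg : g ∈ T then a ⟨g, hg⟩ else 0
  have hs' : ∀ g ∈ s', ∀ g' ∈ s', g ≠ g' → NC z g g' := by
    intro g hg g' hg' hne
    obtain ⟨u, _, rfl⟩ := Finset.mem_image.mp hg
    obtain ⟨u', _, rfl⟩ := Finset.mem_image.mp hg'
    exact hT _ u.2 _ u'.2 hne
  have hrel' : ∑ g ∈ s', a' g • ρ g = 0 := by
    rw [Finset.sum_image (fun x _ y _ h => Subtype.ext h)]
    rw [← hrel]
    apply Finset.sum_congr rfl
    intro g _
    simp only [a']
    rw [dif_pos g.2]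
  have h1 := coeff_eq_zero hS s' hs' a' hrel' (i : X) (Finset.mem_image_of_mem _ hi)
  simp only [a'] at h1
  rw [dif_pos i.2] at h1
  exact h1

theorem card_le [Nontrivial W] [FiniteDimensional k W] [Finite X] (hS : Setup ρ z) :
    Nat.card X ≤ 2 * (Module.finrank k W) ^ 2 := by
  classical
  haveI : Fintype X := Fintype.ofFinite X
  let Z : Subgroup X := Subgroup.zpowers z
  haveI : Fintype (X ⧸ Z) := Fintype.ofFinite _
  let T : Finset X := Finset.univ.image (fun q : X ⧸ Z => q.out)
  have hout : Function.Injective (fun q : X ⧸ Z => q.out) := by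
    intro q q' h
    have := congrArg (fun g : X => (QuotientGroup.mk g : X ⧸ Z)) h
    simpa using this
  have hT : ∀ g ∈ T, ∀ g' ∈ T, g ≠ g' → NC z g g' := by
    intro g hg g' hg' hne
    obtain ⟨q, _, rfl⟩ := Finset.mem_image.mp hg
    obtain ⟨q', _, rfl⟩ := Finset.mem_image.mp hg'
    refine ⟨hne, ?_⟩
    intro h
    apply hne
    have h2 : (QuotientGroup.mk q.out : X ⧸ Z) = QuotientGroup.mk q'.out := by
      rw [QuotientGroup.eq]
      have : (q.out)⁻¹ * q'.out = z⁻¹ := by
        have h' : q.out = q'.out * z := h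
        rw [h']; group
      rw [this]
      exact Subgroup.inv_mem _ (Subgroup.mem_zpowers z)
    simp only [QuotientGroup.out_eq'] at h2
    rw [h2]
  have hli := linearIndependent_of_NC hS T hT
  have h1 : T.card ≤ Module.finrank k (Module.End k W) := by
    have := hli.fintype_card_le_finrank
    simpa using this
  have h2 : Module.finrank k (Module.End k W) = (Module.finrank k W) ^ 2 := by
    rw [Module.finrank_linearMap, sq]
  have h3 : T.card = Nat.card (X ⧸ Z) := by
    rw [Finset.card_image_of_injective _ hout, Finset.card_univ, Nat.card_eq_fintype_card]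
  have h4 : Nat.card X = Nat.card (X ⧸ Z) * Nat.card Z := Subgroup.card_eq_card_quotient_mul_card_subgroup Z
  have h5 : Nat.card Z = 2 := by
    rw [Nat.card_zpowers]
    apply orderOf_eq_prime
    · rw [sq]; exact hS.z_sq
    · exact hS.z_ne
  rw [h4, h5, ← h3]
  calc T.card * 2 = 2 * T.card := Nat.mul_comm _ _
    _ ≤ 2 * (Module.finrank k W) ^ 2 := Nat.mul_le_mul_left 2 (h2 ▸ h1)

end Cfsg.Agent.Lib.H19.XSPLI
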